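import Cfsg.Agent.Lib.AutCert.Engine

/-! Certificate for the automorphisms of the Fischer group Fi22. -/

set_option autoImplicit false
set_option maxRecDepth 100000

namespace Cfsg.Agent.Lib.SporOutFiTwentyTwo

open Cfsg.Agent.Lib.SporOutHe (WTree Level)

/-- A subtree. -/
def sub0 : WTree :=
  (.node (.node (.node (.node (.node (.node (.node (.node (.word [1,2,3,7,8,4,3,7,2,3,4,5,6,4,5,3,4]) (.word [4,2,3,7,0,1,2,1])) (.node (.word [2,3,7,6,1]) (.word [5,3,4,1,2,3,7,6,4,2,3,1,2,1]))) (.node (.node (.word [7,5,6,0]) (.word [8,7,3,4,2,3,7,3,0,1,2,1])) (.word [8,1,2,3,7,6,2,3,4,3,2,1]))) (.node (.node (.node (.word [5,6,3,4,0]) (.word [7,8,2,3,7,3,1,2,1])) (.node (.word [8,7,6,3,1,2]) (.word [3,7,8,5,4,3,7,5,4,2,3,1,2,1]))) (.node (.node (.word [8,7,6,5,4,2,1])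 (.word [8,7,3,4,2,3,7,2,3,0,1,2,1])) (.word [0,1,2,3,7,5,6,3,1,2,1])))) (.node (.node (.node (.node (.word [8,7,2,3,4,5,6,0]) (.word [7,8,4,2,3,7,6,4,3,2,1])) (.node (.word [8,7,2,0]) (.word [8,6,5,3,4,2,3,7,2,3,1,2,1]))) (.node (.node (.word [8,4,3,7,5,6,0]) (.word [6,5,4,3,7,4,2,3,1,2,1])) (.word [3,7,6,4,3,1,2,1]))) (.node (.node (.node (.word [7,4,5,6,5,4,1,2]) (.word [3,7,8,3,4,2,3,7,4,3,2,1])) (.node (.word [1,2,3,7,5,6,3,2,1]) (.word [7,8,5,6,4,5,3,4,2,3,7,2,3,0,1,2,1]))) (.node (.node (.word [3,7]) (.word [8,5,4,3,7,5,4,2,3,1,2,1])) (.word [8,1,2,3,7,5,4,3,2,1]))))) (.node (.node (.node (.node (.node (.word [8,2,3,7,1,2,3,4,5,6,5,3,4,0]) (.word [8,1,2,3,7,6,4,3,2,1])) (.node (.word [7,8,3,7,5,6,2]) (.word [4,3,7,8,1,2,3,7,6,4,2,3,1,2,1]))) (.node (.node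 (.word [3,7,5,6]) (.word [4,3,7,8,5,4,2,3,7,2,1])) (.word [8,1,2,3,7,5,6,3,2,1]))) (.node (.node (.node (.word [4,5,6,0]) (.word [2,3,7,8,1,2,3,7,6,3,4,3,2,1])) (.node (.word [3,0,1,2,0]) (.word [7,8,5,2,3,4,0,1,2,3,7,3,0,1,2,1]))) (.node (.node (.word [7,4,5,3,4,3,2,1]) (.word [2,3,4,1,2,3,7,4,3,1,2,1])) (.word [7,8,4,3,7,0,1,2,1])))) (.node (.node (.node (.node (.word [3,4,5,6,5,4,2]) (.word [8,5,4,1,2,3,7,2,1])) (.node (.word [8,7,6,1,2,1]) (.word [7,8,3,4,1,2,3,7,6,4,2,3,1,2,1]))) (.node (.node (.word [7,6,4,2,1]) (.word [8,6,5,4,2,3,7,2,3,0,1,2,1])) (.word [5,4,2,3,7,6,3,2,1]))) (.node (.node (.node (.word [6,2,3,4,1]) (.word [6,5,4,2,3,7,2,3,1,2])) (.word [7,6,3,4,3,0,1,2,1])) (.node (.node (.word [8,3,7,6,0]) (.word [8,3,4,2,3,7,2,3,0,1,2,1])) (.word [7,8,3,7,6,4,3,1,2,1]))))))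 (.node (.node (.node (.node (.node (.node (.word [8,3,7,2,3,4,5,6,5,3,4,0]) (.word [8,4,2,3,7,5,6,2,3,1,2,1])) (.node (.word [6,3,1,2,1]) (.word [5,2,3,4,1,2,3,7,3,0,1,2,1]))) (.node (.node (.word [2,3,7,4,5,6,2,1]) (.word [8,2,3,7,6,4,2,3,0,1,2,1])) (.word [4,3,7,3,4,1,2,1]))) (.node (.node (.node (.word [3,4,5,6,2]) (.word [6,5,4,1,2,3,7,0,1,2,1])) (.node (.word [6,2,3,0,1,2]) (.word [4,3,7,8,2,3,4,1,2,3,7,3,0,1,2,1]))) (.node (.node (.word [8,7,5,6,2,0]) (.word [5,4,1,2,3,7,6,4,2,3,1,2,1])) (.word [7,8,3,7,1,2,1])))) (.node (.node (.node (.node (.word [8,7,3,4,5,6,0]) (.word [7,8,2,3,7,4,3,0,1,2,1])) (.node (.word [8,3,7,3,4,3,2,1]) (.word [2,3,7,8,3,4,2,3,7,6,2,3,1,2,1]))) (.node (.node (.word [8,3,7,6,5,4,2]) (.word [7,8,5,4,2,3,7,3,1,2,1])) (.word [4,2,3,7,5,6,2,3,1,2])))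 (.node (.node (.node (.word [8,7,5,6,5,4,0]) (.word [7,8,2,3,7,6,4,3,0,1,2,1])) (.node (.word [4,2,3,7,4,0,1,2,1]) (.word [1,2,3,7,8,4,5,3,4,2,3,7,2,3,0,1,2,1]))) (.node (.node (.word [8,7,5,6,3,2]) (.word [4,3,7,8,2,3,7,6,4,3,0,1,2,1])) (.word [3,7,4,3,0,1,2,1]))))) (.node (.node (.node (.node (.node (.word [7,1,2,3,4,5,6,5,3,4,0]) (.word [1,2,3,7,5,4,2,3,1,2,1])) (.node (.word [7,6,5,3,4,0,1,2,1]) (.word [7,8,3,4,2,3,7,4,3,0,1,2,1]))) (.node (.node (.word [8,7,5,6,5,4,2,1]) (.word [7,8,4,1,2,3,7,5,4,2,3,0,1,2,1])) (.word [3,7,3,1,2,1]))) (.node (.node (.node (.word [3,7,8,4,3,7,3,4,5,6]) (.word [7,8,0,1,2,3,7,4,3,1,2,1])) (.node (.word [7,8,3,7,5,4,3,2,1]) (.word [7,8,6,4,5,3,4,2,3,7,2,3,1,2,1]))) (.node (.node (.word [8,7,4,1]) (.word [5,3,4,1,2,3,7,6,4,3,0,1,2,1]))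 (.word [1,2,3,7,3,1,2])))) (.node (.node (.node (.node (.word [3,7,4,5,6,4]) (.word [7,8,4,3,7,6,2,3,1,2,1])) (.node (.word [3,7,6,3,4,1,2,1]) (.word [7,8,5,4,2,3,7,4,2,3,0,1,2,1]))) (.node (.node (.word [4,3,7,5,4,1,2]) (.word [7,8,5,4,3,7,2,3,1,2,1])) (.word [7,8,3,7,4,3,1,2,1]))) (.node (.node (.node (.word [7,4,5,6,5,4,1,2,1]) (.word [3,7,8,4,3,7,6,2,3,1,2,1])) (.word [2,3,7,1,2])) (.node (.node (.word [3,4,1,2,3,7,5,6,1]) (.word [8,2,3,4,1,2,3,7,6,4,3,1,2,1])) (.word [0,1,2,3,7,1,2,1]))))))) (.node (.node (.node (.node (.node (.node (.node (.word [7,8,4,2,3,7,1,2,3,4,5,6,4,5,3,4,0]) (.word [2,3,7,3,0,1,2,1])) (.node (.word [8,3,7,6,4,2,1]) (.word [2,3,7,8,0,1,2,3,7,4,2,3,1,2,1]))) (.node (.node (.word [4,3,7,6,5,4,2,0]) (.word [5,3,4,2,3,7,6,2,3,1,2,1]))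 (.word [4,2,3,7,5,6,0,1,2,1]))) (.node (.node (.node (.word [7,8,3,7,4,5,6,4,1]) (.word [3,4,2,3,7,6,4,3,1,2,1])) (.node (.word [8,3,7,2]) (.word [4,3,7,8,3,4,2,3,7,4,2,3,0,1,2,1]))) (.node (.node (.word [8,7,6,5,4,1,2]) (.word [3,4,1,2,3,7,6,4,2,3,1,2,1])) (.word [3,4,2,3,7,6,3,2,1])))) (.node (.node (.node (.node (.word [8,3,7,3,4,5,6,5,4,1]) (.word [5,4,2,3,7,0,1,2,1])) (.node (.word [2,3,7,5,2,3,4,3,2,1]) (.word [7,8,4,5,3,4,1,2,3,7,3,2,1]))) (.node (.node (.word [4,5,6,0,1,2,0]) (.word [5,3,4,2,3,7,3,0,1,2,1])) (.word [1,2,3,7,3,2]))) (.node (.node (.node (.word [4,3,7,4,5,6,0]) (.word [8,4,2,3,7,4,3,1,2,1])) (.node (.word [2,3,7,5,6,0,1,2,1]) (.word [3,7,8,1,2,3,4,0,1,2,3,7,3,0,1,2,1]))) (.node (.node (.word [8,7,4,2]) (.word [3,7,8,1,2,3,7,4,2,3,0,1,2,1]))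 (.word [5,4,1,2,3,7,6,3,2,1]))))) (.node (.node (.node (.node (.node (.word [7,2,3,4,5,6,3,4]) (.word [2,3,7,8,1,2,3,7,6,2,3,4,3,2,1])) (.node (.word [7,0,1,2,0]) (.word [2,3,7,8,5,4,3,7,2,3,1,2,1]))) (.node (.node (.word [5,6,3,2]) (.word [7,6,4,5,3,4,2,3,7,2,3,1,2])) (.word [7,8,3,7,2,1]))) (.node (.node (.node (.word [7,8,2,3,7,3,4,5,6,1]) (.word [1,2,3,7,4,2,3,1,2,1])) (.node (.word [5,3,4,3,1,2,1]) (.word [3,7,8,2,3,4,1,2,3,7,4,3,1,2,1]))) (.node (.node (.word [8,3,7,5,6,1]) (.word [5,3,4,1,2,3,7,2,3,1,2,1])) (.word [8,7,2,3,1,2,1])))) (.node (.node (.node (.node (.word [3,7,4,5,6,5,4,0]) (.word [7,8,4,2,3,7,3,2,1])) (.node (.word [3,7,5,4,0,1,2,1]) (.word [4,3,7,8,4,5,3,4,2,3,7,3,2,1]))) (.node (.node (.word [8,7,5,6,2,3,4,2,1]) (.word [7,8,4,3,7,6,4,2,3,0,1,2,1]))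 (.word [8,3,7,4,3,2,1]))) (.node (.node (.node (.word [6]) (.word [8,5,3,4,2,3,7,3,2,1])) (.word [1,2,3,7,2])) (.node (.node (.word [3,7,4,2,0]) (.word [7,2,3,4,1,2,3,7,3,1,2,1])) (.word [8,7,6,1,2,3,0,1,2,1])))))) (.node (.node (.node (.node (.node (.node (.word [3,7,1,2,3,4,5,6,4,5,3,4,0]) (.word [8,7,4,3,0,1,2,1])) (.node (.word [3,7,6,2,3,4,3,2,1]) (.word [7,8,4,3,7,5,4,2,3,0,1,2,1]))) (.node (.node (.word [7,6,4,1]) (.word [4,2,3,7,5,4,1,2,3,0,1,2,1])) (.word [8,1,2,3,7,6,2,1]))) (.node (.node (.node (.word [5,6,5,4,2]) (.word [5,4,3,7,2,3,1,2,1])) (.node (.word [7,3,1,2,0]) (.word [7,8,7,2,3,4,1,2,3,7,3,1,2,1]))) (.node (.node (.word [7,4,2,0]) (.word [3,7,8,6,5,4,3,7,6,2,3,1,2,1])) (.word [4,2,3,7,1,2,1])))) (.node (.node (.node (.node (.word [7,8,3,7,3,4,5,6,4])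 (.word [0,1,2,3,7,4,2,3,1,2,1])) (.node (.word [7,8,3,7,3,4,2,1]) (.word [7,8,3,4,0,1,2,3,7,4,3,0,1,2,1]))) (.node (.node (.word [8,7,2,3,4,2,1]) (.word [3,7,8,4,2,3,7,6,4,3,1,2,1])) (.word [1,2,3,7,3,4,3,2,1]))) (.node (.node (.node (.word [3,7,4,5,2,3,4,2,1]) (.word [3,7,8,2,3,7,6,4,3,1,2,1])) (.node (.word [7,6,3,0,1,2,1]) (.word [2,3,7,8,1,2,3,4,0,1,2,3,7,3,0,1,2,1]))) (.node (.node (.word [8,3,7,6,5,4,2,1]) (.word [7,8,5,3,4,2,3,7,6,4,3,1,2,1])) (.word [6,5,4,3,7,6,0,1,2,1]))))) (.node (.node (.node (.node (.node (.word [8,7,3,4,5,6,5,4,1]) (.word [7,8,0,1,2,3,7,4,3,2,1])) (.node (.word [3,7,5,4,1,2,1]) (.word [4,3,7,8,4,2,3,7,6,4,3,0,1,2,1]))) (.node (.node (.word [7,6,5,4,0,1,2,0]) (.word [4,3,7,8,1,2,3,7,4,3,1,2,1])) (.word [6,4,2,3,0,1,2,1]))) (.node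 (.node (.node (.word [3,4,5,6,4,0,1,2]) (.word [5,4,0,1,2,3,7,4,2,3,0,1,2,1])) (.node (.word [8,4,3,7,6,3,4,2,1]) (.word [3,7,8,4,5,3,4,2,3,7,3,0,1,2,1]))) (.node (.node (.word [7,5,6,3,4,1,2,1]) (.word [4,3,7,8,1,2,3,7,4,2,3,1,2,1])) (.word [3,4,0,1,2,3,7,5,6,3,2,1])))) (.node (.node (.node (.node (.word [5,6,5,4]) (.word [8,4,1,2,3,7,3,2,1])) (.node (.word [7,3,2,1]) (.word [4,3,7,8,5,4,2,3,7,2,3,1,2,1]))) (.node (.node (.word [6,4,0,1,2]) (.word [7,8,3,4,1,2,3,7,6,3,1,2,1])) (.word [6,4,1,2,3,0,1,2,1]))) (.node (.node (.node (.word [3,7,5,6,5,4,2]) (.word [8,3,4,1,2,3,7,3,2,1])) (.word [4,2,3,7,2,0])) (.node (.node (.word [3,7,5,3,4,2,1]) (.word [8,4,5,3,4,2,3,7,3,1,2,1])) (.word [5,4,1,2,3,7,2,1]))))))))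

/-- A subtree. -/
def sub1 : WTree :=
  (.node (.node (.node (.node (.node (.node (.node (.node (.word [7,8,3,7,2,3,4,5,6,4,5,3,4]) (.word [5,4,3,7,3,1,2,1])) (.node (.word [3,7,5,6,1,2,1]) (.word [7,8,5,4,3,7,4,2,3,1,2,1]))) (.node (.node (.word [6,0]) (.word [6,5,3,4,2,3,7,3,0,1,2,1])) (.word [3,7,5,3,4,3,0,1,2,1]))) (.node (.node (.node (.word [3,4,5,6,5,4,1,2,0]) (.word [8,2,3,7,3,0,1,2,1])) (.node (.word [5,4,3,7,3,2]) (.word [2,3,7,8,4,2,3,7,4,2,3,1,2,1]))) (.node (.node (.word [5,6,5,3,4,0,1,2,1]) (.word [8,6,5,3,4,2,3,7,3,0,1,2,1])) (.word [1,2,3,7,5,6,2,3,1,2,1])))) (.node (.node (.node (.node (.word [8,7,3,4,5,6,4,1]) (.word [1,2,3,7,3,4,3,0,1,2,1])) (.node (.word [6,3,0,1,2,0]) (.word [7,8,3,4,0,1,2,3,7,4,2,3,1,2,1]))) (.node (.node (.word [4,3,7,5,4,2,0])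 (.word [7,8,3,7,5,4,2,3,1,2,1])) (.word [1,2,3,7,6,3,4,3,2,1]))) (.node (.node (.node (.word [7,5,6,3,4,5,2,3,4,1]) (.word [8,1,2,3,7,5,4,3,0,1,2,1])) (.node (.word [8,2,3,7,5,6,1,2,1]) (.word [2,3,7,8,5,4,1,2,3,7,6,4,2,3,1,2,1]))) (.node (.node (.word [7,6,1,2]) (.word [4,5,3,4,2,3,7,3,0,1,2,1])) (.word [7,8,0,1,2,3,7,3,4,3,2,1]))))) (.node (.node (.node (.node (.node (.word [3,7,2,3,4,5,6,3,4,0]) (.word [7,8,2,3,7,3,0,1,2,1])) (.node (.word [4,3,7,6,2]) (.word [8,6,5,3,4,1,2,3,7,3,1,2,1]))) (.node (.node (.word [8,7,6,4]) (.word [4,1,2,3,7,4,2,3,1,2,1])) (.word [8,2,3,7,6,1,2,1]))) (.node (.node (.node (.word [7,4,5,6,5,4,2,0]) (.word [4,3,7,8,1,2,3,7,4,3,2,1])) (.node (.word [2,3,7,2,3,4,3,2,1]) (.word [3,7,8,2,3,7,5,4,1,2,3,0,1,2,1]))) (.node (.node (.word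 [7,2,3,4,2,1]) (.word [7,5,3,4,2,3,7,2,3,1,2,1])) (.word [7,4,3,0,1,2,1])))) (.node (.node (.node (.node (.word [7,8,3,7,3,4,5,6,4,0]) (.word [4,2,3,7,6,2,3,0,1,2,1])) (.node (.word [3,7,5,6,3,1,2,1]) (.word [7,8,1,2,3,7,4,1,2,3,0,1,2,1]))) (.node (.node (.word [5,6,3,4,1,2,1]) (.word [8,4,1,2,3,7,3,0,1,2,1])) (.word [3,7,3,4,3,0,1,2,1]))) (.node (.node (.node (.word [7,5,6]) (.word [8,4,2,3,7,6,2,3,0,1,2,1])) (.word [8,2,3,7,2])) (.node (.node (.word [8,7,6,2,0]) (.word [7,8,5,3,4,1,2,3,7,3,2,1])) (.word [8,6,5,4,3,7,0,1,2,1])))))) (.node (.node (.node (.node (.node (.node (.word [3,7,8,2,3,7,1,2,3,4,5,6,4,5,3,4,0]) (.word [7,8,4,3,7,3,0,1,2,1])) (.node (.word [7,5,6,3,4,0,1,2,1]) (.word [7,8,2,3,4,1,2,3,7,4,3,2,1]))) (.node (.node (.word [4,3,7,5,6,1]) (.word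 [5,4,2,3,7,6,4,2,3,1,2,1])) (.word [7,8,3,7,4,1,2,1]))) (.node (.node (.node (.word [4,5,6,5,4,2,1]) (.word [4,3,7,4,2,3,1,2,1])) (.node (.word [3,7,6,5,3,4,0,1,2,1]) (.word [4,1,2,3,7,8,4,2,3,7,4,2,3,1,2,1]))) (.node (.node (.word [3,7,5,4,2,0]) (.word [2,3,7,5,4,1,2,3,0,1,2,1])) (.word [2,3,7,0,1,2,1])))) (.node (.node (.node (.node (.word [4,5,6,5,3,4,0]) (.word [6,5,4,2,3,7,1,2,1])) (.node (.word [8,3,7,5,3,4,0,1,2,1]) (.word [7,8,2,3,4,1,2,3,7,3,1,2,1]))) (.node (.node (.word [7,4,5,2,3,4,3,2,1]) (.word [4,3,7,8,2,3,7,4,3,0,1,2,1])) (.word [3,7,8,1,2,3,7,2,3,4,3,2,1]))) (.node (.node (.node (.word [8,3,4,2,3,7,3,4,5,6,1]) (.word [7,8,5,4,2,3,7,3,0,1,2,1])) (.node (.word [7,8,3,7,4,0,1,2,1]) (.word [4,3,7,8,7,2,3,4,1,2,3,7,3,1,2,1]))) (.node (.node (.word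 [8,7,6,5,3,4,0,1,2,1]) (.word [4,5,2,3,4,1,2,3,7,3,0,1,2,1])) (.word [8,4,3,7,4,3,2,1]))))) (.node (.node (.node (.node (.node (.word [2,3,4,5,6,5,3,4,0]) (.word [5,4,0,1,2,3,7,6,1,2,1])) (.node (.word [8,4,3,7,6,5,4,2,1]) (.word [3,7,8,1,2,3,7,6,4,2,3,0,1,2,1]))) (.node (.node (.word [5,6,5,3,4,1,2,1]) (.word [6,5,4,1,2,3,7,3,1,2,1])) (.word [4,3,7,4,0,1,2,1]))) (.node (.node (.node (.word [4,5,6,2]) (.word [8,6,5,4,1,2,3,7,0,1,2,1])) (.node (.word [7,8,3,7,5,3,4,0,1,2,1]) (.word [2,3,7,8,5,3,4,2,3,7,2,3,1,2,1]))) (.node (.node (.word [5,6,3,1,2,1]) (.word [6,5,3,4,2,3,7,4,2,3,0,1,2,1])) (.word [2,3,7,2,3,1,2])))) (.node (.node (.node (.node (.word [7,8,3,7,4,5,6,5,4,1]) (.word [1,2,3,7,2,3,1,2,1])) (.node (.word [6,2,3,1,2,1]) (.word [8,3,4,1,2,3,7,4,2,3,0,1,2,1])))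 (.node (.node (.word [3,7,6,4,2]) (.word [8,5,4,1,2,3,7,3,1,2,1])) (.word [8,5,4,3,7,4,1,2,1]))) (.node (.node (.node (.word [6,5,2,3,4,2,1]) (.word [8,3,4,1,2,3,7,6,3,1,2,1])) (.word [3,7,6,2,3,1,2])) (.node (.node (.word [3,7,4,5,6,0,1,2,1]) (.word [7,8,2,3,4,1,2,3,7,3,2,1])) (.word [8,4,1,2,3,7,0,1,2,1]))))))) (.node (.node (.node (.node (.node (.node (.node (.word [8,7,2,3,4,5,6,4,5,3,4]) (.word [4,2,3,7,3,1,2,1])) (.node (.word [7,4,1,2,1]) (.word [2,3,7,8,4,3,7,5,4,2,3,0,1,2,1]))) (.node (.node (.word [5,6,5,4,0,1,2,0]) (.word [8,4,1,2,3,7,6,4,3,1,2,1])) (.word [7,8,3,7,3,4,3,1,2,1]))) (.node (.node (.node (.word [7,8,3,7,4,5,6]) (.word [8,0,1,2,3,7,4,3,1,2,1])) (.node (.word [8,3,7,0,1,2]) (.word [1,2,3,7,8,4,2,3,7,2,3,1,2,1]))) (.node (.node (.word [7,1,2,3,4,5,6,2,3,1,2,0])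 (.word [8,6,5,4,2,3,7,6,2,3,1,2,1])) (.word [8,4,3,7,5,4,3,0,1,2,1])))) (.node (.node (.node (.node (.word [4,5,6,4,5,3,4,1]) (.word [8,1,2,3,7,6,3,4,3,0,1,2,1])) (.node (.word [5,3,4,3,2,1]) (.word [3,7,8,5,4,3,7,4,2,3,1,2,1]))) (.node (.node (.word [3,4,5,6,3,0,1,2,0]) (.word [3,7,8,1,2,3,7,4,3,0,1,2,1])) (.word [4,2,3,7,1,2]))) (.node (.node (.node (.word [4,5,6,4,1,2,0]) (.word [5,4,1,2,3,7,6,3,0,1,2,1])) (.node (.word [3,7,6,3,1,2,1]) (.word [2,3,7,8,3,4,1,2,3,7,4,2,3,1,2,1]))) (.node (.node (.word [5,6,3,0,1,2]) (.word [3,7,8,5,4,2,3,7,3,1,2,1])) (.word [5,4,2,3,0,1,2,1]))))) (.node (.node (.node (.node (.node (.word [4,3,7,8,2,3,7,1,2,3,4,5,6,5,3,4,0]) (.word [3,7,8,1,2,3,7,6,3,4,3,2,1])) (.node (.word [6,2,3,1,2]) (.word [7,8,2,3,7,4,1,2,3,0,1,2,1])))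 (.node (.node (.word [7,4,5,6,3,2]) (.word [6,5,4,0,1,2,3,7,6,3,1,2,1])) (.word [8,3,7,5,6,3,0,1,2,1]))) (.node (.node (.node (.word [3,7,4,5,6,1]) (.word [7,4,5,3,4,2,3,7,2,3,1,2])) (.node (.word [8,7,3,4,3,0,1,2,1]) (.word [7,8,6,5,3,4,1,2,3,7,2,3,1,2,1]))) (.node (.node (.word [7,5,6,1,2,1]) (.word [4,1,2,3,7,4,2,3,0,1,2,1])) (.word [1,2,3,7,6,4,3,2,1])))) (.node (.node (.node (.node (.word [3,7,3,4,5,6,4,1]) (.word [4,0,1,2,3,7,6,3,1,2,1])) (.node (.word [8,3,7,5,4,1,2,1]) (.word [7,8,2,3,4,1,2,3,7,4,3,1,2,1]))) (.node (.node (.word [8,7,4,5,6,1,2]) (.word [8,4,1,2,3,7,2,3,1,2,1])) (.word [5,4,2,3,7,6,1,2,1]))) (.node (.node (.node (.word [8,7,5,6,3,4,5,2,3,4,1]) (.word [7,8,4,2,3,7,6,2,3,1,2,1])) (.word [4,3,7,1,2])) (.node (.node (.word [1,2,0]) (.word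 [2,3,7,8,4,1,2,3,7,3,0,1,2,1])) (.word [8,3,7,6,2,3,0,1,2,1])))))) (.node (.node (.node (.node (.node (.node (.word [8,7,3,4,5,6,5,3,4]) (.word [4,3,7,2,3,1,2,1])) (.node (.word [1,2,3,7,6]) (.word [3,7,8,6,5,4,2,3,7,6,2,3,1,2,1]))) (.node (.node (.word [4,1]) (.word [3,7,8,0,1,2,3,7,6,4,3,2,1])) (.word [0,1,2,3,7,6,2,1]))) (.node (.node (.node (.word [1,2,3,4,5,6,4,1,2,0]) (.word [4,0,1,2,3,7,3,0,1,2,1])) (.node (.word [5,4,3,7,2]) (.word [3,7,8,2,3,4,1,2,3,7,6,4,3,1,2,1]))) (.node (.node (.word [4,1,2,0]) (.word [5,4,3,7,5,4,2,3,0,1,2,1])) (.word [4,3,7,3,1,2,1])))) (.node (.node (.node (.node (.word [7,8,3,7,3,4,5,6,5,4,1]) (.word [8,6,5,4,3,7,3,2,1])) (.node (.word [0,1,2,3,7,5,6,1]) (.word [8,1,2,3,4,0,1,2,3,7,3,0,1,2,1]))) (.node (.node (.word [7,5,6,2,1])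 (.word [4,3,7,8,2,3,7,6,4,3,1,2,1])) (.word [8,0,1,2,3,7,6,2,3,4,3,2,1]))) (.node (.node (.node (.word [7,4,5,6,4,2,1]) (.word [7,8,5,4,3,7,3,1,2,1])) (.word [7,6,4,3,1,2,1])) (.node (.node (.word [7,5,4,1,2,1]) (.word [7,8,4,0,1,2,3,7,4,2,3,1,2,1])) (.word [3,7,8,2,3,7,3,4,3,1,2,1]))))) (.node (.node (.node (.node (.node (.word [4,3,7,8,2,3,7,1,2,3,4,5,6,3,4,0]) (.word [3,7,8,1,2,3,7,5,4,3,1,2,1])) (.node (.word [2,3,7,6,2,0]) (.word [1,2,3,4,0,1,2,3,7,4,3,0,1,2,1]))) (.node (.node (.word [6,5,4,0,1,2]) (.word [6,5,4,2,3,7,4,2,3,0,1,2,1])) (.word [4,2,3,1,2,1]))) (.node (.node (.node (.word [4,5,6,5,4,1,2,1]) (.word [5,2,3,4,1,2,3,7,6,3,2,1])) (.node (.word [8,1,2,3,7,6,1]) (.word [4,3,7,8,2,3,4,1,2,3,7,3,1,2,1]))) (.node (.node (.word [7,8,3,7,5,6]) (.word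 [8,2,3,7,4,1,2,3,0,1,2,1])) (.word [4,3,7,8,2,3,7,6,2,3,4,3,2,1])))) (.node (.node (.node (.node (.word [1,2,3,4,5,6,5,4,1,2,0]) (.word [7,3,4,2,3,7,1,2,1])) (.node (.word [3,7,6,3,4,3,2,1]) (.word [7,8,3,4,0,1,2,3,7,4,2,3,0,1,2,1]))) (.node (.node (.word [7,6,5,3,4,2,1]) (.word [7,8,2,3,4,1,2,3,7,6,3,2,1])) (.word [3,7,6,2,3,0,1,2,1]))) (.node (.node (.node (.word [1,2,3,4,5,6,3,1,2,0]) (.word [7,3,4,2,3,7,3,1,2,1])) (.word [1,2,3,7,2,3,4,3,2,1])) (.node (.node (.word [7,8,4,2,3,7,5,6,1]) (.word [5,2,3,4,0,1,2,3,7,3,0,1,2,1])) (.word [3,4,2,3,7,6,4,3,2,1]))))))))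

/-- A subtree. -/
def sub2 : WTree :=
  (.node (.node (.node (.node (.node (.node (.node (.node (.word [3,7,8,4,3,7,2,3,4,5,6,4,5,3,4,0]) (.word [1,2,3,7,6,3,0,1,2,1])) (.node (.word [8,3,7,5,6,2,1]) (.word [7,8,3,4,2,3,7,6,4,2,3,1,2,1]))) (.node (.node (.word [7,5,6,4,2,0]) (.word [3,4,2,3,7,6,4,3,0,1,2,1])) (.word [7,8,2,3,7,5,4,3,2,1]))) (.node (.node (.node (.word [7,4,5,6,5,4,0]) (.word [5,4,2,3,7,3,1,2,1])) (.node (.word [1,2,3,7]) (.word [7,8,4,5,3,4,2,3,7,3,0,1,2,1]))) (.node (.node (.word [7,6,5,4,1,2,1]) (.word [7,8,3,4,2,3,7,6,3,0,1,2,1])) (.word [7,8,3,7,5,6,2,3,1,2,1])))) (.node (.node (.node (.node (.word [7,3,4,5,6,5,4,0]) (.word [7,5,4,2,3,0,1,2,1])) (.node (.word [7,1,2,0]) (.word [5,1,2,3,4,0,1,2,3,7,3,0,1,2,1]))) (.node (.node (.word [8,7,5,6,0])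 (.word [8,7,5,4,1,2,3,0,1,2,1])) (.word [2,3,7,6,4,3,2,1]))) (.node (.node (.node (.word [5,6,5,4,1,2]) (.word [4,3,7,5,4,2,3,1,2,1])) (.node (.word [2,3,7,6,3,2,1]) (.word [4,2,3,7,8,2,3,4,1,2,3,7,3,0,1,2,1]))) (.node (.node (.word [8,7,6,2]) (.word [3,4,2,3,7,4,2,3,0,1,2,1])) (.word [8,0,1,2,3,7,3,4,3,1,2,1]))))) (.node (.node (.node (.node (.node (.word [8,7,1,2,3,4,5,6,5,3,4,0]) (.word [7,8,1,2,3,7,0,1,2,1])) (.node (.word [2,3,7,5,6,1,2]) (.word [4,5,3,4,0,1,2,3,7,3,1,2,1]))) (.node (.node (.word [7,5,6,2]) (.word [4,3,7,8,3,4,2,3,7,4,3,2,1])) (.word [8,2,3,7,6,3,2,1]))) (.node (.node (.node (.word [3,4,5,6,2,0]) (.word [2,3,7,8,1,2,3,7,4,3,2,1])) (.node (.word [7,8,2,3,7,2,3,4,3,2,1]) (.word [3,7,8,5,3,4,2,3,7,6,4,2,3,1,2,1]))) (.node (.node (.word [8,7,2,3,4,3,2,1])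 (.word [7,8,1,2,3,7,4,2,3,1,2,1])) (.word [4,2,3,0,1,2,1])))) (.node (.node (.node (.node (.word [7,1,2,3,4,5,6,0]) (.word [8,7,6,4,1,2,3,0,1,2,1])) (.node (.word [3,7,5,6,0,1,2,1]) (.word [3,7,8,4,1,2,3,7,6,4,2,3,1,2,1]))) (.node (.node (.word [5,6,3,2,1]) (.word [4,5,3,4,1,2,3,7,3,2,1])) (.word [5,4,2,3,1,2,1]))) (.node (.node (.node (.word [8,4,3,7,4,5,6]) (.word [8,3,7,6,4,1,2,3,0,1,2,1])) (.word [2,3,7,5,6,3,0,1,2])) (.node (.node (.word [3,7,0]) (.word [7,8,4,3,7,4,2,3,0,1,2,1])) (.word [5,4,2,3,7,6,4,3,2,1])))))) (.node (.node (.node (.node (.node (.node (.word [8,7,2,3,4,5,6,5,3,4]) (.word [4,1,2,3,7,6,4,3,2,1])) (.node (.word [3,2,1]) (.word [8,2,3,4,1,2,3,7,4,3,1,2,1]))) (.node (.node (.word [8,7,4,5,3,4,2,1]) (.word [8,4,3,7,4,2,3,1,2,1])) (.word [7,8,3,7,3,4,0,1,2,1])))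 (.node (.node (.node (.word [3,7,6,3,4,5,2,3,4,2,1]) (.word [2,3,7,6,4,2,3,0,1,2,1])) (.node (.word [3,7,5,6,2,3,1,2]) (.word [1,2,3,7,8,4,3,7,4,2,3,1,2,1]))) (.node (.node (.word [3,7,5,6,2,0]) (.word [7,8,4,2,3,7,6,4,2,3,1,2,1])) (.word [8,5,4,3,7,4,3,2,1])))) (.node (.node (.node (.node (.word [2,3,4,5,6,4,0]) (.word [7,8,4,3,7,4,3,0,1,2,1])) (.node (.word [7,5,3,4,0,1,2,1]) (.word [8,6,5,2,3,4,1,2,3,7,3,0,1,2,1]))) (.node (.node (.word [7,3,4,2,3,7,3,4,5,6,1]) (.word [4,5,3,4,2,3,7,6,3,0,1,2,1])) (.word [0,1,2,3,7,3,4,3,2,1]))) (.node (.node (.node (.word [4,5,6,5,4,0,1,2,0]) (.word [7,8,4,3,7,6,4,3,0,1,2,1])) (.node (.word [5,4,3,7,4,2,1]) (.word [3,7,8,6,5,3,4,2,3,7,4,2,3,1,2,1]))) (.node (.node (.word [6,4,5,3,4,1,2,1]) (.word [4,3,7,8,5,4,2,3,7,3,0,1,2,1]))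 (.word [2,3,7,5,4,2,3,1,2,1]))))) (.node (.node (.node (.node (.node (.word [7,2,3,4,5,6,3,4,0]) (.word [3,4,2,3,7,4,3,2,1])) (.node (.word [8,4,3,7,6,5,4,0,1,2,1]) (.word [8,5,3,4,2,3,7,4,2,3,1,2,1]))) (.node (.node (.word [3,7,5,6,5,4,2,1]) (.word [3,7,8,5,4,3,7,6,2,3,1,2,1])) (.word [4,3,7,6,4,3,2,1]))) (.node (.node (.node (.word [7,4,5,6]) (.word [6,5,4,0,1,2,3,7,6,3,2,1])) (.node (.word [3,7,3,4,1,2,1]) (.word [7,8,2,3,4,1,2,3,7,4,3,0,1,2,1]))) (.node (.node (.word [3,7,6,4,2,1]) (.word [3,7,8,5,4,1,2,3,7,3,0,1,2,1])) (.word [1,2,3,7,6,2,3,1,2])))) (.node (.node (.node (.node (.word [2,3,4,5,6,2]) (.word [5,4,1,2,3,7,1,2,1])) (.node (.word [5,6,2,3,0,1,2,1]) (.word [7,8,5,3,4,1,2,3,7,2,3,1,2,1]))) (.node (.node (.word [8,7,4]) (.word [3,7,8,4,3,7,6,4,2,3,1,2,1]))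 (.word [7,8,4,3,7,4,3,2,1]))) (.node (.node (.node (.word [5,6,5,4,1,2,1]) (.word [3,4,1,2,3,7,3,1,2,1])) (.word [3,7,3,1,2])) (.node (.node (.word [5,2,3,4,3,2,1]) (.word [3,4,0,1,2,3,7,6,4,3,0,1,2,1])) (.word [4,0,1,2,3,7,2,1]))))))) (.node (.node (.node (.node (.node (.node (.node (.word [8,3,7,2,3,4,5,6,4,5,3,4,0]) (.word [8,4,3,7,6,3,0,1,2,1])) (.node (.word [7,6,4,0,1,2,1]) (.word [3,7,8,6,5,4,3,7,2,3,1,2,1]))) (.node (.node (.word [7,5,6,5,4,1,2,0]) (.word [8,4,2,3,7,2,3,1,2,1])) (.word [8,2,3,7,3,4,3,1,2,1]))) (.node (.node (.node (.word [4,5,6,2,3,4,1]) (.word [8,2,3,7,2,3,1,2,1])) (.node (.word [3,7,6,0,1,2]) (.word [8,1,2,3,4,0,1,2,3,7,4,3,0,1,2,1]))) (.node (.node (.word [3,7,5,4,2]) (.word [7,8,3,4,2,3,7,6,4,3,1,2,1])) (.word [3,4,2,3,7,1,2]))))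 (.node (.node (.node (.node (.word [3,7,3,4,5,6,5,4]) (.word [4,2,3,7,5,4,2,3,1,2,1])) (.node (.word [4,2,3,7,5,6,2,1]) (.word [8,5,2,3,4,1,2,3,7,3,1,2,1]))) (.node (.node (.word [0]) (.word [5,4,2,3,7,4,2,3,1,2,1])) (.word [1,2,3,7,1,2]))) (.node (.node (.node (.word [7,4,5,6,4,2,0]) (.word [8,4,2,3,7,5,4,2,3,1,2,1])) (.node (.word [2,3,7,6,1,2,1]) (.word [3,7,8,5,2,3,4,1,2,3,7,3,0,1,2,1]))) (.node (.node (.word [8,7,4,0,1,2]) (.word [7,8,4,1,2,3,7,6,4,3,0,1,2,1])) (.word [6,5,4,2,3,7,6,3,2,1]))))) (.node (.node (.node (.node (.node (.word [7,2,3,4,5,6,5,4]) (.word [2,3,7,8,1,2,3,7,3,4,3,2,1])) (.node (.word [4,3,7,4,2]) (.word [7,8,6,5,3,4,1,2,3,7,3,2,1]))) (.node (.node (.word [6,4,1,2]) (.word [8,4,2,3,7,5,4,2,3,0,1,2,1])) (.word [2,3,7,5,6,3,0,1,2,1])))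 (.node (.node (.node (.word [2,3,7,4,5,6,4,1]) (.word [8,4,1,2,3,7,4,3,2,1])) (.node (.word [7,3,4,3,1,2,1]) (.word [7,8,7,6,5,3,4,2,3,7,2,3,1,2,1]))) (.node (.node (.word [8,7,4,5,6,1,2,1]) (.word [7,8,6,5,4,2,3,7,6,2,3,1,2,1])) (.word [8,4,3,7,5,6,2,3,1,2,1])))) (.node (.node (.node (.node (.word [6,4,5,3,4,0]) (.word [7,3,4,2,3,7,3,1,2])) (.node (.word [5,4,3,7,3,4,2,1]) (.word [8,5,2,3,4,1,2,3,7,3,0,1,2,1]))) (.node (.node (.word [8,3,7,5,6]) (.word [7,8,5,3,4,2,3,7,3,2,1])) (.word [5,4,3,7,6,0,1,2,1]))) (.node (.node (.node (.word [4]) (.word [4,1,2,3,7,2,3,1,2,1])) (.word [8,3,7,3,2])) (.node (.node (.word [8,7,1,2,0]) (.word [2,3,7,8,4,3,7,2,3,1,2,1])) (.word [8,2,3,7,5,6,2,3,0,1,2,1])))))) (.node (.node (.node (.node (.node (.node (.word [8,7,3,4,5,6,4,5,3,4,0])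 (.word [8,7,4,2,3,1,2,1])) (.node (.word [8,2,3,7,6]) (.word [4,5,3,4,1,2,3,7,2,3,1,2,1]))) (.node (.node (.word [4,5,6,4,0,1,2,1]) (.word [1,2,3,7,5,4,1,2,3,0,1,2,1])) (.word [8,2,3,7,2,1]))) (.node (.node (.node (.word [5,6,3,4,5,2,3,4,1]) (.word [8,1,2,3,7,6,4,3,1,2,1])) (.node (.word [8,7,3,2,0]) (.word [7,8,4,5,3,4,1,2,3,7,3,1,2,1]))) (.node (.node (.word [6,3,2,0]) (.word [7,8,0,1,2,3,7,5,4,1,2,3,0,1,2,1])) (.word [8,2,3,7,6,3,1,2,1])))) (.node (.node (.node (.node (.word [4,5,6,3,4]) (.word [7,8,5,4,3,7,1,2,1])) (.node (.word [8,1,2,3,7,5,6,1]) (.word [4,3,7,8,2,3,4,1,2,3,7,6,3,2,1]))) (.node (.node (.word [3,7,5,6,1]) (.word [3,4,0,1,2,3,7,4,2,3,1,2,1])) (.word [8,2,3,7,5,4,3,2,1]))) (.node (.node (.node (.word [4,3,7,4,5,6,1]) (.word [0,1,2,3,7,6,4,2,3,1,2,1]))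 (.node (.word [7,6,2,3,1,2,1]) (.word [4,3,7,8,2,3,4,1,2,3,7,4,2,3,1,2,1]))) (.node (.node (.word [7,6,5,4,0,1,2,1]) (.word [1,2,3,4,0,1,2,3,7,3,2,1])) (.word [8,5,4,2,3,7,0,1,2,1]))))) (.node (.node (.node (.node (.node (.word [3,4,5,6,5,3,4]) (.word [7,8,1,2,3,7,6,3,4,3,1,2,1])) (.node (.word [7,6,3,1,2,0]) (.word [4,3,7,8,3,4,2,3,7,4,3,0,1,2,1]))) (.node (.node (.word [8,7,6,5,4,0,1,2]) (.word [7,8,0,1,2,3,7,5,4,2,3,0,1,2,1])) (.word [4,3,0,1,2,1]))) (.node (.node (.node (.word [8,7,6,4,5,2,3,4,2,1]) (.word [3,7,8,1,2,3,7,5,4,2,3,1,2,1])) (.node (.word [5,6,1,2,3,0,1,2,1]) (.word [4,3,7,8,4,5,3,4,2,3,7,3,1,2,1]))) (.node (.node (.word [7,6,3,4,2,1]) (.word [3,7,8,3,4,1,2,3,7,6,4,3,2,1])) (.word [4,3,7,8,1,2,3,7,2,3,4,3,2,1])))) (.node (.node (.node (.node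 (.word [6,4,5,3,4,1]) (.word [8,3,4,2,3,7,3,2,1])) (.node (.word [7,6,3,4,0,1,2,1]) (.word [8,6,5,3,4,2,3,7,4,2,3,1,2,1]))) (.node (.node (.word [7,4,5,6,3,1,2]) (.word [8,2,3,4,1,2,3,7,3,2,1])) (.word [8,1,2,3,7,6,1,2,1]))) (.node (.node (.node (.word [6,5,4,1,2]) (.word [7,8,3,4,2,3,7,3,2,1])) (.word [3,7,8,2,3,7,2,3,4,3,2,1])) (.node (.node (.word [8,7,3,4,1,2,1]) (.word [7,8,3,4,2,3,7,6,4,3,0,1,2,1])) (.word [8,1,2,3,7,3,2,1]))))))))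

/-- A subtree. -/
def sub3 : WTree :=
  (.node (.node (.node (.node (.node (.node (.node (.node (.word [8,4,3,7,2,3,4,5,6,4,5,3,4,0]) (.word [8,5,4,3,7,3,2,1])) (.node (.word [7,2,1]) (.word [3,7,8,4,2,3,7,6,4,2,3,1,2,1]))) (.node (.node (.word [4,0]) (.word [8,3,4,2,3,7,3,1,2,1])) (.word [3,7,5,4,3,1,2,1]))) (.node (.node (.node (.word [2,3,7,3,4,5,6,4,1]) (.word [3,7,8,4,2,3,7,0,1,2,1])) (.node (.word [4,3,7,0,1,2]) (.word [4,3,7,8,5,3,4,2,3,7,3,1,2,1]))) (.node (.node (.word [5,4,1,2,1]) (.word [5,3,4,2,3,7,2,3,1,2,1])) (.word [1,2,3,7,3,2,1])))) (.node (.node (.node (.node (.word [7,3,4,5,6,4]) (.word [2,3,7,5,4,2,3,0,1,2,1])) (.node (.word [7,3,4,1,2,3,7,5,6,1]) (.word [4,3,7,8,4,2,3,7,6,4,2,3,1,2,1]))) (.node (.node (.word [7,5,6,4,1,2,0]) (.word [8,4,2,3,7,4,3,0,1,2,1]))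 (.word [3,7,3,0,1,2]))) (.node (.node (.node (.word [2,3,4,5,6,4,1,2,0]) (.word [8,2,3,7,5,4,2,3,0,1,2,1])) (.node (.word [8,4,3,7,6,2,1]) (.word [3,7,8,6,5,2,3,4,1,2,3,7,3,0,1,2,1]))) (.node (.node (.word [3,7,5,4,1,2]) (.word [7,8,3,4,2,3,7,4,3,1,2,1])) (.word [7,8,1,2,3,7,3,4,3,1,2,1]))))) (.node (.node (.node (.node (.node (.word [7,3,4,5,6,4,5,3,4,0]) (.word [5,4,3,7,2,3,1,2])) (.node (.word [3,7,4,1,2]) (.word [2,3,7,8,3,4,1,2,3,7,4,3,1,2,1]))) (.node (.node (.word [7,6,4,2]) (.word [8,3,4,1,2,3,7,4,3,2,1])) (.word [7,8,3,7,6,1,2,1]))) (.node (.node (.node (.word [6,5,4,0]) (.word [4,5,3,4,2,3,7,6,4,3,2,1])) (.node (.word [8,2,3,7,3,4,3,2,1]) (.word [3,7,8,6,5,4,3,7,5,4,2,3,1,2,1]))) (.node (.node (.word [8,7,3,4,2,1]) (.word [8,5,4,2,3,7,5,4,2,3,0,1,2,1]))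 (.word [7,4,2,3,1,2,1])))) (.node (.node (.node (.node (.word [4,5,6,3,4,0]) (.word [4,3,7,6,4,2,3,0,1,2,1])) (.node (.word [3,7,6,3,2,1]) (.word [3,7,8,0,1,2,3,7,4,1,2,3,0,1,2,1]))) (.node (.node (.word [4,2,1]) (.word [8,3,4,2,3,7,6,2,3,0,1,2,1])) (.word [4,3,7,3,4,3,1,2,1]))) (.node (.node (.node (.word [7,5,6,4,2]) (.word [4,2,3,7,6,4,2,3,0,1,2,1])) (.word [8,7,3,1,2])) (.node (.node (.word [7,6,1,2,0]) (.word [5,3,4,0,1,2,3,7,3,1,2,1])) (.word [8,6,5,4,1,2,3,7,2,1])))))) (.node (.node (.node (.node (.node (.node (.word [4,2,3,7,1,2,3,4,5,6,4,5,3,4,0]) (.word [7,4,2,3,0,1,2,1])) (.node (.word [7,6,3,4,1,2,1]) (.word [5,3,4,2,3,7,4,2,3,0,1,2,1]))) (.node (.node (.word [3,7,4,5,3,4,2,1]) (.word [7,8,4,3,7,6,4,2,3,1,2,1])) (.word [6,1,2,3,0,1,2,1]))) (.node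 (.node (.node (.word [8,7,4,5,6,5,4]) (.word [8,2,3,7,6,4,2,3,1,2,1])) (.node (.word [4,3,7,5,6,5,3,4,0,1,2,1]) (.word [3,7,8,5,2,3,4,1,2,3,7,3,2,1]))) (.node (.node (.word [8,3,7,5,4,2]) (.word [8,1,2,3,7,5,4,1,2,3,0,1,2,1])) (.word [4,3,7,6,3,0,1,2,1])))) (.node (.node (.node (.node (.word [8,7,3,4,5,6,1]) (.word [3,7,8,2,3,7,6,3,4,3,1,2,1])) (.node (.word [7,8,3,7,5,3,4,1,2,1]) (.word [8,2,3,4,0,1,2,3,7,4,3,0,1,2,1]))) (.node (.node (.word [7,4,5,3,4,2,1]) (.word [3,7,8,5,4,2,3,7,3,0,1,2,1])) (.word [3,7,8,2,3,7,6,2,3,4,3,2,1]))) (.node (.node (.node (.word [7,8,2,3,7,4,5,6,1]) (.word [5,3,4,2,3,7,6,4,3,1,2,1])) (.node (.word [6,2,3,0,1,2,1]) (.word [2,3,7,8,4,5,2,3,4,1,2,3,7,3,0,1,2,1]))) (.node (.node (.word [4,3,7,5,6,5,3,4,2,1]) (.word [6,4,5,3,4,2,3,7,2,3,0,1,2,1]))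 (.word [8,2,3,7,6,3,4,3,0,1,2,1]))))) (.node (.node (.node (.node (.node (.word [7,3,4,5,6,3,4]) (.word [7,8,4,2,3,7,5,6,2,3,1,2,1])) (.node (.word [4,3,7,6,5,4,1,2,1]) (.word [7,8,7,5,3,4,2,3,7,2,3,0,1,2,1]))) (.node (.node (.word [5,4,2,1]) (.word [4,5,3,4,1,2,3,7,6,3,1,2,1])) (.word [8,4,3,7,0,1,2,1]))) (.node (.node (.node (.word [6,4]) (.word [5,3,4,1,2,3,7,6,3,1,2,1])) (.node (.word [8,4,3,7,3,4,1,2,1]) (.word [3,7,8,6,5,4,2,3,7,4,2,3,1,2,1]))) (.node (.node (.word [2,1]) (.word [3,7,8,3,4,1,2,3,7,4,3,1,2,1])) (.word [4,3,7,2,3,1,2])))) (.node (.node (.node (.node (.word [5,6,5,3,4,1]) (.word [0,1,2,3,7,4,3,0,1,2,1])) (.node (.word [7,6,3,1,2,1]) (.word [4,3,7,8,4,1,2,3,7,6,4,2,3,1,2,1]))) (.node (.node (.word [6,1,2]) (.word [2,3,4,1,2,3,7,6,2,3,1,2,1]))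 (.word [6,5,4,3,7,4,1,2,1]))) (.node (.node (.node (.word [8,7,5,6,5,4,2]) (.word [0,1,2,3,7,6,4,3,0,1,2,1])) (.word [3,7,3,1,2,0])) (.node (.node (.word [8,7,6,2,3,4,3,2,1]) (.word [7,8,6,5,4,3,7,6,4,2,3,1,2,1])) (.word [1,2,3,7,6,2,3,1,2,1]))))))) (.node (.node (.node (.node (.node (.node (.node (.word [7,8,3,7,1,2,3,4,5,6,5,3,4,0]) (.word [8,2,3,7,3,1,2,1])) (.node (.word [8,3,7,5,6,3,4,2,1]) (.word [4,3,7,8,5,3,4,2,3,7,3,2,1]))) (.node (.node (.word [7,8,4,2,3,7,4,5,6,1]) (.word [8,6,5,4,2,3,7,3,0,1,2,1])) (.word [7,8,3,7,6,3,4,3,2,1]))) (.node (.node (.node (.word [4,5,6]) (.word [8,4,1,2,3,7,6,4,3,2,1])) (.node (.word [4,3,7,6,3,2]) (.word [8,5,6,4,5,3,4,2,3,7,2,3,0,1,2,1]))) (.node (.node (.word [8,7,4,5,6,3,2,0]) (.word [8,1,2,3,7,6,4,2,3,0,1,2,1])) (.word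 [1,2,3,7,5,6,3,0,1,2,1])))) (.node (.node (.node (.node (.word [7,1,2,3,4,5,6,4,0]) (.word [6,5,4,2,3,7,6,0,1,2,1])) (.node (.word [7,3,4,3,2,1]) (.word [3,7,8,5,4,2,3,7,2,3,1,2,1]))) (.node (.node (.word [3,7,6,5,4,2,0]) (.word [7,5,3,4,2,3,7,2,3,0,1,2,1])) (.word [8,2,3,7,0,1,2,1]))) (.node (.node (.node (.word [3,4,5,6,1,2,0]) (.word [6,5,4,2,3,7,6,3,0,1,2,1])) (.node (.word [3,7,3,2,1]) (.word [3,7,8,5,2,3,4,1,2,3,7,2,3,1,2,1]))) (.node (.node (.word [7,5,6,3,1,2]) (.word [8,5,3,4,2,3,7,6,4,3,0,1,2,1])) (.word [4,5,3,4,1,2,3,7,1,2]))))) (.node (.node (.node (.node (.node (.word [7,3,4,2,3,7,1,2,3,4,5,6,4,5,3,4,0]) (.word [4,3,7,8,2,3,7,4,3,2,1])) (.node (.word [7,3,2]) (.word [7,8,5,4,3,7,5,4,2,3,1,2,1]))) (.node (.node (.word [8,7,6,4,5,3,4,1,2,1]) (.word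 [5,4,1,2,3,7,4,2,3,0,1,2,1])) (.word [2,3,7,5,6,2,3,1,2,1]))) (.node (.node (.node (.word [4,5,6,4,2,1]) (.word [6,5,4,0,1,2,3,7,6,1,2,1])) (.node (.word [8,7,6,3,4,3,1,2,1]) (.word [4,3,7,8,3,4,1,2,3,7,6,4,2,3,1,2,1]))) (.node (.node (.word [4,2,3,7,5,4,1,2]) (.word [7,8,1,2,3,7,5,4,2,3,0,1,2,1])) (.word [0,1,2,3,7,6,3,4,3,2,1])))) (.node (.node (.node (.node (.word [8,4,3,7,3,4,5,6]) (.word [8,7,5,3,4,1,2,3,7,1,2])) (.node (.word [8,3,7,4,0,1,2,1]) (.word [8,7,6,5,3,4,2,3,7,2,3,1,2,1]))) (.node (.node (.word [7,5,6,1,2]) (.word [7,2,3,4,1,2,3,7,2,3,1,2,1])) (.word [7,8,2,3,7,5,4,3,1,2,1]))) (.node (.node (.node (.word [8,7,6,4,5,3,4,2,1]) (.word [5,4,0,1,2,3,7,3,2,1])) (.word [8,3,7,1,2])) (.node (.node (.word [7,3,4,2,3,7,5,6,1]) (.word [8,2,3,4,1,2,3,7,3,1,2,1]))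 (.word [7,8,2,3,7,3,2,1])))))) (.node (.node (.node (.node (.node (.node (.word [7,3,4,5,6,4,5,3,4]) (.word [0,1,2,3,7,6,4,3,2,1])) (.node (.word [8,7,5,6,0,1,2]) (.word [3,7,8,5,3,4,2,3,7,6,2,3,1,2,1]))) (.node (.node (.word [2,3,7,8,4,3,7,4,5,6]) (.word [8,0,1,2,3,7,5,4,1,2,3,0,1,2,1])) (.word [1,2,3,7,5,6,3,1,2,1]))) (.node (.node (.node (.word [7,8,3,7,4,5,6,0]) (.word [3,4,2,3,7,5,4,1,2,3,0,1,2,1])) (.node (.word [4,3,7,3,1,2,0]) (.word [7,8,3,4,0,1,2,3,7,6,4,3,0,1,2,1]))) (.node (.node (.word [4,3,7,5,2,3,4,3,2,1]) (.word [8,6,5,4,3,7,5,4,2,3,0,1,2,1])) (.word [8,4,3,7,3,2,1])))) (.node (.node (.node (.node (.word [7,8,3,7,4,5,6,5,4]) (.word [8,5,4,2,3,7,6,4,3,2,1])) (.node (.word [2,3,7,5,6,3,2,1]) (.word [7,8,5,3,4,0,1,2,3,7,3,0,1,2,1]))) (.node (.node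 (.word [8,7,6,4,1]) (.word [4,3,7,8,2,3,7,4,2,3,1,2,1])) (.word [8,1,2,3,7,6,3,4,3,2,1]))) (.node (.node (.node (.word [4,5,6,4,1,2,1]) (.word [7,8,5,4,2,3,7,3,2,1])) (.word [3,7,6,4,3,2,1])) (.node (.node (.word [5,4,0,1,2,1]) (.word [7,8,3,7,4,1,2,3,0,1,2,1])) (.word [6,5,4,3,7,1,2,1]))))) (.node (.node (.node (.node (.node (.word [7,1,2,3,4,5,6,5,4,0]) (.word [7,8,4,1,2,3,7,4,3,2,1])) (.node (.word [5,4,3,7,2,0]) (.word [7,8,6,5,3,4,2,3,7,3,1,2,1]))) (.node (.node (.word [1,2,3,4,5,6,2,3,1,2,0]) (.word [8,6,5,3,4,2,3,7,3,2,1])) (.word [8,7,6,2,3,1,2,1]))) (.node (.node (.node (.word [6,5,2,3,4,1]) (.word [3,7,8,5,4,2,3,7,2,1])) (.node (.word [0,1,2,3,7,5,6,2,1]) (.word [3,7,8,2,3,4,1,2,3,7,3,0,1,2,1]))) (.node (.node (.word [8,7,4,5,6,3,1,2]) (.word [8,6,5,4,3,7,4,2,3,1,2,1]))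 (.word [1,2,3,7,3,4,3,1,2,1])))) (.node (.node (.node (.node (.word [7,8,3,7,4,5,6,4,0]) (.word [7,8,4,2,3,7,1,2,1])) (.node (.word [7,6,3,0,1,2]) (.word [3,7,8,6,5,4,2,3,7,6,4,2,3,1,2,1]))) (.node (.node (.word [8,7,5,6,5,3,4,2,1]) (.word [8,3,4,2,3,7,3,0,1,2,1])) (.word [7,8,2,3,7,2,1]))) (.node (.node (.node (.word [8,4,3,7,4,5,6,0]) (.word [3,7,8,4,2,3,7,1,2,1])) (.word [8,0,1,2,3,7,2,3,4,3,2,1])) (.node (.node (.word [8,3,7,6,1]) (.word [7,8,3,4,0,1,2,3,7,3,0,1,2,1])) (.word [7,3,4,2,3,7,1,2]))))))))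

/-- A subtree. -/
def sub4 : WTree :=
  (.node (.node sub0 sub1) (.node sub2 sub3))

/-- A subtree. -/
def sub5 : WTree :=
  (.node (.node (.node (.node (.node (.node (.node (.node (.word [2,3,7,8,4,3,7,2,3,4,5,6,4,5,3,4,0]) (.word [7,3,4,2,3,7,0,1,2,1])) (.node (.word [8,7,4,5,6,0,1,2,1]) (.word [7,8,3,4,1,2,3,7,6,4,3,1,2,1]))) (.node (.node (.word [8,7,5,6,4,0]) (.word [8,4,1,2,3,7,6,3,0,1,2,1])) (.word [8,2,3,7,6,3,4,3,2,1]))) (.node (.node (.node (.word [3,4,5,6,4,2,0]) (.word [8,1,2,3,7,6,3,0,1,2,1])) (.node (.word [1,2,3,7,6,2]) (.word [7,8,3,4,2,3,7,4,2,3,0,1,2,1]))) (.node (.node (.word [7,5,6,5,4,0,1,2,1]) (.word [3,4,1,2,3,7,6,4,3,0,1,2,1])) (.word [0,1,2,3,7,2,1])))) (.node (.node (.node (.node (.word [2,3,4,5,6,3,4,0]) (.word [3,7,8,4,2,3,7,4,3,2,1]))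 (.node (.word [7,6,0,1,2,0]) (.word [8,6,4,5,3,4,2,3,7,2,3,0,1,2,1]))) (.node (.node (.word [3,7,5,6,0]) (.word [7,8,5,3,4,2,3,7,6,4,3,2,1])) (.word [8,7,3,1,2,1]))) (.node (.node (.node (.word [7,6,5,4]) (.word [3,7,5,4,2,3,0,1,2,1])) (.node (.word [4,2,3,7,6,2,1]) (.word [7,8,5,1,2,3,4,0,1,2,3,7,3,0,1,2,1]))) (.node (.node (.word [8,7,5,6,1,2]) (.word [3,4,1,2,3,7,4,3,0,1,2,1])) (.word [8,2,3,7,4,3,2,1]))))) (.node (.node (.node (.node (.node (.word [3,4,2,3,7,1,2,3,4,5,6,4,5,3,4,0]) (.word [0,1,2,3,7,6,3,4,3,1,2,1])) (.node (.word [3,7,5,6,0,1,2]) (.word [6,4,5,3,4,2,3,7,2,3,1,2,1]))) (.node (.node (.word [8,7,5,6]) (.word [6,5,4,3,7,5,4,2,3,0,1,2,1])) (.word [4,2,3,7,6,3,2,1]))) (.node (.node (.node (.word [5,6,4,0]) (.word [3,7,8,0,1,2,3,7,4,3,2,1])) (.node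 (.word [7,3,4,1,2,3,7,5,6,2,1]) (.word [7,8,5,3,4,1,2,3,7,6,4,2,3,1,2,1]))) (.node (.node (.word [3,7,4,5,6,1,2,1]) (.word [8,3,4,1,2,3,7,4,3,1,2,1])) (.word [6,5,3,4,2,3,7,0,1,2,1])))) (.node (.node (.node (.node (.word [5,6,4,5,3,4,1]) (.word [7,4,1,2,3,0,1,2,1])) (.node (.word [4,3,7,5,4,3,2,1]) (.word [3,7,8,3,4,2,3,7,6,4,2,3,1,2,1]))) (.node (.node (.word [4,5,6,0,1,2,1]) (.word [8,6,5,4,3,7,2,3,1,2,1])) (.word [7,8,2,3,7,4,3,2,1]))) (.node (.node (.node (.word [2,3,7,8,4,3,7,3,4,5,6]) (.word [8,7,4,1,2,3,0,1,2,1])) (.word [2,3,7,6,3,4,3,2,1])) (.node (.node (.word [2,3,7,5,6,2,0]) (.word [8,3,4,2,3,7,6,4,2,3,0,1,2,1])) (.word [7,8,5,4,3,7,2,1])))))) (.node (.node (.node (.node (.node (.node (.word [3,7,2,3,4,5,6,4,5,3,4,0]) (.word [4,2,3,7,6,4,3,1,2,1]))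 (.node (.word [1,2,1]) (.word [8,5,3,4,1,2,3,7,3,0,1,2,1]))) (.node (.node (.word [3,4,5,2,3,4,2,1]) (.word [8,1,2,3,7,6,4,3,0,1,2,1])) (.word [8,4,3,7,3,4,0,1,2,1]))) (.node (.node (.node (.word [3,4,5,6,4,1,2]) (.word [3,7,4,2,3,0,1,2,1])) (.node (.word [2,3,1,2]) (.word [3,7,8,3,4,0,1,2,3,7,4,2,3,1,2,1]))) (.node (.node (.word [7,4,5,6,0,1,2,0]) (.word [7,8,1,2,3,7,6,4,2,3,1,2,1])) (.word [7,8,4,3,7,2,1])))) (.node (.node (.node (.node (.word [3,4,5,6,3,4,0]) (.word [6,5,4,3,7,6,3,0,1,2,1])) (.node (.word [8,7,6,3,4,3,2,1]) (.word [2,3,7,8,4,3,7,4,2,3,1,2,1]))) (.node (.node (.word [6,5,4,0,1,2,0]) (.word [7,8,4,2,3,7,6,4,3,0,1,2,1])) (.word [3,7,2,3,1,2]))) (.node (.node (.node (.word [7,5,6,5,4,2,0]) (.word [3,7,8,2,3,7,4,3,0,1,2,1])) (.node (.word [2,3,7,3,4,0,1,2,1])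 (.word [3,7,8,5,6,4,5,3,4,2,3,7,2,3,0,1,2,1]))) (.node (.node (.word [4,5,6,2,3,0,1,2]) (.word [4,3,7,8,2,3,7,4,2,3,0,1,2,1])) (.word [5,3,4,2,3,7,0,1,2,1]))))) (.node (.node (.node (.node (.node (.word [8,7,3,4,5,6,3,4,0]) (.word [4,1,2,3,7,4,3,2,1])) (.node (.word [8,3,7,6,5,3,4,0,1,2,1]) (.word [8,4,5,3,4,2,3,7,3,0,1,2,1]))) (.node (.node (.word [7,4,5,6,5,4,0,1,2,1]) (.word [7,8,6,5,4,3,7,6,2,3,1,2,1])) (.word [5,4,3,7,2,1]))) (.node (.node (.node (.word [4,3,7,4,5,6]) (.word [8,4,1,2,3,7,5,4,2,3,0,1,2,1])) (.node (.word [7,3,4,0,1,2,1]) (.word [4,3,7,8,5,3,4,2,3,7,2,3,1,2,1]))) (.node (.node (.word [3,7,5,6,4,1,2,1]) (.word [2,3,7,8,5,4,1,2,3,7,0,1,2,1])) (.word [4,1,2,3,7,1,2])))) (.node (.node (.node (.node (.word [4,5,6,4]) (.word [3,4,1,2,3,7,1,2,1]))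 (.node (.word [4,3,7,4,2,1]) (.word [8,5,2,3,4,1,2,3,7,2,3,1,2,1]))) (.node (.node (.word [7,5,4,0,1,2,0]) (.word [3,7,8,4,3,7,2,3,1,2,1])) (.word [6,5,4,3,7,6,3,2,1]))) (.node (.node (.node (.word [7,6,5,4,1]) (.word [7,8,4,1,2,3,7,3,0,1,2,1])) (.word [2,3,7,5,6,2,3,1,2])) (.node (.node (.word [8,3,7,2,3,4,3,2,1]) (.word [8,2,3,4,1,2,3,7,6,2,3,1,2,1])) (.word [7,5,3,4,1,2,3,7,1,2]))))))) (.node (.node (.node (.node (.node (.node (.node (.word [8,4,3,7,1,2,3,4,5,6,4,5,3,4,0]) (.word [4,3,7,3,0,1,2,1])) (.node (.word [8,7,4,2,1]) (.word [7,8,1,2,3,7,5,4,1,2,3,0,1,2,1]))) (.node (.node (.word [8,7,6,5,4,0]) (.word [7,8,3,4,2,3,7,6,3,1,2,1])) (.word [4,3,7,5,6,3,0,1,2,1]))) (.node (.node (.node (.word [3,4,5,6,1]) (.word [8,3,4,2,3,7,6,3,1,2,1])) (.node (.word [5,4,2,3,7,2])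 (.word [4,3,7,8,4,2,3,7,6,4,2,3,0,1,2,1]))) (.node (.node (.word [8,7,6,5,4,0,1,2,1]) (.word [5,3,4,2,3,7,6,4,2,3,1,2,1])) (.word [8,2,3,7,3,2,1])))) (.node (.node (.node (.node (.word [3,4,5,6,5,3,4,1]) (.word [2,3,7,4,2,3,1,2,1])) (.node (.word [3,4,0,1,2,3,7,5,6,1]) (.word [7,8,3,4,1,2,3,7,3,0,1,2,1]))) (.node (.node (.word [5,6,3,2,0]) (.word [3,4,2,3,7,4,2,3,1,2,1])) (.word [4,1,2,3,7,2]))) (.node (.node (.node (.word [7,4,5,6,0]) (.word [8,2,3,7,4,2,3,1,2,1])) (.node (.word [3,7,5,6,3,0,1,2,1]) (.word [3,7,8,5,3,4,1,2,3,7,6,4,2,3,1,2,1]))) (.node (.node (.word [7,6,4,0,1,2]) (.word [8,5,4,2,3,7,2,3,0,1,2,1])) (.word [7,8,1,2,3,7,4,3,2,1]))))) (.node (.node (.node (.node (.node (.word [8,7,3,4,5,6,5,4]) (.word [3,7,8,0,1,2,3,7,3,4,3,2,1])) (.node (.word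 [8,7,4,0,1,2,1]) (.word [4,3,7,8,4,1,2,3,7,4,2,3,1,2,1]))) (.node (.node (.word []) (.word [7,8,0,1,2,3,7,4,3,0,1,2,1])) (.word [1,2,3,7,5,6,0,1,2,1]))) (.node (.node (.node (.word [8,7,3,4,5,2,3,4,2,1]) (.word [8,1,2,3,7,5,4,2,3,1,2,1])) (.node (.word [7,5,3,4,3,0,1,2,1]) (.word [2,3,7,8,4,1,2,3,7,4,2,3,1,2,1]))) (.node (.node (.word [2,3,7,5,6,1]) (.word [6,5,4,0,1,2,3,7,3,1,2,1])) (.word [8,3,7,6,2,3,1,2,1])))) (.node (.node (.node (.node (.word [5,6,5,3,4,0]) (.word [8,5,3,4,2,3,7,4,3,2,1])) (.node (.word [4,3,7,5,4,1,2,1]) (.word [4,3,7,8,1,2,3,7,4,1,2,3,0,1,2,1]))) (.node (.node (.word [7,8,4,3,7,5,6]) (.word [5,3,4,0,1,2,3,7,3,2,1])) (.word [8,2,3,7,3,4,3,0,1,2,1]))) (.node (.node (.node (.word [5,6,4,1,2]) (.word [7,3,4,2,3,7,2,3,1,2])) (.word [5,4,3,7,3,1,2]))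 (.node (.node (.word [8,7,4,2,0]) (.word [8,7,3,4,1,2,3,7,3,1,2,1])) (.word [8,1,2,3,7,1,2,1])))))) (.node (.node (.node (.node (.node (.node (.word [8,7,2,3,4,5,6,5,3,4,0]) (.word [8,3,7,6,4,3,0,1,2,1])) (.node (.word [7,5,6,3,0,1,2]) (.word [8,6,5,4,1,2,3,7,2,3,1,2,1]))) (.node (.node (.word [5,6,2,1]) (.word [6,4,5,3,4,1,2,3,7,6,3,2,1])) (.word [8,1,2,3,7,1]))) (.node (.node (.node (.word [5,3,4]) (.word [8,5,4,3,7,6,2,3,1,2,1])) (.node (.word [8,3,7,6,3,2,0]) (.word [7,8,6,5,2,3,4,1,2,3,7,3,0,1,2,1]))) (.node (.node (.word [5,6,3,1,2,0]) (.word [4,5,3,4,0,1,2,3,7,3,2,1])) (.word [2,3,7,3,1,2,1])))) (.node (.node (.node (.node (.word [7,3,4,5,6]) (.word [3,7,8,2,3,7,5,4,2,3,1,2,1])) (.node (.word [7,8,2,3,7,5,6,1]) (.word [7,8,6,5,4,2,3,7,6,4,2,3,1,2,1])))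 (.node (.node (.word [8,4,3,7,5,6,1]) (.word [4,5,3,4,2,3,7,6,4,3,1,2,1])) (.word [4,2,3,7,3,4,3,2,1]))) (.node (.node (.node (.word [3,7,8,4,3,7,3,4,5,6,1]) (.word [4,3,7,8,2,3,7,4,3,1,2,1])) (.node (.word [6,4,2,3,1,2,1]) (.word [2,3,7,8,4,5,3,4,1,2,3,7,3,0,1,2,1]))) (.node (.node (.word [8,7,5,4,2,1]) (.word [8,3,4,0,1,2,3,7,4,2,3,1,2,1])) (.word [7,8,3,7,6,3,4,3,0,1,2,1]))))) (.node (.node (.node (.node (.node (.word [8,3,7,3,4,5,6,5,4]) (.word [6,5,4,1,2,3,7,6,1,2,1])) (.node (.word [6,2,3,1,2,0]) (.word [8,4,5,3,4,2,3,7,6,4,3,0,1,2,1]))) (.node (.node (.word [8,7,5,4]) (.word [0,1,2,3,7,6,4,2,3,0,1,2,1])) (.word [7,6,2,3,0,1,2,1]))) (.node (.node (.node (.word [7,6,3,4,5,2,3,4,2,1]) (.word [0,1,2,3,7,4,2,3,0,1,2,1])) (.node (.word [7,8,3,7,6,3,4,2,1]) (.word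 [2,3,7,8,3,4,2,3,7,4,2,3,1,2,1]))) (.node (.node (.word [6,3,4,3,2,1]) (.word [7,8,0,1,2,3,7,4,2,3,0,1,2,1])) (.word [2,3,7,8,1,2,3,7,2,3,4,3,2,1])))) (.node (.node (.node (.node (.word [3,4,5,6,5,4,1,2]) (.word [8,3,4,1,2,3,7,6,3,2,1])) (.node (.word [6,3,4,3,0,1,2,1]) (.word [8,2,3,4,1,2,3,7,4,3,0,1,2,1]))) (.node (.node (.word [4,5,6,3,0,1,2]) (.word [8,4,0,1,2,3,7,4,3,0,1,2,1])) (.word [7,6,1,2,3,0,1,2,1]))) (.node (.node (.node (.word [7,5,4]) (.word [8,2,3,4,1,2,3,7,6,3,2,1])) (.word [7,3,4,1,2,3,7,5,6,3,2,1])) (.node (.node (.word [8,7,5,3,4,0,1,2,1]) (.word [7,8,7,3,4,2,3,7,2,3,0,1,2,1])) (.word [3,4,1,2,3,7,6,3,2,1]))))))))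

/-- A subtree. -/
def sub6 : WTree :=
  (.node (.node (.node (.node (.node (.node (.node (.node (.word [7,8,4,3,7,1,2,3,4,5,6,4,5,3,4,0]) (.word [7,8,3,7,3,1,2,1])) (.node (.word [3,7,6,2,1]) (.word [7,8,4,1,2,3,7,6,4,2,3,1,2,1]))) (.node (.node (.word [5,6,4,1,2,0]) (.word [3,7,8,4,2,3,7,3,0,1,2,1])) (.word [2,3,7,5,3,4,3,1,2,1]))) (.node (.node (.node (.word [8,2,3,7,3,4,5,6,1]) (.word [4,2,3,7,6,4,3,0,1,2,1])) (.node (.word [8,7,6,0,1,2]) (.word [7,8,7,6,5,3,4,2,3,7,2,3,0,1,2,1]))) (.node (.node (.word [6,5,3,4,1,2,1]) (.word [8,3,4,0,1,2,3,7,3,0,1,2,1])) (.word [4,1,2,3,7,2,1])))) (.node (.node (.node (.node (.word [8,3,7,3,4,5,6,4]) (.word [5,3,4,2,3,7,1,2,1])) (.node (.word [3,1,2,0]) (.word [1,2,3,7,8,4,3,7,2,3,1,2,1]))) (.node (.node (.word [8,7,6,4,0])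 (.word [8,1,2,3,7,4,3,0,1,2,1])) (.word [2,3,7,6,3,0,1,2]))) (.node (.node (.node (.word [1,2,3,4,5,6,1,2,0]) (.word [2,3,7,4,2,3,0,1,2,1])) (.node (.word [4,3,7,5,4,3,1,2,1]) (.word [3,7,8,2,3,4,1,2,3,7,2,3,1,2,1]))) (.node (.node (.word [3,7,5,6,3,2]) (.word [5,3,4,2,3,7,4,2,3,1,2,1])) (.word [5,4,1,2,3,7,6,1,2,1]))))) (.node (.node (.node (.node (.node (.word [8,7,2,3,4,5,6,5,4,0]) (.word [4,2,3,7,2,3,1,2])) (.node (.word [3,7,6,3,2]) (.word [6,5,3,4,2,3,7,4,2,3,1,2,1]))) (.node (.node (.word [7,5,6,4,1,2]) (.word [7,8,1,2,3,7,5,4,2,3,1,2,1])) (.word [8,4,3,7,6,1,2,1]))) (.node (.node (.node (.word [4,5,6,5,4,1,2,0]) (.word [6,4,5,3,4,2,3,7,6,3,2,1])) (.node (.word [4,1,2,3,7,5,6,2,1]) (.word [4,3,7,8,5,4,3,7,5,4,2,3,1,2,1]))) (.node (.node (.word [8,7,5,3,4,1,2,1])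 (.word [7,8,0,1,2,3,7,6,4,3,0,1,2,1])) (.word [8,7,6,4,3,0,1,2,1])))) (.node (.node (.node (.node (.word [7,3,4,5,6,0]) (.word [8,2,3,7,6,2,3,0,1,2,1])) (.node (.word [4,3,7,6,2,1]) (.word [3,7,8,6,5,4,3,7,4,2,3,1,2,1]))) (.node (.node (.word [6,3,4,2,1]) (.word [8,4,2,3,7,2,3,0,1,2,1])) (.word [2,3,7,3,4,3,1,2,1]))) (.node (.node (.node (.word [8,7,5,6,4]) (.word [4,3,7,4,2,3,0,1,2,1])) (.word [8,3,7,6,3,1,2])) (.node (.node (.word [7,5,6,0,1,2,0]) (.word [2,3,4,1,2,3,7,2,3,1,2,1])) (.word [8,6,5,4,2,3,7,1,2,1])))))) (.node (.node (.node (.node (.node (.node (.word [8,2,3,7,1,2,3,4,5,6,4,5,3,4,0]) (.word [6,5,3,4,1,2,3,7,0,1,2,1])) (.node (.word [6,3,4,3,1,2,1]) (.word [8,7,6,5,3,4,2,3,7,2,3,1,2]))) (.node (.node (.word [7,4,5,6,2,1]) (.word [7,8,2,3,7,6,4,2,3,1,2,1]))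 (.word [8,5,4,3,7,4,2,1]))) (.node (.node (.node (.word [5,6,5,2,3,4,1]) (.word [1,2,3,7,6,4,2,3,1,2,1])) (.node (.word [8,4,3,7,6,5,4,1,2,1]) (.word [7,8,5,2,3,4,1,2,3,7,3,1,2,1]))) (.node (.node (.word [3,7,4,1,2,0]) (.word [2,3,7,8,0,1,2,3,7,4,3,1,2,1])) (.word [8,2,3,7,5,6,3,0,1,2,1])))) (.node (.node (.node (.node (.word [5,6,4,5,3,4,0]) (.word [5,3,4,2,3,7,6,3,1,2,1])) (.node (.word [8,4,3,7,5,4,0,1,2,1]) (.word [8,2,3,4,1,2,3,7,6,4,2,3,1,2,1]))) (.node (.node (.word [8,7,5,2,3,4,3,2,1]) (.word [8,5,4,2,3,7,6,4,3,0,1,2,1])) (.word [7,8,1,2,3,7,6,2,3,4,3,2,1]))) (.node (.node (.node (.word [4,2,3,7,3,4,5,6,1]) (.word [6,5,3,4,2,3,7,6,3,1,2,1])) (.node (.word [4,3,7,6,3,4,1,2,1]) (.word [2,3,7,8,4,5,3,4,0,1,2,3,7,3,0,1,2,1]))) (.node (.node (.word [8,7,5,6,5,3,4,1,2,1])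 (.word [3,7,8,3,4,2,3,7,6,4,3,1,2,1])) (.word [4,1,2,3,7,5,6,3,0,1,2,1]))))) (.node (.node (.node (.node (.node (.word [8,7,3,4,5,6,3,4,1]) (.word [7,8,0,1,2,3,7,3,4,3,1,2,1])) (.node (.word [3,7,6,5,4,0,1,2,1]) (.word [8,7,6,5,3,4,2,3,7,2,3,0,1,2,1]))) (.node (.node (.word [6,5,3,4,2,1]) (.word [7,8,4,1,2,3,7,6,4,3,1,2,1])) (.word [5,4,3,7,4,1,2,1]))) (.node (.node (.node (.word [4,5,6,4,1,2]) (.word [6,5,4,1,2,3,7,1,2,1])) (.node (.word [8,2,3,7,3,4,1,2,1]) (.word [3,7,8,6,5,3,4,2,3,7,6,4,2,3,1,2,1]))) (.node (.node (.word [6,3,2,1]) (.word [3,4,0,1,2,3,7,4,2,3,0,1,2,1])) (.word [0,1,2,3,7,3,4,3,1,2,1])))) (.node (.node (.node (.node (.word [4,5,6,5,4,1]) (.word [4,1,2,3,7,6,2,3,1,2,1])) (.node (.word [6,4,3,1,2,1]) (.word [7,8,4,1,2,3,7,4,2,3,0,1,2,1]))) (.node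 (.node (.word [5,6,0,1,2]) (.word [8,3,4,1,2,3,7,3,1,2,1])) (.word [5,4,3,7,6,3,4,0,1,2,1]))) (.node (.node (.node (.word [5,2,3,4,1]) (.word [4,0,1,2,3,7,4,3,0,1,2,1])) (.word [0,1,2,3,7,2,3,4,3,2,1])) (.node (.node (.word [4,3,7,5,6,2,1]) (.word [7,8,2,3,4,1,2,3,7,6,4,3,2,1])) (.word [4,1,2,3,7,6,3,1,2,1]))))))) (.node (.node (.node (.node (.node (.node (.node (.word [7,8,2,3,7,1,2,3,4,5,6,4,5,3,4,0]) (.word [8,4,2,3,7,6,3,1,2,1])) (.node (.word [3,7,4,2,1]) (.word [3,7,8,0,1,2,3,7,6,4,2,3,1,2,1]))) (.node (.node (.word [5,4,2,0]) (.word [6,5,3,4,0,1,2,3,7,1,2,1])) (.word [6,5,4,3,7,6,2,1]))) (.node (.node (.node (.word [8,3,7,4,5,6,4]) (.word [8,4,2,3,7,6,4,3,1,2,1])) (.node (.word [3,7,6,3,1,2]) (.word [4,3,7,8,3,4,2,3,7,6,4,2,3,1,2,1]))) (.node (.node (.word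 [7,4,5,6,3,1,2,0]) (.word [8,6,5,4,1,2,3,7,3,0,1,2,1])) (.word [8,2,3,7,1,2,1])))) (.node (.node (.node (.node (.word [5,4,3,7,8,2,3,7,1,2,3,4,5,6,3,4,0]) (.word [7,8,1,2,3,7,5,4,3,0,1,2,1])) (.node (.word [7,5,3,4,3,1,2,1]) (.word [8,2,3,4,1,2,3,7,2,3,1,2,1]))) (.node (.node (.word [7,4,5,6,3,2,0]) (.word [5,4,2,3,7,2,3,0,1,2,1])) (.word [8,2,3,7,1,2]))) (.node (.node (.node (.word [6,4,0]) (.word [7,8,1,2,3,7,4,3,0,1,2,1])) (.node (.word [4,3,7,2,1]) (.word [3,7,8,4,5,3,4,2,3,7,2,3,0,1,2,1]))) (.node (.node (.word [5,6,2,3,1,2]) (.word [3,7,8,4,2,3,7,6,4,3,0,1,2,1])) (.word [7,5,4,2,3,1,2,1]))))) (.node (.node (.node (.node (.node (.word [8,2,3,7,1,2,3,4,5,6,3,4,0]) (.word [4,3,7,8,2,3,7,6,3,4,3,2,1])) (.node (.word [3,1,2]) (.word [7,8,6,5,4,3,7,4,2,3,1,2,1])))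 (.node (.node (.word [7,6,4,5,3,4,2,1]) (.word [7,8,5,4,2,3,7,6,2,3,1,2,1])) (.word [2,3,7,1,2,1]))) (.node (.node (.node (.word [7,4,5,6,4,1]) (.word [8,7,4,5,3,4,2,3,7,3,1,2])) (.node (.word [8,3,7,3,4,3,1,2,1]) (.word [7,8,4,5,3,4,1,2,3,7,2,3,1,2,1]))) (.node (.node (.word [7,6,2,1]) (.word [3,7,8,0,1,2,3,7,4,2,3,1,2,1])) (.word [2,3,7,6,3,4,3,0,1,2,1])))) (.node (.node (.node (.node (.word [3,4,5,6,4,1]) (.word [7,3,4,1,2,3,7,1,2])) (.node (.word [3,7,5,6,3,4,0,1,2,1]) (.word [3,7,8,4,1,2,3,7,4,2,3,1,2,1]))) (.node (.node (.word [8,7,6]) (.word [3,4,0,1,2,3,7,3,1,2,1])) (.word [7,8,2,3,7,3,4,3,1,2,1]))) (.node (.node (.node (.word [6,3,4,5,2,3,4,2,1]) (.word [7,3,4,1,2,3,7,1,2,1])) (.word [5,4,2,3,7,3,0,1,2])) (.node (.node (.word [7,6,3,2,0]) (.word [4,5,3,4,1,2,3,7,3,1,2,1]))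 (.word [5,3,4,2,3,7,4,3,2,1])))))) (.node (.node (.node (.node (.node (.node (.word [7,2,3,4,5,6,5,3,4]) (.word [5,4,3,7,6,2,3,1,2,1])) (.node (.word [2,3,7,5,6,3,2]) (.word [3,4,1,2,3,7,4,2,3,0,1,2,1]))) (.node (.node (.word [7,5,6,2,3,4,2,1]) (.word [2,3,7,8,1,2,3,7,4,3,1,2,1])) (.word [0,1,2,3,7,1]))) (.node (.node (.node (.word [7,8,4,3,7,3,4,5,6,0]) (.word [5,4,0,1,2,3,7,0,1,2,1])) (.node (.word [3,7,1,2,0]) (.word [2,3,7,8,4,5,3,4,2,3,7,3,0,1,2,1]))) (.node (.node (.word [5,4,0,1,2,0]) (.word [4,3,7,8,3,4,2,3,7,6,4,3,2,1])) (.word [8,4,3,7,6,3,1,2,1])))) (.node (.node (.node (.node (.word [3,4,5,6,5,4,1]) (.word [7,8,5,4,3,7,3,2,1])) (.node (.word [1,2,3,7,6,1]) (.word [8,5,2,3,4,0,1,2,3,7,3,0,1,2,1]))) (.node (.node (.word [3,7,4,5,3,4,1,2,1]) (.word [4,0,1,2,3,7,6,4,2,3,1,2,1]))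 (.word [4,1,2,3,7,5,6,3,1,2,1]))) (.node (.node (.node (.word [4,5,6,2,1]) (.word [8,5,4,2,3,7,6,4,3,1,2,1])) (.word [8,7,6,3,1,2,1])) (.node (.node (.word [6,5,3,4,0,1,2,1]) (.word [7,8,0,1,2,3,7,6,4,2,3,1,2,1])) (.word [0,1,2,3,7,5,4,2,3,1,2,1]))))) (.node (.node (.node (.node (.node (.word [8,7,1,2,3,4,5,6,4,0]) (.word [6,5,4,1,2,3,7,6,3,2,1])) (.node (.word [2,3,7,0]) (.word [4,3,7,8,5,3,4,2,3,7,3,0,1,2,1]))) (.node (.node (.word [2,3,4,5,6,0,1,2,0]) (.word [3,7,8,3,4,1,2,3,7,4,3,2,1])) (.word [7,2,3,1,2,1]))) (.node (.node (.node (.word [6,5,4,1]) (.word [6,5,3,4,2,3,7,3,2,1])) (.node (.word [4,2,3,7,5,4,3,2,1]) (.word [3,7,8,4,5,3,4,0,1,2,3,7,3,0,1,2,1]))) (.node (.node (.word [8,2,3,7,5,6]) (.word [8,5,4,3,7,4,2,3,0,1,2,1])) (.word [3,7,8,2,3,7,6,3,4,3,2,1]))))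 (.node (.node (.node (.node (.word [7,8,3,7,3,4,5,6,0]) (.word [8,5,4,3,7,4,3,0,1,2,1])) (.node (.word [7,8,3,7]) (.word [2,3,7,8,5,4,3,7,4,2,3,1,2,1]))) (.node (.node (.word [8,7,6,5,3,4,1,2,1]) (.word [7,8,3,4,1,2,3,7,6,4,3,2,1])) (.word [8,4,2,3,7,2,1]))) (.node (.node (.node (.word [8,7,2,3,4,5,6,2,3,1,2,0]) (.word [3,4,2,3,7,3,0,1,2,1])) (.word [2,3,7,5,4,3,2,1])) (.node (.node (.word [8,4,1,2,3,7,5,6,1]) (.word [7,8,6,5,3,4,2,3,7,3,0,1,2,1])) (.word [3,4,1,2,3,7,1,2]))))))))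

/-- A subtree. -/
def sub7 : WTree :=
  (.node (.node (.node (.node (.node (.node (.node (.node (.word [3,7,8,4,3,7,1,2,3,4,5,6,4,5,3,4,0]) (.word [8,1,2,3,7,5,6,3,0,1,2,1])) (.node (.word [8,7,1]) (.word [8,6,5,4,0,1,2,3,7,3,0,1,2,1]))) (.node (.node (.word [4,5,6,1,2,0]) (.word [4,1,2,3,7,6,4,3,0,1,2,1])) (.word [5,4,3,1,2,1]))) (.node (.node (.node (.word [5,6,5,4,0]) (.word [3,4,2,3,7,6,3,0,1,2,1])) (.node (.word [2,3,7,2]) (.word [3,7,8,3,4,2,3,7,4,2,3,1,2,1]))) (.node (.node (.word [3,7,5,6,5,3,4,2,1]) (.word [6,5,3,4,1,2,3,7,3,0,1,2,1])) (.word [1,2,3,7,1,2,1])))) (.node (.node (.node (.node (.word [2,3,4,5,6,5,4,0]) (.word [3,7,5,4,2,3,1,2,1])) (.node (.word [3,7,2,0]) (.word [7,8,4,5,3,4,2,3,7,6,4,3,1,2,1]))) (.node (.node (.word [7,5,6,2,0]) (.word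 [5,4,3,7,5,4,2,3,1,2,1])) (.word [3,7,6,3,4,3,0,1,2,1]))) (.node (.node (.node (.word [5,4]) (.word [5,3,4,1,2,3,7,1,2,1])) (.node (.word [8,3,7,5,6,0,1,2,1]) (.word [4,1,2,3,7,8,3,4,2,3,7,4,2,3,1,2,1]))) (.node (.node (.word [7,5,6,0,1,2]) (.word [8,4,2,3,7,4,2,3,0,1,2,1])) (.word [5,4,0,1,2,3,7,6,2,1]))))) (.node (.node (.node (.node (.node (.word [7,1,2,3,4,5,6,4,5,3,4,0]) (.word [0,1,2,3,7,3,4,3,0,1,2,1])) (.node (.word [3,7,5,6,3,1,2]) (.word [3,7,8,5,3,4,1,2,3,7,3,0,1,2,1]))) (.node (.node (.word [4,3,7,5,4,0,1,2]) (.word [3,4,1,2,3,7,4,3,1,2,1])) (.word [8,3,7,6,0,1,2,1]))) (.node (.node (.node (.word [3,4,5,6,4,1,2,0]) (.word [2,3,7,8,1,2,3,7,5,4,3,1,2,1])) (.node (.word [1,2,3,7,5,2,3,4,3,2,1]) (.word [2,3,7,8,4,1,2,3,7,6,4,2,3,1,2,1]))) (.node (.node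 (.word [7,4,5,3,4,1,2,1]) (.word [7,8,3,4,1,2,3,7,4,3,2,1])) (.word [7,2,3,0,1,2,1])))) (.node (.node (.node (.node (.word [1,2,3,4,5,6,5,4,2,0]) (.word [4,1,2,3,7,0,1,2,1])) (.node (.word [2,3,7,5,6,1,2,1]) (.word [7,8,4,3,7,5,4,1,2,3,0,1,2,1]))) (.node (.node (.word [1]) (.word [7,8,3,7,6,4,1,2,3,0,1,2,1])) (.word [8,7,5,4,3,2,1]))) (.node (.node (.node (.word [8,7,4,5,6]) (.word [4,2,3,7,2,3,0,1,2,1])) (.word [7,3,0,1,2])) (.node (.node (.word [8,7,5,6,1,2,0]) (.word [7,8,4,2,3,7,6,4,2,3,0,1,2,1])) (.word [5,4,3,7,0,1,2,1])))))) (.node (.node (.node (.node (.node (.node (.word [8,7,3,4,5,6,4,5,3,4]) (.word [6,5,3,4,2,3,7,1,2,1])) (.node (.word [8,7,5,6,3,2,1]) (.word [7,8,3,4,1,2,3,7,4,3,1,2,1]))) (.node (.node (.word [3,7,8,4,3,7,4,5,6,1]) (.word [4,1,2,3,7,6,4,2,3,1,2,1]))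 (.word [8,4,3,7,6,3,4,1,2,1]))) (.node (.node (.node (.word [8,3,7,4,5,6,5,4,1]) (.word [1,2,3,7,6,4,3,0,1,2,1])) (.node (.word [8,7,3,2]) (.word [4,2,3,7,8,4,2,3,7,6,4,2,3,1,2,1]))) (.node (.node (.word [7,0]) (.word [8,5,4,0,1,2,3,7,3,0,1,2,1])) (.word [1,2,3,7,6,0,1,2,1])))) (.node (.node (.node (.node (.word [3,7,3,4,5,6,5,4,0]) (.word [8,6,5,4,2,3,7,0,1,2,1])) (.node (.word [7,3,4,1,2,1]) (.word [8,4,5,3,4,1,2,3,7,3,1,2,1]))) (.node (.node (.word [3,4,2,3,7,4,5,6,1]) (.word [6,5,4,1,2,3,7,4,2,3,1,2,1])) (.word [7,8,0,1,2,3,7,2,3,4,3,2,1]))) (.node (.node (.node (.word [6,5,4,2,0]) (.word [8,5,4,3,7,6,4,3,0,1,2,1])) (.node (.word [3,7,6,3,4,0,1,2,1]) (.word [1,2,3,7,8,3,4,2,3,7,4,2,3,1,2,1]))) (.node (.node (.word [7,6,5,3,4,1,2,1]) (.word [2,3,4,1,2,3,7,3,0,1,2,1]))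 (.word [4,3,7,4,3,1,2,1]))))) (.node (.node (.node (.node (.node (.word [7,3,4,5,6,5,3,4,0]) (.word [4,5,3,4,2,3,7,2,3,1,2])) (.node (.word [4,3,7,5,6,5,3,4,1,2,1]) (.word [7,8,5,4,2,3,7,4,2,3,1,2,1]))) (.node (.node (.word [7,5,4,1]) (.word [3,7,8,5,4,1,2,3,7,0,1,2,1])) (.word [8,3,7,3,2,1]))) (.node (.node (.node (.word [7,4,5,6,4,2]) (.word [7,8,5,4,3,7,6,2,3,1,2,1])) (.node (.word [8,4,3,7,5,4,1,2,1]) (.word [2,3,7,8,3,4,1,2,3,7,4,2,3,0,1,2,1]))) (.node (.node (.word [7,4,2,1]) (.word [8,6,5,4,1,2,3,7,3,1,2,1])) (.word [7,8,2,3,7,0,1,2,1])))) (.node (.node (.node (.node (.word [8,3,7,6,3,4,5,2,3,4,2,1]) (.word [3,4,1,2,3,7,6,3,1,2,1])) (.node (.word [7,5,6,3,0,1,2,1]) (.word [3,7,8,6,5,3,4,2,3,7,6,2,3,1,2,1]))) (.node (.node (.word [8,7,5,4,0,1,2]) (.word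 [3,7,8,4,1,2,3,7,3,0,1,2,1])) (.word [4,3,7,3,4,0,1,2,1]))) (.node (.node (.node (.word [6,5,4,2,1]) (.word [2,3,4,1,2,3,7,6,3,1,2,1])) (.word [2,3,0,1,2])) (.node (.node (.word [7,5,3,4,3,2,1]) (.word [7,8,3,4,1,2,3,7,6,2,3,1,2,1])) (.word [0,1,2,3,7,3,2,1]))))))) (.node (.node (.node (.node (.node (.node (.node (.word [7,8,3,7,2,3,4,5,6,3,4]) (.word [7,8,4,2,3,7,0,1,2,1])) (.node (.word [3,7,6,4,1,2,1]) (.word [4,3,7,8,5,4,3,7,2,3,1,2,1]))) (.node (.node (.word [7,6,5,4,2,0]) (.word [8,5,4,2,3,7,6,2,3,1,2,1])) (.word [5,4,3,7,6,1,2,1]))) (.node (.node (.node (.word [7,8,4,3,7,3,4,5,6]) (.word [8,4,2,3,7,6,2,3,1,2,1])) (.node (.word [2,3,7,6,1,2]) (.word [4,3,7,8,4,5,3,4,2,3,7,3,0,1,2,1]))) (.node (.node (.word [2,3,4,5,6,3,0,1,2,0]) (.word [7,8,3,4,2,3,7,6,2,3,1,2,1]))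 (.word [8,4,3,7,6,0,1,2,1])))) (.node (.node (.node (.node (.word [4,5,6,5,3,4]) (.word [8,4,3,7,4,3,1,2,1])) (.node (.word [8,3,7,6,2,3,4,3,2,1]) (.word [7,8,5,2,3,4,1,2,3,7,3,2,1]))) (.node (.node (.word [6,4,1,2,0]) (.word [7,8,2,3,7,4,2,3,1,2,1])) (.word [1,2,3,7,5,6,2,3,1,2]))) (.node (.node (.node (.word [4,5,6,2,0]) (.word [8,5,4,1,2,3,7,1,2,1])) (.node (.word [4,3,7,6,1,2,1]) (.word [3,7,8,2,3,4,1,2,3,7,4,2,3,1,2,1]))) (.node (.node (.word [8,7,0,1,2,0]) (.word [8,7,5,3,4,2,3,7,2,3,0,1,2,1])) (.word [7,8,4,2,3,7,4,3,2,1]))))) (.node (.node (.node (.node (.node (.word [7,3,4,5,6,4,5,3,4,1]) (.word [2,3,7,8,1,2,3,7,5,4,3,2,1])) (.node (.word [6,3,0,1,2]) (.word [7,8,6,5,4,2,3,7,4,2,3,0,1,2,1]))) (.node (.node (.word [3,4,5,6,3,0,1,2]) (.word [5,4,1,2,3,7,2,3,1,2,1]))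 (.word [3,7,0,1,2,1]))) (.node (.node (.node (.word [4,3,7,3,4,5,6,1]) (.word [5,3,4,2,3,7,2,3,1,2])) (.node (.word [3,7,5,4,3,2,1]) (.word [7,8,5,3,4,2,3,7,4,2,3,0,1,2,1]))) (.node (.node (.word [8,7,6,1]) (.word [5,3,4,1,2,3,7,4,2,3,0,1,2,1])) (.word [2,3,7,6,4,3,1,2,1])))) (.node (.node (.node (.node (.word [8,3,7,3,4,5,6,1]) (.word [4,1,2,3,7,2,3,1,2])) (.node (.word [5,4,3,7,5,4,2,1]) (.word [7,8,5,3,4,1,2,3,7,3,0,1,2,1]))) (.node (.node (.word [2,3,7,5,6]) (.word [8,7,3,4,2,3,7,2,3,1,2])) (.word [7,8,3,7,3,4,3,0,1,2,1]))) (.node (.node (.node (.word [3,4,5,6,3,1,2]) (.word [4,0,1,2,3,7,3,1,2,1])) (.word [4,3,7,3,2])) (.node (.node (.word [6,0,1,2,0]) (.word [2,3,7,8,4,3,7,6,4,2,3,1,2,1])) (.word [4,3,7,6,2,3,0,1,2,1])))))) (.node (.node (.node (.node (.node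 (.node (.word [8,7,2,3,4,5,6,3,4]) (.word [4,3,7,6,4,2,3,1,2,1])) (.node (.word [8,7,5,6,3,1,2]) (.word [6,5,3,4,0,1,2,3,7,3,1,2,1]))) (.node (.node (.word [5,6,3,4,2,1]) (.word [4,5,3,4,0,1,2,3,7,6,3,2,1])) (.word [8,4,2,3,7,5,4,3,2,1]))) (.node (.node (.node (.word [4,5,3,4,1]) (.word [7,8,1,2,3,7,3,0,1,2,1])) (.node (.word [2,3,7,2,0]) (.word [7,8,6,5,3,4,2,3,7,6,4,2,3,1,2,1]))) (.node (.node (.word [2,0]) (.word [3,7,8,0,1,2,3,7,6,4,3,1,2,1])) (.word [8,2,3,7,5,6,2,3,1,2,1])))) (.node (.node (.node (.node (.word [2,3,4,5,6,4,2]) (.word [5,4,2,3,7,6,4,3,1,2,1])) (.node (.word [8,2,3,7,6,1]) (.word [7,8,3,4,1,2,3,7,6,4,3,0,1,2,1]))) (.node (.node (.word [8,7,5,6,1]) (.word [3,7,8,3,4,2,3,7,4,3,1,2,1])) (.word [8,0,1,2,3,7,3,4,3,2,1]))) (.node (.node (.node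 (.word [7,4,5,6,1]) (.word [7,8,0,1,2,3,7,5,4,2,3,1,2,1])) (.word [8,7,5,6,2,3,1,2,1])) (.node (.node (.word [3,7,6,5,4,1,2,1]) (.word [4,3,7,8,2,3,7,6,4,2,3,1,2,1])) (.word [5,4,2,3,7,6,3,1,2,1]))))) (.node (.node (.node (.node (.node (.word [3,4,5,6,4,5,3,4,1]) (.word [7,8,1,2,3,7,4,3,1,2,1])) (.node (.word [8,3,7,5,6,3,2,0]) (.word [4,3,7,8,2,3,7,6,4,2,3,0,1,2,1]))) (.node (.node (.word [3,7,6,5,4,2]) (.word [8,6,5,4,1,2,3,7,3,2,1])) (.word [7,3,0,1,2,1]))) (.node (.node (.node (.word [7,4,5,6,5,4,2,1]) (.word [6,5,3,4,1,2,3,7,6,3,2,1])) (.node (.word [7,8,3,7,1]) (.word [4,3,7,8,3,4,2,3,7,6,4,2,3,0,1,2,1]))) (.node (.node (.word [2,3,4,3,2,1]) (.word [8,6,5,4,2,3,7,4,2,3,0,1,2,1])) (.word [3,7,8,1,2,3,7,3,4,3,2,1])))) (.node (.node (.node (.node (.word [1,2,3,4,5,6,0])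 (.word [8,3,4,2,3,7,6,4,3,2,1])) (.node (.word [3,4,3,1,2,1]) (.word [2,3,7,8,2,3,4,1,2,3,7,4,3,1,2,1]))) (.node (.node (.word [6,4,5,3,4,2,1]) (.word [6,5,4,2,3,7,6,4,2,3,1,2,1])) (.word [8,4,1,2,3,7,6,2,1]))) (.node (.node (.node (.word [3,4,5,2,3,4,1]) (.word [8,3,4,1,2,3,7,6,4,3,2,1])) (.word [7,8,2,3,7,6,2,3,4,3,2,1])) (.node (.node (.word [7,8,3,7,5,3,4,2,1]) (.word [1,2,3,4,0,1,2,3,7,3,0,1,2,1])) (.word [3,4,2,3,7,3,2,1]))))))))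

/-- A subtree. -/
def sub8 : WTree :=
  (.node (.node (.node (.node (.node (.node (.node (.node (.word [8,3,7,2,3,4,5,6,4,5,3,4]) (.word [1,2,3,7,0,1,2,1])) (.node (.word [2,3,7,5,4,0,1,2,1]) (.word [8,2,3,7,5,4,1,2,3,0,1,2,1]))) (.node (.node (.word [3,4,5,6,3,1,2,0]) (.word [3,4,2,3,7,6,4,2,3,1,2,1])) (.word [3,7,4,3,2,1]))) (.node (.node (.node (.word [7,8,3,7,3,4,5,6,1]) (.word [3,4,2,3,7,3,1,2,1])) (.node (.word [8,7,1,2]) (.word [4,3,7,8,3,4,2,3,7,6,4,3,0,1,2,1]))) (.node (.node (.word [3,7,6,5,4,1,2]) (.word [7,8,3,4,2,3,7,3,1,2,1])) (.word [5,4,2,3,7,2,1])))) (.node (.node (.node (.node (.word [7,2,3,4,5,6]) (.word [4,3,7,4,3,0,1,2,1])) (.node (.word [7,8,3,7,2,3,4,3,2,1]) (.word [3,7,8,4,0,1,2,3,7,4,2,3,1,2,1]))) (.node (.node (.word [7,6,4,2,0]) (.word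 [8,2,3,7,4,2,3,0,1,2,1])) (.word [8,2,3,7,6,3,1,2]))) (.node (.node (.node (.word [8,7,3,4,5,6,2,3,1,2,0]) (.word [5,4,2,3,7,3,0,1,2,1])) (.node (.word [7,8,3,7,6,2,1]) (.word [1,2,3,7,8,4,5,3,4,2,3,7,3,0,1,2,1]))) (.node (.node (.word [3,7,4,0,1,2]) (.word [7,8,4,2,3,7,4,2,3,1,2,1])) (.word [7,8,1,2,3,7,5,4,3,1,2,1]))))) (.node (.node (.node (.node (.node (.word [8,7,3,4,5,6,3,4]) (.word [4,3,7,8,1,2,3,7,6,2,3,4,3,2,1])) (.node (.word [7,4,0,1,2]) (.word [8,3,4,0,1,2,3,7,4,2,3,0,1,2,1]))) (.node (.node (.word [4,5,6,0,1,2]) (.word [6,5,3,4,2,3,7,2,3,1,2])) (.word [8,4,3,7,2,1]))) (.node (.node (.node (.word [3,4,5,6,5,4,0,1,2,0]) (.word [5,4,1,2,3,7,0,1,2,1])) (.node (.word [8,2,3,7,6,2,3,4,3,2,1]) (.word [7,8,4,5,3,4,1,2,3,7,3,0,1,2,1]))) (.node (.node (.word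 [7,8,4,3,7,5,6,1]) (.word [7,8,4,2,3,7,5,4,2,3,0,1,2,1])) (.word [8,7,6,4,2,3,1,2,1])))) (.node (.node (.node (.node (.word [2,3,4,5,6,4,2,0]) (.word [8,3,7,2,3,0,1,2,1])) (.node (.word [2,3,7,5,4,1,2,1]) (.word [7,8,6,5,4,2,3,7,5,4,2,3,0,1,2,1]))) (.node (.node (.word [2,3,4,2,1]) (.word [5,2,3,4,1,2,3,7,3,2,1])) (.word [8,3,7,5,4,3,1,2,1]))) (.node (.node (.node (.word [4,5,6,1,2]) (.word [3,7,8,4,2,3,7,3,2,1])) (.word [1,2,3,7,5,6,3,1,2])) (.node (.node (.word [3,7,5,6,3,2,0]) (.word [2,3,4,0,1,2,3,7,3,1,2,1])) (.word [7,6,4,1,2,3,0,1,2,1])))))) (.node (.node (.node (.node (.node (.node (.word [8,3,7,1,2,3,4,5,6,5,3,4,0]) (.word [8,7,6,4,2,3,0,1,2,1])) (.node (.word [3,4,3,2,1]) (.word [8,5,4,2,3,7,4,2,3,0,1,2,1]))) (.node (.node (.word [7,4,5,6,4,1,2,1])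 (.word [5,4,0,1,2,3,7,3,0,1,2,1])) (.word [7,8,2,3,7,1]))) (.node (.node (.node (.word [7,5,6,5,4]) (.word [8,4,3,7,6,4,2,3,1,2,1])) (.node (.word [2,3,1,2,0]) (.word [3,7,8,5,3,4,2,3,7,2,3,1,2,1]))) (.node (.node (.word [7,6,4,1,2,0]) (.word [4,3,7,8,5,4,3,7,6,2,3,1,2,1])) (.word [8,3,7,6,3,0,1,2,1])))) (.node (.node (.node (.node (.word [3,4,5,6,3,4,1]) (.word [5,4,0,1,2,3,7,4,2,3,1,2,1])) (.node (.word [8,4,3,7,3,4,2,1]) (.word [3,7,8,2,3,4,1,2,3,7,6,3,1,2,1]))) (.node (.node (.word [8,7,4,5,3,4,1,2,1]) (.word [8,6,5,4,2,3,7,3,1,2,1])) (.word [3,7,8,2,3,7,5,4,3,2,1]))) (.node (.node (.node (.word [8,7,3,4,5,2,3,4,1]) (.word [3,7,8,4,2,3,7,4,3,1,2,1])) (.node (.word [6,4,3,0,1,2,1]) (.word [3,7,8,5,1,2,3,4,0,1,2,3,7,3,0,1,2,1]))) (.node (.node (.word [2,3,7,6,5,4,0,1,2,1])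 (.word [4,5,3,4,2,3,7,6,4,2,3,1,2,1])) (.word [3,4,2,3,7,5,6,3,0,1,2,1]))))) (.node (.node (.node (.node (.node (.word [7,2,3,4,5,6,4]) (.word [5,4,0,1,2,3,7,6,3,2,1])) (.node (.word [3,7,5,6,5,3,4,0,1,2,1]) (.word [3,7,8,5,3,4,2,3,7,3,1,2,1]))) (.node (.node (.word [4,3,7,6,5,4,1,2]) (.word [3,7,8,1,2,3,7,6,4,3,1,2,1])) (.word [4,3,7,6,3,4,3,1,2,1]))) (.node (.node (.node (.word [3,4,5,6,1,2]) (.word [3,7,8,1,2,3,7,6,3,4,3,1,2,1])) (.node (.word [7,8,3,7,3,4,1,2,1]) (.word [1,2,3,7,8,4,2,3,7,4,2,3,1,2,1]))) (.node (.node (.word [6,4,0,1,2,1]) (.word [5,2,3,4,0,1,2,3,7,3,2,1])) (.word [7,2,3,4,0,1,2,3,7,5,6,3,2,1])))) (.node (.node (.node (.node (.word [7,4,5,6,5,4]) (.word [5,4,1,2,3,7,3,2,1])) (.node (.word [4,3,2,1]) (.word [8,6,4,5,3,4,2,3,7,2,3,1,2,1])))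 (.node (.node (.word [7,5,6,3,2]) (.word [3,4,0,1,2,3,7,4,3,0,1,2,1])) (.word [8,5,4,3,7,2,1]))) (.node (.node (.node (.word [7,4,5,6,5,4,0,1,2]) (.word [8,5,4,1,2,3,7,3,2,1])) (.word [2,3,7,3,2,0])) (.node (.node (.word [7,4,5,3,4,0,1,2,1]) (.word [7,8,3,4,2,3,7,3,0,1,2,1])) (.word [0,1,2,3,7,5,4,3,0,1,2,1]))))))) (.node (.node (.node (.node (.node (.node (.node (.word [4,3,7,1,2,3,4,5,6,4,5,3,4,0]) (.word [8,2,3,7,6,2,3,1,2,1])) (.node (.word [6,0,1,2,1]) (.word [7,8,6,5,4,3,7,5,4,2,3,0,1,2,1]))) (.node (.node (.word [7,3,4,5,2,3,4,3,2,1]) (.word [8,3,7,4,2,3,0,1,2,1])) (.word [3,7,3,4,0,1,2,1]))) (.node (.node (.node (.word [5,6,4]) (.word [6,5,4,2,3,7,3,0,1,2,1])) (.node (.word [8,3,7,6,3,2]) (.word [8,5,1,2,3,4,0,1,2,3,7,3,0,1,2,1]))) (.node (.node (.word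 [3,7,6,0]) (.word [8,5,4,3,7,4,2,3,1,2,1])) (.word [8,4,3,7,1,2,1])))) (.node (.node (.node (.node (.word [1,2,3,4,5,6,5,4,0]) (.word [7,8,2,3,7,6,3,4,3,0,1,2,1])) (.node (.word [4,3,7,5,6,1,2,1]) (.word [3,7,8,3,4,2,3,7,2,3,1,2,1]))) (.node (.node (.word [8,7,6,5,4,2,0]) (.word [7,8,1,2,3,7,6,4,3,0,1,2,1])) (.word [2,3,7,3,1,2]))) (.node (.node (.node (.word [3,4,5,6,4,0,1,2,0]) (.word [7,8,4,2,3,7,4,3,0,1,2,1])) (.node (.word [2,3,7,4,1,2,1]) (.word [3,7,8,3,4,1,2,3,7,4,2,3,0,1,2,1]))) (.node (.node (.word [3,2]) (.word [3,7,8,3,4,2,3,7,4,3,0,1,2,1])) (.word [2,3,7,5,4,3,0,1,2,1]))))) (.node (.node (.node (.node (.node (.word [3,7,1,2,3,4,5,6,3,4,0]) (.word [5,3,4,1,2,3,7,0,1,2,1])) (.node (.word [3,7,4,5,6,2,3,1,2]) (.word [8,3,4,1,2,3,7,4,3,0,1,2,1]))) (.node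 (.node (.word [8,7,5,6,5,2,3,4,2,1]) (.word [1,2,3,7,4,2,3,0,1,2,1])) (.word [4,3,7,1,2,1]))) (.node (.node (.node (.word [5,6,2,3,4,1]) (.word [7,8,0,1,2,3,7,6,3,4,3,1,2,1])) (.node (.word [8,3,7,6,3,4,3,2,1]) (.word [3,7,8,5,3,4,1,2,3,7,4,2,3,0,1,2,1]))) (.node (.node (.word [4,3,7,5,3,4,2,1]) (.word [2,3,7,8,5,4,3,7,6,2,3,1,2,1])) (.word [2,3,7,3,0,1,2])))) (.node (.node (.node (.node (.word [3,7,3,4,5,6]) (.word [4,0,1,2,3,7,3,2,1])) (.node (.word [4,3,7,6,4,1,2,1]) (.word [8,5,3,4,2,3,7,4,2,3,0,1,2,1]))) (.node (.node (.word [7,6,2]) (.word [3,7,8,4,2,3,7,6,2,3,1,2,1])) (.word [5,4,3,7,6,3,1,2,1]))) (.node (.node (.node (.word [3,7,6,4,5,3,4,2,1]) (.word [7,8,4,3,7,2,3,1,2,1])) (.word [2,3,7,6,0,1,2])) (.node (.node (.word [8,3,4,2,3,7,5,6,1]) (.word [6,5,3,4,2,3,7,6,4,2,3,1,2,1]))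 (.word [7,5,3,4,2,3,7,3,1,2])))))) (.node (.node (.node (.node (.node (.node (.word [3,7,8,2,3,7,1,2,3,4,5,6,5,3,4,0]) (.word [1,2,3,7,6,4,3,1,2,1])) (.node (.word [8,7,6,1,2]) (.word [7,8,5,4,1,2,3,7,4,2,3,0,1,2,1]))) (.node (.node (.word [8,4,3,7,5,6]) (.word [4,5,2,3,4,1,2,3,7,6,3,2,1])) (.word [1,2,3,7,2,1]))) (.node (.node (.node (.word [8,3,7,4,5,6,4,0]) (.word [4,1,2,3,7,5,4,1,2,3,0,1,2,1])) (.node (.word [1,2,3,7,1,2,0]) (.word [7,8,6,5,3,4,0,1,2,3,7,3,0,1,2,1]))) (.node (.node (.word [8,3,7,5,2,3,4,3,2,1]) (.word [5,3,4,1,2,3,7,3,0,1,2,1])) (.word [8,4,3,7,6,4,3,2,1])))) (.node (.node (.node (.node (.word [4,5,6,5,4]) (.word [7,8,5,4,3,7,3,0,1,2,1])) (.node (.word [8,7,5,6,0,1,2,1]) (.word [7,8,6,5,3,4,2,3,7,6,2,3,1,2,1]))) (.node (.node (.word [7,5,6,4,1,2,1])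 (.word [7,8,0,1,2,3,7,4,2,3,1,2,1])) (.word [7,8,1,2,3,7,5,4,3,2,1]))) (.node (.node (.node (.word [6,4,1]) (.word [8,6,5,4,3,7,2,3,0,1,2,1])) (.word [8,7,3,2,1])) (.node (.node (.word [5,6,2,3,1,2,0]) (.word [7,8,4,5,3,4,2,3,7,3,2,1])) (.word [5,4,3,7,6,4,3,1,2,1]))))) (.node (.node (.node (.node (.node (.word [8,7,3,4,5,6,4,0]) (.word [6,5,4,2,3,7,3,2,1])) (.node (.word [4,3,7,1,2,0]) (.word [8,4,5,2,3,4,1,2,3,7,3,0,1,2,1]))) (.node (.node (.word [7,2,3,4,5,6,2,3,1,2,0]) (.word [3,7,8,5,4,2,3,7,3,2,1])) (.word [8,3,7,5,6,2,3,1,2,1]))) (.node (.node (.node (.word [8,7,4,5,6,5,4,2]) (.word [6,5,4,3,7,4,2,3,0,1,2,1])) (.node (.word [1,2,3,7,5,6,1,2,1]) (.word [3,7,8,4,5,2,3,4,1,2,3,7,3,0,1,2,1]))) (.node (.node (.word [2,3,7,5,6,2]) (.word [8,3,7,5,4,1,2,3,0,1,2,1]))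 (.word [4,1,2,3,7,3,4,3,2,1])))) (.node (.node (.node (.node (.word [3,4,5,6,0]) (.word [8,7,3,4,2,3,7,0,1,2,1])) (.node (.word [8,2,3,7]) (.word [2,3,7,8,4,1,2,3,7,4,2,3,0,1,2,1]))) (.node (.node (.word [8,7,5,6,5,4,1,2,1]) (.word [4,5,3,4,2,3,7,3,1,2,1])) (.word [5,3,4,2,3,7,3,1,2]))) (.node (.node (.node (.word [8,7,4,5,6,0]) (.word [5,3,4,2,3,7,3,1,2,1])) (.word [8,1,2,3,7,3,4,3,2,1])) (.node (.node (.word [1,2,3,7,5,6,1]) (.word [7,8,3,4,2,3,7,2,3,1,2,1])) (.word [5,4,3,7,4,3,0,1,2,1]))))))))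

/-- A subtree. -/
def sub9 : WTree :=
  (.node (.node sub5 sub6) (.node sub7 sub8))

/-- A subtree. -/
def sub10 : WTree :=
  (.node (.node (.node (.node (.node (.node (.node (.node (.word [2,3,7,8,4,3,7,2,3,4,5,6,4,5,3,4]) (.word [8,4,2,3,7,1,2,1])) (.node (.word [3,7,1]) (.word [8,3,4,1,2,3,7,6,4,2,3,1,2,1]))) (.node (.node (.word [4,3,7,5,4,1,2,0]) (.word [8,1,2,3,7,3,0,1,2,1])) (.word [5,4,2,3,7,6,2,1]))) (.node (.node (.node (.word [2,3,4,5,6,2,0]) (.word [4,1,2,3,7,6,3,0,1,2,1])) (.node (.word [1,2,3,7,5,6,1,2]) (.word [7,8,3,4,1,2,3,7,4,3,0,1,2,1]))) (.node (.node (.word [8,7,5,4,1]) (.word [7,8,7,3,4,2,3,7,3,0,1,2,1])) (.word [4,0,1,2,3,7,6,2,1])))) (.node (.node (.node (.node (.word [7,2,3,4,5,6,4,0]) (.word [5,3,4,2,3,7,6,4,3,2,1])) (.node (.word [8,5,4,3,7,2])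 (.word [5,6,4,5,3,4,2,3,7,2,3,0,1,2,1]))) (.node (.node (.word [4,2,3,7,5,6,0]) (.word [8,6,5,4,3,7,4,2,3,0,1,2,1])) (.word [8,7,6,4,3,1,2,1]))) (.node (.node (.node (.word [7,5,6,5,4,2]) (.word [7,5,4,1,2,3,0,1,2,1])) (.node (.word [1,2,3,7,1]) (.word [3,7,8,6,4,5,3,4,2,3,7,2,3,0,1,2,1]))) (.node (.node (.word [8,7,4,5,6,0,1,2]) (.word [7,8,4,3,7,5,4,2,3,1,2,1])) (.word [4,2,3,7,4,3,2,1]))))) (.node (.node (.node (.node (.node (.word [2,3,7,1,2,3,4,5,6,4,5,3,4,0]) (.word [1,2,3,7,6,3,4,3,0,1,2,1])) (.node (.word [8,7,2]) (.word [8,5,3,4,1,2,3,7,6,4,3,0,1,2,1]))) (.node (.node (.word [8,7,4,5,6,2]) (.word [4,3,7,8,4,2,3,7,6,4,3,2,1])) (.word [4,2,3,7,2,1]))) (.node (.node (.node (.word [4,5,6,4,2,0]) (.word [3,7,8,0,1,2,3,7,6,3,4,3,2,1])) (.node (.word [7,3,4,0,1,2,3,7,5,6,1])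 (.word [3,7,8,2,3,4,0,1,2,3,7,3,0,1,2,1]))) (.node (.node (.word [7,5,2,3,4,3,2,1]) (.word [3,4,1,2,3,7,4,2,3,1,2,1])) (.word [6,5,4,3,7,0,1,2,1])))) (.node (.node (.node (.node (.word [4,5,6,4,5,2,3,4,1]) (.word [6,5,4,3,7,2,3,1,2])) (.node (.word [8,3,7,6,2,1]) (.word [7,8,5,3,4,2,3,7,6,4,2,3,1,2,1]))) (.node (.node (.word [7,4,1]) (.word [8,5,4,3,7,2,3,0,1,2,1])) (.word [7,8,2,3,7,6,3,4,3,2,1]))) (.node (.node (.node (.word [3,4,1]) (.word [3,7,4,1,2,3,0,1,2,1])) (.word [3,7,6,3,4,3,1,2,1])) (.node (.node (.word [8,7,5,6,3,2,0]) (.word [5,2,3,4,1,2,3,7,3,1,2,1])) (.word [6,5,4,3,7,3,2,1])))))) (.node (.node (.node (.node (.node (.node (.word [8,7,2,3,4,5,6,4,5,3,4,0]) (.word [8,4,3,7,3,1,2,1])) (.node (.word [7,5,6,3,1,2,1]) (.word [4,5,3,4,1,2,3,7,3,0,1,2,1])))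 (.node (.node (.word [7,3,4,5,2,3,4,1]) (.word [7,8,3,7,6,4,2,3,0,1,2,1])) (.word [8,2,3,7,3,4,0,1,2,1]))) (.node (.node (.node (.word [2,3,4,5,6,3,2]) (.word [6,5,4,2,3,7,6,2,3,1,2])) (.node (.word [3,0,1,2]) (.word [7,8,3,4,0,1,2,3,7,6,4,2,3,1,2,1]))) (.node (.node (.word [8,7,6,0]) (.word [8,4,1,2,3,7,6,4,2,3,1,2,1])) (.word [7,8,3,7,6,3,1,2,1])))) (.node (.node (.node (.node (.word [7,3,4,5,6,4,0]) (.word [3,7,8,2,3,7,5,4,3,0,1,2,1])) (.node (.word [4,3,7,5,6,3,2,1]) (.word [7,8,7,3,4,1,2,3,7,3,1,2,1]))) (.node (.node (.word [7,5,4,2,0]) (.word [6,5,3,4,2,3,7,6,3,0,1,2,1])) (.word [7,8,3,7,0,1,2,1]))) (.node (.node (.node (.word [7,4,5,6,5,4,1,2,0]) (.word [5,4,1,2,3,7,4,2,3,1,2,1])) (.node (.word [8,3,7,4,1,2,1]) (.word [4,3,7,8,4,5,3,4,2,3,7,2,3,1,2,1])))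 (.node (.node (.word [4,0,1,2]) (.word [3,7,8,2,3,7,6,4,2,3,0,1,2,1])) (.word [8,3,7,5,4,3,0,1,2,1]))))) (.node (.node (.node (.node (.node (.word [1,2,3,4,5,6,4,5,3,4,0]) (.word [8,1,2,3,7,5,4,3,1,2,1])) (.node (.word [3,7,6,5,3,4,1,2,1]) (.word [7,8,4,2,3,7,4,2,3,0,1,2,1]))) (.node (.node (.word [8,7,6,5,4,1]) (.word [6,5,4,0,1,2,3,7,3,2,1])) (.word [8,3,7,6,3,1,2,1]))) (.node (.node (.node (.word [7,8,4,3,7,4,5,6]) (.word [1,2,3,7,5,4,2,3,0,1,2,1])) (.node (.word [3,7,5,3,4,0,1,2,1]) (.word [2,3,7,8,5,2,3,4,1,2,3,7,3,0,1,2,1]))) (.node (.node (.word [7,5,6,4,0,1,2,1]) (.word [8,5,4,1,2,3,7,6,4,3,0,1,2,1])) (.word [8,2,3,7,3,1,2])))) (.node (.node (.node (.node (.word [3,4,5,6]) (.word [7,8,3,7,2,3,1,2,1])) (.node (.word [8,3,7,5,6,3,4,1,2,1]) (.word [8,6,5,3,4,1,2,3,7,2,3,1,2,1])))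 (.node (.node (.word [3,7,5,4,0,1,2]) (.word [2,3,4,0,1,2,3,7,3,2,1])) (.word [6,5,4,3,7,2,1]))) (.node (.node (.node (.word [7,5,6,5,4,2,1]) (.word [3,7,8,4,1,2,3,7,0,1,2,1])) (.word [2,3,7,6,3,1,2])) (.node (.node (.word [3,4,2,3,7,5,6,2,1]) (.word [2,3,4,0,1,2,3,7,4,3,0,1,2,1])) (.word [0,1,2,3,7,6,3,1,2,1]))))))) (.node (.node (.node (.node (.node (.node (.node (.word [7,8,3,7,1,2,3,4,5,6,4,5,3,4,0]) (.word [8,2,3,7,6,3,0,1,2,1])) (.node (.word [4,3,7,5,4,2,1]) (.word [8,1,2,3,7,4,1,2,3,0,1,2,1]))) (.node (.node (.word [3,7,6,5,4,1,2,0]) (.word [8,3,4,2,3,7,6,2,3,1,2,1])) (.word [8,3,7,3,4,3,0,1,2,1]))) (.node (.node (.node (.word [3,7,4,5,6,4,1]) (.word [3,4,2,3,7,6,2,3,1,2,1])) (.node (.word [7,8,3,7,6,2]) (.word [5,4,3,7,8,2,3,7,6,4,2,3,0,1,2,1]))) (.node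 (.node (.word [8,7,5,4,2]) (.word [8,3,4,1,2,3,7,6,4,3,1,2,1])) (.word [8,4,2,3,7,6,3,2,1])))) (.node (.node (.node (.node (.word [7,3,4,5,6,5,4,1]) (.word [4,2,3,7,4,3,1,2,1])) (.node (.word [3,7,2,3,4,3,2,1]) (.word [3,7,8,4,5,3,4,2,3,7,3,2,1]))) (.node (.node (.word [5,6,1,2,0]) (.word [8,5,4,2,3,7,3,0,1,2,1])) (.word [8,3,7,3,1,2]))) (.node (.node (.node (.word [8,3,7,4,5,6,0]) (.word [4,2,3,7,4,2,3,1,2,1])) (.node (.word [3,7,6,0,1,2,1]) (.word [3,7,8,5,2,3,4,0,1,2,3,7,3,0,1,2,1]))) (.node (.node (.word [8,7,5,4,1,2]) (.word [5,3,4,2,3,7,2,3,0,1,2,1])) (.word [7,8,1,2,3,7,6,3,4,3,2,1]))))) (.node (.node (.node (.node (.node (.word [8,7,3,4,5,6,5,3,4,1]) (.word [3,7,8,0,1,2,3,7,6,2,3,4,3,2,1])) (.node (.word [8,7,5,4,1,2,1]) (.word [7,8,4,0,1,2,3,7,4,2,3,0,1,2,1])))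 (.node (.node (.word [6,2]) (.word [5,4,2,3,7,5,4,2,3,0,1,2,1])) (.word [7,8,3,7,6,3,2,1]))) (.node (.node (.node (.word [2,3,7,3,4,5,6,1]) (.word [8,1,2,3,7,4,3,1,2,1])) (.node (.word [5,4,3,2,1]) (.word [3,7,8,3,4,1,2,3,7,4,2,3,1,2,1]))) (.node (.node (.word [4,1,2,3,7,5,6,1]) (.word [8,5,4,1,2,3,7,2,3,1,2,1])) (.word [4,3,7,6,2,3,1,2,1])))) (.node (.node (.node (.node (.word [4,5,6,5,4,0]) (.word [5,3,4,2,3,7,3,2,1])) (.node (.word [2,3,7,4,0,1,2,1]) (.word [7,8,6,5,4,3,7,5,4,2,3,1,2,1]))) (.node (.node (.word [2,3,7,8,4,3,7,5,6]) (.word [3,7,8,3,4,2,3,7,3,2,1])) (.word [4,1,2,3,7,5,6,0,1,2,1]))) (.node (.node (.node (.word [4,5,6,4,0,1,2]) (.word [7,8,5,3,4,2,3,7,4,3,2,1])) (.word [8,4,3,7,3,1,2])) (.node (.node (.word [7,4,1,2,0]) (.word [2,3,7,8,4,2,3,7,6,2,3,1,2,1]))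 (.word [3,4,1,2,3,7,0,1,2,1])))))) (.node (.node (.node (.node (.node (.node (.word [8,3,7,2,3,4,5,6,3,4,0]) (.word [2,3,7,6,4,3,0,1,2,1])) (.node (.word [7,8,3,7,6]) (.word [6,5,3,4,1,2,3,7,2,3,1,2,1]))) (.node (.node (.word [4,5,6,1,2,1]) (.word [5,4,3,7,8,2,3,7,6,4,3,2,1])) (.word [3,7,5,6,2,3,0,1,2,1]))) (.node (.node (.node (.word [6,5,4]) (.word [8,4,3,7,2,3,1,2,1])) (.node (.word [5,4,3,7,3,2,0]) (.word [2,3,7,8,3,4,2,3,7,6,4,2,3,1,2,1]))) (.node (.node (.word [5,6,0,1,2,0]) (.word [2,3,7,8,1,2,3,7,4,2,3,1,2,1])) (.word [4,2,3,7,6,3,1,2,1])))) (.node (.node (.node (.node (.word [3,7,3,4,5,6,4]) (.word [8,0,1,2,3,7,5,4,2,3,1,2,1])) (.node (.word [7,8,3,7,5,4,2,1]) (.word [3,7,8,2,3,4,1,2,3,7,3,2,1]))) (.node (.node (.word [3,7,8,4,3,7,5,6,1]) (.word [6,5,3,4,2,3,7,2,3,0,1,2,1]))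 (.word [1,2,3,7,5,4,3,2,1]))) (.node (.node (.node (.word [8,7,4,5,2,3,4,2,1]) (.word [4,0,1,2,3,7,4,2,3,1,2,1])) (.node (.word [8,7,5,6,3,0,1,2,1]) (.word [4,3,7,8,5,2,3,4,1,2,3,7,3,0,1,2,1]))) (.node (.node (.word [4,3,7,6,5,4,2,1]) (.word [3,4,0,1,2,3,7,6,4,2,3,1,2,1])) (.word [5,4,3,7,6,3,0,1,2,1]))))) (.node (.node (.node (.node (.node (.word [7,3,4,5,6,5,3,4,1]) (.word [8,5,4,1,2,3,7,0,1,2,1])) (.node (.word [5,3,4,0,1,2,1]) (.word [3,7,8,3,4,2,3,7,6,4,3,0,1,2,1]))) (.node (.node (.word [8,7,6,5,4,2]) (.word [3,7,8,1,2,3,7,4,2,3,1,2,1])) (.word [2,3,0,1,2,1]))) (.node (.node (.node (.word [8,7,6,3,4,5,2,3,4,1]) (.word [3,7,8,1,2,3,7,4,3,1,2,1])) (.node (.word [5,4,3,7,6,3,4,2,1]) (.word [3,7,8,5,3,4,2,3,7,4,2,3,1,2,1]))) (.node (.node (.word [4,1,2,1])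 (.word [8,0,1,2,3,7,6,4,2,3,0,1,2,1])) (.word [7,8,0,1,2,3,7,6,2,3,4,3,2,1])))) (.node (.node (.node (.node (.word [6,5,3,4]) (.word [2,3,4,1,2,3,7,6,3,2,1])) (.node (.word [8,7,6,3,2,1]) (.word [4,3,7,8,5,3,4,1,2,3,7,3,0,1,2,1]))) (.node (.node (.word [4,1,2]) (.word [4,0,1,2,3,7,6,4,3,0,1,2,1])) (.word [1,2,3,0,1,2,1]))) (.node (.node (.node (.word [7,6,5,4,2]) (.word [2,3,4,1,2,3,7,6,4,3,2,1])) (.word [7,3,4,0,1,2,3,7,5,6,2,1])) (.node (.node (.word [7,3,4,2,1]) (.word [7,8,5,3,4,2,3,7,3,1,2,1])) (.word [4,1,2,3,7,3,2,1]))))))))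

/-- A subtree. -/
def sub11 : WTree :=
  (.node (.node (.node (.node (.node (.node (.node (.node (.word [8,4,3,7,2,3,4,5,6,4,5,3,4]) (.word [8,5,4,3,7,4,3,1,2,1])) (.node (.word [7,6,1,2,1]) (.word [8,5,4,1,2,3,7,6,4,2,3,1,2,1]))) (.node (.node (.word [4,5,6,4,0,1,2,0]) (.word [3,4,0,1,2,3,7,3,0,1,2,1])) (.word [7,3,4,3,0,1,2,1]))) (.node (.node (.node (.word [4,5,3,4,0]) (.word [8,4,3,7,3,0,1,2,1])) (.node (.word [5,4,3,7,1,2]) (.word [7,8,5,3,4,2,3,7,2,3,0,1,2,1]))) (.node (.node (.word [6,5,4,0,1,2,1]) (.word [5,3,4,0,1,2,3,7,3,0,1,2,1])) (.word [8,1,2,3,7,5,6,3,1,2,1])))) (.node (.node (.node (.node (.word [7,3,4,5,6,3,4,1]) (.word [1,2,3,7,5,4,3,0,1,2,1])) (.node (.word [0,1,2,0]) (.word [4,3,7,8,3,4,2,3,7,4,2,3,1,2,1]))) (.node (.node (.word [3,7,5,4,1,2,0])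 (.word [4,1,2,3,7,4,3,0,1,2,1])) (.word [0,1,2,3,7,6,2,3,4,3,2,1]))) (.node (.node (.node (.word [4,5,2,3,4,1]) (.word [4,2,3,7,4,3,0,1,2,1])) (.node (.word [8,3,7,6,1,2,1]) (.word [3,7,8,5,2,3,4,1,2,3,7,3,1,2,1]))) (.node (.node (.word [3,7,6,2]) (.word [8,5,3,4,2,3,7,3,0,1,2,1])) (.word [7,8,4,3,7,5,6,2,3,1,2,1]))))) (.node (.node (.node (.node (.node (.word [8,7,3,4,5,6,5,3,4,0]) (.word [4,0,1,2,3,7,0,1,2,1])) (.node (.word [3,7,2]) (.word [3,7,8,3,4,1,2,3,7,6,4,3,1,2,1]))) (.node (.node (.word [7,4,5,6,4,0,1,2]) (.word [8,1,2,3,7,4,2,3,1,2,1])) (.word [4,2,3,7,5,4,3,1,2,1]))) (.node (.node (.node (.word [7,5,6,5,4,0]) (.word [3,7,8,1,2,3,7,6,4,3,2,1])) (.node (.word [3,4,0,1,2,3,7,5,6,2,1]) (.word [3,7,8,1,2,3,7,4,1,2,3,0,1,2,1]))) (.node (.node (.word [8,7,4,5,3,4,0,1,2,1])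 (.word [8,7,5,3,4,2,3,7,2,3,1,2])) (.word [3,7,6,4,3,0,1,2,1])))) (.node (.node (.node (.node (.word [3,7,3,4,5,6,4,0]) (.word [2,3,7,2,3,0,1,2,1])) (.node (.word [7,1,2,1]) (.word [2,3,7,8,4,3,7,5,4,2,3,1,2,1]))) (.node (.node (.word [6,4,1,2,1]) (.word [3,4,2,3,7,2,3,0,1,2,1])) (.word [3,7,5,4,3,0,1,2,1]))) (.node (.node (.node (.word [8,7,4,5,6,4,2]) (.word [8,2,3,7,2,3,0,1,2,1])) (.word [8,2,3,7,5,6,3,1,2])) (.node (.node (.word [8,7,0]) (.word [8,7,3,4,2,3,7,2,3,1,2,1])) (.word [7,8,5,4,3,7,0,1,2,1])))))) (.node (.node (.node (.node (.node (.node (.word [7,8,2,3,7,1,2,3,4,5,6,5,3,4,0]) (.word [6,5,4,2,3,7,0,1,2,1])) (.node (.word [4,0,1,2,1]) (.word [7,6,5,3,4,2,3,7,2,3,1,2,1]))) (.node (.node (.word [8,7,4,5,6,1]) (.word [8,4,2,3,7,6,4,2,3,1,2,1])) (.word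 [6,5,4,3,7,4,2,1]))) (.node (.node (.node (.word [5,6,5,4,1]) (.word [8,3,7,4,2,3,1,2,1])) (.node (.word [4,3,7,6,5,4,0,1,2,1]) (.word [3,7,8,4,5,3,4,1,2,3,7,3,2,1]))) (.node (.node (.word [7,5,4,1,2,0]) (.word [8,4,2,3,7,5,4,1,2,3,0,1,2,1])) (.word [2,3,7,6,3,0,1,2,1])))) (.node (.node (.node (.node (.word [2,3,4,5,6,5,4,2,0]) (.word [6,5,4,2,3,7,6,3,1,2,1])) (.node (.word [8,7,3,4,0,1,2,1]) (.word [8,6,5,3,4,2,3,7,6,4,2,3,1,2,1]))) (.node (.node (.word [3,7,4,5,6,2,1]) (.word [3,7,8,2,3,7,4,2,3,0,1,2,1])) (.word [3,4,1,2,3,7,5,6,3,2,1]))) (.node (.node (.node (.word [7,8,4,2,3,7,3,4,5,6,1]) (.word [6,5,4,2,3,7,3,1,2,1])) (.node (.word [4,3,7,4,1,2,1]) (.word [4,3,7,8,2,3,4,1,2,3,7,2,3,1,2,1]))) (.node (.node (.word [8,3,7,6,5,3,4,1,2,1]) (.word [4,3,7,8,4,2,3,7,6,4,3,1,2,1]))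 (.word [8,1,2,3,7,3,4,3,0,1,2,1]))))) (.node (.node (.node (.node (.node (.word [3,4,5,6,4,5,3,4,0]) (.word [8,0,1,2,3,7,6,3,4,3,1,2,1])) (.node (.word [2,3,7,6,5,4,1,2,1]) (.word [8,5,3,4,2,3,7,2,3,0,1,2,1]))) (.node (.node (.word [6,5,4,1,2,1]) (.word [6,5,3,4,1,2,3,7,6,3,1,2,1])) (.word [8,4,3,7,4,1,2,1]))) (.node (.node (.node (.word [5,6]) (.word [7,8,5,4,1,2,3,7,0,1,2,1])) (.node (.word [8,7,6,3,4,0,1,2,1]) (.word [3,7,8,3,4,0,1,2,3,7,4,2,3,0,1,2,1]))) (.node (.node (.word [6,1,2,1]) (.word [2,3,7,8,4,1,2,3,7,4,3,1,2,1])) (.word [4,2,3,7,6,2,3,1,2])))) (.node (.node (.node (.node (.word [3,7,4,5,6,5,4,1]) (.word [8,1,2,3,7,3,1,2,1])) (.node (.word [7,5,6,2,3,1,2,1]) (.word [7,8,5,3,4,1,2,3,7,4,2,3,0,1,2,1]))) (.node (.node (.word [7,4,2]) (.word [2,3,4,1,2,3,7,3,1,2,1]))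 (.word [8,4,3,7,6,3,4,0,1,2,1]))) (.node (.node (.node (.word [7,5,6,5,2,3,4,2,1]) (.word [8,1,2,3,7,2,3,1,2,1])) (.word [4,3,7,5,6,2,3,1,2])) (.node (.node (.word [8,7,5,3,4,3,1,2,1]) (.word [8,6,5,4,2,3,7,6,4,2,3,1,2,1])) (.word [4,1,2,3,7,1,2,1]))))))) (.node (.node (.node (.node (.node (.node (.node (.word [3,7,2,3,4,5,6,4,5,3,4]) (.word [3,4,2,3,7,6,3,1,2,1])) (.node (.word [4,3,7,6,4,2,1]) (.word [8,6,5,4,2,3,7,5,4,2,3,0,1,2,1]))) (.node (.node (.word [6,5,4,1,2,0]) (.word [8,6,5,4,3,7,6,2,3,1,2,1])) (.word [7,8,3,7,5,4,3,1,2,1]))) (.node (.node (.node (.word [3,7,4,5,6]) (.word [4,1,2,3,7,6,4,3,1,2,1])) (.node (.word [3,7,1,2]) (.word [7,8,4,5,2,3,4,1,2,3,7,3,0,1,2,1]))) (.node (.node (.word [4,5,6,2,3,1,2,0]) (.word [6,5,4,0,1,2,3,7,3,0,1,2,1])) (.word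 [3,4,2,3,7,0,1,2,1])))) (.node (.node (.node (.node (.word [5,6,4,5,3,4]) (.word [7,8,1,2,3,7,3,4,3,0,1,2,1])) (.node (.word [7,4,5,3,4,3,0,1,2,1]) (.word [7,8,7,3,4,2,3,7,2,3,1,2,1]))) (.node (.node (.word [4,5,6,3,1,2,0]) (.word [7,8,4,2,3,7,5,4,2,3,1,2,1])) (.word [2,3,7,0,1,2]))) (.node (.node (.node (.word [5,6,4,2,0]) (.word [7,8,1,2,3,7,6,3,4,3,0,1,2,1])) (.node (.word [8,3,7,5,6,3,1,2,1]) (.word [1,2,3,7,8,4,1,2,3,7,4,2,3,1,2,1]))) (.node (.node (.word [6,0,1,2]) (.word [6,4,5,3,4,2,3,7,6,3,0,1,2,1])) (.word [7,5,4,3,0,1,2,1]))))) (.node (.node (.node (.node (.node (.word [3,7,8,2,3,7,1,2,3,4,5,6,3,4,0]) (.word [3,7,8,1,2,3,7,4,3,2,1])) (.node (.word [7,5,6,2,3,1,2]) (.word [7,8,5,4,3,7,4,2,3,0,1,2,1]))) (.node (.node (.word [6,4,5,2,3,4,2,1]) (.word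 [7,5,3,4,1,2,3,7,2,3,1,2,1])) (.word [4,2,3,7,6,1,2,1]))) (.node (.node (.node (.word [8,3,7,4,5,6,4,1]) (.word [4,2,3,7,5,4,2,3,0,1,2,1])) (.node (.word [4,2,3,7,5,6,1,2,1]) (.word [7,8,5,2,3,4,1,2,3,7,2,3,1,2,1]))) (.node (.node (.word [3,7,5,6,2,1]) (.word [8,5,4,1,2,3,7,4,2,3,0,1,2,1])) (.word [8,2,3,7,6,4,3,2,1])))) (.node (.node (.node (.node (.word [7,3,4,5,6,1]) (.word [0,1,2,3,7,3,1,2,1])) (.node (.word [3,7,6,4,0,1,2,1]) (.word [7,8,3,4,1,2,3,7,4,2,3,1,2,1]))) (.node (.node (.word [8,7,5,6,2]) (.word [5,4,0,1,2,3,7,3,1,2,1])) (.word [8,2,3,7,6,3,4,3,1,2,1]))) (.node (.node (.node (.word [7,6,3,4,5,2,3,4,1]) (.word [7,8,2,3,7,2,3,1,2,1])) (.word [4,2,3,7,0,1,2])) (.node (.node (.word [3,2,0]) (.word [3,7,8,3,4,1,2,3,7,3,0,1,2,1])) (.word [7,8,4,2,3,7,2,1]))))))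 (.node (.node (.node (.node (.node (.node (.word [8,7,2,3,4,5,6,5,4]) (.word [8,3,7,2,3,1,2,1])) (.node (.word [2,3,7,6,2]) (.word [2,3,7,8,5,4,2,3,7,6,2,3,1,2,1]))) (.node (.node (.word [6,2,3,4,2,1]) (.word [6,5,3,4,0,1,2,3,7,6,3,2,1])) (.word [0,1,2,3,7,5,6,3,2,1]))) (.node (.node (.node (.word [2,3,4,5,6,5,4,1,2,0]) (.word [8,0,1,2,3,7,3,0,1,2,1])) (.node (.word [4,3,7,2,0]) (.word [7,8,2,3,4,0,1,2,3,7,4,3,0,1,2,1]))) (.node (.node (.word [4,5,6,3,0,1,2,0]) (.word [4,3,7,8,5,4,2,3,7,3,2,1])) (.word [4,3,7,6,4,3,1,2,1])))) (.node (.node (.node (.node (.word [3,7,3,4,5,6,5,4,1]) (.word [7,8,5,4,2,3,7,2,1])) (.node (.word [1,2,3,7,5,6,2,1]) (.word [7,8,6,5,3,4,1,2,3,7,3,0,1,2,1]))) (.node (.node (.word [7,6,1]) (.word [3,7,8,2,3,7,6,4,2,3,1,2,1])) (.word [8,1,2,3,7,3,4,3,1,2,1])))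 (.node (.node (.node (.word [7,5,6,4,1]) (.word [6,5,4,2,3,7,2,3,0,1,2,1])) (.word [7,3,1,2,1])) (.node (.node (.word [3,7,5,4,2,1]) (.word [4,3,7,8,4,2,3,7,4,2,3,1,2,1])) (.word [7,8,2,3,7,4,3,1,2,1]))))) (.node (.node (.node (.node (.node (.word [2,3,7,1,2,3,4,5,6,3,4,0]) (.word [6,5,4,1,2,3,7,2,1])) (.node (.word [2,3,7,5,6,3,2,0]) (.word [8,4,5,3,4,0,1,2,3,7,3,0,1,2,1]))) (.node (.node (.word [5,4,1,2]) (.word [2,3,7,8,4,1,2,3,7,4,3,2,1])) (.word [7,6,4,2,3,1,2,1]))) (.node (.node (.node (.word [5,6,5,4,2,1]) (.word [3,7,8,4,1,2,3,7,4,3,2,1])) (.node (.word [8,2,3,7,6,2,1]) (.word [7,8,1,2,3,4,0,1,2,3,7,4,3,0,1,2,1]))) (.node (.node (.word [7,4,5,6,3,0,1,2]) (.word [7,8,6,5,3,4,2,3,7,3,2,1])) (.word [4,3,7,8,2,3,7,3,4,3,2,1])))) (.node (.node (.node (.node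 (.word [8,4,3,7,3,4,5,6,0]) (.word [8,7,3,4,2,3,7,1,2])) (.node (.word [2,3,7,6,2,3,4,3,2,1]) (.word [4,3,7,8,3,4,1,2,3,7,4,2,3,1,2,1]))) (.node (.node (.word [8,7,6,4,5,3,4,0,1,2,1]) (.word [8,6,5,4,3,7,6,4,2,3,1,2,1])) (.word [8,3,7,5,6,2,3,0,1,2,1]))) (.node (.node (.node (.word [2,3,4,5,6,4,0,1,2,0]) (.word [8,7,3,4,2,3,7,1,2,1])) (.word [2,3,7,3,4,3,2,1])) (.node (.node (.word [7,8,3,7,5,6,1]) (.word [8,2,3,4,0,1,2,3,7,3,0,1,2,1])) (.word [8,3,4,2,3,7,6,3,2,1]))))))))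

/-- A subtree. -/
def sub12 : WTree :=
  (.node (.node (.node (.node (.node (.node (.node (.node (.word [7,8,4,3,7,2,3,4,5,6,4,5,3,4]) (.word [7,8,2,3,7,6,3,1,2,1])) (.node (.word [8,7,6,2,1]) (.word [7,8,5,3,4,2,3,7,6,2,3,1,2,1]))) (.node (.node (.word [7,6,4,0]) (.word [8,3,4,2,3,7,6,3,0,1,2,1])) (.word [5,3,4,3,0,1,2,1]))) (.node (.node (.node (.word [4,5,6,5,4,2,0]) (.word [8,5,4,3,7,3,1,2,1])) (.node (.word [7,8,3,7,3,2]) (.word [7,8,5,3,4,2,3,7,4,2,3,1,2,1]))) (.node (.node (.word [3,7,6,5,4,2,1]) (.word [8,4,1,2,3,7,6,4,3,0,1,2,1])) (.word [4,1,2,3,7,6,1,2,1])))) (.node (.node (.node (.node (.word [3,4,5,6,5,3,4,0]) (.word [8,7,5,4,3,0,1,2,1])) (.node (.word [8,3,7,1,2,0]) (.word [8,4,5,3,4,2,3,7,6,4,2,3,1,2,1]))) (.node (.node (.word [7,4,5,6,1,2,0])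 (.word [8,3,7,5,4,2,3,0,1,2,1])) (.word [8,3,7,6,4,3,2,1]))) (.node (.node (.node (.word [6,5,4,2]) (.word [8,3,7,5,4,2,3,1,2,1])) (.node (.word [8,2,3,7,5,6,3,2,1]) (.word [2,3,7,8,3,4,0,1,2,3,7,4,2,3,1,2,1]))) (.node (.node (.word [8,7]) (.word [8,3,4,2,3,7,4,3,0,1,2,1])) (.word [4,0,1,2,3,7,5,6,3,1,2,1]))))) (.node (.node (.node (.node (.node (.word [3,7,1,2,3,4,5,6,5,3,4,0]) (.word [3,4,0,1,2,3,7,1,2,1])) (.node (.word [3,7,6,1,2]) (.word [4,3,7,8,5,4,1,2,3,7,3,0,1,2,1]))) (.node (.node (.word [7,6]) (.word [5,4,1,2,3,7,3,0,1,2,1])) (.word [5,3,4,2,3,7,1,2]))) (.node (.node (.node (.word [2,3,4,5,6,3,2,0]) (.word [0,1,2,3,7,5,4,1,2,3,0,1,2,1])) (.node (.word [7,8,3,7,6,2,3,4,3,2,1]) (.word [3,7,8,5,4,1,2,3,7,6,4,2,3,1,2,1]))) (.node (.node (.word [4,5,3,4,2,1])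 (.word [8,2,3,4,1,2,3,7,4,3,2,1])) (.word [7,6,4,2,3,0,1,2,1])))) (.node (.node (.node (.node (.word [1,2,3,4,5,6,4,0]) (.word [8,7,1,2,3,0,1,2,1])) (.node (.word [7,6,0,1,2,1]) (.word [3,7,8,5,4,2,3,7,6,4,2,3,1,2,1]))) (.node (.node (.word [6,2,1]) (.word [8,4,5,3,4,2,3,7,3,2,1])) (.word [7,5,4,3,1,2,1]))) (.node (.node (.node (.word [4,3,7,5,6]) (.word [4,1,2,3,7,3,0,1,2,1])) (.word [3,7,6,3,0,1,2])) (.node (.node (.word [5,4,3,7,5,4,2]) (.word [8,5,2,3,4,1,2,3,7,3,2,1])) (.word [8,5,4,3,7,6,4,3,2,1])))))) (.node (.node (.node (.node (.node (.node (.word [3,7,2,3,4,5,6,5,3,4]) (.word [8,4,2,3,7,6,4,3,2,1])) (.node (.word [7,6,3,2,1]) (.word [8,3,4,1,2,3,7,4,2,3,1,2,1]))) (.node (.node (.word [8,7,5,2,3,4,2,1]) (.word [7,8,3,7,4,2,3,1,2,1])) (.word [8,5,4,3,7,4,0,1,2,1])))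 (.node (.node (.node (.word [2,3,7,4,5,6,5,4,1]) (.word [8,3,7,6,4,2,3,0,1,2,1])) (.node (.word [7,3,1,2]) (.word [1,2,3,7,8,4,2,3,7,6,4,2,3,1,2,1]))) (.node (.node (.word [7,6,2,0]) (.word [7,8,5,4,3,7,6,4,2,3,1,2,1])) (.word [7,8,3,7,3,2,1])))) (.node (.node (.node (.node (.word [7,8,3,7,3,4,5,6,5,4,0]) (.word [7,8,3,7,6,4,3,0,1,2,1])) (.node (.word [3,7,5,3,4,1,2,1]) (.word [2,3,7,8,3,4,1,2,3,7,3,0,1,2,1]))) (.node (.node (.word [8,4,2,3,7,4,5,6,1]) (.word [3,7,8,4,2,3,7,4,3,0,1,2,1])) (.word [7,3,4,0,1,2,3,7,5,6,3,2,1]))) (.node (.node (.node (.word [5,6,5,4,1,2,0]) (.word [5,4,2,3,7,6,4,3,0,1,2,1])) (.node (.word [4,3,7,6,4,0,1,2,1]) (.word [2,3,7,8,5,3,4,2,3,7,4,2,3,1,2,1]))) (.node (.node (.word [7,6,4,5,3,4,0,1,2,1]) (.word [3,7,8,5,3,4,2,3,7,3,0,1,2,1]))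 (.word [8,2,3,7,5,4,3,1,2,1]))))) (.node (.node (.node (.node (.node (.word [8,7,3,4,5,6,5,4,0]) (.word [8,4,2,3,7,4,3,2,1])) (.node (.word [8,3,7,5,6,5,3,4,1,2,1]) (.word [7,8,3,4,2,3,7,4,2,3,1,2,1]))) (.node (.node (.word [7,6,5,4,2,1]) (.word [5,4,1,2,3,7,6,4,3,0,1,2,1])) (.word [8,4,3,7,6,3,2,1]))) (.node (.node (.node (.word [8,7,4,5,6,4]) (.word [5,3,4,0,1,2,3,7,6,3,2,1])) (.node (.word [4,3,7,3,4,2,1]) (.word [7,8,6,5,3,4,2,3,7,4,2,3,1,2,1]))) (.node (.node (.word [3,7,5,6,3,4,2,1]) (.word [6,5,3,4,1,2,3,7,3,1,2,1])) (.word [4,1,2,3,7,5,6,2,3,1,2])))) (.node (.node (.node (.node (.word [3,4,5,6,4,2]) (.word [4,1,2,3,7,3,1,2,1])) (.node (.word [6,3,0,1,2,1]) (.word [3,7,8,6,5,4,2,3,7,2,3,1,2,1]))) (.node (.node (.word [7,5,6,4,0,1,2]) (.word [2,3,7,8,4,1,2,3,7,0,1,2,1]))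 (.word [7,8,3,7,6,4,3,2,1]))) (.node (.node (.node (.word [5,6,5,3,4,2,1]) (.word [8,4,1,2,3,7,3,1,2,1])) (.word [8,3,7,0,1,2,1])) (.node (.node (.word [7,4,5,3,4,3,1,2,1]) (.word [8,3,4,0,1,2,3,7,4,3,0,1,2,1])) (.word [4,0,1,2,3,7,6,3,2,1]))))))) (.node (.node (.node (.node (.node (.node (.node (.word [4,3,7,2,3,4,5,6,4,5,3,4,0]) (.word [8,3,7,3,0,1,2,1])) (.node (.word [8,3,7,5,4,0,1,2,1]) (.word [3,7,8,6,5,4,3,7,6,4,2,3,1,2,1]))) (.node (.node (.word [8,7,6,5,4,1,2,0]) (.word [6,5,4,2,3,7,6,2,3,1,2,1])) (.word [4,2,3,7,5,6,3,1,2,1]))) (.node (.node (.node (.word [5,6,3,4,1]) (.word [5,4,2,3,7,6,2,3,1,2,1])) (.node (.word [7,0,1,2]) (.word [7,8,4,5,3,4,0,1,2,3,7,3,0,1,2,1]))) (.node (.node (.word [5,4,0,1,2]) (.word [8,5,3,4,2,3,7,6,2,3,1,2,1])) (.word [7,5,3,4,2,3,7,1,2]))))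 (.node (.node (.node (.node (.word [3,4,5,6,5,4]) (.word [8,2,3,7,5,4,2,3,1,2,1])) (.node (.word [8,2,3,7,2,3,4,3,2,1]) (.word [7,8,3,4,2,3,7,6,4,2,3,0,1,2,1]))) (.node (.node (.word [5,6,4,0,1,2,0]) (.word [8,4,2,3,7,4,2,3,1,2,1])) (.word [1,2,3,7,6,3,1,2]))) (.node (.node (.node (.word [7,5,6,4,0]) (.word [7,8,2,3,7,5,4,2,3,1,2,1])) (.node (.word [2,3,7,5,6,3,1,2,1]) (.word [3,7,8,4,5,3,4,1,2,3,7,3,0,1,2,1]))) (.node (.node (.word [7,4,1,2]) (.word [4,5,3,4,2,3,7,2,3,1,2,1])) (.word [5,3,4,2,3,7,6,3,2,1]))))) (.node (.node (.node (.node (.node (.word [2,3,4,5,6,5,3,4]) (.word [2,3,4,1,2,3,7,5,6,3,1,2,1])) (.node (.word [5,6,2,3,0,1,2]) (.word [8,6,5,4,2,3,7,4,2,3,1,2,1]))) (.node (.node (.word [4,2]) (.word [6,5,4,1,2,3,7,2,3,1,2])) (.word [4,3,7,6,0,1,2,1])))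 (.node (.node (.node (.word [7,8,4,3,7,3,4,5,6,1]) (.word [8,3,4,2,3,7,4,3,2,1])) (.node (.word [3,7,3,4,3,2,1]) (.word [7,8,4,5,3,4,2,3,7,2,3,0,1,2,1]))) (.node (.node (.word [8,7,5,6,2,1]) (.word [7,5,2,3,4,1,2,3,7,2,3,1,2,1])) (.word [8,7,4,3,1,2,1])))) (.node (.node (.node (.node (.word [8,2,3,7,3,4,5,6,4,1]) (.word [8,7,5,3,4,2,3,7,3,1,2])) (.node (.word [8,3,7,4,2,1]) (.word [8,4,5,3,4,1,2,3,7,3,0,1,2,1]))) (.node (.node (.word [4,1,2,3,7,5,6]) (.word [7,3,4,2,3,7,2,3,1,2,1])) (.word [8,3,7,6,3,4,3,0,1,2,1]))) (.node (.node (.node (.word [3,4,5,6,0,1,2]) (.word [5,4,0,1,2,3,7,1,2,1])) (.word [2,3,7,3,2])) (.node (.node (.word [5,6,3,0,1,2,0]) (.word [3,7,8,4,3,7,4,2,3,1,2,1])) (.word [8,4,1,2,3,7,2,1])))))) (.node (.node (.node (.node (.node (.node (.word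 [7,2,3,4,5,6,4,5,3,4,0]) (.word [2,3,7,6,4,2,3,1,2,1])) (.node (.word [8,3,7]) (.word [8,5,3,4,1,2,3,7,2,3,1,2,1]))) (.node (.node (.word [5,6,4,1,2,1]) (.word [8,4,1,2,3,7,5,4,1,2,3,0,1,2,1])) (.word [7,8,2,3,7,6,2,1]))) (.node (.node (.node (.word [6,4,5,2,3,4,1]) (.word [0,1,2,3,7,6,3,4,3,0,1,2,1])) (.node (.word [8,2,3,7,1,2,0]) (.word [3,7,8,2,3,4,1,2,3,7,3,1,2,1]))) (.node (.node (.word [7,5,6,3,2,0]) (.word [6,5,4,2,3,7,5,4,2,3,0,1,2,1])) (.word [4,2,3,7,5,6,2,3,1,2,1])))) (.node (.node (.node (.node (.word [2,3,4,5,6]) (.word [7,8,4,3,7,6,4,3,1,2,1])) (.node (.word [8,2,3,7,5,6,2,1]) (.word [7,8,4,5,3,4,2,3,7,3,1,2,1]))) (.node (.node (.word [8,7,4,5,6,2,1]) (.word [4,3,7,8,4,2,3,7,4,3,1,2,1])) (.word [4,0,1,2,3,7,5,6,1,2,1]))) (.node (.node (.node (.word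 [8,3,7,4,5,6,1]) (.word [8,0,1,2,3,7,4,2,3,1,2,1])) (.node (.word [3,7,5,6,2,3,1,2,1]) (.word [1,2,3,7,8,3,4,1,2,3,7,4,2,3,1,2,1]))) (.node (.node (.word [8,3,7,6,5,4,0,1,2,1]) (.word [1,2,3,7,8,4,3,7,6,2,3,1,2,1])) (.word [6,5,4,2,3,7,6,1,2,1]))))) (.node (.node (.node (.node (.node (.word [2,3,4,5,6,5,4]) (.word [3,7,8,1,2,3,7,3,4,3,1,2,1])) (.node (.word [8,3,7,0]) (.word [5,4,3,7,8,2,3,7,6,4,3,0,1,2,1]))) (.node (.node (.word [7,6,5,4,1,2]) (.word [6,5,3,4,1,2,3,7,3,2,1])) (.word [7,6,4,3,0,1,2,1]))) (.node (.node (.node (.word [8,7,4,5,6,5,4,1]) (.word [6,5,4,1,2,3,7,3,2,1])) (.node (.word [7,8,2,3,7,6,1]) (.word [5,4,3,7,8,3,4,2,3,7,6,4,3,0,1,2,1]))) (.node (.node (.word [8,7,5,6,3,4,2,1]) (.word [6,5,4,2,3,7,4,2,3,1,2,1])) (.word [3,7,8,1,2,3,7,6,2,3,4,3,2,1]))))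 (.node (.node (.node (.node (.word [4,5,3,4]) (.word [3,4,1,2,3,7,6,4,3,2,1])) (.node (.word [8,7,5,6,3,4,0,1,2,1]) (.word [7,8,6,5,3,4,2,3,7,4,2,3,0,1,2,1]))) (.node (.node (.word [8,7,4,5,6,3,2]) (.word [7,8,3,4,1,2,3,7,3,2,1])) (.word [2,3,7,5,6,2,3,0,1,2,1]))) (.node (.node (.node (.word [5,4,2]) (.word [6,5,4,3,7,6,4,2,3,1,2,1])) (.word [3,4,2,3,7,5,6,3,2,1])) (.node (.node (.word [8,3,7,3,4,2,1]) (.word [6,5,3,4,0,1,2,3,7,3,0,1,2,1])) (.word [5,4,2,3,7,3,2,1]))))))))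

/-- A subtree. -/
def sub13 : WTree :=
  (.node (.node (.node (.node (.node (.node (.node (.node (.word [7,8,3,7,2,3,4,5,6,5,3,4]) (.word [4,1,2,3,7,6,0,1,2,1])) (.node (.word [2,3,7,5,4,1,2]) (.word [8,4,3,7,5,4,1,2,3,0,1,2,1]))) (.node (.node (.word [3,4,5,6,0,1,2,0]) (.word [3,4,1,2,3,7,6,4,3,1,2,1])) (.word [4,3,7,3,4,3,2,1]))) (.node (.node (.node (.word [8,4,3,7,3,4,5,6,1]) (.word [7,8,4,2,3,7,3,0,1,2,1])) (.node (.word [5,4,3,7,3,0,1,2]) (.word [5,4,3,7,8,4,2,3,7,6,4,3,0,1,2,1]))) (.node (.node (.word [5,3,4,2,1]) (.word [8,3,4,2,3,7,2,3,1,2,1])) (.word [8,1,2,3,7,6,3,2,1])))) (.node (.node (.node (.node (.word [3,4,5,6,3,4]) (.word [8,2,3,7,5,4,3,0,1,2,1])) (.node (.word [7,3,4,2,3,7,5,6,2,1]) (.word [7,8,4,0,1,2,3,7,6,4,2,3,1,2,1]))) (.node (.node (.word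 [8,7,5,4,1,2,0]) (.word [4,2,3,7,4,2,3,0,1,2,1])) (.word [5,4,2,3,7,3,1,2]))) (.node (.node (.node (.word [2,3,4,5,6,5,4,0,1,2,0]) (.word [8,4,3,7,4,3,0,1,2,1])) (.node (.word [8,3,7,2,1]) (.word [3,7,8,4,5,3,4,1,2,3,7,3,1,2,1]))) (.node (.node (.word [7,5,4,0,1,2]) (.word [8,5,4,2,3,7,4,2,3,1,2,1])) (.word [3,4,1,2,3,7,5,6,3,1,2,1]))))) (.node (.node (.node (.node (.node (.word [2,3,4,5,6,4,5,3,4,0]) (.word [7,3,4,2,3,7,5,4,1,2,3,0,1,2,1])) (.node (.word [7,5,4,0,1,2,1]) (.word [5,2,3,4,0,1,2,3,7,3,1,2,1]))) (.node (.node (.word [7,4]) (.word [7,8,3,4,2,3,7,4,3,2,1])) (.word [8,4,3,7,5,4,3,1,2,1]))) (.node (.node (.node (.word [5,3,4,0]) (.word [4,3,7,8,4,2,3,7,4,3,2,1])) (.node (.word [4,2,3,7,5,6,3,2,1]) (.word [7,8,5,2,3,4,1,2,3,7,3,0,1,2,1]))) (.node (.node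 (.word [8,7,6,2,3,4,2,1]) (.word [8,4,3,7,5,4,2,3,0,1,2,1])) (.word [3,7,6,4,2,3,1,2,1])))) (.node (.node (.node (.node (.word [2,3,4,5,6,0]) (.word [8,4,3,7,6,2,3,0,1,2,1])) (.node (.word [8,3,7,5,6,3,2,1]) (.word [3,7,8,4,3,7,5,4,2,3,0,1,2,1]))) (.node (.node (.word [6,2,3,4,3,2,1]) (.word [8,4,3,7,4,2,3,0,1,2,1])) (.word [3,7,4,3,1,2,1]))) (.node (.node (.node (.word [7,6,4]) (.word [8,4,3,7,6,4,2,3,0,1,2,1])) (.word [1,2,3,7,6,1,2])) (.node (.node (.word [3,7,6,2,0]) (.word [7,8,5,4,2,3,7,2,3,1,2,1])) (.word [4,1,2,3,0,1,2,1])))))) (.node (.node (.node (.node (.node (.node (.word [7,8,3,7,1,2,3,4,5,6,3,4,0]) (.word [3,7,6,4,2,3,0,1,2,1])) (.node (.word [8,7,5,6,3,4,1,2,1]) (.word [8,7,5,3,4,2,3,7,2,3,1,2,1]))) (.node (.node (.word [8,7,5,6,4,1]) (.word [8,5,4,3,7,2,3,1,2,1]))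 (.word [7,5,6,1,2,3,0,1,2,1]))) (.node (.node (.node (.word [7,4,5,6,5,4,2]) (.word [5,4,3,7,6,4,2,3,1,2,1])) (.node (.word [5,4,3,7,6,5,4,1,2,1]) (.word [7,8,2,3,4,1,2,3,7,2,3,1,2,1]))) (.node (.node (.word [8,7,5,4,2,0]) (.word [7,8,4,1,2,3,7,5,4,1,2,3,0,1,2,1])) (.word [3,7,3,0,1,2,1])))) (.node (.node (.node (.node (.word [7,3,4,5,6,4,1]) (.word [7,8,2,3,7,6,4,3,1,2,1])) (.node (.word [8,7,6,3,4,1,2,1]) (.word [7,8,2,3,4,1,2,3,7,6,2,3,1,2,1]))) (.node (.node (.word [7,5,2,3,4,2,1]) (.word [6,5,3,4,2,3,7,3,1,2,1])) (.word [3,7,8,2,3,7,3,4,3,2,1]))) (.node (.node (.node (.word [2,3,7,4,5,6,1]) (.word [4,5,3,4,2,3,7,6,3,1,2,1])) (.node (.word [7,5,6,2,3,0,1,2,1]) (.word [4,3,7,8,4,5,2,3,4,1,2,3,7,3,0,1,2,1]))) (.node (.node (.word [2,3,7,6,5,4,1,2]) (.word [8,6,5,3,4,2,3,7,2,3,0,1,2,1]))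 (.word [7,8,2,3,7,3,4,3,0,1,2,1]))))) (.node (.node (.node (.node (.node (.word [8,7,2,3,4,5,6]) (.word [6,5,4,0,1,2,3,7,6,2,1])) (.node (.word [8,3,7,5,4,2,1]) (.word [4,3,7,8,5,4,2,3,7,3,1,2,1]))) (.node (.node (.word [5,2,3,4,2,1]) (.word [3,7,8,4,1,2,3,7,4,3,1,2,1])) (.word [6,5,4,3,7,4,0,1,2,1]))) (.node (.node (.node (.word [3,4]) (.word [7,8,4,1,2,3,7,4,3,1,2,1])) (.node (.word [8,3,7,6,3,4,1,2,1]) (.word [5,4,3,7,8,4,2,3,7,6,4,2,3,0,1,2,1]))) (.node (.node (.word [5,6,3,4,0,1,2,1]) (.word [3,7,8,1,2,3,7,6,4,2,3,1,2,1])) (.word [5,4,3,7,6,2,3,1,2])))) (.node (.node (.node (.node (.word [8,3,7,4,5,6,5,4]) (.word [8,0,1,2,3,7,5,4,3,0,1,2,1])) (.node (.word [8,7,5,6,3,1,2,1]) (.word [7,8,5,3,4,1,2,3,7,6,4,3,0,1,2,1]))) (.node (.node (.word [6,3,2]) (.word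 [8,2,3,4,1,2,3,7,6,3,1,2,1])) (.word [8,6,5,4,3,7,1,2,1]))) (.node (.node (.node (.word [8,7,6,5,4]) (.word [8,0,1,2,3,7,4,3,0,1,2,1])) (.word [4,3,7,3,2,0])) (.node (.node (.word [4,5,3,4,1,2,1]) (.word [7,8,7,3,4,2,3,7,3,1,2,1])) (.word [8,1,2,3,7,6,3,1,2,1]))))))) (.node (.node (.node (.node (.node (.node (.node (.word [8,3,7,1,2,3,4,5,6,4,5,3,4,0]) (.word [4,2,3,7,6,2,3,1,2,1])) (.node (.word [5,6,3,0,1,2,1]) (.word [8,6,5,4,3,7,5,4,2,3,1,2,1]))) (.node (.node (.word [4,2,3,7,4,5,6,1]) (.word [6,5,4,0,1,2,3,7,0,1,2,1])) (.word [7,8,3,7,4,3,2,1]))) (.node (.node (.node (.word [4,5,6,4,2]) (.word [6,5,3,4,1,2,3,7,1,2,1])) (.node (.word [3,7,3,2]) (.word [7,8,6,4,5,3,4,2,3,7,2,3,0,1,2,1]))) (.node (.node (.word [2,3,7,5,6,0]) (.word [7,8,2,3,7,6,4,2,3,0,1,2,1]))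 (.word [8,4,2,3,7,5,4,3,1,2,1])))) (.node (.node (.node (.node (.word [1,2,3,4,5,6,3,4,0]) (.word [5,4,2,3,7,6,3,0,1,2,1])) (.node (.word [8,7,5,3,4,3,0,1,2,1]) (.word [2,3,7,8,4,2,3,7,2,3,1,2,1]))) (.node (.node (.word [7,6,5,4,1,2,0]) (.word [7,8,4,1,2,3,7,4,3,0,1,2,1])) (.word [0,1,2,3,7,0,1,2]))) (.node (.node (.node (.word [3,4,5,6,3,2,0]) (.word [5,3,4,2,3,7,6,3,0,1,2,1])) (.node (.word [8,3,7,6,3,2,1]) (.word [3,7,8,4,5,3,4,1,2,3,7,2,3,1,2,1]))) (.node (.node (.word [1,2]) (.word [4,3,7,8,4,2,3,7,4,3,0,1,2,1])) (.word [2,3,7,3,4,3,0,1,2,1]))))) (.node (.node (.node (.node (.node (.word [8,7,1,2,3,4,5,6,3,4,0]) (.word [3,7,8,2,3,7,6,4,3,2,1])) (.node (.word [8,7,6,3,2]) (.word [3,7,8,4,3,7,5,4,2,3,1,2,1]))) (.node (.node (.word [8,7,6,5,3,4,2,1]) (.word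 [3,7,8,0,1,2,3,7,4,3,1,2,1])) (.word [8,2,3,7,5,6,3,1,2,1]))) (.node (.node (.node (.word [5,6,4,1]) (.word [5,4,0,1,2,3,7,6,3,1,2,1])) (.node (.word [5,4,3,7,6,2,1]) (.word [7,8,3,4,1,2,3,7,4,2,3,0,1,2,1]))) (.node (.node (.word [8,7,5,6,4,1,2,1]) (.word [7,8,6,5,4,3,7,2,3,1,2,1])) (.word [1,2,3,7,0,1,2])))) (.node (.node (.node (.node (.word [7,8,3,7,3,4,5,6]) (.word [5,4,0,1,2,3,7,2,1])) (.node (.word [7,8,3,7,5,4,0,1,2,1]) (.word [8,4,5,3,4,2,3,7,2,3,0,1,2,1]))) (.node (.node (.word [3,7,5,6,2]) (.word [7,3,4,1,2,3,7,3,1,2,1])) (.word [6,5,4,3,7,6,1,2,1]))) (.node (.node (.node (.word [8,7,6,5,2,3,4,2,1]) (.word [3,4,0,1,2,3,7,3,2,1])) (.word [4,3,7,3,0,1,2])) (.node (.node (.word [7,8,3,7,5,2,3,4,3,2,1]) (.word [7,8,3,4,1,2,3,7,3,1,2,1])) (.word [3,4,2,3,7,3,1,2]))))))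 (.node (.node (.node (.node (.node (.node (.word [2,3,4,5,6,4,5,3,4]) (.word [8,0,1,2,3,7,4,3,2,1])) (.node (.word [5,4,3,7,0,1,2]) (.word [8,4,1,2,3,7,4,2,3,0,1,2,1]))) (.node (.node (.word [3,7,8,4,3,7,5,6]) (.word [2,3,7,8,1,2,3,7,5,4,2,3,1,2,1])) (.word [4,1,2,3,7,6,2,1]))) (.node (.node (.node (.word [3,7,4,5,6,0]) (.word [4,3,7,8,1,2,3,7,6,3,4,3,2,1])) (.node (.word [8,4,3,7,2]) (.word [3,7,8,4,5,3,4,2,3,7,3,1,2,1]))) (.node (.node (.word [3,4,2,3,7,5,6,1]) (.word [7,8,4,5,3,4,2,3,7,6,4,3,2,1])) (.word [4,2,3,7,6,4,3,2,1])))) (.node (.node (.node (.node (.word [3,7,4,5,6,5,4]) (.word [5,4,3,7,3,0,1,2,1])) (.node (.word [2,3,7,1]) (.word [7,8,5,3,4,2,3,7,2,3,1,2,1]))) (.node (.node (.word [7,4,5,6,4,0,1,2,1]) (.word [8,0,1,2,3,7,6,4,2,3,1,2,1])) (.word [7,8,1,2,3,7,3,4,3,2,1])))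 (.node (.node (.node (.word [5,6,4,2,1]) (.word [6,5,4,3,7,2,3,1,2,1])) (.word [8,7,6,4,3,2,1])) (.node (.node (.word [5,3,4,1,2,1]) (.word [8,4,5,3,4,1,2,3,7,3,2,1])) (.word [6,5,4,3,7,6,3,1,2,1]))))) (.node (.node (.node (.node (.node (.word [1,2,3,4,5,6,5,3,4,0]) (.word [7,8,1,2,3,7,6,4,3,2,1])) (.node (.word [8,7,6,1,2,0]) (.word [1,2,3,4,0,1,2,3,7,3,1,2,1]))) (.node (.node (.word [8,7,1,2,3,4,5,6,2,3,1,2,0]) (.word [5,4,3,7,4,2,3,0,1,2,1])) (.word [4,3,7,5,6,2,3,1,2,1]))) (.node (.node (.node (.word [5,3,4,1]) (.word [3,7,8,4,2,3,7,6,4,3,2,1])) (.node (.word [0,1,2,3,7,6,1]) (.word [1,2,3,7,8,3,4,2,3,7,2,3,1,2,1]))) (.node (.node (.word [1,2,3,7,5,6]) (.word [7,8,6,5,4,3,7,4,2,3,0,1,2,1])) (.word [1,2,3,7,5,4,3,1,2,1])))) (.node (.node (.node (.node (.word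 [3,7,4,5,6,4,0]) (.word [7,3,4,2,3,7,3,0,1,2,1])) (.node (.word [8,2,3,7,6,2]) (.word [7,8,6,5,4,2,3,7,4,2,3,1,2,1]))) (.node (.node (.word [4,2,3,7,6,5,4,1,2]) (.word [3,7,8,4,2,3,7,3,1,2,1])) (.word [7,8,2,3,7,6,3,2,1]))) (.node (.node (.node (.word [4,3,7,5,6,0]) (.word [7,8,4,2,3,7,3,1,2,1])) (.word [4,1,2,3,7,5,6,1,2,1])) (.node (.node (.word [4,0,1,2,3,7,5,6,1]) (.word [8,5,3,4,2,3,7,2,3,1,2,1])) (.word [8,7,5,3,4,2,3,7,1,2]))))))))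

/-- A subtree. -/
def sub14 : WTree :=
  (.node (.node sub10 sub11) (.node sub12 sub13))

/-- A subtree. -/
def sub15 : WTree :=
  (.node (.node (.node (.node (.node (.node (.node (.node (.word [3,7,8,4,3,7,2,3,4,5,6,4,5,3,4]) (.word [7,8,2,3,7,1,2,1])) (.node (.word [8,7,5,6,1,2,1]) (.word [8,5,3,4,2,3,7,6,4,2,3,1,2,1]))) (.node (.node (.word [7,4,5,6,4,1,2,0]) (.word [8,5,4,2,3,7,3,1,2,1])) (.word [7,8,2,3,7,3,4,3,2,1]))) (.node (.node (.node (.word [8,3,7,4,5,6,5,4,0]) (.word [7,8,4,3,7,3,1,2,1])) (.node (.word [8,5,4,3,7,3,1,2]) (.word [3,7,8,4,2,3,7,4,2,3,0,1,2,1]))) (.node (.node (.word [3,7,5,6,5,4,1,2,1]) (.word [8,3,4,2,3,7,6,4,3,0,1,2,1])) (.word [0,1,2,3,7,6,3,2,1])))) (.node (.node (.node (.node (.word [8,3,7,3,4,5,6,5,4,0]) (.word [5,4,1,2,3,0,1,2,1]))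 (.node (.word [3,7,6,1,2,0]) (.word [7,8,6,5,3,4,2,3,7,2,3,0,1,2,1]))) (.node (.node (.word [8,7,4,5,6,2,0]) (.word [3,7,5,4,1,2,3,0,1,2,1])) (.word [8,7,4,3,2,1]))) (.node (.node (.node (.word [4,5,6,5,4,0,1,2]) (.word [8,7,5,4,2,3,0,1,2,1])) (.node (.word [2,3,7,2,1]) (.word [5,4,3,7,8,2,3,4,1,2,3,7,3,0,1,2,1]))) (.node (.node (.word [8,3,7,5,6,2]) (.word [8,4,1,2,3,7,4,3,0,1,2,1])) (.word [4,5,3,4,2,3,7,3,1,2]))))) (.node (.node (.node (.node (.node (.word [8,3,7,1,2,3,4,5,6,3,4,0]) (.word [1,2,3,7,2,3,1,2])) (.node (.word [7,6,0,1,2]) (.word [2,3,7,8,5,4,1,2,3,7,3,0,1,2,1]))) (.node (.node (.word [7,4,5,6,1,2]) (.word [8,4,5,3,4,2,3,7,6,4,3,2,1])) (.word [2,3,7,3,2,1]))) (.node (.node (.node (.word [6,3,4,0]) (.word [2,3,7,8,1,2,3,7,3,4,3,1,2,1])) (.node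 (.word [7,3,4,2,3,7,5,6,3,2,1]) (.word [3,7,8,3,4,1,2,3,7,6,4,2,3,1,2,1]))) (.node (.node (.word [8,7,5,3,4,3,2,1]) (.word [8,4,1,2,3,7,4,2,3,1,2,1])) (.word [4,1,2,3,7,6,3,4,3,2,1])))) (.node (.node (.node (.node (.word [6,4,5,3,4]) (.word [3,7,6,4,1,2,3,0,1,2,1])) (.node (.word [8,7,2,1]) (.word [7,8,5,4,1,2,3,7,6,4,2,3,1,2,1]))) (.node (.node (.word [5,6,1,2,1]) (.word [8,3,7,4,1,2,3,0,1,2,1])) (.word [5,4,3,0,1,2,1]))) (.node (.node (.node (.word [3,7,8,4,3,7,4,5,6]) (.word [4,5,3,4,2,3,7,3,2,1])) (.word [1,2,3,7,6,2,3,4,3,2,1])) (.node (.node (.word [2,3,7,6,0]) (.word [7,8,3,4,2,3,7,6,2,3,0,1,2,1])) (.word [7,8,4,3,7,6,4,3,2,1])))))) (.node (.node (.node (.node (.node (.node (.word [8,3,7,2,3,4,5,6,3,4]) (.word [8,4,3,7,6,4,3,1,2,1])) (.node (.word [6,4,3,2,1])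 (.word [2,3,4,1,2,3,7,4,2,3,1,2,1]))) (.node (.node (.word [7,4,5,2,3,4,2,1]) (.word [5,4,3,7,4,2,3,1,2,1])) (.word [8,3,7,6,3,4,0,1,2,1]))) (.node (.node (.node (.word [8,7,6,3,4,5,2,3,4,2,1]) (.word [8,7,4,2,3,0,1,2,1])) (.node (.word [7,6,2,3,1,2]) (.word [4,2,3,7,8,3,4,2,3,7,4,2,3,1,2,1]))) (.node (.node (.word [7,5,6,1,2,0]) (.word [8,5,4,2,3,7,6,4,2,3,1,2,1])) (.word [5,4,3,7,3,2,1])))) (.node (.node (.node (.node (.word [7,2,3,4,5,6,0]) (.word [5,4,3,7,6,4,3,0,1,2,1])) (.node (.word [4,5,3,4,0,1,2,1]) (.word [2,3,7,8,4,2,3,7,6,4,2,3,1,2,1]))) (.node (.node (.word [5,4,1,2,0]) (.word [5,3,4,2,3,7,6,4,3,0,1,2,1])) (.word [4,3,7,6,2,3,1,2]))) (.node (.node (.node (.word [7,6,5,4,0]) (.word [3,7,8,2,3,7,5,4,2,3,0,1,2,1])) (.node (.word [8,4,3,7,4,2,1]) (.word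 [3,7,8,2,3,4,1,2,3,7,4,3,0,1,2,1]))) (.node (.node (.word [7,4,5,6,2,3,1,2]) (.word [4,5,3,4,0,1,2,3,7,3,0,1,2,1])) (.word [2,3,7,4,3,1,2,1]))))) (.node (.node (.node (.node (.node (.word [8,7,2,3,4,5,6,4,0]) (.word [8,1,2,3,7,4,3,2,1])) (.node (.word [8,7,5,6,5,3,4,0,1,2,1]) (.word [7,8,5,3,4,2,3,7,3,0,1,2,1]))) (.node (.node (.word [7,5,6,5,4,1,2,1]) (.word [5,2,3,4,0,1,2,3,7,6,3,2,1])) (.word [4,3,7,3,2,1]))) (.node (.node (.node (.word [8,3,7,4,5,6]) (.word [6,5,4,0,1,2,3,7,2,1])) (.node (.word [4,3,7,5,4,0,1,2,1]) (.word [4,3,7,8,4,5,3,4,1,2,3,7,3,0,1,2,1]))) (.node (.node (.word [7,6,4,1,2,1]) (.word [4,3,7,8,5,4,1,2,3,7,0,1,2,1])) (.word [8,1,2,3,7,0,1,2,1])))) (.node (.node (.node (.node (.word [5,6,3,4]) (.word [7,8,4,1,2,3,7,0,1,2,1])) (.node (.word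 [4,3,7,6,3,4,2,1]) (.word [8,4,5,3,4,1,2,3,7,2,3,1,2,1]))) (.node (.node (.word [8,7,6,4,2]) (.word [2,3,7,8,4,3,7,6,2,3,1,2,1])) (.word [5,4,3,7,6,4,3,2,1]))) (.node (.node (.node (.word [4,5,6,5,4,0,1,2,1]) (.word [5,4,1,2,3,7,3,1,2,1])) (.word [7,8,3,7,0,1,2])) (.node (.node (.word [4,5,3,4,3,2,1]) (.word [7,8,2,3,4,1,2,3,7,6,3,1,2,1])) (.word [7,8,2,3,7,5,6,2,3,1,2,1]))))))) (.node (.node (.node (.node (.node (.node (.node (.word [7,8,3,7,2,3,4,5,6,5,3,4,0]) (.word [4,3,7,6,4,3,0,1,2,1])) (.node (.word [3,7,5,6,4,0,1,2,1]) (.word [2,3,7,8,1,2,3,7,6,4,2,3,1,2,1]))) (.node (.node (.word [8,4,3,7,6,5,4,2]) (.word [5,4,2,3,7,2,3,1,2,1])) (.word [8,7,6,3,4,3,0,1,2,1]))) (.node (.node (.node (.word [4,5,6,4,1]) (.word [4,2,3,7,2,3,1,2,1])) (.node (.word [2,3,7,5,6,0,1,2])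 (.word [4,3,7,8,2,3,4,1,2,3,7,3,2,1]))) (.node (.node (.word [7,5,4,1,2]) (.word [8,3,4,2,3,7,6,4,2,3,1,2,1])) (.word [5,3,4,1,2,3,7,1,2])))) (.node (.node (.node (.node (.word [7,8,3,7,3,4,5,6,5,4]) (.word [8,2,3,7,4,3,1,2,1])) (.node (.word [3,4,1,2,3,7,5,6,2,1]) (.word [7,8,3,4,2,3,7,2,3,0,1,2,1]))) (.node (.node (.word [6,2,0]) (.word [8,3,4,2,3,7,4,3,1,2,1])) (.word [8,1,2,3,7,0,1,2]))) (.node (.node (.node (.word [8,7,4,5,6,4,0]) (.word [5,4,2,3,7,5,4,2,3,1,2,1])) (.node (.word [7,0,1,2,1]) (.word [2,3,7,8,3,4,1,2,3,7,6,4,2,3,1,2,1]))) (.node (.node (.word [8,7,5,4,0,1,2,1]) (.word [7,6,5,3,4,2,3,7,2,3,0,1,2,1])) (.word [6,5,4,2,3,7,2,1]))))) (.node (.node (.node (.node (.node (.word [7,3,4,5,6,5,3,4]) (.word [3,7,8,4,3,7,5,6,2,3,1,2,1])) (.node (.word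 [8,7,0,1,2]) (.word [7,8,0,1,2,3,7,6,4,2,3,0,1,2,1]))) (.node (.node (.word [5,6,4,0,1,2]) (.word [4,3,7,5,4,2,3,0,1,2,1])) (.word [2,3,7,6,0,1,2,1]))) (.node (.node (.node (.word [3,7,3,4,5,2,3,4,2,1]) (.word [3,4,1,2,3,7,4,3,2,1])) (.node (.word [3,7,5,3,4,3,1,2,1]) (.word [4,3,7,8,2,3,4,1,2,3,7,4,3,2,1]))) (.node (.node (.word [3,7,6,1]) (.word [7,6,5,3,4,1,2,3,7,2,3,1,2,1])) (.word [0,1,2,3,7,4,3,2,1])))) (.node (.node (.node (.node (.word [3,4,5,6,5,4,2,0]) (.word [3,4,2,3,7,2,3,1,2])) (.node (.word [8,7,4,1,2,1]) (.word [3,7,8,2,3,7,4,1,2,3,0,1,2,1]))) (.node (.node (.word [8,4,2,3,7,5,6]) (.word [8,5,3,4,1,2,3,7,3,2,1])) (.word [4,2,3,7,5,6,3,0,1,2,1]))) (.node (.node (.node (.word [6,4,2]) (.word [8,7,3,4,2,3,7,3,1,2])) (.word [4,2,3,7,2])) (.node (.node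 (.word [8,3,7,4,2]) (.word [3,7,8,3,4,2,3,7,6,2,3,1,2,1])) (.word [2,3,7,6,2,3,0,1,2,1])))))) (.node (.node (.node (.node (.node (.node (.word [3,7,2,3,4,5,6,5,3,4,0]) (.word [3,7,4,2,3,1,2,1])) (.node (.word [8,2,3,7,5,6,2]) (.word [5,2,3,4,1,2,3,7,2,3,1,2,1]))) (.node (.node (.word [6,1]) (.word [4,3,7,8,1,2,3,7,6,4,3,2,1])) (.word [8,4,2,3,7,6,2,1]))) (.node (.node (.node (.word [3,4,5,6,5,4,0,1,2]) (.word [8,0,1,2,3,7,6,4,3,2,1])) (.node (.word [5,4,2,3,7,2,0]) (.word [2,3,7,8,2,3,4,1,2,3,7,3,0,1,2,1]))) (.node (.node (.word [6,1,2,0]) (.word [8,0,1,2,3,7,4,1,2,3,0,1,2,1])) (.word [2,3,7,6,2,3,1,2,1])))) (.node (.node (.node (.node (.word [3,4,5,6,4]) (.word [6,5,4,3,7,3,1,2,1])) (.node (.word [7,8,3,7,6,1]) (.word [3,7,8,2,3,4,1,2,3,7,6,4,3,2,1]))) (.node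 (.node (.word [4,2,3,7,5,6,1]) (.word [8,5,3,4,2,3,7,6,4,3,1,2,1])) (.word [2,3,7,4,3,2,1]))) (.node (.node (.node (.word [7,8,4,3,7,4,5,6,1]) (.word [3,7,8,2,3,7,4,2,3,1,2,1])) (.node (.word [2,3,1,2,1]) (.word [2,3,7,8,2,3,4,1,2,3,7,4,2,3,1,2,1]))) (.node (.node (.word [3,7,5,6,5,4,0,1,2,1]) (.word [4,3,7,8,3,4,2,3,7,4,3,1,2,1])) (.word [7,8,3,7,4,3,0,1,2,1]))))) (.node (.node (.node (.node (.node (.word [7,3,4,5,6,5,4]) (.word [5,4,1,2,3,7,6,3,1,2,1])) (.node (.word [3,7,5,6,3,1,2,0]) (.word [7,8,5,3,4,2,3,7,6,4,3,0,1,2,1]))) (.node (.node (.word [7,5,6,5,4,0,1,2]) (.word [8,0,1,2,3,7,4,2,3,0,1,2,1])) (.word [8,7,5,6,2,3,0,1,2,1]))) (.node (.node (.node (.word [3,7,6,4,5,2,3,4,2,1]) (.word [8,0,1,2,3,7,5,4,2,3,0,1,2,1])) (.node (.word [7,8,3,7,4,2,1]) (.word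 [3,7,8,4,5,3,4,2,3,7,2,3,1,2,1]))) (.node (.node (.word [3,4,2,1]) (.word [8,6,5,3,4,1,2,3,7,3,2,1])) (.word [2,3,4,1,2,3,7,5,6,3,2,1])))) (.node (.node (.node (.node (.word [5,6,4,5,2,3,4,1]) (.word [8,5,4,2,3,7,3,2,1])) (.node (.word [3,4,0,1,2,1]) (.word [7,8,6,5,3,4,1,2,3,7,3,1,2,1]))) (.node (.node (.word [4,5,6,2,3,1,2]) (.word [8,0,1,2,3,7,6,4,3,0,1,2,1])) (.word [8,7,5,6,1,2,3,0,1,2,1]))) (.node (.node (.node (.word [5,6,5,4,0,1,2]) (.word [7,8,3,4,1,2,3,7,6,3,2,1])) (.word [7,8,1,2,3,7,2,3,4,3,2,1])) (.node (.node (.word [8,3,7,5,3,4,1,2,1]) (.word [8,3,4,1,2,3,7,6,4,3,0,1,2,1])) (.word [8,4,1,2,3,7,6,3,2,1]))))))))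

/-- A subtree. -/
def sub16 : WTree :=
  (.node (.node (.node (.node (.node (.node (.node (.node (.word [7,8,3,7,2,3,4,5,6,4,5,3,4,0]) (.word [7,8,4,3,7,3,2,1])) (.node (.word [3,7,5,6,3,2,1]) (.word [7,8,5,4,2,3,7,6,4,2,3,1,2,1]))) (.node (.node (.word [6,4,2,0]) (.word [3,4,2,3,7,2,3,1,2,1])) (.word [3,7,3,4,3,1,2,1]))) (.node (.node (.node (.word [8,3,7,3,4,5,2,3,4,2,1]) (.word [8,4,3,7,6,4,3,0,1,2,1])) (.node (.word [5,4,2,3,7,0,1,2]) (.word [7,8,4,5,3,4,2,3,7,2,3,1,2,1]))) (.node (.node (.word [7,5,6,5,3,4,1,2,1]) (.word [3,7,8,3,4,2,3,7,3,0,1,2,1])) (.word [4,1,2,3,7,6,3,2,1])))) (.node (.node (.node (.node (.word [8,7,3,4,5,6]) (.word [2,3,7,4,3,0,1,2,1])) (.node (.word [7,3,2,0]) (.word [5,4,3,7,8,2,3,7,6,4,2,3,1,2,1]))) (.node (.node (.word [8,4,3,7,5,4,2])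 (.word [3,4,2,3,7,4,3,0,1,2,1])) (.word [7,8,3,7,1,2]))) (.node (.node (.node (.word [1,2,3,4,5,6,3,2,0]) (.word [8,2,3,7,4,3,0,1,2,1])) (.node (.word [8,7,1,2,1]) (.word [3,7,8,7,2,3,4,1,2,3,7,3,1,2,1]))) (.node (.node (.word [7,2]) (.word [8,3,4,2,3,7,4,2,3,1,2,1])) (.word [8,1,2,3,7,6,3,4,3,1,2,1]))))) (.node (.node (.node (.node (.node (.word [7,2,3,4,5,6,5,3,4,0]) (.word [5,4,2,3,7,6,2,3,1,2])) (.node (.word [8,3,7,5,6,3,2]) (.word [8,6,5,3,4,2,3,7,4,2,3,0,1,2,1]))) (.node (.node (.word [3,7,5,6,4,2]) (.word [2,3,4,1,2,3,7,4,3,2,1])) (.word [8,3,7,1,2,1]))) (.node (.node (.node (.word [5,6,5,4,2,0]) (.word [4,3,7,8,2,3,7,6,4,3,2,1])) (.node (.word [8,1,2,3,7,2,3,4,3,2,1]) (.word [3,7,8,5,4,3,7,5,4,2,3,0,1,2,1]))) (.node (.node (.word [8,3,7,5,3,4,2,1]) (.word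 [5,4,2,3,7,4,2,3,0,1,2,1])) (.word [8,7,3,0,1,2,1])))) (.node (.node (.node (.node (.word [3,4,5,6,4,0]) (.word [4,3,7,2,3,0,1,2,1])) (.node (.word [3,7,2,1]) (.word [4,3,7,8,5,4,3,7,4,2,3,1,2,1]))) (.node (.node (.word [7,5,6,3,4,2,1]) (.word [3,4,2,3,7,6,4,2,3,0,1,2,1])) (.word [2,3,7,5,4,3,1,2,1]))) (.node (.node (.node (.word [7,4,5,6,4,1,2]) (.word [8,4,3,7,2,3,0,1,2,1])) (.word [5,4,1,2,3,7,2])) (.node (.node (.word [3,7,5,6,1,2,0]) (.word [8,3,4,1,2,3,7,2,3,1,2,1])) (.word [8,5,4,2,3,7,2,1])))))) (.node (.node (.node (.node (.node (.node (.word [8,3,4,2,3,7,1,2,3,4,5,6,4,5,3,4,0]) (.word [6,5,4,3,7,6,2,3,1,2])) (.node (.word [3,4,1,2,1]) (.word [4,5,3,4,2,3,7,2,3,0,1,2,1]))) (.node (.node (.word [7,5,6,1]) (.word [8,5,4,3,7,6,4,2,3,1,2,1])) (.word [8,6,5,4,3,7,2,1])))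 (.node (.node (.node (.word [6,5,3,4,1]) (.word [4,2,3,7,6,4,2,3,1,2,1])) (.node (.word [8,3,7,5,6,5,3,4,0,1,2,1]) (.word [3,7,8,3,4,2,3,7,6,4,2,3,0,1,2,1]))) (.node (.node (.word [8,7,4,0]) (.word [1,2,3,7,4,1,2,3,0,1,2,1])) (.word [4,3,7,0,1,2,1])))) (.node (.node (.node (.node (.word [8,3,7,3,4,5,6,4,1]) (.word [7,8,4,2,3,7,4,3,1,2,1])) (.node (.word [8,3,7,3,4,1,2,1]) (.word [7,8,2,3,4,1,2,3,7,6,4,3,1,2,1]))) (.node (.node (.word [4,5,2,3,4,2,1]) (.word [4,3,7,8,5,4,2,3,7,0,1,2,1])) (.word [4,3,7,8,2,3,7,2,3,4,3,2,1]))) (.node (.node (.node (.word [8,7,3,4,5,2,3,4,3,2,1]) (.word [7,8,4,2,3,7,6,4,3,1,2,1])) (.node (.word [4,3,7,6,3,4,3,2,1]) (.word [5,4,2,3,7,8,2,3,4,1,2,3,7,3,0,1,2,1]))) (.node (.node (.word [8,3,7,5,6,5,3,4,2,1]) (.word [6,5,3,4,2,3,7,2,3,1,2,1]))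 (.word [5,4,2,3,7,6,0,1,2,1]))))) (.node (.node (.node (.node (.node (.word [8,7,3,4,5,6,4]) (.word [4,1,2,3,7,5,4,2,3,0,1,2,1])) (.node (.word [8,3,7,6,5,4,1,2,1]) (.word [8,4,5,3,4,2,3,7,2,3,1,2,1]))) (.node (.node (.word [7,5,6,5,3,4,2,1]) (.word [5,2,3,4,1,2,3,7,6,3,1,2,1])) (.word [4,3,7,6,3,4,0,1,2,1]))) (.node (.node (.node (.word [5,6,4,2]) (.word [6,5,4,1,2,3,7,6,3,1,2,1])) (.node (.word [8,3,7,5,6,3,4,0,1,2,1]) (.word [2,3,7,8,5,4,2,3,7,4,2,3,1,2,1]))) (.node (.node (.word [7,5,6,3,2,1]) (.word [4,3,7,8,4,1,2,3,7,4,3,1,2,1])) (.word [7,8,3,7,3,0,1,2,1])))) (.node (.node (.node (.node (.word [4,5,6,5,2,3,4,1]) (.word [8,1,2,3,7,6,2,3,1,2,1])) (.node (.word [3,1,2,1]) (.word [3,7,8,5,4,1,2,3,7,4,2,3,0,1,2,1]))) (.node (.node (.word [5,6,3,1,2]) (.word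 [2,3,4,1,2,3,7,6,4,3,1,2,1])) (.word [8,5,4,3,7,0,1,2,1]))) (.node (.node (.node (.word [4,3,7,6,5,4,0,1,2]) (.word [8,4,1,2,3,7,6,2,3,1,2,1])) (.word [2,3,7,1,2,0])) (.node (.node (.word [8,7,3,4,3,2,1]) (.word [3,7,8,2,3,4,1,2,3,7,6,3,2,1])) (.word [1,2,3,7,3,1,2,1]))))))) (.node (.node (.node (.node (.node (.node (.node (.word [8,4,2,3,7,1,2,3,4,5,6,4,5,3,4,0]) (.word [2,3,7,2,3,1,2,1])) (.node (.word [3,7,6,3,4,2,1]) (.word [8,5,4,3,7,5,4,2,3,0,1,2,1]))) (.node (.node (.word [3,4,2,3,7,3,4,5,6,1]) (.word [6,5,4,1,2,3,7,3,0,1,2,1])) (.word [5,4,3,7,6,3,2,1]))) (.node (.node (.node (.word [7,4,5,6,4]) (.word [6,5,4,3,7,6,2,3,1,2,1])) (.node (.word [4,3,7,2]) (.word [7,8,6,5,3,4,2,3,7,2,3,1,2,1]))) (.node (.node (.word [8,3,7,5,6,0]) (.word [7,8,3,7,4,2,3,0,1,2,1]))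 (.word [7,8,2,3,7,6,1,2,1])))) (.node (.node (.node (.node (.word [8,7,1,2,3,4,5,6,0]) (.word [8,5,4,2,3,7,1,2,1])) (.node (.word [3,7,5,3,4,3,2,1]) (.word [7,8,3,4,1,2,3,7,2,3,1,2,1]))) (.node (.node (.word [4,3,7,6,5,4,2]) (.word [6,5,4,1,2,3,7,6,3,0,1,2,1])) (.word [4,2,3,7,3,0,1,2]))) (.node (.node (.node (.word [3,4,0]) (.word [7,8,5,4,2,3,7,1,2,1])) (.node (.word [4,3,7,6,3,2,1]) (.word [3,7,8,5,3,4,2,3,7,4,2,3,0,1,2,1]))) (.node (.node (.word [6,3,1,2]) (.word [4,5,3,4,2,3,7,6,4,3,0,1,2,1])) (.word [8,7,5,4,3,1,2,1]))))) (.node (.node (.node (.node (.node (.word [2,3,7,1,2,3,4,5,6,5,3,4,0]) (.word [4,5,3,4,2,3,7,6,3,2,1])) (.node (.word [7,6,3,1,2]) (.word [7,8,3,7,5,4,1,2,3,0,1,2,1]))) (.node (.node (.word [7,6,5,2,3,4,2,1]) (.word [7,8,0,1,2,3,7,6,4,3,1,2,1]))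 (.word [2,3,7,6,3,1,2,1]))) (.node (.node (.node (.word [4,5,6,1]) (.word [5,4,1,2,3,7,2,3,1,2])) (.node (.word [4,3,7,5,6,3,1,2,1]) (.word [3,7,8,6,5,3,4,2,3,7,2,3,1,2,1]))) (.node (.node (.word [7,1]) (.word [8,1,2,3,7,4,2,3,0,1,2,1])) (.word [1,2,3,7,6,3,4,3,1,2,1])))) (.node (.node (.node (.node (.word [4,5,6,3,4,1]) (.word [7,8,2,3,7,6,2,3,1,2,1])) (.node (.word [7,4,0,1,2,1]) (.word [3,7,8,2,3,4,1,2,3,7,4,3,2,1]))) (.node (.node (.word [7,4,5,6,0,1,2]) (.word [7,8,4,2,3,7,2,3,1,2,1])) (.word [3,4,2,3,7,5,6,3,1,2,1]))) (.node (.node (.node (.word [7,6,4,5,2,3,4,2,1]) (.word [8,7,3,4,1,2,3,7,1,2])) (.word [3,7,0,1,2])) (.node (.node (.word [4,0,1,2,0]) (.word [8,5,3,4,1,2,3,7,3,1,2,1])) (.word [8,5,4,2,3,7,4,3,2,1])))))) (.node (.node (.node (.node (.node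 (.node (.word [8,7,3,4,5,6,4,5,3,4,1]) (.word [8,4,3,7,6,2,3,1,2,1])) (.node (.word [2,3,7]) (.word [8,5,3,4,1,2,3,7,4,2,3,0,1,2,1]))) (.node (.node (.word [2,3,4,1]) (.word [0,1,2,3,7,4,1,2,3,0,1,2,1])) (.word [1,2,3,7,6,1,2,1]))) (.node (.node (.node (.word [4,3,7,3,4,5,6,0]) (.word [5,4,2,3,7,2,3,1,2])) (.node (.word [8,3,7,2,0]) (.word [4,3,7,8,2,3,4,1,2,3,7,6,3,1,2,1]))) (.node (.node (.word [7,3,4,2,3,7,4,5,6,1]) (.word [6,5,4,3,7,5,4,2,3,1,2,1])) (.word [8,3,7,3,1,2,1])))) (.node (.node (.node (.node (.word [4,5,6,5,3,4,1]) (.word [6,5,4,3,7,2,3,0,1,2,1])) (.node (.word [2,3,7,6,2,1]) (.word [7,8,2,3,4,0,1,2,3,7,3,0,1,2,1]))) (.node (.node (.word [8,7,5,6,4,2,1]) (.word [8,4,0,1,2,3,7,4,2,3,1,2,1])) (.word [5,4,1,2,3,7,6,2,1]))) (.node (.node (.node (.word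 [5,6,1]) (.word [5,4,3,7,2,3,0,1,2,1])) (.word [7,4,3,2,1])) (.node (.node (.word [7,5,6,5,3,4,0,1,2,1]) (.word [8,6,5,4,2,3,7,2,3,1,2,1])) (.word [3,7,8,2,3,7,5,4,3,1,2,1]))))) (.node (.node (.node (.node (.node (.word [7,1,2,3,4,5,6,3,4,0]) (.word [5,3,4,1,2,3,7,6,3,2,1])) (.node (.word [5,4,3,7,4,2]) (.word [8,2,3,4,1,2,3,7,3,0,1,2,1]))) (.node (.node (.word [2,3,4,5,6,3,1,2,0]) (.word [2,3,7,4,1,2,3,0,1,2,1])) (.word [3,7,6,2,3,1,2,1]))) (.node (.node (.node (.word [5,6,5,2,3,4,2,1]) (.word [8,6,5,4,2,3,7,3,2,1])) (.node (.word [8,2,3,7,1]) (.word [4,2,3,7,8,4,5,3,4,2,3,7,3,0,1,2,1]))) (.node (.node (.word [8,3,7,6]) (.word [3,7,8,5,3,4,2,3,7,3,2,1])) (.word [3,7,8,2,3,7,4,3,2,1])))) (.node (.node (.node (.node (.word [3,7,3,4,5,6,0]) (.word [4,2,3,7,3,0,1,2,1]))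 (.node (.word [3,7,5,6,3,0,1,2]) (.word [3,7,8,4,0,1,2,3,7,4,2,3,0,1,2,1]))) (.node (.node (.word [8,3,7,6,5,3,4,2,1]) (.word [8,7,3,4,2,3,7,3,1,2,1])) (.word [5,4,2,3,7,4,3,2,1]))) (.node (.node (.node (.word [7,3,4,5,6,2,3,1,2,0]) (.word [8,4,2,3,7,3,0,1,2,1])) (.word [4,0,1,2,3,7,5,6,2,1])) (.node (.node (.word [8,2,3,7,5,6,1]) (.word [8,5,3,4,0,1,2,3,7,3,0,1,2,1])) (.word [3,4,2,3,7,1,2,1]))))))))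

/-- A subtree. -/
def sub17 : WTree :=
  (.node (.node (.node (.node (.node (.node (.node (.node (.word [7,8,4,3,7,2,3,4,5,6,4,5,3,4,0]) (.word [7,8,4,3,7,1,2,1])) (.node (.word [7,5,6,0,1,2,1]) (.word [7,8,1,2,3,7,6,4,2,3,0,1,2,1]))) (.node (.node (.word [5,6,2,0]) (.word [8,4,2,3,7,6,4,3,0,1,2,1])) (.word [7,5,4,3,2,1]))) (.node (.node (.node (.word [6,5,3,4,0]) (.word [8,4,2,3,7,6,3,0,1,2,1])) (.node (.word [2,3,7,6,3,2]) (.word [3,7,8,5,4,2,3,7,4,2,3,1,2,1]))) (.node (.node (.word [7,5,4,2,1]) (.word [2,3,4,0,1,2,3,7,3,0,1,2,1])) (.word [1,2,3,7,6,3,1,2,1])))) (.node (.node (.node (.node (.word [4,5,6,4,5,3,4,0]) (.word [8,7,5,4,2,3,1,2,1])) (.node (.word [3,7,6,3,2,0]) (.word [8,3,4,0,1,2,3,7,6,4,2,3,1,2,1]))) (.node (.node (.word [7,6,0]) (.word [8,4,3,7,5,4,2,3,1,2,1]))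 (.word [2,3,7,6,3,4,3,1,2,1]))) (.node (.node (.node (.word [6,3,4,5,2,3,4,1]) (.word [1,2,3,7,4,3,0,1,2,1])) (.node (.word [8,7,6,0,1,2,1]) (.word [4,3,7,8,5,4,1,2,3,7,6,4,2,3,1,2,1]))) (.node (.node (.word [3,7,5,6,1,2]) (.word [7,8,2,3,7,4,2,3,0,1,2,1])) (.word [8,0,1,2,3,7,6,3,4,3,2,1]))))) (.node (.node (.node (.node (.node (.word [8,7,2,3,4,5,6,3,4,0]) (.word [0,1,2,3,7,3,0,1,2,1])) (.node (.word [7,1,2]) (.word [2,3,4,1,2,3,7,4,3,0,1,2,1]))) (.node (.node (.word [8,7,5,6,4,2]) (.word [8,4,1,2,3,7,4,3,1,2,1])) (.word [4,3,7,5,4,3,0,1,2,1]))) (.node (.node (.node (.word [8,7,4,5,6,5,4,0]) (.word [4,5,3,4,1,2,3,7,6,3,2,1])) (.node (.word [2,3,7,5,3,4,3,2,1]) (.word [3,7,8,4,3,7,5,4,1,2,3,0,1,2,1]))) (.node (.node (.word [7,5,3,4,2,1]) (.word [7,6,5,3,4,2,3,7,2,3,1,2]))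 (.word [8,7,6,2,3,0,1,2,1])))) (.node (.node (.node (.node (.word [8,3,7,3,4,5,6,0]) (.word [8,4,1,2,3,7,1,2,1])) (.node (.word [3,7,6,1,2,1]) (.word [7,8,2,3,7,5,4,1,2,3,0,1,2,1]))) (.node (.node (.word [5,6,4,0,1,2,1]) (.word [3,4,1,2,3,7,3,0,1,2,1])) (.word [4,5,3,4,2,3,7,1,2]))) (.node (.node (.node (.word [7,4,5,6,2]) (.word [3,4,2,3,7,6,2,3,0,1,2,1])) (.word [7,8,3,7,2])) (.node (.node (.word [5,4,3,7,1,2,0]) (.word [3,7,8,5,4,3,7,2,3,1,2,1])) (.word [8,5,4,3,7,1,2,1])))))) (.node (.node (.node (.node (.node (.node (.word [7,2,3,4,5,6,4,5,3,4]) (.word [6,5,4,3,7,3,0,1,2,1])) (.node (.word [6,3,4,0,1,2,1]) (.word [7,8,4,1,2,3,7,4,2,3,1,2,1]))) (.node (.node (.word [8,4,3,7,4,5,6,1]) (.word [8,1,2,3,7,6,4,2,3,1,2,1])) (.word [5,4,3,7,6,3,4,1,2,1]))) (.node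 (.node (.node (.word [7,4,5,6,5,4,1]) (.word [8,2,3,7,6,4,3,0,1,2,1])) (.node (.word [4,3,7,4,5,6,2,3,1,2]) (.word [2,3,7,8,4,0,1,2,3,7,4,2,3,1,2,1]))) (.node (.node (.word [4,3,7,5,4,2]) (.word [4,3,7,5,4,1,2,3,0,1,2,1])) (.word [4,2,3,7,6,0,1,2,1])))) (.node (.node (.node (.node (.word [3,4,5,6,5,4,0]) (.word [7,8,5,4,2,3,7,0,1,2,1])) (.node (.word [3,7,3,4,2,1]) (.word [7,8,5,3,4,1,2,3,7,3,1,2,1]))) (.node (.node (.word [3,4,5,2,3,4,3,2,1]) (.word [3,7,8,2,3,7,6,4,3,0,1,2,1])) (.word [7,2,3,4,1,2,3,7,5,6,3,2,1]))) (.node (.node (.node (.word [5,4,0]) (.word [3,7,8,5,4,2,3,7,0,1,2,1])) (.node (.word [8,4,3,7,4,0,1,2,1]) (.word [5,4,3,7,8,3,4,2,3,7,6,4,2,3,0,1,2,1]))) (.node (.node (.word [3,7,6,5,3,4,2,1]) (.word [8,6,5,3,4,2,3,7,3,1,2,1])) (.word [8,3,7,4,3,1,2,1])))))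 (.node (.node (.node (.node (.node (.word [7,2,3,4,5,6,5,4,0]) (.word [7,4,5,3,4,2,3,7,3,1,2])) (.node (.word [5,4,3,7,6,5,4,2,1]) (.word [3,7,8,4,2,3,7,4,2,3,1,2,1]))) (.node (.node (.word [5,6,5,4,0,1,2,1]) (.word [7,8,5,4,1,2,3,7,3,0,1,2,1])) (.word [4,2,3,7,4,1,2,1]))) (.node (.node (.node (.word [7,5,6,4]) (.word [7,8,0,1,2,3,7,6,4,3,2,1])) (.node (.word [8,3,7,3,4,0,1,2,1]) (.word [3,7,8,3,4,0,1,2,3,7,6,4,2,3,1,2,1]))) (.node (.node (.word [5,6,0,1,2,1]) (.word [3,7,8,4,1,2,3,7,6,4,3,1,2,1])) (.word [0,1,2,3,7,0,1,2,1])))) (.node (.node (.node (.node (.word [2,3,7,3,4,5,6,5,4,1]) (.word [8,4,1,2,3,7,6,3,1,2,1])) (.node (.word [0,1,2,1]) (.word [2,3,7,8,5,3,4,2,3,7,6,2,3,1,2,1]))) (.node (.node (.word [7,6,4,1,2]) (.word [5,3,4,1,2,3,7,3,1,2,1])) (.word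 [5,4,3,7,4,0,1,2,1]))) (.node (.node (.node (.word [5,4,1]) (.word [3,4,1,2,3,7,6,2,3,1,2,1])) (.word [7,2,3,1,2])) (.node (.node (.word [7,2,3,4,3,2,1]) (.word [8,4,0,1,2,3,7,6,4,3,0,1,2,1])) (.word [7,8,3,7,6,2,3,1,2,1]))))))) (.node (.node (.node (.node (.node (.node (.node (.word [8,3,7,2,3,4,5,6,5,3,4]) (.word [5,4,2,3,7,1,2,1])) (.node (.word [3,7,5,6,3,4,1,2,1]) (.word [7,8,0,1,2,3,7,4,1,2,3,0,1,2,1]))) (.node (.node (.word [7,5,4,0]) (.word [8,0,1,2,3,7,6,4,3,1,2,1])) (.word [8,3,7,6,3,4,3,1,2,1]))) (.node (.node (.node (.word [4,3,7,3,4,5,6]) (.word [0,1,2,3,7,6,4,3,1,2,1])) (.node (.word [2,3,7,5,6,3,1,2]) (.word [7,8,2,3,4,1,2,3,7,3,0,1,2,1]))) (.node (.node (.word [2,3,4,5,6,2,3,1,2,0]) (.word [8,5,4,2,3,7,2,3,1,2,1])) (.word [7,8,3,7,6,0,1,2,1]))))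 (.node (.node (.node (.node (.word [2,3,4,5,6,5,4,2]) (.word [5,4,1,2,3,7,6,0,1,2,1])) (.node (.word [4,5,3,4,3,1,2,1]) (.word [3,7,8,4,2,3,7,6,4,2,3,0,1,2,1]))) (.node (.node (.word [4,2,0]) (.word [6,5,4,2,3,7,5,4,2,3,1,2,1])) (.word [4,3,7,3,1,2]))) (.node (.node (.node (.word [5,6,0]) (.word [6,5,4,1,2,3,7,6,0,1,2,1])) (.node (.word [3,7,1,2,1]) (.word [4,3,7,8,2,3,4,1,2,3,7,4,3,1,2,1]))) (.node (.node (.word [3,7,4,2]) (.word [4,3,7,8,5,4,2,3,7,1,2,1])) (.word [7,8,2,3,7,6,4,3,2,1]))))) (.node (.node (.node (.node (.node (.word [3,4,5,6,4,5,3,4]) (.word [4,3,7,8,1,2,3,7,3,4,3,2,1])) (.node (.word [0,1,2]) (.word [2,3,7,8,2,3,4,1,2,3,7,4,3,2,1]))) (.node (.node (.word [4,5,6,3,1,2]) (.word [6,5,4,0,1,2,3,7,1,2,1])) (.word [3,7,6,3,0,1,2,1]))) (.node (.node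 (.node (.word [7,8,3,7,4,5,6,1]) (.word [6,4,5,3,4,2,3,7,2,3,1,2])) (.node (.word [4,3,7,5,6,0,1,2,1]) (.word [3,7,8,5,4,2,3,7,4,2,3,0,1,2,1]))) (.node (.node (.word [7,4,5,6,0,1,2,1]) (.word [3,7,8,5,4,2,3,7,6,2,3,1,2,1])) (.word [8,3,7,6,4,3,1,2,1])))) (.node (.node (.node (.node (.word [7,8,3,7,3,4,5,6,4,1]) (.word [4,0,1,2,3,7,1,2,1])) (.node (.word [8,4,3,7,5,4,2,1]) (.word [8,2,3,4,1,2,3,7,4,2,3,1,2,1]))) (.node (.node (.word [3,7,6]) (.word [3,4,1,2,3,7,2,3,1,2,1])) (.word [7,8,3,7,5,4,3,0,1,2,1]))) (.node (.node (.node (.word [4,5,6,3,2]) (.word [7,3,4,1,2,3,7,2,3,1,2,1])) (.word [5,4,2,3,7,1,2])) (.node (.node (.word [6,3,1,2,0]) (.word [6,5,2,3,4,1,2,3,7,3,0,1,2,1])) (.word [3,7,2,3,0,1,2,1])))))) (.node (.node (.node (.node (.node (.node (.word [3,7,2,3,4,5,6,3,4])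 (.word [8,3,7,6,4,2,3,1,2,1])) (.node (.word [1,2,3,7,5,6,2]) (.word [7,8,6,5,4,2,3,7,2,3,1,2,1]))) (.node (.node (.word [6,4,2,1]) (.word [2,3,7,8,1,2,3,7,6,4,3,2,1])) (.word [0,1,2,3,7,5,6,1,2,1]))) (.node (.node (.node (.word [1,2,3,4,5,6,2,0]) (.word [5,3,4,0,1,2,3,7,1,2,1])) (.node (.word [2,3,7,6,3,2,0]) (.word [7,8,2,3,4,1,2,3,7,6,4,2,3,1,2,1]))) (.node (.node (.word [6,4,0,1,2,0]) (.word [4,3,7,8,3,4,1,2,3,7,4,3,2,1])) (.word [5,4,3,7,1,2,1])))) (.node (.node (.node (.node (.word [8,2,3,7,3,4,5,6,5,4,1]) (.word [8,5,4,3,7,6,4,3,1,2,1])) (.node (.word [8,3,7,1]) (.word [8,6,5,3,4,0,1,2,3,7,3,0,1,2,1]))) (.node (.node (.word [7,4,5,6,1,2,1]) (.word [1,2,3,4,0,1,2,3,7,6,3,2,1])) (.word [4,0,1,2,3,7,5,6,3,2,1]))) (.node (.node (.node (.word [8,7,4,5,6,4,1])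 (.word [8,6,5,4,3,7,3,1,2,1])) (.word [4,3,1,2,1])) (.node (.node (.word [3,7,5,6,5,3,4,1,2,1]) (.word [8,4,0,1,2,3,7,6,4,2,3,1,2,1])) (.word [7,8,2,3,7,6,3,4,3,1,2,1]))))) (.node (.node (.node (.node (.node (.word [4,5,6,4,5,3,4]) (.word [0,1,2,3,7,5,4,2,3,0,1,2,1])) (.node (.word [8,7,6,3,2,0]) (.word [4,3,7,8,4,2,3,7,4,2,3,0,1,2,1]))) (.node (.node (.word [7,5,4,2]) (.word [3,7,8,4,1,2,3,7,6,4,3,2,1])) (.word [8,7,6,3,0,1,2,1]))) (.node (.node (.node (.word [7,5,6,5,4,1]) (.word [7,8,4,1,2,3,7,6,4,3,2,1])) (.node (.word [8,1,2,3,7,5,6,2,1]) (.word [3,7,8,4,5,3,4,2,3,7,6,4,3,0,1,2,1]))) (.node (.node (.word [7,6,2,3,4,3,2,1]) (.word [2,3,7,8,3,4,1,2,3,7,4,3,2,1])) (.word [3,7,8,1,2,3,7,5,4,3,2,1])))) (.node (.node (.node (.node (.word [1,2,3,4,5,6,4,2,0]) (.word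 [7,8,3,4,2,3,7,6,3,2,1])) (.node (.word [7,6,3,4,3,1,2,1]) (.word [2,3,7,8,5,4,2,3,7,2,3,1,2,1]))) (.node (.node (.word [7,6,4,5,3,4,1,2,1]) (.word [8,2,3,4,1,2,3,7,6,4,3,2,1])) (.word [8,1,2,3,7,2,1]))) (.node (.node (.node (.word [2,3,4,5,6,1,2,0]) (.word [7,8,3,4,2,3,7,6,4,3,2,1])) (.word [1,2,3,7,5,3,4,3,2,1])) (.node (.node (.word [8,7,6,3,4,2,1]) (.word [8,6,5,3,4,1,2,3,7,3,0,1,2,1])) (.word [8,4,2,3,7,3,2,1]))))))))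

/-- A subtree. -/
def sub18 : WTree :=
  (.node (.node (.node (.node (.node (.node (.node (.node (.word [4,3,7,2,3,4,5,6,4,5,3,4]) (.word [4,2,3,7,6,3,0,1,2,1])) (.node (.word [8,7,6,4,1,2,1]) (.word [7,8,4,2,3,7,5,4,1,2,3,0,1,2,1]))) (.node (.node (.word [4,5,6,3,2,0]) (.word [8,3,4,2,3,7,6,4,3,1,2,1])) (.word [8,3,7,5,4,3,2,1]))) (.node (.node (.node (.word [3,7,3,4,5,6,1]) (.word [8,4,2,3,7,3,1,2,1])) (.node (.word [3,7,0,1,2,0]) (.word [7,8,4,5,3,4,2,3,7,6,4,3,0,1,2,1]))) (.node (.node (.word [7,6,5,4,0,1,2]) (.word [6,5,3,4,2,3,7,6,2,3,1,2,1])) (.word [4,2,3,7,3,2,1])))) (.node (.node (.node (.node (.word [2,3,4,5,6,4]) (.word [8,3,7,4,3,0,1,2,1])) (.node (.word [8,3,4,1,2,3,7,5,6,1]) (.word [4,2,3,7,8,4,2,3,7,4,2,3,1,2,1]))) (.node (.node (.word [7,4,0])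 (.word [7,8,2,3,7,5,4,2,3,0,1,2,1])) (.word [5,4,1,2,3,7,1,2]))) (.node (.node (.node (.word [7,8,4,3,7,4,5,6,0]) (.word [3,4,2,3,7,4,3,1,2,1])) (.node (.word [8,4,3,7,5,4,3,2,1]) (.word [2,3,7,8,4,5,3,4,2,3,7,2,3,0,1,2,1]))) (.node (.node (.word [7,4,0,1,2,0]) (.word [3,7,8,1,2,3,7,6,4,3,0,1,2,1])) (.word [6,5,4,1,2,3,7,6,2,1]))))) (.node (.node (.node (.node (.node (.word [8,7,2,3,4,5,6,4]) (.word [2,3,4,0,1,2,3,7,5,6,3,2,1])) (.node (.word [8,7,4,1,2]) (.word [4,3,7,8,3,4,1,2,3,7,4,3,1,2,1]))) (.node (.node (.word [5,6,1,2]) (.word [7,5,3,4,2,3,7,2,3,1,2])) (.word [5,4,3,7,4,3,2,1]))) (.node (.node (.node (.word [8,4,2,3,7,3,4,5,6,1]) (.word [4,1,2,3,7,4,3,1,2,1])) (.node (.word [4,5,3,4,3,0,1,2,1]) (.word [7,8,2,3,4,1,2,3,7,4,2,3,1,2,1]))) (.node (.node (.word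 [8,4,2,3,7,5,6,1]) (.word [6,5,4,1,2,3,7,2,3,1,2,1])) (.word [3,7,2,3,1,2,1])))) (.node (.node (.node (.node (.word [7,8,3,7,4,5,6,5,4,0]) (.word [3,7,8,4,2,3,7,2,1])) (.node (.word [2,3,7,4,1,2]) (.word [7,8,5,4,3,7,5,4,2,3,0,1,2,1]))) (.node (.node (.word [7,6,2,3,4,2,1]) (.word [8,4,2,3,7,6,4,2,3,0,1,2,1])) (.word [4,3,7,4,3,2,1]))) (.node (.node (.node (.word [5,6,2]) (.word [5,3,4,1,2,3,7,3,2,1])) (.word [7,8,3,7,3,1,2])) (.node (.node (.word [7,2,0]) (.word [3,7,8,4,2,3,7,2,3,1,2,1])) (.word [7,1,2,3,0,1,2,1])))))) (.node (.node (.node (.node (.node (.node (.word [8,7,1,2,3,4,5,6,4,5,3,4,0]) (.word [8,7,2,3,0,1,2,1])) (.node (.word [7,6,3,4,3,2,1]) (.word [7,8,5,4,2,3,7,5,4,2,3,0,1,2,1]))) (.node (.node (.word [7,5,6,4,2,1]) (.word [8,4,0,1,2,3,7,3,0,1,2,1]))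 (.word [8,1,2,3,7,5,6,1,2,1]))) (.node (.node (.node (.word [4,5,6,5,4,1,2]) (.word [7,8,3,7,6,4,2,3,1,2,1])) (.node (.word [3,7,6,3,1,2,0]) (.word [2,3,7,8,3,4,2,3,7,2,3,1,2,1]))) (.node (.node (.word [8,7,4,1,2,0]) (.word [6,5,3,4,0,1,2,3,7,3,2,1])) (.word [8,4,2,3,7,0,1,2,1])))) (.node (.node (.node (.node (.word [8,3,7,3,4,5,6]) (.word [3,7,8,2,3,7,4,3,1,2,1])) (.node (.word [8,3,7,6,3,4,2,1]) (.word [8,3,4,0,1,2,3,7,6,4,3,0,1,2,1]))) (.node (.node (.word [8,7,5,3,4,2,1]) (.word [6,4,5,3,4,2,3,7,6,3,1,2,1])) (.word [1,2,3,7,5,3,4,3,1,2,1]))) (.node (.node (.node (.word [7,3,4,5,2,3,4,2,1]) (.word [6,5,4,0,1,2,3,7,4,2,3,1,2,1])) (.node (.word [3,0,1,2,1]) (.word [5,4,3,7,8,5,2,3,4,1,2,3,7,3,0,1,2,1]))) (.node (.node (.word [8,7,6,5,4,1,2,1]) (.word [8,4,5,3,4,2,3,7,6,4,3,1,2,1]))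 (.word [7,8,2,3,7,5,4,3,0,1,2,1]))))) (.node (.node (.node (.node (.node (.word [2,3,4,5,6,3,4]) (.word [7,8,0,1,2,3,7,6,3,4,3,2,1])) (.node (.word [5,4,3,7,6,5,4,0,1,2,1]) (.word [5,6,4,5,3,4,2,3,7,6,3,0,1,2,1]))) (.node (.node (.word [3,7,6,5,4,0,1,2]) (.word [4,0,1,2,3,7,4,2,3,0,1,2,1])) (.word [4,2,3,7,6,3,4,3,2,1]))) (.node (.node (.node (.word [3,4,5,6,3,2]) (.word [7,8,1,2,3,7,6,4,3,1,2,1])) (.node (.word [7,8,3,7,5,4,1,2,1]) (.word [3,7,8,3,4,2,3,7,4,2,3,0,1,2,1]))) (.node (.node (.word [6,3,4,1,2,1]) (.word [8,4,0,1,2,3,7,4,2,3,0,1,2,1])) (.word [3,7,8,0,1,2,3,7,2,3,4,3,2,1])))) (.node (.node (.node (.node (.word [4,5,6,5,4,2]) (.word [3,4,1,2,3,7,3,2,1])) (.node (.word [7,6,4,3,2,1]) (.word [2,3,7,8,5,3,4,1,2,3,7,3,0,1,2,1]))) (.node (.node (.word [2])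 (.word [8,3,4,1,2,3,7,6,2,3,1,2,1])) (.word [8,6,5,4,2,3,7,2,1]))) (.node (.node (.node (.word [7,5,6,5,4,1,2]) (.word [2,3,4,1,2,3,7,3,2,1])) (.word [8,3,7,3,2,0])) (.node (.node (.word [7,5,3,4,1,2,1]) (.word [3,7,8,3,4,2,3,7,3,1,2,1])) (.word [8,1,2,3,7,5,6,2,3,1,2,1]))))))) (.node (.node (.node (.node (.node (.node (.node (.word [7,8,3,7,2,3,4,5,6,3,4,0]) (.word [0,1,2,3,7,4,3,1,2,1])) (.node (.word [5,6,2,3,1,2,1]) (.word [4,3,7,8,2,3,7,4,1,2,3,0,1,2,1]))) (.node (.node (.word [8,2,3,7,4,5,6,1]) (.word [1,2,3,7,6,4,2,3,0,1,2,1])) (.word [2,3,7,3,4,1,2,1]))) (.node (.node (.node (.word [6,3,4]) (.word [8,6,5,4,3,7,3,0,1,2,1])) (.node (.word [8,7,0,1,2,1]) (.word [7,8,4,5,3,4,2,3,7,6,4,2,3,1,2,1]))) (.node (.node (.word [8,7,4,5,6,1,2,0]) (.word [7,8,4,3,7,4,2,3,1,2,1]))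 (.word [5,4,3,7,4,3,1,2,1])))) (.node (.node (.node (.node (.word [8,3,7,3,4,5,6,4,0]) (.word [3,7,8,2,3,7,3,4,3,0,1,2,1])) (.node (.word [8,7,3,4,3,1,2,1]) (.word [8,7,2,3,4,1,2,3,7,3,1,2,1]))) (.node (.node (.word [8,7,5,4,0]) (.word [3,7,8,5,4,2,3,7,1,2,1])) (.word [2,3,7,6,2,3,1,2]))) (.node (.node (.node (.word [4,3,7,6,5,4,1,2,0]) (.word [3,7,8,2,3,7,6,3,4,3,0,1,2,1])) (.node (.word [3,7,4,0,1,2,1]) (.word [3,7,8,6,4,5,3,4,2,3,7,2,3,1,2,1]))) (.node (.node (.word [7,6,3,2]) (.word [6,5,4,1,2,3,7,6,4,2,3,1,2,1])) (.word [4,3,7,3,4,3,0,1,2,1]))))) (.node (.node (.node (.node (.node (.word [8,7,1,2,3,4,5,6,5,4,0]) (.word [1,2,3,7,4,3,1,2,1])) (.node (.word [6,4,5,3,4,0,1,2,1]) (.word [8,3,4,2,3,7,4,2,3,0,1,2,1]))) (.node (.node (.word [3,7,6,4,5,3,4,1,2,1])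 (.word [8,1,2,3,7,5,4,2,3,0,1,2,1])) (.word [4,3,7,6,3,1,2,1]))) (.node (.node (.node (.word [6,3,4,1]) (.word [5,4,1,2,3,7,5,4,2,3,0,1,2,1])) (.node (.word [7,8,3,7,3,4,3,2,1]) (.word [3,7,8,4,1,2,3,7,4,2,3,0,1,2,1]))) (.node (.node (.word [8,7,6,4,2,1]) (.word [3,7,8,5,4,3,7,6,4,2,3,1,2,1])) (.word [4,2,3,7,3,1,2])))) (.node (.node (.node (.node (.word [7,8,3,7,4,5,6,4]) (.word [3,4,0,1,2,3,7,6,3,2,1])) (.node (.word [3,7,4,1,2,1]) (.word [7,8,7,5,3,4,2,3,7,2,3,1,2,1]))) (.node (.node (.word [7]) (.word [8,7,3,4,1,2,3,7,1,2,1])) (.word [7,8,3,7,6,3,4,3,1,2,1]))) (.node (.node (.node (.word [8,7,5,6,5,4,1]) (.word [2,3,4,0,1,2,3,7,6,3,2,1])) (.word [8,2,3,7,0,1,2])) (.node (.node (.word [3,7,5,2,3,4,3,2,1]) (.word [2,3,4,1,2,3,7,6,4,2,3,1,2,1])) (.word [4,0,1,2,3,7,6,1,2,1]))))))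 (.node (.node (.node (.node (.node (.node (.word [7,8,2,3,7,1,2,3,4,5,6,3,4,0]) (.word [8,2,3,7,6,4,3,1,2,1])) (.node (.word [8,3,7,6,2]) (.word [7,8,1,2,3,7,4,2,3,0,1,2,1]))) (.node (.node (.word [4,2,3,7,5,6]) (.word [4,3,7,8,4,1,2,3,7,4,3,2,1])) (.word [1,2,3,7,6,3,2,1]))) (.node (.node (.node (.word [7,4,5,6,4,0]) (.word [2,3,7,8,4,3,7,5,6,2,3,1,2,1])) (.node (.word [3,7,3,2,0]) (.word [7,8,1,2,3,4,0,1,2,3,7,3,0,1,2,1]))) (.node (.node (.word [4,5,2,3,4,3,2,1]) (.word [8,5,4,1,2,3,7,3,0,1,2,1])) (.word [4,3,7,6,3,4,3,0,1,2,1])))) (.node (.node (.node (.node (.word [5,6,5,3,4]) (.word [8,6,5,4,1,2,3,7,1,2,1])) (.node (.word [8,3,7,5,6,1,2,1]) (.word [8,5,3,4,1,2,3,7,6,4,2,3,1,2,1]))) (.node (.node (.word [3,7,5,6,4,2,1]) (.word [6,5,4,2,3,7,2,3,1,2,1])) (.word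 [6,5,4,2,3,7,6,2,1]))) (.node (.node (.node (.word [5,6,2,3,4,2,1]) (.word [8,5,4,3,7,3,0,1,2,1])) (.word [3,4,3,0,1,2,1])) (.node (.node (.word [7,5,6,3,1,2,0]) (.word [8,3,4,1,2,3,7,3,0,1,2,1])) (.word [7,8,4,3,7,4,3,1,2,1]))))) (.node (.node (.node (.node (.node (.word [7,3,4,5,6,3,4,0]) (.word [6,5,3,4,2,3,7,6,3,2,1])) (.node (.word [5,4,3,7,3,1,2,0]) (.word [4,3,7,8,3,4,2,3,7,6,4,3,1,2,1]))) (.node (.node (.word [3,4,5,6,2,3,1,2,0]) (.word [3,7,8,3,4,2,3,7,6,4,3,2,1])) (.word [7,4,3,1,2,1]))) (.node (.node (.node (.word [8,7,5,6,5,4]) (.word [8,5,3,4,2,3,7,6,4,3,2,1])) (.node (.word [1,2,3,7,6,2,1]) (.word [4,2,3,7,8,3,4,2,3,7,6,4,2,3,1,2,1]))) (.node (.node (.word [2,3,7,6]) (.word [7,8,3,7,5,4,2,3,0,1,2,1])) (.word [1,2,3,7,4,3,2,1])))) (.node (.node (.node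 (.node (.word [4,5,6,4,0]) (.word [1,2,3,7,3,0,1,2,1])) (.node (.word [8,3,7,5,6,3,1,2]) (.word [3,7,8,4,0,1,2,3,7,6,4,2,3,1,2,1]))) (.node (.node (.word [4,3,7,6,5,3,4,2,1]) (.word [8,5,3,4,2,3,7,3,1,2,1])) (.word [0,1,2,3,7,6,1,2,1]))) (.node (.node (.node (.word [7,4,5,6,2,0]) (.word [7,3,4,2,3,7,2,3,0,1,2,1])) (.word [4,1,2,3,7,5,6,3,2,1])) (.node (.node (.word [2,3,7,5,6,2,1]) (.word [8,6,5,3,4,2,3,7,6,2,3,1,2,1])) (.word [7,8,3,7,6,3,0,1,2,1]))))))))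

/-- A subtree. -/
def sub19 : WTree :=
  (.node (.node sub15 sub16) (.node sub17 sub18))

/-- Points. -/
def levX0pts0 : List ℕ := [0,1,2,3,4,5,6,7,8,9,10,11,12,13,14,15,16,17,18,19,20,21,22,23,24,25,26,27,28,29,30,31,32,33,34,35,36,37,38,39,40,41,42,43,44,45,46,47,48,49,50,51,52,53,54,55,56,57,58,59,60,61,62,63,64,65,66,67,68,69,70,71,72,73,74,75,76,77,78,79,80,81,82,83,84,85,86,87,88,89,90,91,92,93,94,95,96,97,98,99,100,101,102,103,104,105,106,107,108,109,110,111,112,113,114,115,116,117,118,119,120,121,122,123,124,125,126,127,128,129,130,131,132,133,134,135,136,137,138,139,140,141,142,143,144,145,146,147,148,149,150,151,152,153,154,155,156,157,158,159,160,161,162,163,164,165,166,167,168,169,170,171,172,173,174,175,176,177,178,179,180,181,182,183,184,185,186,187,188,189,190,191,192,193,194,195,196,197,198,199]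

/-- Points. -/
def levX0pts1 : List ℕ := [200,201,202,203,204,205,206,207,208,209,210,211,212,213,214,215,216,217,218,219,220,221,222,223,224,225,226,227,228,229,230,231,232,233,234,235,236,237,238,239,240,241,242,243,244,245,246,247,248,249,250,251,252,253,254,255,256,257,258,259,260,261,262,263,264,265,266,267,268,269,270,271,272,273,274,275,276,277,278,279,280,281,282,283,284,285,286,287,288,289,290,291,292,293,294,295,296,297,298,299,300,301,302,303,304,305,306,307,308,309,310,311,312,313,314,315,316,317,318,319,320,321,322,323,324,325,326,327,328,329,330,331,332,333,334,335,336,337,338,339,340,341,342,343,344,345,346,347,348,349,350,351,352,353,354,355,356,357,358,359,360,361,362,363,364,365,366,367,368,369,370,371,372,373,374,375,376,377,378,379,380,381,382,383,384,385,386,387,388,389,390,391,392,393,394,395,396,397,398,399]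

/-- Points. -/
def levX0pts2 : List ℕ := [400,401,402,403,404,405,406,407,408,409,410,411,412,413,414,415,416,417,418,419,420,421,422,423,424,425,426,427,428,429,430,431,432,433,434,435,436,437,438,439,440,441,442,443,444,445,446,447,448,449,450,451,452,453,454,455,456,457,458,459,460,461,462,463,464,465,466,467,468,469,470,471,472,473,474,475,476,477,478,479,480,481,482,483,484,485,486,487,488,489,490,491,492,493,494,495,496,497,498,499,500,501,502,503,504,505,506,507,508,509,510,511,512,513,514,515,516,517,518,519,520,521,522,523,524,525,526,527,528,529,530,531,532,533,534,535,536,537,538,539,540,541,542,543,544,545,546,547,548,549,550,551,552,553,554,555,556,557,558,559,560,561,562,563,564,565,566,567,568,569,570,571,572,573,574,575,576,577,578,579,580,581,582,583,584,585,586,587,588,589,590,591,592,593,594,595,596,597,598,599]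

/-- Points. -/
def levX0pts3 : List ℕ := [600,601,602,603,604,605,606,607,608,609,610,611,612,613,614,615,616,617,618,619,620,621,622,623,624,625,626,627,628,629,630,631,632,633,634,635,636,637,638,639,640,641,642,643,644,645,646,647,648,649,650,651,652,653,654,655,656,657,658,659,660,661,662,663,664,665,666,667,668,669,670,671,672,673,674,675,676,677,678,679,680,681,682,683,684,685,686,687,688,689,690,691,692,693,694,695,696,697,698,699,700,701,702,703,704,705,706,707,708,709,710,711,712,713,714,715,716,717,718,719,720,721,722,723,724,725,726,727,728,729,730,731,732,733,734,735,736,737,738,739,740,741,742,743,744,745,746,747,748,749,750,751,752,753,754,755,756,757,758,759,760,761,762,763,764,765,766,767,768,769,770,771,772,773,774,775,776,777,778,779,780,781,782,783,784,785,786,787,788,789,790,791,792,793,794,795,796,797,798,799]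

/-- Points. -/
def levX0pts4 : List ℕ := [800,801,802,803,804,805,806,807,808,809,810,811,812,813,814,815,816,817,818,819,820,821,822,823,824,825,826,827,828,829,830,831,832,833,834,835,836,837,838,839,840,841,842,843,844,845,846,847,848,849,850,851,852,853,854,855,856,857,858,859,860,861,862,863,864,865,866,867,868,869,870,871,872,873,874,875,876,877,878,879,880,881,882,883,884,885,886,887,888,889,890,891,892,893,894,895,896,897,898,899,900,901,902,903,904,905,906,907,908,909,910,911,912,913,914,915,916,917,918,919,920,921,922,923,924,925,926,927,928,929,930,931,932,933,934,935,936,937,938,939,940,941,942,943,944,945,946,947,948,949,950,951,952,953,954,955,956,957,958,959,960,961,962,963,964,965,966,967,968,969,970,971,972,973,974,975,976,977,978,979,980,981,982,983,984,985,986,987,988,989,990,991,992,993,994,995,996,997,998,999]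

/-- Points. -/
def levX0pts5 : List ℕ := [1000,1001,1002,1003,1004,1005,1006,1007,1008,1009,1010,1011,1012,1013,1014,1015,1016,1017,1018,1019,1020,1021,1022,1023,1024,1025,1026,1027,1028,1029,1030,1031,1032,1033,1034,1035,1036,1037,1038,1039,1040,1041,1042,1043,1044,1045,1046,1047,1048,1049,1050,1051,1052,1053,1054,1055,1056,1057,1058,1059,1060,1061,1062,1063,1064,1065,1066,1067,1068,1069,1070,1071,1072,1073,1074,1075,1076,1077,1078,1079,1080,1081,1082,1083,1084,1085,1086,1087,1088,1089,1090,1091,1092,1093,1094,1095,1096,1097,1098,1099,1100,1101,1102,1103,1104,1105,1106,1107,1108,1109,1110,1111,1112,1113,1114,1115,1116,1117,1118,1119,1120,1121,1122,1123,1124,1125,1126,1127,1128,1129,1130,1131,1132,1133,1134,1135,1136,1137,1138,1139,1140,1141,1142,1143,1144,1145,1146,1147,1148,1149,1150,1151,1152,1153,1154,1155,1156,1157,1158,1159,1160,1161,1162,1163,1164,1165,1166,1167,1168,1169,1170,1171,1172,1173,1174,1175,1176,1177,1178,1179,1180,1181,1182,1183,1184,1185,1186,1187,1188,1189,1190,1191,1192,1193,1194,1195,1196,1197,1198,1199]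

/-- Points. -/
def levX0pts6 : List ℕ := [1200,1201,1202,1203,1204,1205,1206,1207,1208,1209,1210,1211,1212,1213,1214,1215,1216,1217,1218,1219,1220,1221,1222,1223,1224,1225,1226,1227,1228,1229,1230,1231,1232,1233,1234,1235,1236,1237,1238,1239,1240,1241,1242,1243,1244,1245,1246,1247,1248,1249,1250,1251,1252,1253,1254,1255,1256,1257,1258,1259,1260,1261,1262,1263,1264,1265,1266,1267,1268,1269,1270,1271,1272,1273,1274,1275,1276,1277,1278,1279,1280,1281,1282,1283,1284,1285,1286,1287,1288,1289,1290,1291,1292,1293,1294,1295,1296,1297,1298,1299,1300,1301,1302,1303,1304,1305,1306,1307,1308,1309,1310,1311,1312,1313,1314,1315,1316,1317,1318,1319,1320,1321,1322,1323,1324,1325,1326,1327,1328,1329,1330,1331,1332,1333,1334,1335,1336,1337,1338,1339,1340,1341,1342,1343,1344,1345,1346,1347,1348,1349,1350,1351,1352,1353,1354,1355,1356,1357,1358,1359,1360,1361,1362,1363,1364,1365,1366,1367,1368,1369,1370,1371,1372,1373,1374,1375,1376,1377,1378,1379,1380,1381,1382,1383,1384,1385,1386,1387,1388,1389,1390,1391,1392,1393,1394,1395,1396,1397,1398,1399]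

/-- Points. -/
def levX0pts7 : List ℕ := [1400,1401,1402,1403,1404,1405,1406,1407,1408,1409,1410,1411,1412,1413,1414,1415,1416,1417,1418,1419,1420,1421,1422,1423,1424,1425,1426,1427,1428,1429,1430,1431,1432,1433,1434,1435,1436,1437,1438,1439,1440,1441,1442,1443,1444,1445,1446,1447,1448,1449,1450,1451,1452,1453,1454,1455,1456,1457,1458,1459,1460,1461,1462,1463,1464,1465,1466,1467,1468,1469,1470,1471,1472,1473,1474,1475,1476,1477,1478,1479,1480,1481,1482,1483,1484,1485,1486,1487,1488,1489,1490,1491,1492,1493,1494,1495,1496,1497,1498,1499,1500,1501,1502,1503,1504,1505,1506,1507,1508,1509,1510,1511,1512,1513,1514,1515,1516,1517,1518,1519,1520,1521,1522,1523,1524,1525,1526,1527,1528,1529,1530,1531,1532,1533,1534,1535,1536,1537,1538,1539,1540,1541,1542,1543,1544,1545,1546,1547,1548,1549,1550,1551,1552,1553,1554,1555,1556,1557,1558,1559,1560,1561,1562,1563,1564,1565,1566,1567,1568,1569,1570,1571,1572,1573,1574,1575,1576,1577,1578,1579,1580,1581,1582,1583,1584,1585,1586,1587,1588,1589,1590,1591,1592,1593,1594,1595,1596,1597,1598,1599]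

/-- Points. -/
def levX0pts8 : List ℕ := [1600,1601,1602,1603,1604,1605,1606,1607,1608,1609,1610,1611,1612,1613,1614,1615,1616,1617,1618,1619,1620,1621,1622,1623,1624,1625,1626,1627,1628,1629,1630,1631,1632,1633,1634,1635,1636,1637,1638,1639,1640,1641,1642,1643,1644,1645,1646,1647,1648,1649,1650,1651,1652,1653,1654,1655,1656,1657,1658,1659,1660,1661,1662,1663,1664,1665,1666,1667,1668,1669,1670,1671,1672,1673,1674,1675,1676,1677,1678,1679,1680,1681,1682,1683,1684,1685,1686,1687,1688,1689,1690,1691,1692,1693,1694,1695,1696,1697,1698,1699,1700,1701,1702,1703,1704,1705,1706,1707,1708,1709,1710,1711,1712,1713,1714,1715,1716,1717,1718,1719,1720,1721,1722,1723,1724,1725,1726,1727,1728,1729,1730,1731,1732,1733,1734,1735,1736,1737,1738,1739,1740,1741,1742,1743,1744,1745,1746,1747,1748,1749,1750,1751,1752,1753,1754,1755,1756,1757,1758,1759,1760,1761,1762,1763,1764,1765,1766,1767,1768,1769,1770,1771,1772,1773,1774,1775,1776,1777,1778,1779,1780,1781,1782,1783,1784,1785,1786,1787,1788,1789,1790,1791,1792,1793,1794,1795,1796,1797,1798,1799]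

/-- Points. -/
def levX0pts9 : List ℕ := [1800,1801,1802,1803,1804,1805,1806,1807,1808,1809,1810,1811,1812,1813,1814,1815,1816,1817,1818,1819,1820,1821,1822,1823,1824,1825,1826,1827,1828,1829,1830,1831,1832,1833,1834,1835,1836,1837,1838,1839,1840,1841,1842,1843,1844,1845,1846,1847,1848,1849,1850,1851,1852,1853,1854,1855,1856,1857,1858,1859,1860,1861,1862,1863,1864,1865,1866,1867,1868,1869,1870,1871,1872,1873,1874,1875,1876,1877,1878,1879,1880,1881,1882,1883,1884,1885,1886,1887,1888,1889,1890,1891,1892,1893,1894,1895,1896,1897,1898,1899,1900,1901,1902,1903,1904,1905,1906,1907,1908,1909,1910,1911,1912,1913,1914,1915,1916,1917,1918,1919,1920,1921,1922,1923,1924,1925,1926,1927,1928,1929,1930,1931,1932,1933,1934,1935,1936,1937,1938,1939,1940,1941,1942,1943,1944,1945,1946,1947,1948,1949,1950,1951,1952,1953,1954,1955,1956,1957,1958,1959,1960,1961,1962,1963,1964,1965,1966,1967,1968,1969,1970,1971,1972,1973,1974,1975,1976,1977,1978,1979,1980,1981,1982,1983,1984,1985,1986,1987,1988,1989,1990,1991,1992,1993,1994,1995,1996,1997,1998,1999]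

/-- Points. -/
def levX0pts10 : List ℕ := [2000,2001,2002,2003,2004,2005,2006,2007,2008,2009,2010,2011,2012,2013,2014,2015,2016,2017,2018,2019,2020,2021,2022,2023,2024,2025,2026,2027,2028,2029,2030,2031,2032,2033,2034,2035,2036,2037,2038,2039,2040,2041,2042,2043,2044,2045,2046,2047,2048,2049,2050,2051,2052,2053,2054,2055,2056,2057,2058,2059,2060,2061,2062,2063,2064,2065,2066,2067,2068,2069,2070,2071,2072,2073,2074,2075,2076,2077,2078,2079,2080,2081,2082,2083,2084,2085,2086,2087,2088,2089,2090,2091,2092,2093,2094,2095,2096,2097,2098,2099,2100,2101,2102,2103,2104,2105,2106,2107,2108,2109,2110,2111,2112,2113,2114,2115,2116,2117,2118,2119,2120,2121,2122,2123,2124,2125,2126,2127,2128,2129,2130,2131,2132,2133,2134,2135,2136,2137,2138,2139,2140,2141,2142,2143,2144,2145,2146,2147,2148,2149,2150,2151,2152,2153,2154,2155,2156,2157,2158,2159,2160,2161,2162,2163,2164,2165,2166,2167,2168,2169,2170,2171,2172,2173,2174,2175,2176,2177,2178,2179,2180,2181,2182,2183,2184,2185,2186,2187,2188,2189,2190,2191,2192,2193,2194,2195,2196,2197,2198,2199]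

/-- Points. -/
def levX0pts11 : List ℕ := [2200,2201,2202,2203,2204,2205,2206,2207,2208,2209,2210,2211,2212,2213,2214,2215,2216,2217,2218,2219,2220,2221,2222,2223,2224,2225,2226,2227,2228,2229,2230,2231,2232,2233,2234,2235,2236,2237,2238,2239,2240,2241,2242,2243,2244,2245,2246,2247,2248,2249,2250,2251,2252,2253,2254,2255,2256,2257,2258,2259,2260,2261,2262,2263,2264,2265,2266,2267,2268,2269,2270,2271,2272,2273,2274,2275,2276,2277,2278,2279,2280,2281,2282,2283,2284,2285,2286,2287,2288,2289,2290,2291,2292,2293,2294,2295,2296,2297,2298,2299,2300,2301,2302,2303,2304,2305,2306,2307,2308,2309,2310,2311,2312,2313,2314,2315,2316,2317,2318,2319,2320,2321,2322,2323,2324,2325,2326,2327,2328,2329,2330,2331,2332,2333,2334,2335,2336,2337,2338,2339,2340,2341,2342,2343,2344,2345,2346,2347,2348,2349,2350,2351,2352,2353,2354,2355,2356,2357,2358,2359,2360,2361,2362,2363,2364,2365,2366,2367,2368,2369,2370,2371,2372,2373,2374,2375,2376,2377,2378,2379,2380,2381,2382,2383,2384,2385,2386,2387,2388,2389,2390,2391,2392,2393,2394,2395,2396,2397,2398,2399]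

/-- Points. -/
def levX0pts12 : List ℕ := [2400,2401,2402,2403,2404,2405,2406,2407,2408,2409,2410,2411,2412,2413,2414,2415,2416,2417,2418,2419,2420,2421,2422,2423,2424,2425,2426,2427,2428,2429,2430,2431,2432,2433,2434,2435,2436,2437,2438,2439,2440,2441,2442,2443,2444,2445,2446,2447,2448,2449,2450,2451,2452,2453,2454,2455,2456,2457,2458,2459,2460,2461,2462,2463,2464,2465,2466,2467,2468,2469,2470,2471,2472,2473,2474,2475,2476,2477,2478,2479,2480,2481,2482,2483,2484,2485,2486,2487,2488,2489,2490,2491,2492,2493,2494,2495,2496,2497,2498,2499,2500,2501,2502,2503,2504,2505,2506,2507,2508,2509,2510,2511,2512,2513,2514,2515,2516,2517,2518,2519,2520,2521,2522,2523,2524,2525,2526,2527,2528,2529,2530,2531,2532,2533,2534,2535,2536,2537,2538,2539,2540,2541,2542,2543,2544,2545,2546,2547,2548,2549,2550,2551,2552,2553,2554,2555,2556,2557,2558,2559,2560,2561,2562,2563,2564,2565,2566,2567,2568,2569,2570,2571,2572,2573,2574,2575,2576,2577,2578,2579,2580,2581,2582,2583,2584,2585,2586,2587,2588,2589,2590,2591,2592,2593,2594,2595,2596,2597,2598,2599]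

/-- Points. -/
def levX0pts13 : List ℕ := [2600,2601,2602,2603,2604,2605,2606,2607,2608,2609,2610,2611,2612,2613,2614,2615,2616,2617,2618,2619,2620,2621,2622,2623,2624,2625,2626,2627,2628,2629,2630,2631,2632,2633,2634,2635,2636,2637,2638,2639,2640,2641,2642,2643,2644,2645,2646,2647,2648,2649,2650,2651,2652,2653,2654,2655,2656,2657,2658,2659,2660,2661,2662,2663,2664,2665,2666,2667,2668,2669,2670,2671,2672,2673,2674,2675,2676,2677,2678,2679,2680,2681,2682,2683,2684,2685,2686,2687,2688,2689,2690,2691,2692,2693,2694,2695,2696,2697,2698,2699,2700,2701,2702,2703,2704,2705,2706,2707,2708,2709,2710,2711,2712,2713,2714,2715,2716,2717,2718,2719,2720,2721,2722,2723,2724,2725,2726,2727,2728,2729,2730,2731,2732,2733,2734,2735,2736,2737,2738,2739,2740,2741,2742,2743,2744,2745,2746,2747,2748,2749,2750,2751,2752,2753,2754,2755,2756,2757,2758,2759,2760,2761,2762,2763,2764,2765,2766,2767,2768,2769,2770,2771,2772,2773,2774,2775,2776,2777,2778,2779,2780,2781,2782,2783,2784,2785,2786,2787,2788,2789,2790,2791,2792,2793,2794,2795,2796,2797,2798,2799]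

/-- Points. -/
def levX0pts14 : List ℕ := [2800,2801,2802,2803,2804,2805,2806,2807,2808,2809,2810,2811,2812,2813,2814,2815,2816,2817,2818,2819,2820,2821,2822,2823,2824,2825,2826,2827,2828,2829,2830,2831,2832,2833,2834,2835,2836,2837,2838,2839,2840,2841,2842,2843,2844,2845,2846,2847,2848,2849,2850,2851,2852,2853,2854,2855,2856,2857,2858,2859,2860,2861,2862,2863,2864,2865,2866,2867,2868,2869,2870,2871,2872,2873,2874,2875,2876,2877,2878,2879,2880,2881,2882,2883,2884,2885,2886,2887,2888,2889,2890,2891,2892,2893,2894,2895,2896,2897,2898,2899,2900,2901,2902,2903,2904,2905,2906,2907,2908,2909,2910,2911,2912,2913,2914,2915,2916,2917,2918,2919,2920,2921,2922,2923,2924,2925,2926,2927,2928,2929,2930,2931,2932,2933,2934,2935,2936,2937,2938,2939,2940,2941,2942,2943,2944,2945,2946,2947,2948,2949,2950,2951,2952,2953,2954,2955,2956,2957,2958,2959,2960,2961,2962,2963,2964,2965,2966,2967,2968,2969,2970,2971,2972,2973,2974,2975,2976,2977,2978,2979,2980,2981,2982,2983,2984,2985,2986,2987,2988,2989,2990,2991,2992,2993,2994,2995,2996,2997,2998,2999]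

/-- Points. -/
def levX0pts15 : List ℕ := [3000,3001,3002,3003,3004,3005,3006,3007,3008,3009,3010,3011,3012,3013,3014,3015,3016,3017,3018,3019,3020,3021,3022,3023,3024,3025,3026,3027,3028,3029,3030,3031,3032,3033,3034,3035,3036,3037,3038,3039,3040,3041,3042,3043,3044,3045,3046,3047,3048,3049,3050,3051,3052,3053,3054,3055,3056,3057,3058,3059,3060,3061,3062,3063,3064,3065,3066,3067,3068,3069,3070,3071,3072,3073,3074,3075,3076,3077,3078,3079,3080,3081,3082,3083,3084,3085,3086,3087,3088,3089,3090,3091,3092,3093,3094,3095,3096,3097,3098,3099,3100,3101,3102,3103,3104,3105,3106,3107,3108,3109,3110,3111,3112,3113,3114,3115,3116,3117,3118,3119,3120,3121,3122,3123,3124,3125,3126,3127,3128,3129,3130,3131,3132,3133,3134,3135,3136,3137,3138,3139,3140,3141,3142,3143,3144,3145,3146,3147,3148,3149,3150,3151,3152,3153,3154,3155,3156,3157,3158,3159,3160,3161,3162,3163,3164,3165,3166,3167,3168,3169,3170,3171,3172,3173,3174,3175,3176,3177,3178,3179,3180,3181,3182,3183,3184,3185,3186,3187,3188,3189,3190,3191,3192,3193,3194,3195,3196,3197,3198,3199]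

/-- Points. -/
def levX0pts16 : List ℕ := [3200,3201,3202,3203,3204,3205,3206,3207,3208,3209,3210,3211,3212,3213,3214,3215,3216,3217,3218,3219,3220,3221,3222,3223,3224,3225,3226,3227,3228,3229,3230,3231,3232,3233,3234,3235,3236,3237,3238,3239,3240,3241,3242,3243,3244,3245,3246,3247,3248,3249,3250,3251,3252,3253,3254,3255,3256,3257,3258,3259,3260,3261,3262,3263,3264,3265,3266,3267,3268,3269,3270,3271,3272,3273,3274,3275,3276,3277,3278,3279,3280,3281,3282,3283,3284,3285,3286,3287,3288,3289,3290,3291,3292,3293,3294,3295,3296,3297,3298,3299,3300,3301,3302,3303,3304,3305,3306,3307,3308,3309,3310,3311,3312,3313,3314,3315,3316,3317,3318,3319,3320,3321,3322,3323,3324,3325,3326,3327,3328,3329,3330,3331,3332,3333,3334,3335,3336,3337,3338,3339,3340,3341,3342,3343,3344,3345,3346,3347,3348,3349,3350,3351,3352,3353,3354,3355,3356,3357,3358,3359,3360,3361,3362,3363,3364,3365,3366,3367,3368,3369,3370,3371,3372,3373,3374,3375,3376,3377,3378,3379,3380,3381,3382,3383,3384,3385,3386,3387,3388,3389,3390,3391,3392,3393,3394,3395,3396,3397,3398,3399]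

/-- Points. -/
def levX0pts17 : List ℕ := [3400,3401,3402,3403,3404,3405,3406,3407,3408,3409,3410,3411,3412,3413,3414,3415,3416,3417,3418,3419,3420,3421,3422,3423,3424,3425,3426,3427,3428,3429,3430,3431,3432,3433,3434,3435,3436,3437,3438,3439,3440,3441,3442,3443,3444,3445,3446,3447,3448,3449,3450,3451,3452,3453,3454,3455,3456,3457,3458,3459,3460,3461,3462,3463,3464,3465,3466,3467,3468,3469,3470,3471,3472,3473,3474,3475,3476,3477,3478,3479,3480,3481,3482,3483,3484,3485,3486,3487,3488,3489,3490,3491,3492,3493,3494,3495,3496,3497,3498,3499,3500,3501,3502,3503,3504,3505,3506,3507,3508,3509]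

/-- A level. -/
def levX0 : Level :=
  ⟨594, (.node (.node sub4 sub9) (.node sub14 sub19)), levX0pts0 ++ levX0pts1 ++ levX0pts2 ++ levX0pts3 ++ levX0pts4 ++ levX0pts5 ++ levX0pts6 ++ levX0pts7 ++ levX0pts8 ++ levX0pts9 ++ levX0pts10 ++ levX0pts11 ++ levX0pts12 ++ levX0pts13 ++ levX0pts14 ++ levX0pts15 ++ levX0pts16 ++ levX0pts17⟩

/-- A subtree. -/
def sub20 : WTree :=
  (.node (.node (.node (.node (.node (.node (.node .none (.node .none (.word [5,4,3,7,8,3,4,5,0,1,0,1,2,1,3,4,3,5,7,3,2,1,4,3,7,8,6,5,4,2,3,7,1,2]))) (.node .none (.word [8,1,2,1,0,3,4,3,7,3,2,1,8,5,4,3,7,8,2,3,7,5,6,1,2]))) (.node (.node (.node .none (.word [2,3,7,8,4,5,3,4,2,3,7,6,3,2,1,6,5,7,3,2,4,3,7,8,7,5,3,4,2,3,7,5,6,1])) .none) (.node (.node .none (.word [2,3,4,5,3,2,4,3,8,7,3,4,1,2,1,0,3,2,1,6,5,4,3,7,8,2,3,7,5,6,0,1]))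 (.word [2,6,7,3,2,8,4,3,7,8,3,4,2,3,7,4,1,2,4,3,5,7,3,8,4,2,3,7,5,6,4,2,1])))) (.node (.node (.word [1,4,3,2,6,5,4,3,7,4,5,6,1,2,3,4,0,1]) (.node .none (.word [4,3,7,3,4,1,6,5,4,7,3,2,4,3,7,8,7,3,4,1,2,3,7,4,5,6,1]))) (.node (.node .none (.word [0,2,3,7,8,1,2,3,7,5,1,0,1,2,1,4,3,5,4,7,3,7,8,2,3,7,4,5,6,4,1,2])) (.node .none (.word [2,3,4,5,3,2,4,3,8,7,3,4,2,1,0,3,2,6,5,4,3,7,8,2,3,4,1,2,3,7,5,6]))))) (.node (.node (.node (.node (.word [0,4,3,7,2,3,4,1,0]) (.word [4,3,7,3,4,2,3,7,3,8,7,5,3,4,2,3,7,6,2])) (.node (.word [4,3,7,3,4,6,5,8,3,4,2,3,7,3,4,5,6,2]) (.word [0,2,3,7,8,1,2,3,7,5,1,0,3,1,2,1,4,3,5,4,7,3,7,8,2,3,7,4,5,6,4,1,2]))) .none) (.node (.word [0,2,3,7,8,4,1,2,3,7,1,0]) (.node (.node .none (.word [4,3,8,7,3,4,5,1,2,4,3,2,5,4,7,3,1,2,3,7,8,4,3,7,5,6,4,1]))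 .none)))) (.node (.node (.node (.node (.node .none (.word [3,1,2,1,4,3,5,4,7,3,7,8,2,3,7,4,5,6,4,1,2])) (.node (.node .none (.word [4,3,8,7,3,4,1,2,1,4,3,5,4,7,8,2,3,7,4,5,6,4,1,2,1,0,2,1,3,2,3,7,8,4,3,7,0])) .none)) (.node (.node (.node .none (.word [3,1,2,1,3,4,3,5,7,3,2,1,4,3,7,8,6,5,4,2,3,7,1,2])) (.node .none (.word [0,2,1,0,7,5,4,3,7,8,2,3,7,6,4,3,1,2,1,3,4,3,5,7,3,2,1,4,3,7,8,6,5,4,2,3,7,1,2]))) (.node (.node .none (.word [5,4,3,7,3,4,1,2,1,3,4,3,5,7,3,2,1,4,3,7,8,6,5,4,2,3,7,1,2])) .none))) (.node (.node .none (.word [0,4,3,7,3,4,1,2,3,7,8,4,1,2,3,7,1,0])) .none)) (.node (.node .none (.node (.node (.word [6,5,7,3,2,4,7,5,3,4,2,3,7,5,6]) (.word [0,5,1,0,4,3,8,7,3,4,2,1,0,3,2,6,5,4,3,7,8,2,3,4,1,2,3,7,5,6])) .none)) (.node .none (.node .none (.node .none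 (.word [3,1,2,1,4,3,5,4,7,8,2,3,7,4,5,6,4,1,2,1,0,2,3,7,8,4,1,2,3,7,1,0]))))))) (.node (.node (.node (.node (.node (.word [0,2,3,6,7,3,8,4,2,3,7,5,3,2,1,0]) (.node (.node .none (.word [5,0,4,3,7,2,3,4,1,0,1,6,5,4,7,3,2,4,3,7,8,7,3,4,1,2,3,7,4,5,6,1])) .none)) (.node (.node .none (.word [8,3,2,4,6,5,4,7,8,3,7,8,4,2,3,7,5,6,4])) (.node (.node .none (.word [4,3,7,3,4,3,1,2,1,3,4,3,5,7,3,2,1,4,3,7,8,6,5,4,2,3,7,1,2])) .none))) .none) (.node (.node (.node (.node (.word [0,6,3,7,8,4,1,2,3,7,4,1,2,1,0]) (.word [0,4,6,5,4,7,3,8,1,2,3,7,8,4,3,7,5,6,4,0])) (.node (.word [3,0,2,1,0,4,5,3,7,8,4,2,3,7,5,6,4,2]) (.word [0,4,3,7,3,4,1,0,8,2,1,0,3,2,6,5,4,3,7,8,2,3,4,1,2,3,7,5,6]))) .none) (.node (.node (.node (.node .none (.word [4,3,8,7,3,4,3,1,2,1,0,3,2,1,6,5,4,2,3,7,8,5,4,2,3,7,6,1]))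 .none) (.word [0,2,3,7,8,1,2,3,7,5,1,0,1,2,1,0,3,2,1,6,5,4,3,7,8,2,3,7,5,6,1])) .none))) (.node (.node (.node .none (.node (.node (.node .none (.word [5,4,3,7,3,4,1,2,1,0,3,2,1,6,5,4,3,7,8,5,4,2,3,7,6,0,1])) .none) .none)) (.node (.node (.node .none (.node (.word [0,1,0,2,1,0,3,2,6,5,4,3,7,8,2,3,4,1,2,3,7,5,6]) (.word [0,1,0,2,6,7,3,2,8,4,3,7,8,3,4,2,3,7,4,1,2,4,5,7,3,4,5,3,7,8,2,3,7,6,4,2,1]))) (.node (.node .none (.word [5,1,2,1,4,3,5,4,7,8,2,3,7,4,5,6,4,0,3,2,1,6,5,4,2,3,7,8,5,4,2,3,7,6,1])) .none)) .none)) (.node (.node (.node .none (.node (.word [4,3,8,7,3,4,0,2,3,7,8,4,1,2,3,7,0]) (.word [2,3,4,3,2,1,6,5,7,3,2,4,3,7,8,7,3,4,2,3,7,5,6,1]))) .none) (.node (.node .none (.word [1,6,5,7,3,2,4,3,7,8,7,3,4,2,3,7,5,6,1])) (.word [0,7,3,2,4,3,7,8,2,3,4,1,2,3,7,0]))))))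

/-- A subtree. -/
def sub21 : WTree :=
  (.node (.node (.node (.node (.node (.node (.node (.node (.word [5]) (.word [5,4,3,7,3,4,1,2,1,0,3,2,1,6,5,4,3,7,8,2,3,7,5,6,0,1])) .none) (.word [5,1,4,3,2,6,5,4,7,8,3,7,4,5,6,2,3,4,0,1])) (.node (.node .none (.node (.word [4,3,8,7,3,4,2,3,7,8,4,5,3,4,2,3,7,6,3,2]) (.word [2,3,7,8,4,5,3,4,2,3,7,6,3,2,1,2,4,3,5,4,7,8,7,3,4,2,3,7,5,6,4,1]))) .none)) (.node (.node (.node .none (.word [5,3,0,2,1,0,4,5,2,3,7,8,4,2,3,7,5,6,4,2])) (.node .none (.word [3,1,2,1,0,3,4,3,7,3,2,1,8,5,4,3,7,8,2,3,7,5,6,1,2]))) (.node .none (.word [1,2,4,5,7,3,4,5,3,7,8,2,3,7,6,4,2,1])))) (.node (.node (.node (.node .none (.word [8,3,0,4,6,5,4,7,3,8,1,2,3,7,8,4,3,7,5,6,4,0])) .none) (.word [0,2,3,7,8,1,2,3,7,5,1,0,3,4,6,5,4,3,2,7,3,4,1,2,3,7,3,4,5,6,3,4]))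 (.node (.node (.node .none (.node .none (.word [5,2,6,7,3,2,8,4,3,7,8,3,4,2,3,7,4,1,2,3,4,5,7,2,3,7,8,4,3,7,5,6,2,1]))) .none) (.node (.word [4,6,5,7,8,3,7,8,4,2,3,7,4,5,6,4,2]) (.node (.node .none (.word [1,2,4,5,7,3,4,5,3,7,8,2,3,7,6,4,2,1,3,1,2,1,4,3,5,4,7,8,2,3,7,4,5,6,4,1,2,1])) .none))))) (.node (.node (.node .none (.node (.node (.node .none (.word [4,3,7,3,4,1,2,1,0,3,2,1,6,5,4,3,7,8,5,4,2,3,7,6,1])) (.node .none (.word [4,3,7,3,4,2,3,7,8,4,5,3,4,2,3,7,6,3,2,0,1,0,1,2,1,3,4,3,5,7,3,2,1,4,3,7,8,6,5,4,2,3,7,1,2]))) (.node (.node .none (.word [0,2,3,7,8,1,2,3,7,5,1,0,5,1,2,4,3,2,5,4,7,8,7,3,4,1,2,3,7,4,5,6,4,1])) (.word [2,3,4,3,2,8,1,6,5,4,7,3,2,4,3,7,8,7,3,4,1,2,3,7,4,5,6,1])))) (.node .none (.node (.node .none (.node (.word [8,2,1,0,3,2,6,5,4,3,7,8,2,3,4,1,2,3,7,5,6])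 (.word [0,2,3,7,8,1,2,3,7,5,1,0,1,2,1,3,4,3,5,7,3,2,1,4,3,7,8,6,5,4,2,3,7,1,2]))) .none))) (.node (.node (.node (.node .none (.node .none (.word [1,6,5,7,3,2,4,3,7,8,7,3,4,2,3,7,5,6,5,1,0,2,1,3,2,3,7,8,4,3,7,1,0]))) (.node .none (.word [8,1,2,4,3,2,5,4,7,3,1,2,3,7,8,4,3,7,5,6,4,1]))) (.node (.node (.node .none (.word [8,3,1,2,1,3,4,3,5,7,3,2,1,4,3,7,8,6,5,4,2,3,7,1,2])) (.word [5,2,1,0,3,2,6,5,4,3,7,8,2,3,4,1,2,3,7,5,6])) (.node (.word [3,1,2,1,4,3,5,4,7,8,2,3,7,4,5,6,4,1,2,1]) (.word [0,1,0,2,3,4,3,2,1,6,5,4,7,3,2,4,3,7,8,7,3,4,1,2,3,7,4,5,6,1])))) (.node (.node (.node (.node .none (.word [3,1,2,1,4,3,5,4,7,8,2,3,7,4,5,6,4,1,2,1,2,3,7,8,4,5,3,4,2,3,7,6,3,2])) .none) .none) (.node (.node (.node (.word [3,1,2,1,4,3,5,4,7,3,7,8,2,3,7,4,5,6,4,5,1,2]) (.word [3,2,6,7,3,2,8,4,3,7,8,3,4,2,3,7,4,2,1,0,3,2,6,5,4,3,7,8,2,3,4,1,2,3,7,5,6]))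 .none) .none))))) (.node (.node (.node .none (.node (.node (.node .none (.word [2,3,4,5,4,3,2,1,2,4,3,6,7,3,4,5,4,3,7,8,2,3,7,3,4,2,1])) .none) (.node (.node (.node .none (.word [1,2,4,5,7,3,4,5,3,7,8,2,3,7,6,4,2,1,0,2,1,3,2,3,7,8,4,3,7,1,0])) (.node .none (.word [0,4,3,7,3,4,1,0,2,3,7,8,4,5,3,4,2,3,7,6,3,2,1,2,4,3,5,7,3,8,4,2,3,7,5,6,4,2,1]))) .none))) (.node (.node (.node (.word [0,2,3,4,3,2,1,0]) (.word [7,3,2,8,4,3,7,8,5,4,3,7,6,2])) .none) .none)) (.node (.node (.node (.node (.node (.node .none (.word [4,3,7,3,4,1,2,1,0,3,2,1,6,5,4,3,7,8,5,4,2,3,7,6,0,1])) .none) (.node (.node (.word [3,5,1,2,4,3,6,7,3,4,5,4,3,7,8,2,3,7,3,4,2,1]) (.word [1,2,1,4,3,5,4,7,8,2,3,7,4,5,6,4,3,4,3,5,7,3,2,1,4,3,7,8,6,5,4,2,3,7,1,2])) .none)) (.node .none (.node .none (.word [4,3,7,3,4,1,2,1,0,3,2,1,6,5,4,3,7,8,2,3,7,5,6,0,1]))))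 (.node (.node .none (.word [1,2,1,4,3,5,4,7,8,2,3,7,4,5,6,3,5,4,7,8,2,3,7,4,5,6,4,5,1,2,1])) (.node (.node .none (.word [4,3,7,3,4,3,1,6,5,4,7,3,2,4,3,7,8,7,3,4,1,2,3,7,4,5,6,1])) .none))) (.node (.node .none (.node (.node (.word [0,2,1,0,7,5,4,3,7,8,2,3,7,6,4,3,1,2,1,0,4,6,5,4,3,7,8,4,2,3,7,5,4,1,2]) (.node .none (.word [0,2,3,7,8,1,2,3,7,5,1,0,3,1,2,1,3,4,3,5,7,3,2,1,4,3,7,8,6,5,4,2,3,7,1,2]))) (.node (.node .none (.word [0,2,3,7,8,1,2,3,7,5,1,0,8,3,1,2,4,3,2,5,4,7,8,3,4,1,2,3,7,4,5,6,4,1])) (.word [2,6,7,3,2,8,4,3,7,8,3,4,2,3,7,4,1,2,1,0,3,2,1,6,5,4,2,3,7,8,5,4,2,3,7,6,1])))) (.node (.node (.node (.node .none (.word [2,3,7,8,4,5,3,4,2,3,7,6,3,2,1,2,1,0,3,2,1,6,5,4,3,7,8,2,3,7,5,6,1])) (.word [3,1,2,3,4,5,8,6,5,4,3,2,1,2,4,6,5,4,7,8,3,7,8,4,2,3,7,5,6,4])) .none)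 (.node (.node (.node (.word [0,2,1,0,4,5,3,7,8,4,3,7,5,6,4,2]) (.word [0,1,4,3,7,2,3,4,1,0,1,6,5,4,7,3,2,4,3,7,8,7,3,4,1,2,3,7,4,5,6,1])) .none) (.node (.node .none (.word [5,4,3,7,8,3,4,5,2,3,4,3,1,0,3,2,6,5,4,3,7,8,2,3,4,1,2,3,7,5,6])) .none)))))))

/-- A subtree. -/
def sub22 : WTree :=
  (.node (.node (.node (.node (.node (.node (.node .none (.word [2,3,4,3,2,1,2,1,0,3,2,7,3,4,5,6,8,1,2,3,7,8,4,3,7,4,3,2,1])) .none) .none) (.node .none (.word [5,1,2,3,4,5,7,3,2,8,7,3,4,3,7,8,2,3,7,5,4,3,2,1]))) (.node .none (.node (.node (.node .none (.word [8,3,5,4,3,7,8,3,4,5,1,2,4,3,2,5,4,7,3,1,2,3,7,8,4,3,7,5,6,4,1])) .none) (.node .none (.node (.node (.word [8,3,2,3,4,5,3,2,1,2,4,3,5,7,3,8,4,2,3,7,5,6,4,2,0,1]) (.word [2,6,7,3,2,8,4,3,7,8,3,4,2,3,7,4,1,2,1,0,3,2,1,6,5,4,3,7,8,2,3,7,5,6,0,1]))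 .none))))) (.node (.node (.node (.node (.node (.node .none (.word [4,3,7,3,4,1,2,1,0,3,4,3,7,3,2,1,8,5,4,3,7,8,2,3,7,5,6,1,2])) .none) (.node (.node .none (.word [4,3,8,7,3,4,1,2,1,0,3,2,1,6,5,4,3,7,8,5,4,2,3,7,6,1])) (.word [2,1,0,3,2,6,5,4,3,7,8,2,3,4,1,2,3,7,5,6]))) (.node (.node (.node (.word [8,3,4,6,5,4,3,2,7,3,4,1,2,3,7,3,4,5,6,3,4]) (.word [4,3,7,3,4,1,2,1,4,3,5,4,7,8,2,3,7,4,5,6,4,1,2,1,0,2,1,3,2,3,7,8,4,3,7,0])) .none) (.node (.node .none (.word [2,6,7,3,2,8,4,3,7,8,3,4,2,3,7,4,1,6,5,7,3,2,4,3,7,8,7,3,4,2,3,7,5,6,1])) .none))) (.node (.node (.node .none (.node .none (.word [8,1,2,1,0,3,2,1,6,5,4,3,7,8,5,4,2,3,7,6,0,2,4,3,2,5,4,7,8,7,3,4,1,2,3,7,4,5,6,4,1]))) .none) (.node (.node (.word [0,2,1,3,2,3,7,8,4,3,7,0]) (.word [0,5,1,0,8,1,2,4,3,2,5,4,7,3,1,2,3,7,8,4,3,7,5,6,4,1]))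 (.word [2,3,4,3,2,1,2,3,4,5,7,3,2,8,7,3,4,3,7,8,2,3,7,5,4,3,2,1])))) (.node .none (.node (.node (.word [3,0,2,1,0,7,8,5,4,2,3,7,6,4,2]) (.word [8,0,6,5,7,3,2,4,3,7,8,1,2,3,7,4,5,6,3,2,0])) .none)))) (.node (.node (.node (.node .none (.word [2,3,7,8,4,5,3,4,2,3,7,6,3,2,1,4,3,2,6,5,4,3,7,4,5,6,2,3,4,1])) (.node (.node (.node .none (.node .none (.word [8,3,0,4,3,7,3,4,1,0,1,2,1,3,4,3,5,7,3,2,1,4,3,7,8,6,5,4,2,3,7,1,2]))) .none) .none)) (.node (.node (.node (.word [4,3,8,7,3,4]) (.node .none (.word [0,1,0,2,6,7,3,2,8,4,3,7,8,3,4,2,3,7,4,1,2,4,3,5,7,3,8,4,2,3,7,5,6,4,2,1]))) (.node (.node .none (.word [5,1,2,4,3,2,5,4,7,8,7,3,4,1,2,3,7,4,5,6,4,1])) .none)) (.node (.node .none (.word [4,3,8,7,3,4,6,5,8,3,4,2,3,7,3,4,5,6,2])) (.node .none (.node .none (.word [8,0,6,5,7,3,2,4,3,7,8,1,2,3,7,4,5,6,3,2,0,1,2,4,3,5,7,3,8,4,2,3,7,5,6,4,2,0,1]))))))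 (.node (.node (.node (.node .none (.word [4,3,7,3,4,5,2,1,0,3,2,6,5,4,3,7,8,2,3,4,1,2,3,7,5,6])) .none) (.node (.node (.node .none (.node .none (.word [0,2,3,7,8,1,2,3,7,5,1,0,2,3,4,3,2,1,6,5,7,3,4,8,7,3,4,2,3,7,8,5,4,3,7,5,6,1]))) .none) (.node (.node (.node .none (.word [2,3,4,3,2,5,4,3,7,3,4,5,1,2,1,3,4,3,5,7,3,2,1,4,3,7,8,6,5,4,2,3,7,1,2])) .none) .none))) (.node (.node (.node (.word [0,2,3,7,8,1,2,3,7,1,0]) (.node (.node .none (.word [0,7,3,8,1,2,3,7,8,5,4,3,7,6,2,0,1,2,4,5,7,3,4,5,3,7,8,2,3,7,6,4,2,1])) (.word [4,3,7,3,4,8,3,1,2,4,3,2,5,4,7,3,1,2,3,7,8,4,3,7,5,6,4,1]))) (.node .none (.node .none (.word [5,4,3,7,8,3,4,5,2,3,4,3,2,1,6,5,7,3,2,4,3,7,8,7,5,3,4,2,3,7,5,6,1])))) (.node (.node (.node .none (.node .none (.word [4,3,8,7,3,4,5,1,2,1,3,4,3,5,7,3,2,1,4,3,7,8,6,5,4,2,3,7,1,2])))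 (.node (.node .none (.word [8,1,2,1,4,3,5,4,7,8,2,3,7,4,5,6,4,1,2,1,0,2,3,7,8,4,1,2,3,7,0])) .none)) (.word [1,2,3,4,5,7,3,2,8,7,3,4,3,7,8,2,3,7,5,4,3,2,1]))))))

/-- A subtree. -/
def sub23 : WTree :=
  (.node (.node (.node (.node (.node (.node (.node .none (.node .none (.word [0,5,1,0,2,3,7,8,4,5,3,4,2,3,7,6,3,2,1,2,4,3,5,4,7,8,7,3,4,2,3,7,5,6,4,1]))) (.word [5,3,1,2,1,0,4,6,5,4,3,7,8,4,2,3,7,5,4,1,2])) (.node (.node .none (.word [8,3,1,2,4,5,7,3,4,5,3,7,8,2,3,7,6,4,2,1])) (.word [1,2,1,0,3,2,1,6,5,4,3,7,8,2,3,7,5,6,5,0,1]))) (.node (.node (.node (.word [2,6,5,4,3,8,7,3,4,5,6,5,2]) (.word [1,2,1,6,5,4,7,8,3,7,2,3,4,5,3,4,3,1,2,1,2,3,6,5,4,3,2,7,8,3,7,2,3,4,5,6,3,2])) (.node (.node .none (.word [8,2,3,7,8,4,5,3,4,2,3,7,6,3,2,1,2,1,0,3,2,1,6,5,4,3,7,8,2,3,7,5,6,0,1]))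 .none)) (.node .none (.node (.node .none (.word [2,6,7,3,2,8,4,3,7,8,3,4,2,3,7,4,1,2,4,5,7,3,4,5,3,7,8,2,3,7,6,4,2,1])) .none)))) (.node (.node (.node (.node .none (.node .none (.word [0,2,1,0,7,5,4,3,7,8,2,3,7,6,4,8,3,1,2,1,4,3,5,4,7,3,7,8,2,3,4,1,2,3,7,5,6,4]))) .none) (.node (.node (.node .none (.word [0,4,3,7,2,3,4,1,0,2,1,0,3,2,6,5,4,3,7,8,2,3,4,1,2,3,7,5,6])) .none) .none)) (.node .none (.node .none (.word [1,2,4,5,7,3,4,5,3,7,8,2,3,7,6,4,2,0,1]))))) (.node (.node (.node .none (.word [7,3,8,7,8,2,3,4,0,1,2,3,7,3,4,0])) (.node (.node (.node .none (.node .none (.word [4,3,8,7,3,4,1,2,3,4,5,8,6,5,4,3,2,1,0,2,1,0,6,5,7,2,3,7,8,4,5,3,4,2,3,7,6]))) .none) (.node (.node .none (.node .none (.word [0,2,3,7,8,1,2,3,7,5,1,0,8,3,1,2,1,3,4,3,5,7,3,2,1,4,3,7,8,6,5,4,2,3,7,1,2])))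 .none))) (.node (.node (.node (.node .none (.word [0,4,3,7,2,3,4,0,1,2,3,4,5,7,3,2,8,7,3,4,3,7,8,2,3,7,5,4,3,2,1])) (.node .none (.word [3,1,2,4,3,2,5,4,7,3,1,2,3,7,8,4,3,7,5,6,4,1]))) (.node (.node (.node (.word [3,0,2,1,0,7,5,4,3,7,8,2,3,7,6,4]) (.word [8,0,6,5,7,3,2,4,3,7,8,1,2,3,7,4,5,6,3,2,0,3,1,2,4,3,5,7,3,8,4,2,3,7,5,6,4,2,1])) .none) .none)) (.node (.node .none (.node (.node .none (.word [5,4,3,7,8,3,4,5,1,2,3,4,5,8,6,5,4,3,2,1,7,3,2,8,4,3,7,8,5,4,3,7,6,2])) (.word [4,3,8,7,3,4,1,2,1,4,3,5,4,7,3,7,8,2,3,4,1,2,3,7,5,6,4]))) (.node (.word [4,3,8,7,3,4,0,2,3,7,8,4,1,2,3,7,1,0]) (.node (.node .none (.word [1,6,5,7,3,2,4,3,7,8,7,3,4,2,3,7,5,6,5,1,0,2,1,0,4,5,2,3,7,8,4,2,3,7,5,6,4,2])) .none)))))) (.node (.node (.node (.node (.word [0,1,0]) (.node (.node (.node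 .none (.word [4,3,8,7,3,4,1,2,1,0,3,4,3,7,3,2,1,8,5,4,3,7,8,2,3,7,5,6,1,2])) .none) .none)) (.node (.node .none (.node (.node .none (.word [2,3,4,5,3,2,4,3,7,3,4,1,2,1,0,3,2,1,6,5,4,3,7,8,5,4,2,3,7,6,0,1])) (.word [2,3,4,3,2,1,6,5,4,7,3,2,4,3,7,8,7,3,4,1,2,3,7,4,5,6,1]))) .none)) (.node (.node (.word [7,3,8,7,4,5,2,3,0,1,2,0]) (.word [0,4,3,7,3,4,1,0,5,2,1,0,3,2,6,5,4,3,7,8,2,3,4,1,2,3,7,5,6])) (.node (.node (.node (.node .none (.word [8,3,2,6,7,3,2,8,4,3,7,8,3,4,2,3,7,4,1,2,4,3,5,7,3,8,4,2,3,7,5,6,4,2,1])) (.node .none (.word [2,3,4,5,3,2,4,3,8,7,3,4,1,2,1,0,3,4,3,7,3,2,1,8,5,4,3,7,8,2,3,7,5,6,1,2]))) (.node (.node (.word [1,2,4,3,5,7,3,8,4,2,3,7,5,6,4,2,1]) (.word [3,2,3,7,8,4,5,3,4,2,3,7,6,3,2,1,2,4,3,5,4,7,8,3,7,4,5,6,4,2,1])) .none)) (.node .none (.node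 (.node .none (.word [8,3,1,2,1,4,3,5,4,7,8,2,3,7,4,5,6,4,1,2,1,0,2,3,7,8,4,1,2,3,7,0])) .none))))) (.node (.node (.node (.node .none (.node (.node .none (.word [0,2,3,7,8,1,2,3,7,5,1,0,3,1,2,1,4,3,5,4,7,3,7,8,2,3,4,1,2,3,7,5,6,4])) .none)) (.node .none (.word [1,2,1,0,3,2,7,3,4,5,6,8,1,2,3,7,8,4,3,7,4,3,2,1]))) (.node (.node .none (.node .none (.word [8,3,1,2,1,0,3,4,3,7,3,2,1,8,5,4,3,7,8,2,3,7,5,6,1,2]))) (.node (.node (.node .none (.word [8,3,5,4,3,7,3,4,5,1,2,1,0,3,2,1,6,5,4,2,3,7,8,5,4,2,3,7,6,1])) .none) (.node .none (.word [8,3,5,4,3,7,3,4,5,1,2,1,4,3,5,4,7,8,2,3,7,4,5,6,4,1,2,1]))))) (.node (.node (.node (.node (.word [0,4,3,8,7,3,4,1,0]) (.word [8,3,1,2,4,3,5,7,3,8,4,2,3,7,5,6,4,2,0,1])) (.word [0,2,3,7,4,2,3,7,8,5,4,3,7,6,1,2,0])) (.node (.node (.node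 (.word [1,2,1,4,3,5,4,7,3,7,8,2,3,7,4,5,6,4,5,1,2]) (.word [5,4,3,7,3,4,1,2,1,0,3,2,1,6,5,4,2,3,7,8,5,4,2,3,7,6,1])) .none) .none)) .none))))

/-- A subtree. -/
def sub24 : WTree :=
  (.node (.node sub20 sub21) (.node sub22 sub23))

/-- A subtree. -/
def sub25 : WTree :=
  (.node (.node (.node (.node (.node (.node (.node .none (.node .none (.word [4,3,7,3,4,1,6,5,7,3,2,4,3,7,8,7,3,4,2,3,7,5,6,5,1,0,2,3,7,8,4,1,2,3,7,0]))) (.node (.node .none (.word [2,3,4,5,3,2,4,3,8,7,3,4,1,2,1,0,3,2,1,6,5,4,3,7,8,2,3,7,5,6,1])) .none)) .none) (.node (.node (.word [2,3,4,5,3,2,1,6,5,7,3,2,4,3,7,8,7,3,4,2,3,7,5,6,0,1]) (.node (.node .none (.word [1,6,5,7,3,2,4,3,7,8,7,3,4,2,3,7,5,6,5,1,0,2,1,0,4,5,4,3,7,8,4,2,3,7,5,6,4,2])) .none)) (.node .none (.word [1,2,4,3,5,4,7,8,7,3,4,2,3,7,5,6,4,1]))))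 (.node (.node (.node (.node .none (.node .none (.word [0,4,3,7,3,4,1,0,2,3,4,3,1,0,3,2,6,5,4,3,7,8,2,3,4,1,2,3,7,5,6]))) (.word [4,3,8,7,3,4,2,6,5,4,3,8,7,3,4,5,6,2])) .none) (.node (.node .none (.word [5,4,3,7,3,4,5,2,1,0,3,2,6,5,4,3,7,8,2,3,4,1,2,3,7,5,6])) .none))) (.node (.node (.node (.node .none (.word [2,3,4,3,2,1,2,4,3,6,7,3,4,5,4,3,7,8,2,3,7,3,4,2,1])) (.node (.node .none (.word [1,2,1,0,3,2,1,6,5,4,3,7,8,5,4,2,3,7,6,0,1])) (.node (.node (.word [0,7,3,8,1,2,3,7,8,5,4,3,7,6,2,0]) (.word [1,6,5,7,3,2,4,3,7,8,7,3,4,2,3,7,5,6,5,1,0,2,3,7,8,4,1,2,3,7,0])) .none))) (.node (.node (.node .none (.node (.word [1,2,3,4,5,8,6,5,4,3,2,1,2,4,6,5,4,7,8,3,7,8,3,4,2,3,7,5,6,4]) (.word [3,2,3,7,8,4,5,3,4,2,3,7,6,3,2,1,2,4,3,5,4,7,8,7,3,4,2,3,7,5,6,4,1]))) .none) (.node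 .none (.node (.node (.word [2,3,4,3,2,5,4,3,7,3,4,5,2,1,0,3,2,6,5,4,3,7,8,2,3,4,1,2,3,7,5,6]) (.word [2,6,7,3,2,8,4,3,7,8,3,4,2,3,7,4,1,2,1,0,3,2,1,6,5,4,3,7,8,2,3,7,5,6,1])) .none)))) (.node (.node (.node .none (.node .none (.word [0,5,1,0,8,3,1,2,4,3,2,5,4,7,3,1,2,3,7,8,4,3,7,5,6,4,1]))) (.node .none (.word [5,1,6,5,4,7,3,2,4,3,7,8,7,3,4,1,2,3,7,4,5,6,1]))) (.node (.node (.node .none (.word [0,1,0,8,1,2,4,3,2,5,4,7,3,1,2,3,7,8,4,3,7,5,6,4,1])) .none) (.node .none (.node (.node .none (.word [0,2,3,7,8,1,2,3,7,5,1,0,5,4,3,7,3,4,5,1,2,3,4,3,2,5,7,3,4,7,8,3,4,1,2,3,7,4,5,6,1])) (.word [1,2,4,5,7,3,4,5,3,7,8,2,3,7,6,4,2,1,0,2,3,7,8,4,1,2,3,7,0]))))))) (.node (.node (.node (.node (.node (.node .none (.node .none (.word [2,6,7,3,2,8,4,3,7,8,3,4,2,3,7,4,1,2,3,4,5,7,2,3,7,8,4,3,7,5,6,2,1])))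 (.node (.node .none (.word [5,2,6,7,3,2,8,4,3,7,8,3,4,2,3,7,4,1,2,4,3,2,5,4,7,3,1,2,3,7,8,4,3,7,5,6,4,1])) (.word [5,4,3,7,3,4,2,1,0,3,2,6,5,4,3,7,8,2,3,4,1,2,3,7,5,6]))) (.node (.node .none (.word [4,3,8,7,3,4,2,3,7,3,8,7,5,3,4,2,3,7,6,2])) .none)) .none) .none) (.node (.node (.node (.node .none (.node (.node .none (.word [4,3,7,3,4,8,3,1,2,1,0,3,4,3,7,3,2,1,8,5,4,3,7,8,2,3,7,5,6,1,2])) .none)) .none) (.node (.node (.node (.node (.word [2,6,5,4,3,8,7,3,4,5,6,2]) (.word [2,6,7,3,2,8,4,3,7,8,3,4,2,3,7,4,1,2,4,3,5,4,7,8,3,7,4,5,6,4,2,1])) .none) .none) (.node (.node .none (.node .none (.word [0,2,3,7,8,1,2,3,7,5,1,0,5,1,2,1,3,4,3,5,7,3,2,1,4,3,7,8,6,5,4,2,3,7,1,2]))) .none))) (.node (.node (.node (.node (.node .none (.word [8,1,2,1,3,4,3,5,7,3,2,1,4,3,7,8,6,5,4,2,3,7,1,2]))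 (.node .none (.word [4,3,8,7,3,4,2,3,4,3,1,0,3,2,6,5,4,3,7,8,2,3,4,1,2,3,7,5,6]))) (.word [0,2,3,4,3,2,1,0,2,3,6,7,3,8,4,2,3,7,3,2])) (.node (.word [8,4,6,5,4,3,2,7,3,4,1,2,3,7,3,4,5,6,3,4]) (.node (.node .none (.word [0,7,3,8,1,2,3,7,8,5,4,3,7,6,2,0,1,2,4,3,2,5,4,7,8,7,3,4,1,2,3,7,4,5,6,4,1])) (.word [8,0,2,1,3,7,3,4,5,3,4,2,3,7,5,6,5,1,2,3,0,8,1,2,4,5,7,3,4,5,3,7,8,2,3,7,6,4,2,1])))) (.node .none (.word [0,2,3,4,3,2,1,0,2,3,7,3,8,7,3,4,2,3,7,6,2]))))))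

/-- A subtree. -/
def sub26 : WTree :=
  (.node (.node (.node (.node (.node (.node (.node .none (.word [0,2,3,7,8,1,2,3,7,5,1,0,3,1,2,4,3,5,7,3,8,4,2,3,7,5,6,4,2,0,1])) .none) (.node (.node .none (.node .none (.word [8,1,6,5,7,3,2,4,3,7,8,7,3,4,2,3,7,5,6,5,1,0,7,3,2,4,3,7,8,2,3,4,1,2,3,7,0]))) .none)) (.word [6,5,3,4,2,3,7,3,4,5,6,5,2])) (.node (.node (.node (.node .none (.node .none (.word [4,3,7,3,4,5,1,2,1,3,4,3,5,7,3,2,1,4,3,7,8,6,5,4,2,3,7,1,2]))) .none) (.node (.node .none (.node .none (.word [5,4,3,7,8,3,4,5,4,3,7,3,4,1,2,1,0,3,2,1,6,5,4,3,7,8,5,4,2,3,7,6,1]))) .none)) (.node (.node (.node (.node .none (.word [1,2,1,6,5,4,7,8,3,7,2,3,4,5,3,4,3,1,2,1,2,3,7,8,7,4,5,3,4,2,3,7,6,3,2])) (.node .none (.word [0,7,3,8,1,2,3,7,8,5,4,3,7,6,2,1,0,1,2,4,3,2,5,4,7,3,1,2,3,7,8,4,3,7,5,6,4,1])))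 .none) .none))) (.node (.node (.node (.node (.node (.node (.word [0,5,4,3,7,2,3,4,1,0]) (.word [1,2,1,3,4,3,5,7,3,2,1,4,3,7,8,6,5,4,2,3,7,1,2])) (.node .none (.word [8,3,1,2,1,4,3,5,4,7,8,2,3,7,4,5,6,4,1,2,1,7,3,8,7,8,2,3,4,0,1,2,3,7,3,4,0]))) (.node .none (.word [0,5,1,0,1,2,4,3,2,5,4,7,3,1,2,3,7,8,4,3,7,5,6,4,1]))) (.node (.node (.word [1,2,1,4,3,5,4,7,8,2,3,7,4,5,6,4,5,1,2,1]) (.word [0,2,3,7,8,1,2,3,7,5,1,0,3,1,2,1,4,3,5,4,7,8,2,3,7,4,5,6,4,5,1,2,1])) (.node (.node .none (.word [4,3,8,7,3,4,8,3,1,2,1,0,3,4,3,7,3,2,1,8,5,4,3,7,8,2,3,7,5,6,1,2])) (.word [0,1,0,2,6,7,3,2,8,4,3,7,8,3,4,2,3,7,4,1,2,4,3,5,4,7,8,7,3,4,2,3,7,5,6,4,1])))) (.node .none (.node (.node (.node .none (.word [5,1,2,1,4,3,5,4,7,8,2,3,7,4,5,6,4,1,2,1,0,2,1,3,2,3,7,8,4,3,7,0])) (.word [4,3,7,3,4,1,2,1,4,3,5,4,7,3,7,8,2,3,7,4,5,6,4,1,2]))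 .none))) (.node (.node .none (.node (.node (.node .none (.word [5,8,1,2,1,3,4,3,5,7,3,2,1,4,3,7,8,6,5,4,2,3,7,1,2])) .none) .none)) (.node (.node (.node (.word [1,2,3,4,5,7,2,3,7,8,4,3,7,5,6,5,2,1]) (.node .none (.word [1,2,1,6,5,4,7,8,3,7,2,3,4,5,3,4,3,1,2,1,2,3,7,3,8,7,3,4,2,3,7,6,2]))) .none) (.node .none (.node .none (.word [1,2,1,4,3,5,4,7,8,2,3,7,4,5,6,4,1,2,1,0,7,3,2,4,3,7,8,2,3,4,1,2,3,7,1,0]))))))) (.node (.node (.node .none (.node (.node (.node .none (.word [1,2,4,3,2,5,4,7,8,7,3,4,1,2,3,7,4,5,6,4,1])) .none) (.node (.node .none (.word [0,1,0,8,3,1,2,4,3,2,5,4,7,3,1,2,3,7,8,4,3,7,5,6,4,1])) .none))) (.node (.node (.node (.node .none (.node .none (.word [5,1,6,5,7,3,2,4,3,7,8,7,3,4,2,3,7,5,6,5,1,0,2,1,0,4,5,2,3,7,8,4,2,3,7,5,6,4,2]))) .none) (.node (.node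 .none (.word [3,1,2,1,4,3,5,4,7,3,7,8,2,3,4,1,2,3,7,5,6,4])) (.word [0,2,3,7,8,1,2,3,7,5,1,0,3,1,2,4,3,5,7,3,8,4,2,3,7,5,6,4,2,1]))) (.node (.node (.node (.node .none (.word [2,3,4,7,8,4,5,3,4,2,3,7,6,3,2,1,2,1,4,3,5,4,7,8,2,3,7,4,5,6,4,1,2,1])) (.node .none (.word [5,2,6,7,3,2,8,4,3,7,8,3,4,2,3,7,4,1,2,1,0,3,2,1,6,5,4,3,7,8,5,4,2,3,7,6,1]))) (.word [5,4,3,8,7,3,4,2,6,5,4,3,8,7,3,4,5,6,2])) .none))) (.node (.node (.node (.node (.node .none (.word [4,3,7,3,4,2,3,7,8,4,5,3,4,2,3,7,6,3,2])) (.word [0,2,3,4,3,2,1,0,5,2,1,0,3,2,6,5,4,3,7,8,2,3,4,1,2,3,7,5,6])) (.node .none (.word [2,6,7,3,2,8,4,3,7,8,3,4,2,3,7,4]))) (.node (.node (.node (.word [1,2,4,3,5,4,7,8,3,7,4,5,6,4,5,2,1]) (.node .none (.word [8,0,2,1,0,3,2,5,4,7,8,3,7,1,2,1,6,5,4,7,8,3,7,4,5,2,3,4,3,1,2,0,1,2,6,5,4,3,8,7,3,4,5,6,2])))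 .none) (.word [0,1,0,5,4,3,7,3,4,5,2,1,0,3,2,6,5,4,3,7,8,2,3,4,1,2,3,7,5,6]))) (.node (.node .none (.node .none (.node .none (.word [2,3,4,5,3,2,4,3,7,3,4,1,2,1,0,3,2,1,6,5,4,2,3,7,8,5,4,2,3,7,6,1])))) (.node (.node (.node .none (.node (.word [2,3,7,8,4,5,3,4,2,3,7,6,3,2,4,3,8,7,3,4]) (.word [2,3,4,5,7,8,4,5,3,4,2,3,7,6,3,2,1,2,4,5,7,3,4,5,3,7,8,2,3,7,6,4,2,1]))) .none) .none)))))

/-- A subtree. -/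
def sub27 : WTree :=
  (.node (.node (.node (.node (.node (.node (.node .none (.node (.word [0,1,0,2,3,4,5,3,2,1,2,4,3,5,7,3,8,4,2,3,7,5,6,4,2,0,1]) (.word [0,7,3,8,1,2,3,7,8,5,4,3,7,6,2,0,1,6,5,7,3,2,4,3,7,8,7,5,3,4,2,3,7,5,6,1]))) .none) .none) (.node (.node (.node .none (.node .none (.word [0,7,3,8,1,2,3,7,8,5,4,3,7,6,2,0,8,3,1,2,4,5,7,3,4,5,3,7,8,2,3,7,6,4,2,1]))) (.node .none (.word [8,3,5,4,3,7,3,4,5,1,2,4,3,2,5,4,7,3,1,2,3,7,8,4,3,7,5,6,4,1]))) (.node (.node .none (.word [5,4,3,7,3,4,5,8,3,1,2,4,3,2,5,4,7,3,1,2,3,7,8,4,3,7,5,6,4,1])) .none))) (.node (.node (.node .none (.node .none (.word [0,2,3,7,8,1,2,3,7,5,1,0,1,2,4,3,5,4,7,8,7,3,4,2,3,7,5,6,4,0,1]))) (.node .none (.node .none (.word [2,3,7,8,4,5,3,4,2,3,7,6,3,1,0,3,2,6,5,4,3,7,8,2,3,4,1,2,3,7,5,6]))))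 (.node .none (.node .none (.node (.word [1,2,4,3,5,4,7,8,7,3,4,2,3,7,5,6,4,0,1]) (.word [8,3,5,1,2,4,3,2,5,4,7,3,1,2,3,7,8,4,3,7,5,6,4,1])))))) (.node (.node (.node (.node .none (.node (.node .none (.word [4,3,7,3,4,1,2,1,3,4,3,5,7,3,2,1,4,3,7,8,6,5,4,2,3,7,1,2])) (.word [4,3,8,7,3,4,1,2,1,4,3,5,4,7,3,7,8,2,3,7,4,5,6,4,1,2]))) (.node .none (.word [2,3,4,5,3,2,1,2,4,3,5,4,7,8,7,3,4,2,3,7,5,6,4,0,1]))) (.node (.node .none (.word [8,1,2,1,0,3,2,7,3,4,5,6,8,1,2,3,7,8,4,3,7,4,3,2,1])) (.node .none (.node .none (.word [4,3,7,3,4,1,2,1,0,3,2,1,6,5,4,3,7,8,2,3,7,5,6,1]))))) (.node (.node (.node (.node .none (.word [2,3,7,8,4,5,3,4,2,3,7,6,3,2,1,2,1,0,3,2,1,6,5,4,3,7,8,2,3,7,5,6,5,1])) .none) (.word [2,3,6,7,3,8,4,2,3,7,3,2])) (.node (.node (.node (.node (.word [3,4,6,5,4,3,2,7,3,4,1,2,3,7,3,4,5,6,3,4])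 (.word [3,1,2,1,4,3,5,4,7,8,2,3,7,4,5,6,4,1,2,1,0,7,3,2,4,3,7,8,2,3,4,1,2,3,7,1,0])) .none) .none) (.node .none (.node (.node .none (.word [1,2,1,6,5,4,7,8,3,7,2,3,4,5,3,4,3,1,2,1,0,6,7,3,8,1,2,3,7,8,4,3,7,2,0])) .none)))))) (.node (.node (.node (.node (.node (.node .none (.word [1,6,5,4,7,3,2,4,3,7,8,7,3,4,1,2,3,7,4,5,6,1])) (.node (.node .none (.word [5,1,2,1,0,3,2,1,6,5,4,3,7,8,5,4,2,3,7,6,0,2,1,0,3,2,1,6,5,4,2,3,7,8,5,4,2,3,7,6,1])) .none)) (.node (.node (.node (.word [2,4,6,5,7,3,4,2,3,7,5,6,4,2]) (.word [8,3,0,4,3,7,2,3,4,1,0,1,6,5,4,7,3,2,4,3,7,8,7,3,4,1,2,3,7,4,5,6,1])) .none) (.word [0,2,1,0,4,5,2,3,7,8,4,3,7,5,6,4,2]))) (.node (.node (.node (.node (.word [0,2,3,7,8,1,2,3,7,0]) (.word [4,3,8,7,3,4,1,2,1,0,3,2,1,6,5,4,3,7,8,2,3,7,5,6,1])) .none) (.node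 (.node .none (.word [5,2,6,7,3,2,8,4,3,7,8,3,4,2,3,7,4,1,2,1,4,3,5,4,7,8,2,3,7,4,5,6,4,1,2,1])) .none)) (.node .none (.node (.node (.word [0,1,0,2,4,6,5,4,7,8,3,7,8,3,4,2,3,7,5,6,4]) (.word [2,3,4,5,3,2,4,3,8,7,3,4,1,2,1,0,3,2,1,6,5,4,3,7,8,5,4,2,3,7,6,0,1])) .none)))) (.node (.node .none (.word [1,4,3,2,6,5,4,8,3,7,4,5,6,2,3,4,1])) (.node (.node .none (.node .none (.word [4,3,7,3,4,2,1,0,3,2,6,5,4,3,7,8,2,3,4,1,2,3,7,5,6]))) (.node (.node (.word [1,2,4,3,5,4,7,8,3,7,4,5,6,4,2,1]) (.word [5,4,3,8,7,3,4,2,3,7,8,4,5,3,4,2,3,7,6,3,2])) (.word [0,5,1,2,1,0,4,5,3,7,8,4,2,3,7,5,6,4,2]))))) (.node (.node (.node (.word [0,2,3,6,7,3,2,3,4,1,2,3,7,2,1,0]) (.node .none (.word [2,3,4,5,3,2,1,2,1,0,4,6,5,4,3,7,8,4,2,3,7,5,4,1,2]))) (.node (.node (.node (.word [0,6,3,7,8,4,1,2,3,7,4,1,2,0])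 (.node .none (.word [4,3,7,3,4,1,6,5,7,3,2,4,3,7,8,7,3,4,2,3,7,5,6,5,1,0,2,1,3,2,3,7,8,4,3,7,0]))) (.node (.node .none (.word [3,2,6,7,3,2,8,4,3,7,8,3,4,2,3,7,4,1,2,4,5,7,3,4,5,3,7,8,2,3,7,6,4,2,1])) .none)) .none)) (.node (.node (.node .none (.word [5,0,7,3,2,4,3,7,8,2,3,4,1,2,3,7,0])) (.node (.node .none (.node .none (.word [0,2,1,0,7,5,4,3,7,8,2,3,7,6,4,3,1,2,1,0,3,4,3,7,3,2,1,8,5,4,3,7,8,2,3,7,5,6,1,2]))) .none)) (.node (.node (.node (.word [0,2,1,7,3,8,5,4,3,7,6,2,0]) (.node .none (.word [0,2,1,0,7,5,4,3,7,8,2,3,7,6,4,8,3,1,2,1,0,3,4,3,7,3,2,1,8,5,4,3,7,8,2,3,7,5,6,1,2]))) (.node (.node .none (.word [5,4,3,7,3,4,5,3,1,2,1,3,4,3,5,7,3,2,1,4,3,7,8,6,5,4,2,3,7,1,2])) (.word [2,3,4,3,2,1,6,5,7,3,2,4,3,7,8,7,5,3,4,2,3,7,5,6,1]))) (.node (.node (.node .none (.word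 [8,3,4,3,7,3,4,1,2,1,0,3,4,3,7,3,2,1,8,5,4,3,7,8,2,3,7,5,6,1,2])) .none) (.word [0,5,1,0,2,1,0,3,2,6,5,4,3,7,8,2,3,4,1,2,3,7,5,6])))))))

/-- A subtree. -/
def sub28 : WTree :=
  (.node (.node (.node (.node (.node (.node (.node .none (.node (.word [8,5,1,6,5,4,7,3,2,4,3,7,8,7,3,4,1,2,3,7,4,5,6,1]) (.word [0,2,3,7,8,1,2,3,7,5,1,0,8,3,1,2,1,4,3,5,4,7,3,7,8,2,3,4,1,2,3,7,5,6,4]))) (.word [1,2,4,3,5,4,7,8,3,7,4,5,6,4,2,0,1])) (.node (.node .none (.node .none (.word [0,2,1,0,7,5,4,3,7,8,2,3,7,6,4,3,1,2,1,4,3,5,4,7,3,7,8,2,3,4,1,2,3,7,5,6,4]))) .none)) .none) (.node (.node (.node .none (.node .none (.word [0,1,0,3,1,2,4,3,2,5,4,7,3,1,2,3,7,8,4,3,7,5,6,4,1]))) (.node (.word [0,2,1,3,2,3,7,8,4,3,7,1,0]) (.node (.node .none (.word [0,1,0,2,6,7,3,2,8,4,3,7,8,3,4,2,3,7,4,1,2,4,3,5,4,7,8,3,7,4,5,6,4,2,1]))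 .none))) (.node (.node (.node (.node .none (.word [0,2,3,7,8,1,2,3,7,5,1,0,1,2,1,0,3,2,1,6,5,4,2,3,7,8,5,4,2,3,7,6,1])) .none) (.node (.node .none (.word [0,4,3,7,3,4,1,0,1,2,1,3,4,3,5,7,3,2,1,4,3,7,8,6,5,4,2,3,7,1,2])) .none)) (.node (.node (.node .none (.word [4,3,8,7,3,4,1,2,1,0,3,2,1,6,5,4,2,3,7,8,5,4,2,3,7,6,1])) .none) .none)))) (.node (.node (.node (.node (.node .none (.word [2,3,4,5,3,2,1,2,4,3,6,7,3,4,5,4,3,7,8,2,3,7,3,4,2,1])) (.node .none (.word [3,1,2,1,0,3,2,1,6,5,4,2,3,7,8,5,4,2,3,7,6,1]))) (.node (.node .none (.node .none (.word [1,2,4,5,7,3,4,5,3,7,8,2,3,7,6,4,1,0,3,2,1,6,5,4,2,3,7,8,5,4,2,3,7,6,1]))) .none)) (.node (.node (.node .none (.node .none (.word [8,2,3,7,8,4,5,3,4,2,3,7,6,3,2,1,2,1,4,3,5,4,7,3,7,8,2,3,4,1,2,3,7,5,6,4]))) (.node (.node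 .none (.word [8,3,1,2,1,4,3,5,4,7,8,2,3,7,4,5,6,4,1,2,1,0,2,1,3,2,3,7,8,4,3,7,0])) .none)) .none)) (.node (.node (.node .none (.node (.word [4,3,7,3,4,1,2,3,4,5,7,3,2,8,7,3,4,3,7,8,2,3,7,5,4,3,2,1]) (.word [4,3,7,3,4,3,1,2,1,4,3,5,4,7,3,7,8,2,3,7,4,5,6,4,1,2]))) .none) (.node (.node (.node (.word [0,7,3,2,4,3,7,8,1,2,3,7,1,2,0]) (.node (.word [3,2,3,4,5,3,2,1,2,4,3,6,7,3,4,5,4,3,7,8,2,3,7,3,4,2,1]) (.word [4,3,8,7,3,4,1,2,3,4,5,8,6,5,4,3,2,1,7,3,2,8,4,3,7,8,5,4,3,7,6,2]))) (.node .none (.word [0,5,1,0,3,1,2,4,3,2,5,4,7,3,1,2,3,7,8,4,3,7,5,6,4,1]))) (.node (.node (.word [4,3,8,7,3,4,1,2,3,4,5,7,3,2,8,7,3,4,3,7,8,2,3,7,5,4,3,2,1]) (.word [8,1,6,5,7,3,2,4,3,7,8,7,5,3,4,2,3,7,5,6,0,1])) (.node (.node .none (.word [5,2,3,7,8,4,5,3,4,2,3,7,6,3,2,1,2,1,0,3,4,3,7,3,2,1,8,5,4,3,7,8,2,3,7,5,6,1,2]))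 .none)))))) (.node (.node (.node (.node .none (.node (.word [3,0,2,1,4,7,3,7,8,2,3,7,6,4,0]) (.node (.node .none (.word [5,4,3,8,7,3,4,1,2,1,0,3,2,1,6,5,4,3,7,8,5,4,2,3,7,6,1])) .none))) (.node (.node (.node .none (.node (.word [3,1,2,4,3,2,5,4,7,8,3,4,1,2,3,7,4,5,6,4,1]) (.word [4,3,7,3,4,2,3,7,8,4,5,3,4,2,3,7,6,4,3,2,1,6,5,7,3,2,4,3,7,8,7,5,3,4,2,3,7,5,6,1]))) (.node .none (.word [8,1,2,1,4,3,5,4,7,8,2,3,7,4,5,6,4,1,2,1,0,2,3,7,8,4,1,2,3,7,1,0]))) .none)) (.node (.node (.word [0,2,1,4,7,8,3,7,6,4,2,1,0]) (.node (.node .none (.word [3,1,2,3,4,5,8,6,5,4,3,2,1,2,4,6,5,4,7,8,3,7,8,3,4,2,3,7,5,6,4])) (.node (.node .none (.word [4,3,8,7,3,4,8,1,2,1,3,4,3,5,7,3,2,1,4,3,7,8,6,5,4,2,3,7,1,2])) .none))) (.node (.word [6,5,8,3,4,2,3,7,3,4,5,6,2]) (.node .none (.node (.node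 .none (.word [5,4,3,7,3,4,5,1,2,1,3,4,3,5,7,3,2,1,4,3,7,8,6,5,4,2,3,7,1,2])) .none))))) (.node (.node (.node (.node (.node .none (.node (.word [8,1,2,4,5,7,3,4,5,3,7,8,2,3,7,6,4,2,1]) (.word [0,1,0,2,6,7,3,2,8,4,3,7,8,3,4,2,3,7,4,1,2,1,0,3,2,1,6,5,4,3,7,8,2,3,7,5,6,1]))) .none) (.node (.node (.node .none (.word [3,5,4,3,7,8,3,4,5,1,2,1,0,3,4,3,7,3,2,1,8,5,4,3,7,8,2,3,7,5,6,1,2])) (.word [1,6,5,7,3,2,4,3,7,8,7,5,3,4,2,3,7,5,6,0,1])) .none)) (.node (.node (.node .none (.word [5,4,3,7,8,3,4,5,1,2,4,3,2,5,4,7,3,1,2,3,7,8,4,3,7,5,6,4,1])) (.word [5,3,1,6,5,4,7,3,2,4,3,7,8,7,3,4,1,2,3,7,4,5,6,1])) (.node (.node (.node .none (.word [5,4,3,8,7,3,4,1,2,1,0,3,4,3,7,3,2,1,8,5,4,3,7,8,2,3,7,5,6,1,2])) .none) (.node (.node .none (.word [5,4,3,7,8,3,4,5,0,4,3,7,3,4,1,0,1,2,1,0,3,2,1,6,5,4,3,7,8,5,4,2,3,7,6,0,1]))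 .none)))) (.node (.node (.node .none (.node (.node .none (.word [5,4,3,8,7,3,4,1,2,1,0,3,2,1,6,5,4,2,3,7,8,5,4,2,3,7,6,1])) .none)) (.node (.node (.node .none (.word [5,4,3,7,3,4,5,3,1,2,1,0,3,4,3,7,3,2,1,8,5,4,3,7,8,2,3,7,5,6,1,2])) .none) (.node .none (.word [5,2,3,4,3,2,1,6,5,7,3,2,4,3,7,8,7,5,3,4,2,3,7,5,6,1])))) (.node .none (.node .none (.node (.node .none (.word [4,3,7,3,4,2,3,7,8,4,5,3,4,2,3,7,6,3,2,1,6,5,7,3,2,4,3,7,8,7,5,3,4,2,3,7,5,6,1])) .none)))))))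

/-- A subtree. -/
def sub29 : WTree :=
  (.node (.node sub25 sub26) (.node sub27 sub28))

/-- A subtree. -/
def sub30 : WTree :=
  (.node (.node (.node (.node (.node (.node (.node (.word [2,3,4,5,3,2]) (.node (.word [5,4,3,7,3,4,5,3,1,2,4,3,6,7,3,4,5,4,3,7,8,2,3,7,3,4,2,1]) (.word [4,3,8,7,3,4,3,1,2,1,3,4,3,5,7,3,2,1,4,3,7,8,6,5,4,2,3,7,1,2]))) (.node (.node .none (.word [8,3,2,3,7,8,4,5,3,4,2,3,7,6,3,2,1,6,5,7,3,2,4,3,7,8,7,3,4,2,3,7,5,6,1])) .none)) (.node (.node (.node .none (.word [2,3,4,5,3,2,4,3,7,3,4,1,2,1,0,3,2,1,6,5,4,3,7,8,2,3,7,5,6,1])) .none) (.node (.node .none (.word [5,2,6,7,3,2,8,4,3,7,8,3,4,2,3,7,4,1,2,4,5,7,3,4,5,3,7,8,2,3,7,6,4,2,1])) .none))) (.node (.node (.word [1,2,1,0,4,6,5,4,3,7,8,4,2,3,7,4,5,4,1,2]) (.node (.node .none (.word [8,3,5,4,3,7,3,4,5,1,2,1,0,3,4,3,7,3,2,1,8,5,4,3,7,8,2,3,7,5,6,1,2]))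 (.word [4,3,8,7,3,4,3,1,6,5,4,7,3,2,4,3,7,8,7,3,4,1,2,3,7,4,5,6,1]))) (.word [0,7,3,2,4,3,7,8,2,3,4,1,2,3,7,1,0]))) (.node (.node (.node (.node (.word [7,3,8,7,5,2,3,0,1,2,0]) (.word [2,4,6,5,4,7,8,3,7,8,3,4,2,3,7,5,6,4])) (.word [2,3,7,3,8,7,5,3,4,2,3,7,6,2])) (.node (.node (.node .none (.word [1,2,1,4,3,5,4,7,8,2,3,7,4,5,6,4,3,4,3,5,7,3,2,1,4,3,7,8,5,4,2,3,7,1,2])) .none) .none)) (.node (.node (.node (.node .none (.word [0,1,2,3,4,3,2,1,0,2,1,0,3,2,6,5,4,3,7,8,2,3,4,1,2,3,7,5,6])) (.word [0,2,3,7,8,1,2,3,7,5,1,0,1,2,4,3,5,7,3,8,4,2,3,7,5,6,4,2,0,1])) (.node .none (.word [2,3,4,5,3,2,0,4,3,7,3,4,1,0,1,2,1,0,3,2,1,6,5,4,3,7,8,5,4,2,3,7,6,0,1]))) (.node (.word [5,1,2,4,3,6,7,3,4,5,4,3,7,8,2,3,7,3,4,2,1]) (.node (.node .none (.word [4,3,7,8,3,4,5,1,2,1,3,4,3,5,7,3,2,1,4,3,7,8,6,5,4,2,3,7,1,2]))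 .none))))) (.node (.node (.node (.node (.node (.node .none (.word [4,3,8,7,3,4,1,2,1,0,3,2,1,6,5,4,3,7,8,2,3,7,5,6,0,1])) .none) (.node (.node .none (.word [2,6,7,3,2,8,4,3,7,8,3,4,2,3,7,4,1,2,1,4,3,5,4,7,3,7,8,2,3,7,4,5,6,4,1,2])) .none)) (.node (.node .none (.word [4,3,7,3,4,8,3,1,2,4,5,7,3,4,5,3,7,8,2,3,7,6,4,2,1])) (.node (.node .none (.word [4,3,8,7,3,4,1,2,1,3,4,3,5,7,3,2,1,4,3,7,8,6,5,4,2,3,7,1,2])) .none))) (.node (.node (.node .none (.word [0,5,1,0,4,3,7,3,4,2,1,0,3,2,6,5,4,3,7,8,2,3,4,1,2,3,7,5,6])) (.node .none (.word [4,3,7,3,4,8,2,1,0,3,2,6,5,4,3,7,8,2,3,4,1,2,3,7,5,6]))) .none)) (.node (.node .none (.node (.node (.word [2,4,6,5,4,8,7,3,4,2,3,7,5,6,4]) (.node .none (.word [5,2,3,7,8,4,5,3,4,2,3,7,6,3,2,1,2,1,4,3,5,4,7,3,7,8,2,3,4,1,2,3,7,5,6,4])))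 (.node .none (.word [1,2,1,4,3,5,4,7,8,2,3,7,4,5,6,4,1,2,1,0,2,3,7,8,4,1,2,3,7,1,0])))) (.node .none (.node .none (.node (.node .none (.word [0,4,3,7,3,4,1,0,1,2,3,4,5,8,6,5,4,3,2,1,2,3,7,8,4,5,3,4,2,3,7,6,3,2])) (.word [2,3,4,7,8,4,5,3,4,2,3,7,6,3,2,1,2,4,3,5,4,7,8,3,7,4,5,6,4,2,1]))))))) (.node (.node (.node (.node (.node (.node (.node (.word [0,5,1,0]) (.word [0,7,3,8,1,2,3,7,8,5,4,3,7,6,2,0,1,2,4,3,5,7,3,8,4,2,3,7,5,6,4,2,1])) .none) (.node (.node .none (.word [8,0,4,3,7,2,3,4,1,0,1,6,5,4,7,3,2,4,3,7,8,7,3,4,1,2,3,7,4,5,6,1])) .none)) (.node (.node (.node .none (.word [0,4,3,7,2,3,4,1,0,1,6,5,4,7,3,2,4,3,7,8,7,3,4,1,2,3,7,4,5,6,1])) (.word [5,4,3,7,8,3,4,5,2,3,6,7,3,8,4,2,3,7,3,2])) .none)) (.node (.node (.node .none (.node .none (.word [5,4,3,7,8,3,4,5,4,3,7,3,4,1,2,1,0,3,2,1,6,5,4,2,3,7,8,5,4,2,3,7,6,1])))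 .none) (.node (.node .none (.word [3,1,2,1,4,3,5,4,7,8,2,3,7,4,5,6,3,5,4,7,3,7,8,2,3,7,4,5,6,4,1,2])) .none))) (.node (.node (.node .none (.word [0,2,1,0,4,5,4,3,7,8,4,2,3,7,5,6,4,2])) (.node (.node .none (.word [3,1,2,3,4,5,8,6,5,4,3,2,1,0,2,1,0,4,5,4,3,7,8,4,2,3,7,5,6,4,2])) .none)) (.node (.node (.node (.word [3,1,2,4,3,5,4,7,8,3,7,4,5,6,4,5,2,0,1]) (.word [8,1,6,5,4,7,3,2,4,3,7,8,7,3,4,1,2,3,7,4,5,6,1])) (.word [3,0,2,1,0,4,5,2,3,7,8,4,3,7,5,6,4,2])) (.node .none (.node (.node .none (.word [8,3,2,3,7,8,4,5,3,4,2,3,7,6,3,2,1,2,4,3,5,4,7,8,3,7,4,5,6,4,2,1])) .none))))) (.node (.node (.node (.node (.node (.node .none (.word [0,2,1,6,7,3,2,4,3,7,3,1,2,0,1,2,6,5,4,7,8,3,7,6,3,4,5,3,4,3,2,1,4,3,8,7,3,4])) .none) .none) (.node (.node (.node .none (.word [4,3,8,7,3,4,1,2,1,0,3,2,1,6,5,4,3,7,8,5,4,2,3,7,6,0,1]))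 .none) (.word [0,2,1,0,4,5,2,3,7,8,4,2,3,7,5,6,4,2]))) (.node (.node (.node (.word [6,5,8,3,4,2,3,7,3,4,5,6,5,2]) (.word [0,5,1,0,8,2,1,0,3,2,6,5,4,3,7,8,2,3,4,1,2,3,7,5,6])) (.node .none (.word [2,3,4,5,3,2,4,3,7,3,4,2,1,0,3,2,6,5,4,3,7,8,2,3,4,1,2,3,7,5,6]))) .none)) (.node (.node (.node .none (.word [0,4,3,7,3,4,1,2,3,7,8,4,1,2,3,7,0])) (.node .none (.word [1,2,1,0,3,2,1,6,5,4,3,7,8,2,3,7,5,6,0,1]))) (.node (.node .none (.node .none (.word [1,2,1,0,3,2,1,6,5,4,2,3,7,8,5,4,2,3,7,6,1]))) (.word [4,3,8,7,3,4,0,2,1,3,2,3,7,8,4,3,7,0]))))))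

/-- A subtree. -/
def sub31 : WTree :=
  (.node (.node (.node (.node (.node (.node (.node (.node .none (.word [5,4,3,8,7,3,4,1,2,1,0,3,2,1,6,5,4,3,7,8,2,3,7,5,6,1])) (.node .none (.word [5,4,3,8,7,3,4,1,2,1,3,4,3,5,7,3,2,1,4,3,7,8,6,5,4,2,3,7,1,2]))) .none) .none) (.node .none (.node (.node (.node .none (.word [2,3,4,7,8,4,5,3,4,2,3,7,6,3,1,0,3,2,6,5,4,3,7,8,2,3,4,1,2,3,7,5,6])) .none) .none))) (.node (.node (.node (.node .none (.node (.word [3,2,4,6,5,4,7,8,3,7,8,4,2,3,7,5,6,4]) (.word [4,3,7,3,4,1,6,5,7,3,2,4,3,7,8,7,3,4,2,3,7,5,6,5,1,0,2,3,7,8,4,1,2,3,7,1,0]))) .none) (.node (.node .none (.node .none (.word [5,2,3,7,8,4,5,3,4,2,3,7,6,3,2,1,2,4,5,7,3,4,5,3,7,8,2,3,7,6,4,2,1]))) .none)) (.node (.node (.node .none (.node (.word [4,3,7,8,3,4,5,1,2,4,3,2,5,4,7,8,3,4,1,2,3,7,4,5,6,4,1])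 (.word [2,3,7,8,4,5,3,4,2,3,7,6,3,2,1,2,4,5,7,3,4,5,3,7,8,2,3,7,6,4,2,1]))) .none) (.node (.word [2,3,7,3,8,7,3,4,2,3,7,6,2]) (.word [2,3,4,5,3,2,1,2,4,3,5,7,3,8,4,2,3,7,5,6,4,2,0,1]))))) (.node (.node (.node (.node (.node .none (.node .none (.word [1,2,1,4,3,5,4,7,8,2,3,7,4,5,6,4,1,2,1,7,3,8,7,8,2,3,4,0,1,2,3,7,3,4,0]))) .none) (.node .none (.node .none (.word [0,7,3,8,1,2,3,7,8,5,4,3,7,6,2,0,1,2,4,3,5,4,7,8,3,7,4,5,6,4,2,1])))) (.node (.node (.node (.node .none (.word [2,6,7,3,2,8,4,3,7,8,3,4,2,3,7,4,1,6,5,7,3,2,4,3,7,8,7,5,3,4,2,3,7,5,6,1])) (.node .none (.word [8,5,4,3,7,3,4,5,1,2,1,3,4,3,5,7,3,2,1,4,3,7,8,6,5,4,2,3,7,1,2]))) .none) (.node (.node (.node .none (.word [3,1,2,1,4,3,5,4,7,8,2,3,7,4,5,6,4,1,2,1,0,2,1,3,2,3,7,8,4,3,7,0])) (.node .none (.word [4,3,8,7,3,4,2,3,7,8,4,5,3,4,2,3,7,6,3,2,1,2,4,3,5,7,3,8,4,2,3,7,5,6,4,2,1])))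 .none))) (.node (.node .none (.node .none (.word [1,2,1,4,3,5,4,7,3,7,8,2,3,7,4,5,6,4,1,2]))) (.node (.node (.node (.node .none (.word [8,1,2,1,4,3,5,4,7,8,2,3,7,4,5,6,4,1,2,1,2,3,7,8,4,5,3,4,2,3,7,6,3,2])) .none) (.node (.node .none (.word [5,4,3,7,8,3,4,5,1,2,1,3,4,3,5,7,3,2,1,4,3,7,8,6,5,4,2,3,7,1,2])) .none)) (.node (.node (.node .none (.word [8,3,1,2,1,4,3,5,4,7,8,2,3,7,4,5,6,4,1,2,1,2,3,7,8,4,5,3,4,2,3,7,6,3,2])) .none) (.node (.node (.word [1,2,4,3,2,5,4,7,8,3,4,1,2,3,7,4,5,6,4,1]) (.word [8,3,5,4,3,7,3,4,5,1,2,1,3,4,3,5,7,3,2,1,4,3,7,8,6,5,4,2,3,7,1,2])) .none)))))) (.node (.node (.node (.node (.node .none (.word [0,1,0,1,2,3,4,5,7,3,2,8,7,3,4,3,7,8,2,3,7,5,4,3,2,1])) (.node .none (.node (.node .none (.word [0,7,3,8,1,2,3,7,8,5,4,3,7,6,2,0,1,6,5,7,3,2,4,3,7,8,7,3,4,2,3,7,5,6,1]))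 .none))) (.node (.node (.node .none (.node .none (.word [0,7,3,8,1,2,3,7,8,5,4,3,7,6,2,0,8,1,2,4,3,2,5,4,7,3,1,2,3,7,8,4,3,7,5,6,4,1]))) (.node (.word [1,2,3,4,5,7,2,3,7,8,4,3,7,5,6,2,0,1]) (.word [2,3,4,3,2,8,3,1,6,5,4,7,3,2,4,3,7,8,7,3,4,1,2,3,7,4,5,6,1]))) (.node (.node (.word [1,6,5,7,3,2,4,3,7,8,7,3,4,2,3,7,5,6,5,0,1]) (.node .none (.word [0,2,3,7,8,1,2,3,7,5,1,0,2,3,4,3,2,1,6,5,7,3,2,4,3,7,8,7,5,3,4,2,3,7,5,6,1]))) .none))) (.node (.node (.node (.node .none (.node .none (.word [5,2,6,7,3,2,8,4,3,7,8,3,4,2,3,7,4,1,2,1,0,3,2,1,6,5,4,3,7,8,2,3,7,5,6,0,1]))) .none) (.node .none (.word [8,2,3,4,3,2,1,2,1,0,3,2,7,3,4,5,6,8,1,2,3,7,8,4,3,7,4,3,2,1]))) (.node (.node .none (.node .none (.word [2,3,4,3,1,0,3,2,6,5,4,3,7,8,2,3,4,1,2,3,7,5,6]))) (.node .none (.node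 (.word [2,3,4,5,3,2,3,1,2,1,0,4,6,5,4,3,7,8,4,2,3,7,5,4,1,2]) (.word [4,3,7,3,4,3,1,2,1,0,3,2,1,6,5,4,2,3,7,8,5,4,2,3,7,6,1])))))) (.node (.node (.node (.node (.node (.word [4,3,7,3,4]) (.node .none (.word [4,3,8,7,3,4,8,3,1,2,1,3,4,3,5,7,3,2,1,4,3,7,8,6,5,4,2,3,7,1,2]))) .none) (.node (.node (.word [2,3,4,3,2,0,5,1,0,1,2,3,4,5,7,3,2,8,7,3,4,3,7,8,2,3,7,5,4,3,2,1]) (.word [8,3,1,2,4,5,7,3,4,5,3,7,8,2,3,7,6,4,2,0,1])) .none)) (.node (.node (.node (.node .none (.word [5,4,3,7,3,4,5,3,1,2,1,0,3,2,1,6,5,4,2,3,7,8,5,4,2,3,7,6,1])) (.node .none (.word [4,3,8,7,3,4,1,6,5,7,3,2,4,3,7,8,7,3,4,2,3,7,5,6,5,1,0,2,3,7,8,4,1,2,3,7,0]))) .none) .none)) (.node (.node .none (.node .none (.node (.node .none (.word [3,1,6,5,7,3,2,4,3,7,8,7,3,4,2,3,7,5,6,5,1,0,2,1,0,4,5,4,3,7,8,4,2,3,7,5,6,4,2]))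 .none))) (.node (.word [1,4,3,2,6,5,4,3,7,4,5,6,2,3,4,0,1]) (.node (.node (.node .none (.word [8,2,3,7,8,4,5,3,4,2,3,7,6,3,2,1,2,1,0,3,2,1,6,5,4,3,7,8,2,3,7,5,6,1])) .none) (.node (.node .none (.word [4,3,8,7,3,4,1,2,3,4,5,8,6,5,4,3,2,1,2,3,7,8,4,5,3,4,2,3,7,6,3,2])) .none)))))))

/-- A subtree. -/
def sub32 : WTree :=
  (.node (.node (.node (.node (.node (.node (.node .none (.word [0,2,3,7,8,1,2,3,7,5,1,0,1,2,4,3,5,7,3,8,4,2,3,7,5,6,4,2,1])) (.node .none (.word [5,4,3,7,8,3,4,1,2,4,3,2,5,4,7,3,1,2,3,7,8,4,3,7,5,6,4,1]))) (.node (.node (.node .none (.word [5,4,3,8,7,3,4,1,2,1,0,3,2,1,6,5,4,3,7,8,2,3,7,5,6,0,1])) .none) .none)) (.node .none (.node .none (.node (.node .none (.word [8,3,2,3,7,8,4,5,3,4,2,3,7,6,3,2,1,2,1,0,3,2,1,6,5,4,3,7,8,2,3,7,5,6,0,1])) .none))))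 (.node (.node (.node (.node .none (.word [3,1,2,4,5,7,3,4,5,3,7,8,2,3,7,6,4,2,1])) (.word [5,4,6,5,7,8,3,7,8,4,2,3,7,4,5,6,4,2])) (.node (.node (.node (.word [4,3,7,3,4,1,4,3,2,6,5,4,8,3,7,4,5,6,1,2,3,4,0,1]) (.word [0,2,3,7,8,1,2,3,7,5,1,0,1,2,1,4,3,5,4,7,3,7,8,2,3,4,1,2,3,7,5,6,4])) (.word [1,2,1,6,5,4,7,8,3,7,2,3,4,5,3,4,3,1,2,6,5,7,3,2,4,3,7,8,7,3,4,2,3,7,5,6,5,1])) .none)) (.node (.node (.node (.word [0,2,1,4,7,8,3,7,6,4,2,0]) (.node (.word [1,2,1,4,3,5,4,7,8,2,3,7,4,5,6,3,5,4,7,3,7,8,2,3,7,4,5,6,4,1,2]) (.word [0,1,0,2,3,7,8,4,5,3,4,2,3,7,6,3,2,1,2,4,3,5,4,7,8,7,3,4,2,3,7,5,6,4,1]))) .none) (.node .none (.node (.node (.word [0,5,1,0,2,3,7,3,8,7,3,4,2,3,7,6,2]) (.word [4,3,8,7,3,4,0,1,0,1,2,1,3,4,3,5,7,3,2,1,4,3,7,8,6,5,4,2,3,7,1,2])) .none))))) (.node (.node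 (.node (.node .none (.node .none (.word [5,1,2,4,3,2,5,4,7,3,1,2,3,7,8,4,3,7,5,6,4,1]))) (.node .none (.node .none (.word [4,3,8,7,3,4,1,2,3,4,5,8,6,5,4,3,2,1,0,7,3,8,1,2,3,7,8,5,4,3,7,6,2,0])))) (.node (.node (.node .none (.node .none (.word [3,2,3,7,8,4,5,3,4,2,3,7,6,3,2,1,2,1,4,3,5,4,7,3,7,8,2,3,4,1,2,3,7,5,6,4]))) (.word [3,1,2,1,0,3,2,7,3,4,5,6,8,1,2,3,7,8,4,3,7,4,3,2,1])) (.node (.word [0,5,1,0,1,2,3,4,5,7,3,2,8,7,3,4,3,7,8,2,3,7,5,4,3,2,1]) (.node (.node .none (.word [8,3,2,6,7,3,2,8,4,3,7,8,3,4,2,3,7,4,1,2,4,5,7,3,4,5,3,7,8,2,3,7,6,4,2,1])) .none)))) .none)) (.node (.node (.node (.node (.node (.node .none (.node .none (.word [0,7,3,8,1,2,3,7,8,5,4,3,7,6,2,0,5,1,4,3,2,6,5,4,7,8,3,7,4,5,6,2,3,4,1]))) .none) (.node (.node (.node .none (.word [0,7,3,8,1,2,3,7,8,5,4,3,7,6,2,0,2,1,0,3,2,6,5,4,3,7,8,2,3,4,1,2,3,7,5,6]))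 .none) (.node (.node .none (.word [5,1,2,1,0,3,2,1,6,5,4,3,7,8,5,4,2,3,7,6,0,2,1,0,3,2,1,6,5,4,3,7,8,5,4,2,3,7,6,1])) .none))) (.node .none (.node (.node (.node .none (.word [3,2,6,7,3,2,8,4,3,7,8,3,4,2,3,7,4,1,2,4,3,5,4,7,8,3,7,4,5,6,4,2,1])) .none) .none))) (.node (.node (.node (.node .none (.node .none (.word [0,5,1,0,2,3,7,8,4,5,3,4,2,3,7,6,3,2,1,2,4,3,5,7,3,8,4,2,3,7,5,6,4,2,1]))) (.word [2,3,6,5,4,3,2,7,8,3,7,2,3,4,5,6,3,2])) (.node .none (.node (.node (.word [1,2,1,4,3,5,4,7,8,2,3,7,4,5,6,3,5,4,7,8,2,3,7,4,5,6,4,1,2,1]) (.word [4,3,7,3,4,8,3,1,2,1,3,4,3,5,7,3,2,1,4,3,7,8,6,5,4,2,3,7,1,2])) .none))) (.node (.node .none (.node .none (.word [5,4,3,7,3,4,5,3,1,2,4,3,2,5,4,7,3,1,2,3,7,8,4,3,7,5,6,4,1]))) (.node .none (.word [3,0,2,1,0,4,5,2,3,7,8,4,2,3,7,5,6,4,2])))))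 (.node (.node (.node (.node .none (.node (.node .none (.word [8,3,5,4,3,7,8,3,4,5,1,2,1,0,3,4,3,7,3,2,1,8,5,4,3,7,8,2,3,7,5,6,1,2])) .none)) (.node (.node (.node .none (.word [8,1,2,3,4,5,8,6,5,4,3,2,1,7,3,2,8,4,3,7,8,5,4,3,7,6,2])) .none) .none)) (.word [0,2,1,0,7,8,5,4,2,3,7,6,4,2])) (.node (.node (.node (.node .none (.word [3,2,3,4,5,3,2,1,2,4,3,5,7,3,8,4,2,3,7,5,6,4,2,0,1])) .none) (.node (.node .none (.node .none (.word [0,7,3,8,1,2,3,7,8,5,4,3,7,6,2,0,1,2,1,0,3,4,3,7,3,2,1,8,5,4,3,7,8,2,3,7,5,6,1,2]))) (.node (.node .none (.word [0,4,3,7,3,4,1,0,8,1,2,1,3,4,3,5,7,3,2,1,4,3,7,8,6,5,4,2,3,7,1,2])) .none))) (.node (.node (.node (.node (.word [2,3,4,5,6,5,4,3,2,7,8,3,7,2,3,4,5,6,3,2]) (.word [3,4,3,7,3,4,1,2,1,0,3,4,3,7,3,2,1,8,5,4,3,7,8,2,3,7,5,6,1,2])) .none)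 (.node (.node (.word [8,7,3,2,8,4,3,7,8,5,4,3,7,6,2]) (.word [2,6,7,3,2,8,4,3,7,8,3,4,2,3,7,4,1,2,1,0,3,2,1,6,5,4,3,7,8,5,4,2,3,7,6,0,1])) (.word [1,2,4,5,7,3,4,5,3,7,8,2,3,7,6,4,2,1,0,2,1,3,2,3,7,8,4,3,7,0]))) (.node (.word [2,3,6,5,4,3,2,7,8,3,7,2,3,4,5,6,5,3,2]) (.node (.node .none (.word [0,1,0,1,2,1,4,3,5,4,7,8,2,3,7,4,5,6,4,1,2,1,0,2,1,3,2,3,7,8,4,3,7,0])) .none)))))))

/-- A subtree. -/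
def sub33 : WTree :=
  (.node (.node (.node (.node (.node (.word []) (.node (.word [1,4,3,2,6,5,4,3,7,4,5,6,2,3,4,1]) (.node .none (.word [0,2,3,7,8,1,2,3,7,5,1,0,3,1,2,1,4,3,5,4,7,8,2,3,7,4,5,6,4,1,2,1])))) .none) (.node (.node (.node (.node (.node .none (.word [5,4,3,7,8,3,4,5,0,2,3,4,3,2,1,0,2,1,0,3,2,6,5,4,3,7,8,2,3,4,1,2,3,7,5,6])) .none) (.word [0,6,5,7,3,2,4,3,7,8,1,2,3,7,4,5,6,3,2,0])) (.node (.word [1,2,1,0,4,6,5,4,3,7,8,4,2,3,7,5,4,1,2]) (.word [0,2,3,7,8,1,2,3,7,5,1,0,1,2,1,0,3,2,1,6,5,4,3,7,8,2,3,7,5,6,5,1]))) (.node (.node .none (.word [2,3,4,5,3,2,1,4,3,2,6,5,4,7,8,3,7,4,5,6,2,3,4,1])) .none))) (.node (.node (.node (.node .none (.node (.node .none (.word [5,4,3,8,7,3,4,1,2,1,0,3,2,1,6,5,4,3,7,8,5,4,2,3,7,6,0,1])) .none)) (.node (.node .none (.word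 [0,2,3,7,8,1,2,3,7,5,1,0,1,2,1,4,3,5,4,7,3,7,8,2,3,7,4,5,6,4,5,1,2])) .none)) (.node (.node .none (.node (.node .none (.word [1,2,1,4,3,5,4,7,8,2,3,7,4,5,6,4,1,2,1,0,2,1,3,2,3,7,8,4,3,7,0])) .none)) .none)) (.node (.node (.node (.node (.node .none (.word [0,5,1,0,1,2,1,0,3,2,1,6,5,4,3,7,8,5,4,2,3,7,6,0,1,6,5,8,3,4,2,3,7,3,4,5,6,2])) .none) (.node (.node .none (.word [5,0,2,3,7,4,2,3,7,8,5,4,3,7,6,1,2,0,1,2,1,3,4,3,5,7,3,2,1,4,3,7,8,6,5,4,2,3,7,1,2])) .none)) (.node (.node (.node .none (.word [5,2,6,7,3,2,8,4,3,7,8,3,4,2,3,7,4,2,1,0,3,2,6,5,4,3,7,8,2,3,4,1,2,3,7,5,6])) .none) (.node (.node .none (.word [1,6,5,7,3,2,4,3,7,8,7,3,4,2,3,7,5,6,5,1,0,2,3,7,8,4,1,2,3,7,1,0])) .none))) (.node (.node (.node (.word [0,2,1,7,3,2,8,7,3,4,1,2,3,7,0]) (.node .none (.word [4,3,8,7,3,4,1,6,5,7,3,2,4,3,7,8,7,3,4,2,3,7,5,6,5,1,0,2,3,7,8,4,1,2,3,7,1,0])))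 (.node (.word [3,0,2,1,0,4,5,4,3,7,8,4,2,3,7,5,6,4,2]) (.word [5,4,3,7,3,4,5,3,1,2,1,4,3,5,4,7,8,2,3,7,4,5,6,4,1,2,1]))) .none)))) (.node (.node (.node (.node (.node (.node (.node .none (.word [0,4,3,7,2,3,4,1,0,3,1,6,5,4,7,3,2,4,3,7,8,7,3,4,1,2,3,7,4,5,6,1])) (.node .none (.word [0,1,0,2,3,7,8,4,5,3,4,2,3,7,6,3,2,1,4,3,2,6,5,4,7,8,3,7,4,5,6,2,3,4,1]))) (.node (.word [8,3,1,2,1,0,3,2,7,3,4,5,6,8,1,2,3,7,8,4,3,7,4,3,2,1]) (.word [4,3,8,7,3,4,0,1,0,2,1,0,3,2,6,5,4,3,7,8,2,3,4,1,2,3,7,5,6]))) (.node (.node (.node .none (.word [0,1,0,1,2,1,3,4,3,5,7,3,2,1,4,3,7,8,6,5,4,2,3,7,1,2])) .none) .none)) (.node (.node .none (.node (.node .none (.word [2,3,4,5,3,2,4,3,8,7,3,4,1,2,1,0,3,2,1,6,5,4,3,7,8,5,4,2,3,7,6,1])) .none)) .none)) (.node (.node (.node (.node (.node (.word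 [0,2,3,6,7,3,8,4,2,3,7,3,2,1,0]) (.word [2,3,4,5,3,2,4,3,8,7,3,4,1,2,1,0,3,2,1,6,5,4,2,3,7,8,5,4,2,3,7,6,1])) .none) .none) (.node .none (.word [4,3,7,3,4,1,2,1,0,3,2,1,6,5,4,3,7,8,2,3,7,5,6,5,1]))) (.node (.node (.node .none (.word [8,5,2,1,0,3,2,6,5,4,3,7,8,2,3,4,1,2,3,7,5,6])) (.node .none (.word [4,3,8,7,3,4,3,1,2,1,4,3,5,4,7,3,7,8,2,3,7,4,5,6,4,1,2]))) .none))) (.node (.node (.node (.node (.node .none (.word [8,3,1,2,4,3,5,7,3,8,4,2,3,7,5,6,4,2,1])) (.node .none (.word [2,3,4,3,2,1,6,5,7,3,4,8,7,3,4,2,3,7,8,5,4,3,7,5,6,1]))) (.node (.node (.node .none (.word [4,3,7,3,4,8,1,2,1,0,3,4,3,7,3,2,1,8,5,4,3,7,8,2,3,7,5,6,1,2])) .none) .none)) (.node (.node (.node (.word [0,2,1,7,3,2,8,7,3,4,1,2,3,7,1,0]) (.node .none (.word [0,1,0,2,3,7,8,4,5,3,4,2,3,7,6,3,2,1,2,1,3,4,3,5,7,3,2,1,4,3,7,8,6,5,4,2,3,7,1,2])))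 (.node (.node .none (.word [8,3,0,1,2,1,6,7,3,2,4,3,7,3,1,2,0,1,2,6,5,4,7,8,3,7,6,3,4,5,3,4,3,2,1,4,3,8,7,3,4])) .none)) (.node .none (.word [1,2,1,0,3,2,1,6,5,4,3,7,8,2,3,7,5,6,5,1])))) (.node (.node (.node (.node .none (.word [8,1,2,4,5,7,3,4,5,3,7,8,2,3,7,6,4,2,0,1])) .none) (.word [1,2,4,3,6,7,3,4,5,4,3,7,8,2,3,7,3,4,2,1])) .none))))

/-- A subtree. -/
def sub34 : WTree :=
  (.node (.node sub30 sub31) (.node sub32 sub33))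

/-- A subtree. -/
def sub35 : WTree :=
  (.node (.node (.node (.node (.node (.node (.node (.node .none (.word [2,3,7,8,4,5,3,4,2,3,7,6,3,2,1,6,5,7,3,2,4,3,7,8,7,3,4,2,3,7,5,6,1])) .none) .none) .none) (.node (.node (.node .none (.node (.word [3,1,2,4,5,7,3,4,5,3,7,8,2,3,7,6,4,2,0,1]) (.word [1,6,5,7,3,2,4,3,7,8,7,3,4,2,3,7,5,6,5,1,0,7,3,2,4,3,7,8,2,3,4,1,2,3,7,0]))) .none) (.node (.node .none (.node .none (.word [0,1,0,2,3,7,8,4,5,3,4,2,3,7,6,3,2,1,2,1,4,3,5,4,7,3,7,8,2,3,4,1,2,3,7,5,6,4]))) .none))) (.node (.node (.node (.word [0,2,1,4,7,8,3,7,6,3,4,2,1,0]) (.node (.node .none (.word [8,0,4,3,7,2,3,4,1,0,2,1,0,3,2,6,5,4,3,7,8,2,3,4,1,2,3,7,5,6])) .none)) .none) (.node (.node .none (.node (.word [1,2,1,4,3,5,4,7,8,2,3,7,4,5,6,4,1,2,1]) (.word [0,1,4,3,7,2,3,4,1,0,1,2,1,0,3,2,7,3,4,5,6,8,1,2,3,7,8,4,3,7,4,3,2,1])))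 (.node (.node (.word [8,3,2,4,6,5,7,3,4,2,3,7,5,6,4,2]) (.word [1,2,1,0,3,4,3,7,3,2,1,8,5,4,3,7,8,2,3,7,5,6,1,2])) .none)))) (.node (.node (.node (.node (.node (.word [0,2,1,3,7,3,4,2,3,7,6,1,2,1,0]) (.node .none (.word [5,4,3,7,3,4,5,2,3,4,3,1,0,3,2,6,5,4,3,7,8,2,3,4,1,2,3,7,5,6]))) (.node (.node .none (.word [5,4,3,7,3,4,1,2,1,0,3,2,1,6,5,4,3,7,8,5,4,2,3,7,6,1])) .none)) (.node (.word [4,6,5,4,3,2,7,3,4,1,2,3,7,3,4,5,6,3,4]) (.word [1,2,4,3,5,7,3,8,4,2,3,7,5,6,4,2,0,1]))) (.node (.word [1,4,3,2,6,5,4,8,3,7,4,5,6,1,2,3,4,0,1]) (.node (.node .none (.word [0,1,0,1,2,4,3,2,5,4,7,3,1,2,3,7,8,4,3,7,5,6,4,1])) .none))) (.node (.node (.node (.node (.node (.word [5,1,4,3,2,6,5,4,3,7,4,5,6,1,2,3,4,0,1]) (.word [0,2,1,0,7,5,4,3,7,8,2,3,7,6,4,3,1,2,1,4,3,5,4,7,8,2,3,7,4,5,6,4,1,2,1]))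 (.node .none (.word [1,2,4,5,7,3,4,5,3,7,8,2,3,7,6,4,1,0,3,2,1,6,5,4,3,7,8,5,4,2,3,7,6,1]))) (.node (.node .none (.word [4,3,7,3,4,8,1,2,1,3,4,3,5,7,3,2,1,4,3,7,8,6,5,4,2,3,7,1,2])) .none)) (.node (.node (.node .none (.word [1,4,3,2,6,5,4,3,7,4,5,6,1,2,3,4,0,1,0,7,3,8,1,2,3,7,8,5,4,3,7,6,2,0])) .none) (.word [3,1,6,5,4,7,3,2,4,3,7,8,7,3,4,1,2,3,7,4,5,6,1]))) (.node (.node (.word [0,2,1,4,7,3,7,8,2,3,7,6,4,0]) (.node (.node .none (.word [2,3,7,8,4,5,3,4,2,3,7,6,3,2,1,2,4,3,5,7,3,8,4,2,3,7,5,6,4,2,1])) .none)) (.node .none (.node (.node .none (.word [8,3,2,3,7,8,4,5,3,4,2,3,7,6,3,2,1,2,1,4,3,5,4,7,3,7,8,2,3,4,1,2,3,7,5,6,4])) (.word [2,6,7,3,2,8,4,3,7,8,3,4,2,3,7,4,1,2,4,3,5,4,7,8,7,3,4,2,3,7,5,6,4,1]))))))) (.node (.node (.node (.node (.node .none (.node .none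 (.word [4,3,7,3,4,5,1,2,4,3,2,5,4,7,3,1,2,3,7,8,4,3,7,5,6,4,1]))) .none) (.node .none (.node .none (.node .none (.word [8,0,2,3,4,3,2,1,0,2,1,0,3,2,6,5,4,3,7,8,2,3,4,1,2,3,7,5,6]))))) (.node (.node (.node .none (.word [1,6,5,7,3,2,4,3,7,8,7,3,4,2,3,7,5,6,5,1])) (.node (.node .none (.node (.word [8,3,1,2,4,3,2,5,4,7,8,3,4,1,2,3,7,4,5,6,4,1]) (.word [5,2,3,5,4,3,2,1,2,1,6,5,4,7,8,3,7,2,3,4,5,3,4,3,1,2,1,2,6,7,3,2,8,4,3,7,8,3,4,2,3,7,4]))) .none)) (.node (.node .none (.word [2,3,7,8,7,4,5,3,4,2,3,7,6,3,2])) (.node (.node .none (.word [8,5,4,3,7,8,3,4,5,2,3,6,7,3,8,4,2,3,7,3,2])) (.node .none (.word [1,2,1,6,5,4,7,8,3,7,2,3,4,5,3,4,3,1,2,1,2,3,7,3,8,7,5,3,4,2,3,7,6,2])))))) (.node (.node (.node (.node .none (.node (.node (.word [5,1,4,3,2,6,5,4,7,8,3,7,4,5,6,2,3,4,1])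 (.word [4,3,8,7,3,4,8,1,2,1,0,3,4,3,7,3,2,1,8,5,4,3,7,8,2,3,7,5,6,1,2])) .none)) (.node (.node .none (.node .none (.word [2,3,7,8,4,5,3,4,2,3,7,6,3,2,1,2,1,4,3,5,4,7,3,7,8,2,3,4,1,2,3,7,5,6,4]))) (.node (.node .none (.word [0,2,3,7,8,1,2,3,7,5,1,0,3,1,2,4,3,2,5,4,7,8,3,4,1,2,3,7,4,5,6,4,1])) .none))) (.node .none (.node (.node (.node .none (.word [5,2,6,7,3,2,8,4,3,7,8,3,4,2,3,7,4,1,2,4,3,5,4,7,8,3,7,4,5,6,4,2,1])) (.node (.word [1,2,1,0,3,2,1,6,5,4,3,7,8,5,4,2,3,7,6,1]) (.word [0,2,3,7,8,1,2,3,7,5,1,0,8,1,2,1,3,4,3,5,7,3,2,1,4,3,7,8,6,5,4,2,3,7,1,2]))) (.node .none (.word [4,3,8,7,3,4,2,1,0,3,2,6,5,4,3,7,8,2,3,4,1,2,3,7,5,6]))))) (.node (.node (.node (.node (.node .none (.word [1,2,4,5,7,3,4,5,3,7,8,2,3,7,6,4,2,1,0,2,3,7,8,4,1,2,3,7,1,0])) .none) .none) (.node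 (.node .none (.word [8,0,1,0,2,1,0,3,2,6,5,4,3,7,8,2,3,4,1,2,3,7,5,6])) .none)) (.node (.node (.node .none (.node .none (.word [1,6,5,7,3,2,4,3,7,8,7,3,4,2,3,7,5,6,5,1,0,7,3,2,4,3,7,8,2,3,4,1,2,3,7,1,0]))) .none) .none)))))

/-- A subtree. -/
def sub36 : WTree :=
  (.node (.node (.node (.node (.node (.node (.node .none (.node .none (.word [5,2,6,7,3,2,8,4,3,7,8,3,4,2,3,7,4,1,6,5,7,3,2,4,3,7,8,7,3,4,2,3,7,5,6,1]))) (.node (.word [1,6,5,7,3,2,4,3,7,8,7,3,4,2,3,7,5,6,0,1]) (.word [8,3,1,2,1,4,3,5,4,7,3,7,8,2,3,4,1,2,3,7,5,6,4]))) (.node .none (.node (.node .none (.word [5,2,3,7,8,4,5,3,4,2,3,7,6,3,2,1,2,1,3,4,3,5,7,3,2,1,4,3,7,8,6,5,4,2,3,7,1,2])) .none))) (.node (.node (.word [2,6,5,4,3,7,3,4,5,6,2]) (.node (.node (.word [0,6,7,3,8,1,2,3,7,8,4,3,7,2,0]) (.word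 [0,5,1,4,3,7,2,3,4,1,0,1,6,5,4,7,3,2,4,3,7,8,7,3,4,1,2,3,7,4,5,6,1])) (.word [1,6,5,7,3,2,4,3,7,8,7,5,3,4,2,3,7,5,6,1]))) (.node (.node .none (.word [4,3,7,8,7,3,4,1,2,1,4,3,5,4,7,3,7,8,2,3,4,1,2,3,7,5,6,4])) (.word [2,4,6,5,4,7,8,3,7,8,4,2,3,7,5,6,4])))) (.node (.node (.node .none (.node .none (.word [4,3,8,7,3,4,8,3,1,2,1,4,3,5,4,7,3,7,8,2,3,4,1,2,3,7,5,6,4]))) .none) (.node (.node (.node .none (.node .none (.word [5,4,3,7,8,3,4,5,4,3,7,3,4,1,2,1,0,3,2,1,6,5,4,3,7,8,5,4,2,3,7,6,0,1]))) .none) (.node .none (.word [3,1,2,4,3,5,7,3,8,4,2,3,7,5,6,4,2,0,1]))))) (.node (.node (.node (.node (.node (.node .none (.word [0,5,1,2,3,4,3,2,1,0,2,1,0,3,2,6,5,4,3,7,8,2,3,4,1,2,3,7,5,6])) (.word [1,2,1,0,3,2,1,6,5,4,3,7,8,2,3,7,5,6,1])) .none) (.node .none (.node .none (.word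 [8,3,1,2,4,3,2,5,4,7,3,1,2,3,7,8,4,3,7,5,6,4,1])))) (.node (.node .none (.word [3,2,3,4,3,2,1,2,4,3,6,7,3,4,5,4,3,7,8,2,3,7,3,4,2,1])) (.node (.node (.node .none (.word [2,6,7,3,2,8,4,3,7,8,3,4,2,3,7,4,1,6,5,7,3,4,8,7,3,4,2,3,7,8,5,4,3,7,5,6,1])) .none) .none))) (.node (.node (.word [2,6,5,4,3,7,3,4,5,6,5,2]) (.node (.node .none (.node .none (.word [5,2,3,7,8,4,5,3,4,2,3,7,6,3,2,1,2,4,3,5,4,7,8,7,3,4,2,3,7,5,6,4,1]))) (.node .none (.word [4,3,8,7,3,4,8,2,1,0,3,2,6,5,4,3,7,8,2,3,4,1,2,3,7,5,6])))) (.node (.node (.node .none (.node .none (.word [0,1,0,2,6,7,3,2,8,4,3,7,8,3,4,2,3,7,4,1,2,1,0,3,2,1,6,5,4,3,7,8,5,4,2,3,7,6,1]))) (.node .none (.word [3,5,1,2,4,3,2,5,4,7,3,1,2,3,7,8,4,3,7,5,6,4,1]))) (.node .none (.node .none (.word [1,2,1,4,3,5,4,7,8,2,3,7,4,5,6,4,1,2,1,2,3,7,8,4,5,3,4,2,3,7,6,3,2])))))))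 (.node (.node (.node .none (.node .none (.node (.word [5,1,2,1,0,4,6,5,4,3,7,8,4,2,3,7,5,4,1,2]) (.node (.node .none (.word [4,3,7,3,4,2,3,4,3,1,0,3,2,6,5,4,3,7,8,2,3,4,1,2,3,7,5,6])) .none)))) (.node (.node (.word [7,3,8,7,2,3,0,1,2,0]) (.node .none (.word [4,3,7,3,4,5,1,2,4,3,6,7,3,4,5,4,3,7,8,2,3,7,3,4,2,1]))) (.node (.node (.node (.node .none (.word [2,3,4,7,8,4,5,3,4,2,3,7,6,3,2,1,2,4,3,5,7,3,8,4,2,3,7,5,6,4,2,1])) .none) .none) (.node (.node (.node .none (.word [2,3,4,7,8,4,5,3,4,2,3,7,6,3,2,1,2,4,3,2,5,4,7,8,3,4,1,2,3,7,4,5,6,4,1])) .none) (.word [2,7,3,2,8,5,4,3,7,8,3,4,2,3,7,6,4]))))) (.node (.node (.node (.node .none (.node (.node .none (.word [0,2,3,7,8,1,2,3,7,5,1,0,1,2,4,3,2,5,4,7,8,3,4,1,2,3,7,4,5,6,4,1])) .none)) (.node (.word [1,4,3,2,6,5,4,8,3,7,4,5,6,2,3,4,0,1])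 (.node (.node .none (.word [0,1,4,3,7,2,3,4,1,0,2,1,0,3,2,6,5,4,3,7,8,2,3,4,1,2,3,7,5,6])) .none))) (.node (.node (.node (.node .none (.word [1,2,4,5,7,3,4,5,3,7,8,2,3,7,6,4,2,1,0,2,3,7,8,1,2,3,7,0])) .none) (.node .none (.word [5,2,3,4,3,2,1,6,5,7,3,4,8,7,3,4,2,3,7,8,5,4,3,7,5,6,1]))) (.word [1,4,3,2,6,5,4,7,8,3,7,4,5,6,2,3,4,1]))) (.node (.node (.node (.word [0,6,3,7,8,4,2,3,7,4,1,2,1,0]) (.node (.node .none (.word [0,4,3,7,2,3,4,1,0,8,2,1,0,3,2,6,5,4,3,7,8,2,3,4,1,2,3,7,5,6])) .none)) (.node (.word [3,1,2,1,4,3,5,4,7,8,2,3,7,4,5,6,4,5,1,2,1]) (.word [8,3,5,4,6,5,7,8,3,7,8,4,2,3,7,4,5,6,4,2]))) (.node (.node .none (.node (.node .none (.word [8,3,2,3,7,8,4,5,3,4,2,3,7,6,3,2,1,2,1,0,3,2,1,6,5,4,3,7,8,2,3,7,5,6,1])) .none)) .none)))))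

/-- A subtree. -/
def sub37 : WTree :=
  (.node (.node (.node (.node (.node (.node (.node .none (.node (.word [8,5,4,3,7,8,3,4,5,1,2,4,3,2,5,4,7,3,1,2,3,7,8,4,3,7,5,6,4,1]) (.word [1,6,5,7,3,2,4,3,7,8,7,3,4,2,3,7,5,6,5,1,0,2,1,3,2,3,7,8,4,3,7,0]))) .none) (.node (.node .none (.word [5,4,3,7,3,4,2,3,7,8,4,5,3,4,2,3,7,6,3,2])) (.node (.node .none (.word [4,3,7,3,4,1,2,3,4,5,8,6,5,4,3,2,1,2,3,7,8,4,5,3,4,2,3,7,6,3,2])) .none))) (.node (.node .none (.node .none (.word [8,2,3,4,3,1,0,3,2,6,5,4,3,7,8,2,3,4,1,2,3,7,5,6]))) (.node (.node .none (.word [4,3,7,8,3,4,5,1,2,4,3,2,5,4,7,3,1,2,3,7,8,4,3,7,5,6,4,1])) (.word [3,1,2,4,3,5,7,3,8,4,2,3,7,5,6,4,2,1])))) (.node (.node .none (.node .none (.node (.node .none (.word [1,2,1,6,5,4,7,8,3,7,2,3,4,5,3,4,3,1,2,1,0,6,3,7,8,4,1,2,3,7,4,1,2,0]))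 .none))) (.node .none (.word [2,3,7,3,8,7,5,4,2,3,7,6,2])))) (.node (.node (.node (.node (.node .none (.node .none (.word [5,2,6,7,3,2,8,4,3,7,8,3,4,2,3,7,4,1,2,1,0,3,2,1,6,5,4,3,7,8,2,3,7,5,6,1]))) (.node .none (.word [5,4,3,7,3,4,5,1,2,1,4,3,5,4,7,8,2,3,7,4,5,6,4,1,2,1]))) (.node (.node (.node .none (.word [8,0,2,1,3,7,3,4,5,3,4,2,3,7,5,6,5,1,2,3,0,1,2,1,0,4,6,5,4,3,7,8,4,2,3,7,4,5,4,1,2])) .none) (.word [0,6,7,8,1,2,3,7,8,3,4,2,3,7,2,0]))) (.node (.node (.word [1,2,4,3,5,4,7,8,3,7,4,5,6,4,5,2,0,1]) (.node (.word [5,2,3,4,3,2,1,2,4,3,6,7,3,4,5,4,3,7,8,2,3,7,3,4,2,1]) (.word [4,3,7,3,4,2,3,7,8,4,5,3,4,2,3,7,6,3,2,1,2,1,4,3,5,4,7,3,7,8,2,3,7,4,5,6,4,1,2]))) (.node (.node (.word [3,1,2,1,0,4,6,5,4,3,7,8,4,2,3,7,5,4,1,2]) (.node (.word [1,2,4,3,2,5,4,7,3,1,2,3,7,8,4,3,7,5,6,4,1])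 (.word [0,7,3,8,1,2,3,7,8,5,4,3,7,6,2,0,1,2,1,3,4,3,5,7,3,2,1,4,3,7,8,6,5,4,2,3,7,1,2]))) (.node (.node .none (.word [8,1,2,1,4,3,5,4,7,8,2,3,7,4,5,6,4,1,2,1,0,2,1,3,2,3,7,8,4,3,7,0])) .none)))) (.node (.node .none (.node (.node (.node .none (.word [8,3,1,2,1,4,3,5,4,7,8,2,3,7,4,5,6,4,3,4,3,5,7,3,2,1,4,3,7,8,5,4,2,3,7,1,2])) .none) .none)) (.node (.node (.node (.node .none (.word [2,6,7,3,2,8,4,3,7,8,3,4,2,3,7,4,2,1,0,3,2,6,5,4,3,7,8,2,3,4,1,2,3,7,5,6])) .none) (.node .none (.word [8,5,1,2,4,3,2,5,4,7,3,1,2,3,7,8,4,3,7,5,6,4,1]))) (.word [3,1,2,4,3,6,7,3,4,5,4,3,7,8,2,3,7,3,4,2,1]))))) (.node (.node (.node (.node (.node .none (.node (.node .none (.word [0,2,3,4,3,2,1,0,2,3,7,8,4,5,3,4,2,3,7,6,3,2,1,2,4,3,5,7,3,8,4,2,3,7,5,6,4,2,1])) .none)) (.node (.node (.node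 .none (.word [0,2,3,4,3,2,1,0,2,3,7,8,4,5,3,4,2,3,7,6,3,2,1,2,4,3,5,4,7,8,3,7,4,5,6,4,2,1])) .none) .none)) (.node .none (.node (.node (.node (.word [1,4,3,2,6,5,4,7,8,3,7,4,5,6,2,3,4,0,1]) (.word [5,3,1,2,1,3,4,3,5,7,3,2,1,4,3,7,8,6,5,4,2,3,7,1,2])) (.word [4,3,7,3,4,8,3,1,2,1,4,3,5,4,7,3,7,8,2,3,4,1,2,3,7,5,6,4])) (.node .none (.word [8,3,0,2,3,7,4,2,3,7,8,5,4,3,7,6,1,2,0,1,6,5,7,3,2,4,3,7,8,7,3,4,2,3,7,5,6,1]))))) (.node (.node (.node (.node (.word [0,2,3,7,8,1,2,3,7,5,1,0]) (.word [4,3,7,8,3,4,5,1,2,4,3,5,7,3,8,4,2,3,7,5,6,4,2,1])) (.word [1,2,3,4,5,7,2,3,7,8,4,3,7,5,6,2,1])) (.node (.node (.node .none (.word [1,2,3,4,5,8,6,5,4,3,2,1,7,3,2,8,4,3,7,8,5,4,3,7,6,2])) .none) (.node .none (.word [4,3,8,7,3,4,1,6,5,4,7,3,2,4,3,7,8,7,3,4,1,2,3,7,4,5,6,1])))) (.node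 (.node (.node .none (.node .none (.word [8,1,2,1,0,3,2,1,6,5,4,3,7,8,5,4,2,3,7,6,0,2,1,4,3,5,4,7,8,2,3,7,4,5,6,4,1,2,1]))) (.node (.word [3,5,4,6,5,7,8,3,7,8,4,2,3,7,4,5,6,4,2]) (.word [5,4,3,8,7,3,4,2,1,0,3,2,6,5,4,3,7,8,2,3,4,1,2,3,7,5,6]))) (.node .none (.node (.node .none (.word [5,4,3,7,3,4,5,1,2,3,4,5,8,6,5,4,3,2,1,7,3,2,8,4,3,7,8,5,4,3,7,6,2])) (.word [3,2,3,7,8,4,5,3,4,2,3,7,6,3,1,0,3,2,6,5,4,3,7,8,2,3,4,1,2,3,7,5,6])))))) (.node (.node (.node (.word [0,2,1,4,7,8,2,3,7,6,4,2,1,0]) (.node (.word [0,3,7,8,5,4,2,3,7,6,4,1,2,0]) (.node (.node .none (.word [0,2,3,7,8,1,2,3,7,5,1,0,2,3,4,3,2,1,6,5,7,3,2,4,3,7,8,7,3,4,2,3,7,5,6,1])) .none))) (.node (.node (.node .none (.node (.word [8,3,5,4,3,7,3,4,5,1,2,4,3,6,7,3,4,5,4,3,7,8,2,3,7,3,4,2,1]) (.word [2,3,4,5,3,2,4,3,8,7,3,4,1,2,1,3,4,3,5,7,3,2,1,4,3,7,8,6,5,4,2,3,7,1,2])))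 .none) .none)) (.node (.node (.node (.node (.word [0,2,3,7,8,1,2,3,7,5,0]) (.node .none (.word [2,6,7,3,2,8,4,3,7,8,3,4,2,3,7,4,1,2,1,0,3,2,1,6,5,4,3,7,8,5,4,2,3,7,6,1]))) .none) .none) (.node (.word [0,6,3,7,8,4,2,3,7,4,1,2,0]) (.node (.node (.node .none (.word [1,6,5,7,3,2,4,3,7,8,7,3,4,2,3,7,5,6,5,1,0,2,1,0,4,5,3,7,8,4,2,3,7,5,6,4,2])) .none) .none))))))

/-- A subtree. -/
def sub38 : WTree :=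
  (.node (.node (.node (.node (.node (.node (.node .none (.word [8,3,1,6,5,4,7,3,2,4,3,7,8,7,3,4,1,2,3,7,4,5,6,1])) .none) (.node (.node .none (.word [3,0,4,6,5,4,7,3,8,1,2,3,7,8,4,3,7,5,6,4,0])) .none)) (.word [0,2,1,4,7,8,2,3,7,6,4,2,0])) (.node (.node (.node (.node (.node .none (.word [5,4,3,7,8,3,4,5,1,2,1,0,3,4,3,7,3,2,1,8,5,4,3,7,8,2,3,7,5,6,1,2])) .none) .none) .none) (.node (.node (.node (.node .none (.word [4,3,7,3,4,1,2,1,0,3,2,1,6,5,4,2,3,7,8,5,4,2,3,7,6,1])) .none) (.word [1,2,3,4,5,8,6,5,4,3,2,1,0,6,5,7,3,2,4,3,7,8,1,2,3,7,4,5,6,3,2,0])) (.node (.node (.word [0,2,1,0,4,5,3,7,8,4,2,3,7,5,6,4,2]) (.word [1,6,5,7,3,4,8,7,3,4,2,3,7,8,5,4,3,7,5,6,1])) .none)))) (.node (.node (.node (.node (.node (.node .none (.word [0,2,3,7,8,1,2,3,7,5,1,0,1,2,1,0,3,2,1,6,5,4,3,7,8,5,4,2,3,7,6,1]))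 (.node (.word [1,2,3,4,5,8,6,5,4,3,2,1,2,4,6,5,4,7,8,3,7,8,4,2,3,7,5,6,4]) (.word [0,7,3,8,1,2,3,7,8,5,4,3,7,6,2,0,1,2,4,3,5,4,7,8,7,3,4,2,3,7,5,6,4,1]))) .none) .none) (.word [6,5,3,4,2,3,7,3,4,5,6,2])) (.node (.node (.node (.node (.node .none (.word [3,1,2,1,4,3,5,4,7,8,2,3,7,4,5,6,4,3,4,3,5,7,3,2,1,4,3,7,8,5,4,2,3,7,1,2])) .none) (.node .none (.word [5,0,2,3,4,3,2,1,0,2,1,0,3,2,6,5,4,3,7,8,2,3,4,1,2,3,7,5,6]))) .none) (.node (.node (.node (.word [0,2,3,7,8,4,1,2,3,7,0]) (.node .none (.word [0,1,0,2,6,7,3,2,8,4,3,7,8,3,4,2,3,7,4,1,6,5,4,7,3,2,4,3,7,8,7,3,4,1,2,3,7,4,5,6,1]))) (.node .none (.word [0,2,3,4,3,2,1,0,2,1,0,3,2,6,5,4,3,7,8,2,3,4,1,2,3,7,5,6]))) (.node (.node (.node .none (.word [1,2,1,4,3,5,4,7,8,2,3,7,4,5,6,4,1,2,1,0,2,3,7,8,4,1,2,3,7,0])) .none)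 .none))))) (.node (.node (.node (.node (.word [1,2,1,4,3,5,7,3,8,7,4,3,7,5,6,2,3,4,1,2,0,1]) (.node (.node (.word [0,2,1,0,7,5,4,3,7,8,2,3,7,6,4]) (.node .none (.word [5,2,6,7,3,2,8,4,3,7,8,3,4,2,3,7,4,1,6,5,4,7,3,2,4,3,7,8,7,3,4,1,2,3,7,4,5,6,1]))) (.node .none (.word [5,4,3,7,3,4,1,2,1,0,3,2,1,6,5,4,3,7,8,2,3,7,5,6,1])))) (.node (.node (.node .none (.word [1,2,1,4,3,5,4,7,3,7,8,2,3,4,1,2,3,7,5,6,4])) .none) (.word [1,2,3,4,5,8,6,5,4,3,2,6,5,7,3,2,4,3,7,8,7,5,3,4,2,3,7,5,6,0,1]))) (.node (.node (.word [0,4,3,7,3,4,1,0]) (.node (.node .none (.node (.word [0,4,3,7,3,4,1,0,2,1,0,3,2,6,5,4,3,7,8,2,3,4,1,2,3,7,5,6]) (.word [5,4,3,7,8,3,4,5,0,4,3,7,2,3,4,1,0,1,6,5,4,7,3,2,4,3,7,8,7,3,4,1,2,3,7,4,5,6,1]))) .none)) (.node (.node (.node .none (.node .none (.word [1,2,1,6,5,4,7,8,3,7,2,3,4,5,3,4,3,1,2,1,7,3,2,8,4,3,7,8,5,4,3,7,6,2])))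 .none) (.node (.node (.node .none (.word [2,3,7,8,4,5,3,4,2,3,7,6,3,2,1,2,4,3,5,4,7,8,3,7,4,5,6,4,2,1])) (.word [2,3,4,3,2,3,1,6,5,4,7,3,2,4,3,7,8,7,3,4,1,2,3,7,4,5,6,1])) .none)))) (.node (.node (.node (.node .none (.node (.word [2,3,7,8,4,5,3,4,2,3,7,6,3,2]) (.word [0,2,3,7,8,1,2,3,7,5,1,0,1,2,1,4,3,5,4,7,8,2,3,7,4,5,6,4,1,2,1]))) (.node (.node (.node .none (.word [8,5,4,3,7,8,3,4,5,1,2,1,0,3,4,3,7,3,2,1,8,5,4,3,7,8,2,3,7,5,6,1,2])) .none) (.word [3,1,2,3,4,5,8,6,5,4,3,2,1,0,2,1,0,7,5,4,3,7,8,2,3,7,6,4]))) (.node (.node (.node (.node .none (.word [5,1,2,1,3,4,3,5,7,3,2,1,4,3,7,8,6,5,4,2,3,7,1,2])) (.node .none (.word [4,3,7,3,4,2,3,7,8,4,5,3,4,2,3,7,6,3,2,8,3,1,2,4,5,7,3,4,5,3,7,8,2,3,7,6,4,2,1]))) (.node .none (.word [5,1,2,1,0,3,2,1,6,5,4,3,7,8,5,4,2,3,7,6,0,1,6,5,8,3,4,2,3,7,3,4,5,6,2])))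 (.node (.node .none (.word [4,3,7,3,4,8,1,2,4,3,2,5,4,7,3,1,2,3,7,8,4,3,7,5,6,4,1])) .none))) (.node (.node (.node .none (.node (.node .none (.word [3,1,6,5,7,3,2,4,3,7,8,7,3,4,2,3,7,5,6,5,1,0,2,1,0,4,5,3,7,8,4,2,3,7,5,6,4,2])) .none)) (.node (.node .none (.node .none (.word [0,2,3,7,8,1,2,3,7,5,0,1,2,1,3,4,3,5,7,3,2,1,4,3,7,8,6,5,4,2,3,7,1,2]))) (.node .none (.word [0,2,1,0,7,5,4,3,7,8,2,3,7,6,4,1,2,3,4,5,7,2,3,7,8,4,3,7,5,6,2,1])))) (.node (.node (.node (.node .none (.word [3,2,3,7,8,4,5,3,4,2,3,7,6,3,2,1,6,5,7,3,2,4,3,7,8,7,3,4,2,3,7,5,6,1])) .none) .none) (.node (.node (.node .none (.word [2,3,4,5,3,2,4,3,7,3,4,1,2,1,0,3,2,1,6,5,4,3,7,8,2,3,7,5,6,0,1])) .none) .none))))))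

/-- A subtree. -/
def sub39 : WTree :=
  (.node (.node sub35 sub36) (.node sub37 sub38))

/-- Points. -/
def levX1pts0 : List ℕ := [1,8,13,16,17,28,31,35,42,54,55,57,64,65,67,80,84,87,88,91,92,93,94,95,99,107,116,119,123,124,128,129,130,138,139,140,143,150,163,167,175,177,178,181,182,186,189,192,197,209,222,227,228,230,234,237,238,239,245,246,247,249,269,276,278,286,287,291,292,298,300,311,313,315,325,328,333,334,342,348,352,353,358,364,370,376,379,380,381,385,388,407,409,411,415,420,421,423,442,443,449,451,455,456,457,463,470,487,488,492,494,496,497,498,500,501,504,520,523,524,526,537,541,546,563,564,568,570,575,576,577,578,581,589,592,593,595,597,599,600,622,624,625,626,630,636,651,665,672,677,678,679,683,696,702,706,707,717,719,720,721,723,724,727,730,732,740,749,752,757,780,790,802,803,806,807,817,822,826,828,831,845,853,857,858,859,861,866,867,872,873,881,891,898,903,904,907,918,930,932]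

/-- Points. -/
def levX1pts1 : List ℕ := [957,964,965,966,969,971,972,981,982,985,987,1001,1014,1025,1028,1029,1030,1031,1034,1038,1039,1046,1056,1067,1070,1071,1082,1085,1086,1088,1089,1093,1096,1097,1104,1111,1126,1132,1141,1148,1149,1155,1160,1164,1176,1178,1182,1183,1185,1186,1200,1201,1207,1214,1217,1220,1221,1225,1233,1245,1250,1262,1272,1274,1287,1288,1292,1295,1296,1297,1298,1313,1314,1322,1325,1337,1342,1349,1361,1363,1364,1370,1374,1375,1376,1384,1395,1408,1414,1415,1419,1425,1431,1434,1443,1444,1447,1448,1450,1459,1464,1471,1472,1475,1487,1491,1494,1503,1518,1536,1541,1547,1554,1555,1565,1572,1573,1574,1575,1578,1582,1597,1599,1600,1606,1611,1614,1616,1620,1634,1640,1644,1646,1647,1648,1652,1664,1665,1670,1671,1672,1675,1689,1692,1694,1697,1703,1713,1723,1724,1727,1729,1731,1749,1750,1751,1753,1757,1767,1771,1772,1773,1774,1775,1777,1781,1782,1792,1805,1823,1829,1832,1833,1834,1835,1848,1862,1879,1889,1896,1899,1906,1908,1912,1914,1918,1919,1920,1939,1943,1958,1971,1980,1990,2003,2004,2007,2009,2016,2017]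

/-- Points. -/
def levX1pts2 : List ℕ := [2018,2019,2026,2027,2051,2056,2057,2065,2077,2081,2084,2090,2091,2095,2097,2104,2125,2127,2141,2147,2157,2159,2162,2163,2198,2217,2226,2233,2235,2239,2241,2250,2254,2255,2256,2266,2267,2268,2278,2279,2280,2281,2293,2296,2303,2304,2305,2309,2321,2325,2326,2327,2332,2333,2336,2340,2343,2344,2352,2353,2357,2365,2366,2367,2369,2373,2380,2391,2403,2407,2408,2410,2412,2413,2428,2430,2441,2453,2455,2456,2473,2474,2475,2483,2484,2492,2494,2510,2523,2527,2536,2537,2543,2550,2551,2552,2553,2559,2561,2562,2576,2577,2578,2582,2583,2592,2593,2595,2596,2598,2605,2610,2611,2613,2616,2619,2620,2627,2659,2669,2676,2683,2686,2687,2689,2690,2699,2700,2710,2716,2717,2733,2734,2736,2742,2749,2766,2780,2787,2793,2796,2804,2805,2806,2811,2816,2817,2823,2827,2832,2837,2841,2846,2848,2849,2850,2852,2856,2858,2867,2871,2875,2887,2894,2901,2910,2925,2930,2933,2936,2937,2949,2956,2966,2971,2978,2981,2983,3006,3009,3012,3013,3016,3025,3031,3036,3038,3041,3042,3043,3046,3049,3052,3054,3061,3064,3065,3070,3072,3073]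

/-- Points. -/
def levX1pts3 : List ℕ := [3074,3078,3079,3081,3083,3084,3086,3090,3093,3101,3107,3111,3113,3114,3119,3129,3134,3138,3145,3146,3148,3157,3161,3162,3171,3176,3186,3191,3203,3206,3217,3220,3225,3230,3234,3236,3237,3241,3244,3246,3248,3252,3254,3255,3257,3258,3261,3263,3269,3272,3273,3274,3275,3287,3290,3292,3295,3306,3307,3309,3310,3311,3315,3316,3318,3322,3336,3338,3342,3359,3360,3368,3374,3379,3401,3402,3411,3423,3425,3435,3445,3446,3448,3455,3459,3480,3481,3495,3496,3497,3500,3506,3507]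

/-- A level. -/
def levX1 : Level :=
  ⟨13, (.node (.node sub24 sub29) (.node sub34 sub39)), levX1pts0 ++ levX1pts1 ++ levX1pts2 ++ levX1pts3⟩

/-- A subtree. -/
def sub40 : WTree :=
  (.node (.node (.node (.node (.node (.node (.node (.node .none (.word [4,3,6,5,4,3,7,3,2,1,4,3,7,2,3,4,5,6,4,5,4,3,7,8,3,4,5,1,2,1,0,4,3,5,7,3,8,4,2,3,7,8,1,2,3,7,5,4,1])) (.word [8,0,1,2,1,6,7,3,2,4,3,7,3,1,2,0,1,6,5,7,3,2,4,3,7,8,7,3,4,2,3,7,5,6,5,1,0,2,1,3,7,3,4,2,3,7,6,1,2,1,0])) .none) (.node .none (.word [8,3,1,2,1,0,4,5,7,3,4,1,2,3,7,5,3,4,1,2,0,1]))) (.node .none (.node .none (.node (.node .none (.word [8,1,4,5,7,3,2,1,8,7,3,2,4,8,3,7,5,3,4,3,2,1,6,5,4,3,7,8,5,4,2,3,7,6,0,1,0,2,1,0,4,5,3,7,8,4,3,7,5,6,4,2])) .none)))) (.node .none (.node (.node (.node .none (.word [5,4,3,7,8,3,4,5,3,1,0,2,1,4,3,2,6,5,7,3,4,7,8,3,7,5,3,4,1,2,1,4,3,8,7,3,4,1,2,3,4,5,7,3,2,4,3,7,5,6,1,2,3,0,1,2,0,1]))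 (.word [8,3,1,0,2,1,0,3,2,1,6,5,7,3,4,2,3,7,8,6,5,4,3,2,1,7,3,8,7,5,2,3,0,1,2,0])) .none))) (.node (.node (.node (.node (.node (.word [3,2,3,5,4,3,2,1,2,1,4,3,5,4,7,3,7,8,7,4,5,6,2,3,4,5,1,2]) (.node .none (.word [0,1,4,3,2,7,3,4,5,2,1,4,7,8,3,7,6,3,4,5,2,3,1,4,3,7,3,4,0,2,1,7,3,2,4,3,5,4,2,3,7,6,5,3,4,3,0,1,2,1]))) .none) (.word [5,4,3,7,8,3,4,5,3,0,1,2,6,5,4,3,7,3,4,5,6,2,1,0])) (.node (.node (.node (.node (.word [1,2,3,4,5,8,6,5,4,2,3,2,1]) (.word [5,4,3,7,8,3,4,5,0,1,2,4,3,6,7,3,8,7,4,1,2,0,2,3,5,4,3,2,1,2,1,6,5,4,7,8,3,7,2,3,4,5,3,4,3,1,2,1,0,1,0])) .none) .none) (.node (.node .none (.word [8,3,2,1,4,5,4,7,3,2,4,8,7,3,4,5,6,4,0,1,2,6,5,7,3,2,4,3,7,8,7,3,4,2,3,7,5,6,5,4,3,2,6,5,4,8,3,7,4,5,6,1,2,3,4,0,1])) .none))) (.node (.node (.node (.node (.word []) (.word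 [0,2,7,3,2,1,4,3,2,3,7,6,3,2,0,6,5,4,3,2,7,4,3,7,1,2,3,4,5,6,5])) .none) (.node .none (.node (.node .none (.word [2,6,5,4,3,7,3,2,4,3,5,6,1,2,4,5,7,3,4,5,3,7,8,2,3,7,6,4,2,1,0,2,1,7,3,2,8,7,3,4,1,2,3,7,0])) .none))) (.node (.node (.node (.node .none (.word [1,0,4,3,2,6,5,4,7,3,8,7,4,5,6,2,3,4,1,5,4,3,7,5,4,2,3,7,8,4,5,3,4,0,1,0,2,1,6,5,4,3,7,2,3,4,5,6,1,2,0,1,0,2,4,6,5,7,3,4,2,3,7,5,6,4,2])) .none) .none) (.node (.node (.node .none (.word [2,3,4,3,2,1,0,6,5,7,3,2,4,3,7,8,7,3,4,2,3,7,5,6,1,0,2,1,4,6,5,4,3,2,4,3,7,2,3,4,5,6,4,1,2,1,0,1,6,5,4,7,3,2,4,3,7,8,7,3,4,1,2,3,7,4,5,6,1])) .none) .none))))) (.node (.node (.node (.node (.node (.node .none (.word [1,0,2,1,0,3,2,1,6,5,7,3,4,2,3,7,8,6,5,4,3,2,1,7,3,8,7,5,2,3,0,1,2,0])) (.node .none (.word [0,2,1,0,3,2,7,8,3,7,1,4,3,2,6,5,4,8,7,3,4,5,6,1,2,3,4,0,1])))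 (.node .none (.word [2,3,4,3,2,0,1,2,1,4,7,3,2,4,8,7,3,6,0,1,2,3,4,5,8,6,5,4,3,2,1,0,2,3,6,7,3,8,4,2,3,7,3,2,1,0]))) (.node (.node .none (.node (.node .none (.word [2,3,4,3,2,0,1,2,1,6,7,3,2,4,3,7,3,1,2,0,1,2,6,5,4,7,8,3,7,6,3,4,5,3,4,3,2,1])) .none)) (.node (.node .none (.word [4,3,7,5,4,2,3,7,8,4,5,3,4,0,1,0,6,5,4,3,2,7,4,3,7,1,2,3,4,5,6,0,1,0])) .none))) (.node (.node .none (.node (.word [0,1,2,1,6,7,3,2,4,3,7,3,1,2,0,1,2,6,5,4,7,8,3,7,6,3,4,5,3,4,2,3,2,1]) (.node (.node .none (.word [1,0,4,3,2,6,5,4,7,3,4,5,6,2,3,4,2,4,5,7,3,4,5,3,7,8,2,3,7,6,4,2,1,0,2,1,7,3,8,5,4,3,7,6,2,0])) .none))) (.node .none (.node .none (.node (.node .none (.word [5,4,3,5,4,7,3,4,5,2,3,4,0,1,0,1,2,1,0,3,2,1,6,5,4,3,7,8,5,4,2,3,7,6,0,1,0,2,3,4,3,2,1,0])) .none))))) (.node (.node (.node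 (.node .none (.node (.word [0,2,1,0,3,2,5,4,7,8,3,7,1,2,1,6,5,4,7,8,3,7,4,5,2,3,4,3,1,2,0,1]) (.word [2,3,4,3,2,0,1,4,3,2,7,3,4,5,0,1,2,1,4,3,5,4,7,8,2,3,7,4,5,6,4,1,2,1,0,5,4,3,7,2,3,4,1,0]))) (.word [0,2,1,3,7,4,5,3,4,2,3,7,6,5,1,2,0])) (.node (.node (.node (.node .none (.word [1,2,3,4,5,6,5,4,3,2,1,0,1,4,3,7,3,4,0,2,1,7,3,2,4,3,5,4,2,3,7,6,5,3,4,3,0,1,2,1])) .none) .none) (.node .none (.node (.word [8,1,2,1,0,4,5,7,3,4,1,2,3,7,5,3,4,1,2,0,1]) (.word [1,2,3,4,5,8,6,5,4,3,2,1,0,2,6,7,3,4,5,8,3,7,1,2,0,2,6,7,3,2,8,4,3,7,8,3,4,2,3,7,4,0,2,1,7,3,8,5,4,3,7,6,2,0]))))) (.node (.node .none (.node (.word [0,1,2,1,6,7,3,2,4,3,7,3,1,2,0,1,2,6,5,4,7,8,3,7,6,3,4,5,3,4,2,3,2,1,5,0,2,1,3,6,8,7,3,4,2,3,7,5,1,2,3,0]) (.node (.node .none (.word [5,4,3,7,8,3,4,5,0,1,4,3,7,3,4,0,2,1,7,3,2,4,3,5,4,2,3,7,6,5,3,4,3,0,1,2,1]))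 .none))) (.word [0,1,4,3,2,7,3,4,7,3,8,7,2,3,1,2,1,0])))))

/-- A subtree. -/
def sub41 : WTree :=
  (.node (.node (.node (.node (.node (.node .none (.node .none (.word [8,3,0,2,7,3,2,4,3,8,7,3,2,1,8,7,6,1,2,1,6,7,3,2,4,3,7,3,1,2,0,1,2,6,5,4,7,8,3,7,6,3,4,5,3,4,3,2,1,6,5,3,4,2,3,7,3,4,5,6,2]))) .none) (.node (.word [1,2,3,4,5,8,6,5,4,3,2,1,0,1,4,3,2,7,3,4,5,2,1,4,7,8,3,7,6,3,4,5,2,3,0]) (.node .none (.node (.node .none (.word [5,4,3,7,8,3,4,5,1,0,2,4,6,5,4,7,3,8,7,4,5,3,4,2,1,2,3,5,4,3,2,1,2,1,6,5,4,7,8,3,7,2,3,4,5,3,4,3,1,2,1,0,2,1,4,7,8,3,7,6,4,2,1,0])) .none)))) (.node (.node (.node .none (.node (.word [5,4,3,7,8,3,4,5,0,1,2,6,5,4,3,7,8,3,4,5,6,2,1,0]) (.word [0,2,1,0,3,2,5,4,7,8,3,7,2,3,5,4,3,2,1,2,1,6,5,4,7,8,3,7,2,3,4,5,3,4,3,1,2,1,0,5,1,0]))) .none) (.word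 [4,3,6,5,4,3,7,3,2,1,4,3,7,2,3,4,5,6,4,8,0,4,3,7,2,3,4,1,0,1,2,1,4,3,5,4,7,3,7,8,2,3,7,4,5,6,4,5,1,2,4,3,7,5,4,2,3,7,8,4,5,3,4]))) (.node (.node (.node (.node (.word [4,3,7,5,4,2,3,7,8,4,5,3,4]) (.node (.node .none (.word [5,4,3,5,4,7,3,4,5,2,3,4,0,1,0,6,5,4,3,2,7,4,3,7,1,2,3,4,5,6,0,1,0])) (.word [1,2,3,4,5,8,6,5,4,3,2,1,2,5,6,5,4,3,7,3,2,4,3,5,6,0,4,3,7,2,3,4,1,2,3,6,7,3,8,4,2,3,7,3,2,1,0]))) (.node (.node (.word [4,3,7,5,4,2,3,7,8,4,5,3,4,0,1,0,2,1,6,5,4,3,7,8,2,3,4,5,6,1,2,0,1,0]) (.word [3,0,2,7,3,2,1,4,3,2,3,7,6,3,2,0,6,5,4,3,2,7,4,3,7,1,2,3,4,5,6,5])) .none)) (.node (.node (.node (.node .none (.word [1,2,3,4,5,6,5,4,2,3,2,1,0,1,2,3,4,3,6,5,7,3,2,8,4,3,7,5,6,4,3,1,2,1,0])) .none) (.node (.node .none (.word [5,4,3,7,3,4,5,1,0,2,1,4,3,2,6,5,7,3,4,7,8,3,7,5,3,4,1,2,1,8,3,1,2,1,4,3,5,7,3,8,7,4,3,7,5,6,2,3,4,1,2,0,1]))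 (.word [6,5,7,3,2,4,3,5,7,4,2,3,7,5,6,1,2,1,4,3,5,4,7,8,2,3,7,4,5,6,4,1,2,1,0,2,3,7,8,1,2,3,7,1,0]))) (.node .none (.node (.node (.word [8,0,2,7,3,2,1,4,3,2,3,7,6,3,2,0,6,5,4,3,2,7,4,3,7,1,2,3,4,5,6,5]) (.word [5,4,3,5,4,7,3,4,5,2,3,4,0,1,0,2,1,6,5,4,3,8,7,2,3,4,5,6,1,2,0,1,0])) .none)))) (.node (.node (.node (.node .none (.word [8,0,2,1,0,3,2,7,8,3,7,1,2,1,0,4,3,5,4,8,7,3,4,2,3,7,4,5,4,1,2])) (.word [3,0,1,4,3,2,7,3,4,0,1,2,3,4,3,5,7,3,2,1,4,3,7,5,6,5,2,3,0,1,2])) (.word [5,4,3,7,8,3,4,5,0,1,2,6,5,4,3,7,3,4,5,6,2,1,0])) (.node (.node (.word [8,4,3,7,3,4,1,2,1,0,4,3,5,7,3,2,3,4,1,2,3,7,8,5,4,2,1]) (.word [0,1,2,6,5,4,3,8,7,3,4,5,6,2,1,0])) (.node .none (.node (.word [5,4,3,7,8,3,4,5,3,0,1,0,2,1,6,5,4,3,7,2,3,4,5,6,1,2,0,1,0]) (.word [1,2,3,4,5,6,5,4,3,2,1,0,2,7,3,2,1,4,3,2,3,7,6,3,2,0,6,5,4,3,2,7,4,3,7,1,2,3,4,5,6,5])))))))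 (.node (.node (.node (.node (.word [8,3,0,1,4,3,2,7,3,4,5,2,1,4,7,8,3,7,6,3,4,5,2,3,0]) (.node (.node (.node (.word [0,1,2,6,5,4,3,7,8,7,3,4,5,6,2,1,0]) (.word [1,2,3,4,5,8,6,5,4,2,3,2,1,0,1,4,3,7,3,4,0,2,1,7,3,2,4,3,5,4,2,3,7,6,5,3,4,3,0,1,2,1])) (.word [0,1,2,1,6,7,3,2,4,3,7,3,1,2,0,1,2,6,5,4,7,8,3,7,6,3,4,5,3,4,2,3,2,1,0,1,0,2,1,6,5,4,3,7,8,7,2,3,4,5,6,1,2,0,1,0])) .none)) (.node (.node (.node (.node .none (.word [1,2,3,4,5,8,6,5,4,3,2,1,0,1,2,3,4,7,3,8,1,2,3,7,8,3,4,3,2,1,0])) .none) (.node (.node .none (.word [1,2,3,4,5,8,6,5,4,3,2,0,2,4,6,5,4,7,3,8,7,4,5,3,4,2,1,2,3,7,8,4,5,3,4,2,3,7,6,3,2,1,4,3,2,6,5,4,3,7,4,5,6,2,3,4,0,1])) .none)) .none)) (.node .none (.node (.node (.node (.node (.word [1,2,3,4,5,6,5,4,2,3,2,1,0,1,4,3,2,7,3,4,5,2,1,4,7,8,3,7,6,3,4,5,2,3,0])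 (.word [4,3,6,5,4,3,7,3,2,1,4,3,7,2,3,4,5,6,4,8,1,2,1,0,4,3,5,7,3,8,4,2,3,7,8,1,2,3,7,5,4,1])) .none) .none) (.node (.node (.node .none (.word [8,4,3,6,5,4,3,7,3,2,1,4,3,7,2,3,4,5,6,4,8,1,2,1,0,4,3,5,7,3,8,4,2,3,7,8,1,2,3,7,5,4,1])) .none) .none)))) (.node (.node (.node (.node (.node .none (.word [3,0,1,2,4,6,7,3,8,7,4,1,2,0,1,6,5,7,3,2,4,3,7,8,7,3,4,2,3,7,5,6,5,1,0,2,1,4,7,8,3,7,6,4,2,1,0])) .none) (.node (.node .none (.word [0,1,2,1,6,7,3,2,4,3,7,3,7,8,5,4,2,3,7,6,3,4,2,3,1,0])) .none)) (.word [4,3,7,3,4,1,2,1,0,4,3,5,7,3,2,3,4,1,2,3,7,8,5,4,2,1])) (.node (.node (.node (.node (.word [0,1,2,1,6,7,3,2,4,3,7,3,1,2,0,1,2,6,5,4,7,8,3,7,6,3,4,5,3,4,2,3,2,1,8]) (.node .none (.word [0,1,4,3,2,7,3,4,5,2,1,4,7,8,3,7,6,3,4,5,2,3,0,1,2,1,0,4,5,7,3,4,1,2,3,7,5,3,4,1,2,3,0,1])))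 (.node .none (.word [1,2,3,4,5,6,5,4,3,2,1,0,2,1,3,7,4,5,3,4,2,3,7,6,5,1,2,0]))) (.node (.node .none (.word [1,2,3,4,5,6,5,4,2,3,2,0,4,3,2,1,6,5,4,7,3,4,5,6,2,3,4,1,5,2,3,4,3,2,1,2,3,4,5,7,3,2,4,3,7,5,6,1,2,3,0,1,2,0,1])) .none)) .none))))

/-- A subtree. -/
def sub42 : WTree :=
  (.node (.node (.node (.node (.node (.word [0,1,4,3,2,7,3,4,5,2,1,4,7,8,3,7,6,3,4,5,2,3,0,1,2,3,4,5,8,6,5,4,3,2,1]) (.node .none (.word [0,1,2,3,5,7,3,2,4,8,3,7,6,3,2,0,1,2,3,4,5,8,6,5,4,3,2,1,0,2,3,6,7,3,8,4,2,3,7,5,3,2,1,0]))) (.node (.word [8,3,5,1,2,1,4,3,5,4,7,8,2,3,7,4,5,6,2,3,4,5,1,2]) (.node .none (.word [0,1,4,3,2,7,3,4,5,2,1,4,7,8,3,7,6,3,4,5,2,3,1,4,3,2,7,3,4,7,3,8,7,2,3,1,2,1,0])))) (.node (.node (.word [8]) (.node (.node .none (.word [5,4,3,7,8,3,4,5,0,1,2,1,6,7,3,2,4,3,7,3,1,2,0,1,6,5,7,3,2,4,3,7,8,7,3,4,2,3,7,5,6,5,1,0,2,1,3,7,3,4,2,3,7,6,1,2,1,0]))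 (.node (.node .none (.word [5,4,3,7,8,3,4,5,3,0,1,2,1,6,7,3,2,4,3,7,3,1,2,0,1,2,6,5,4,7,8,3,7,6,3,4,5,3,4,3,2,1])) .none))) (.node (.node (.word [2,5,6,5,4,3,7,8,3,4,5,6,4,6,7,3,0,1,2,3,7,8,3,7,4,3,1,0]) (.word [0,1,2,1,6,7,3,2,4,3,7,3,1,2,0,1,2,6,5,4,7,8,3,7,6,3,4,5,3,4,2,3,2,1,0,1,6,5,8,3,4,2,3,7,3,4,5,6,2,1,0])) .none))) (.node (.node (.node (.node (.node .none (.word [2,3,4,3,2,0,1,0,6,5,4,3,2,7,4,3,7,1,2,3,4,5,6,3,0,1,0])) .none) (.node (.node .none (.node .none (.word [1,2,4,6,5,7,3,2,4,8,3,7,5,3,4,2,1,3,0,7,3,8,1,2,3,7,8,5,4,3,7,6,2,0,5,1,2,1,0,4,6,5,4,3,7,8,4,2,3,7,5,4,1,2]))) .none)) (.node (.node (.node (.node .none (.word [8,1,0,6,5,7,3,2,4,3,5,7,8,7,3,4,2,3,7,5,6,1,2,3,7,8,4,5,3,4,2,3,7,6,3,2,1,6,5,7,3,2,4,3,7,8,7,5,3,4,2,3,7,5,6,0,1])) .none) (.node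 (.node .none (.word [0,1,2,1,6,7,3,2,4,3,7,3,1,2,0,1,2,6,5,4,7,8,3,7,6,3,4,5,3,4,2,3,2,1,0,1,2,6,5,4,3,8,7,3,4,5,6,2,1,0])) .none)) .none)) (.node (.node (.node (.node .none (.node .none (.word [1,2,3,4,5,8,6,5,4,3,2,1,4,3,6,5,4,3,7,3,2,1,4,3,7,2,3,4,5,6,4,8,1,2,1,0,4,3,5,7,3,8,4,2,3,7,8,1,2,3,7,5,4,1]))) .none) (.node .none (.word [8,1,0,2,1,0,3,2,1,6,5,7,3,4,2,3,7,8,6,5,4,3,2,1,7,3,8,7,5,2,3,0,1,2,0]))) (.node .none (.word [0,1,4,3,2,7,3,4,0,1,2,3,4,3,5,7,3,2,1,4,3,7,5,6,5,2,3,0,1,2]))))) (.node (.node (.node (.node (.node (.node .none (.node .none (.word [1,2,1,4,6,5,4,7,3,2,8,7,4,5,3,6,5,4,7,3,2,8,7,4,5,3,4,1,2,1,2,3,4,5,3,2,3,1,2,1,0,3,2,7,3,4,5,6,8,1,2,3,7,8,4,3,7,4,3,2,1]))) .none) (.node (.node .none (.node .none (.word [8,0,1,2,3,7,3,2,4,8,3,7,6,3,2,0,1,2,1,4,3,5,4,7,8,2,3,7,4,5,6,4,1,2,1,0,2,3,7,4,2,3,7,8,5,4,3,7,6,1,2,0])))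 .none)) (.node (.node .none (.node (.node .none (.word [1,2,3,4,5,6,5,4,2,3,2,1,4,3,6,5,4,3,7,3,2,1,4,3,7,2,3,4,5,6,4,8,1,2,1,0,4,3,5,7,3,8,4,2,3,7,8,1,2,3,7,5,4,1])) .none)) (.node (.node .none (.word [4,3,7,5,4,2,3,7,4,5,3,4,0,1,0,2,1,6,5,4,3,7,2,3,4,5,6,1,2,0,1,0])) (.word [5,4,3,5,4,7,3,4,5,2,3,4,0,1,4,3,2,7,3,4,0,1,6,5,7,3,2,8,7,3,4,5,6,1,2,3,0,1,2,0,1])))) (.node .none (.node (.node (.node (.node (.word [1,2,3,4,5,6,5,4,3,2,1,2,3,5,4,3,2,1,2,1,6,5,4,7,8,3,7,2,3,4,5,3,4,3,1,2,1]) (.word [0,1,2,1,6,7,3,2,4,3,7,3,1,2,0,1,2,6,5,4,7,8,3,7,6,3,4,5,3,4,3,2,1])) (.node (.word [5,4,3,5,4,7,3,4,5,2,3,4,0,1,0,2,1,6,5,4,3,7,2,3,4,5,6,1,2,3,0,1,0]) (.word [1,0,2,4,6,5,7,3,2,4,8,3,7,5,3,4,2,1,2,3,5,4,3,2,0,1,2,3,4,3,6,5,7,3,2,4,3,7,8,7,5,6,4,3,1,2,1,0,3,1,2,1,4,3,5,4,7,3,7,8,2,3,7,4,5,6,4,1,2])))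 .none) (.word [3,2,5,6,5,4,3,7,8,3,4,5,7,4,3,7,8,0,1,2,3,7,4,3,1,0])))) (.node (.node (.node (.node (.node .none (.node (.word [2,3,4,3,2,0,1,6,5,3,4,2,3,7,3,4,5,6,2,1,0]) (.word [1,0,4,3,2,1,6,5,4,7,3,4,5,6,2,3,4,1,5,4,3,8,7,3,4,1,2,1,0,4,6,5,4,3,7,8,4,2,3,7,4,5,4,1,2]))) .none) (.node .none (.word [4,3,7,5,4,2,3,7,4,5,3,4,1,2,3,4,5,6,5,4,3,2,1]))) (.node (.node .none (.node (.node .none (.word [4,3,7,5,4,2,3,7,4,5,3,4,0,1,4,3,2,7,3,4,0,1,6,5,7,3,2,8,7,3,4,5,6,1,2,3,0,1,2,0,1])) .none)) .none)) (.node .none (.node (.node (.node .none (.word [0,1,0,2,1,6,5,4,3,8,7,2,3,4,5,6,1,2,0,1,0])) (.node .none (.word [1,2,3,4,5,6,5,4,3,2,1,2,3,5,4,3,2,1,2,1,4,3,5,4,7,8,2,3,7,4,5,6,4,1,2,1,0,2,1,3,7,3,4,2,3,7,6,1,2,1,0]))) (.node (.node .none (.word [5,4,3,7,8,3,4,5,3,0,1,2,1,6,7,3,2,4,3,7,3,1,2,0,1,6,5,7,3,2,4,3,7,8,7,3,4,2,3,7,5,6,5,1,0,2,1,3,7,3,4,2,3,7,6,1,2,1,0]))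 .none))))))

/-- A subtree. -/
def sub43 : WTree :=
  (.node (.node (.node (.node (.node .none (.node (.word [1,2,3,4,5,6,5,4,3,2,1,0,2,1,3,7,3,4,5,3,4,2,3,7,5,6,5,1,2,3,0]) (.node (.node .none (.word [4,3,7,5,4,2,3,7,4,5,3,4,1,2,5,6,5,7,3,4,8,7,3,2,7,5,4,3,2,6,5,7,3,2,4,3,7,8,7,3,4,2,3,7,5,6,5,1,0,2,1,0,4,5,2,3,7,8,4,3,7,5,6,4,2])) .none))) (.node .none (.node (.node .none (.word [5,4,3,5,4,7,3,4,5,2,3,4,0,1,0,6,5,4,3,2,7,4,3,7,1,2,3,4,5,6,3,0,1,0])) .none))) (.node (.node (.node .none (.word [0,1,6,5,8,3,4,2,3,7,3,4,5,6,2,1,0])) (.word [5,4,3,7,8,3,4,1,2,1,4,3,5,4,7,8,2,3,7,4,5,6,2,3,4,5,1,2])) (.node (.node .none (.word [5,4,3,7,3,4,5,1,0,2,1,0,3,2,1,6,5,7,3,4,2,3,7,8,6,5,4,3,2,1,7,3,8,7,5,2,3,0,1,2,0])) (.node .none (.node .none (.word [1,2,3,4,5,8,6,5,4,3,2,1,0,1,2,3,4,7,3,8,1,2,3,7,3,4,3,2,1,0]))))))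 (.node (.node .none (.node .none (.node (.word [5,4,3,7,3,4,5,0,1,0,6,5,4,3,2,7,4,3,7,1,2,3,4,5,6,3,0,1,0]) (.node .none (.word [1,2,3,4,5,6,5,4,3,2,1,6,7,3,2,4,3,5,4,8,7,3,2,7,5,6,0,1,2,0,4,3,8,7,3,4,2,3,7,3,8,7,5,4,2,3,7,6,2]))))) (.node (.node (.word [8,0,1,5,2,7,3,2,4,5,6,5,3,4,2,3,7,8,5,2,1,0]) (.node .none (.word [2,3,4,3,2,0,1,0,2,1,6,5,4,3,7,2,3,4,5,6,1,2,3,0,1,0]))) (.node (.node (.node (.node (.word [1,2,1,0,4,5,7,3,4,1,2,3,7,5,3,4,1,2,3,0,1]) (.word [0,1,2,4,3,6,7,3,8,7,4,1,2,0,2,3,5,4,3,2,1,2,1,6,5,4,7,8,3,7,2,3,4,5,3,4,3,1,2,1,0,1,0])) .none) .none) .none)))) (.node (.node (.node (.node (.node .none (.word [0,1,2,1,6,7,3,2,4,3,7,3,1,2,0,1,2,6,5,4,7,8,3,7,6,3,4,5,3,4,2,3,2,1,0,1,0,6,5,4,3,2,7,4,3,7,1,2,3,4,5,6,3,0,1,0])) (.node (.node (.word [0,1,6,5,3,4,2,3,7,3,4,5,6,2,3,1,0])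 (.node .none (.word [1,2,1,5,4,6,5,4,7,3,2,8,7,4,5,3,6,5,4,7,3,2,8,7,4,5,3,4,1,2,1,0,4,3,7,2,3,4,1,0,8,3,1,2,1,0,3,2,7,3,4,5,6,8,1,2,3,7,8,4,3,7,4,3,2,1]))) .none)) (.node (.node (.node (.node .none (.word [2,3,4,3,2,0,1,0,2,1,6,5,4,3,7,2,3,4,5,6,1,2,0,1,0])) .none) .none) (.node .none (.node (.node .none (.word [0,2,1,0,3,2,7,8,3,7,1,2,1,0,3,2,1,6,5,4,3,7,8,5,4,2,3,7,6,0,2,1,0,3,2,7,3,4,5,6,8,1,2,3,7,8,4,3,7,4,3,2,1])) (.word [1,2,3,4,5,6,5,4,3,2,1,0,2,1,0,3,2,7,8,3,7,1,2,1,0,4,3,5,4,8,7,3,4,2,3,7,4,5,4,1,2]))))) (.node .none (.node (.node (.node .none (.word [5,4,3,7,3,4,5,0,1,0,2,1,6,5,4,3,7,2,3,4,5,6,1,2,0,1,0])) .none) .none))) (.node (.node (.node (.node (.node (.word [0,2,1,3,7,3,4,5,3,4,2,3,7,5,6,5,1,2,3,0]) (.word [8,0,1,2,4,6,7,3,2,8,7,4,1,2,0,1,2,6,5,4,7,8,3,7,6,4,5,3,4,2,3,2,1]))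 (.word [2,3,4,3,2,0,1,2,6,5,4,3,7,8,7,3,4,5,6,2,1,0])) .none) (.node (.node (.word [0,1,4,3,2,7,3,5,7,8,7,3,4,2,3,7,5,6,4,5,1,2,0]) (.node (.node (.word [8,0,2,1,0,3,2,5,4,7,8,3,7,1,2,1,6,5,4,7,8,3,7,4,5,2,3,4,3,1,2,0,1]) (.word [5,4,3,7,8,3,4,5,4,3,6,5,4,3,7,3,2,1,4,3,7,2,3,4,5,6,4,8,1,2,1,0,4,3,5,7,3,8,4,2,3,7,8,1,2,3,7,5,4,1])) .none)) (.node .none (.word [1,2,3,4,5,6,5,4,2,3,2,1,0,1,4,3,2,7,3,4,5,2,1,4,6,5,4,3,2,4,3,7,2,3,4,5,6,4,1,2,1,5,4,3,7,2,3,4,1,0])))) (.node .none (.node (.node (.node (.word [5,4,3,5,4,7,3,4,5,2,3,4,2,3,5,4,3,2,1,2,1,6,5,4,7,8,3,7,2,3,4,5,3,4,3,1,2,1]) (.node (.word [8,3,0,1,2,4,6,7,3,8,7,4,1,2,0,1,6,5,7,3,2,4,3,7,8,7,3,4,2,3,7,5,6,5,1,0,2,1,4,7,8,3,7,6,4,2,1,0]) (.word [5,4,3,7,3,4,5,2,1,4,5,4,7,3,2,4,8,7,3,4,5,6,4,0,4,3,5,4,7,8,2,3,7,4,5,6,4,1,2,4,3,2,6,5,4,3,7,4,5,6,1,2,3,4,0,1])))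 .none) (.node .none (.node (.word [1,2,3,4,5,6,5,4,2,3,2,1,0,1,2,4,6,7,3,2,8,7,4,1,2,0,1,2,6,5,4,7,8,3,7,6,4,5,3,4,2,3,2,1]) (.word [3,0,1,2,1,6,7,3,2,4,3,7,3,1,2,0,1,2,6,5,4,7,8,3,7,6,3,4,5,3,4,3,2,1]))))))))

/-- A subtree. -/
def sub44 : WTree :=
  (.node (.node sub40 sub41) (.node sub42 sub43))

/-- A subtree. -/
def sub45 : WTree :=
  (.node (.node (.node (.node (.node (.node (.node (.word [0,1,2,1,6,7,3,2,4,3,7,3,1,2,0,1,2,6,5,4,7,8,3,7,6,3,4,5,3,4,2,3,2,1,4,3,7,5,4,2,3,7,8,4,5,3,4,3]) (.word [1,2,3,4,5,8,6,5,4,2,3,2,0,2,1,0,3,2,1,6,5,7,3,4,2,3,7,8,6,5,4,3,2,1,7,3,8,7,5,2,3,0,1,2,0])) .none) (.node (.node .none (.word [0,1,2,4,6,7,3,8,7,4,1,2,0,1,6,5,7,3,2,4,3,7,8,7,3,4,2,3,7,5,6,5,1,0,2,1,4,7,8,3,7,6,4,2,1,0])) (.word [0,1,4,3,2,7,3,4,5,2,1,4,7,8,3,7,6,3,4,5,2,3,0,1,2,3,4,5,8,6,5,4,2,3,2,1])))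 (.node .none (.node (.node (.word [0,1,2,3,4,7,3,8,1,2,3,7,3,4,3,2,1,0]) (.word [2,3,4,3,2,0,2,1,0,3,2,5,4,7,8,3,7,1,2,1,6,5,4,7,8,3,7,4,5,2,3,4,3,1,2,0,1])) .none))) (.node (.node (.node (.node .none (.word [3,0,1,2,4,6,7,3,2,8,7,4,1,2,0,1,2,6,5,4,7,8,3,7,6,4,5,3,4,2,3,2,1])) .none) .none) (.node .none (.word [2,3,4,3,2,0,1,2,6,5,4,3,7,8,3,4,5,6,2,1,0])))) (.node (.node (.node (.node (.node .none (.node (.word [1,2,3,4,5,6,5,4,2,3,2,1,0,7,3,2,1,4,3,7,8,2,3,7,1,3,7,4,2,3,7,8,5,4,3,7,6,1,2,6,3,7,8,4,1,2,3,7,4,1,2,0]) (.word [1,2,4,3,7,3,2,8,7,3,4,5,4,3,7,6,3,4,2,1,5,0,4,3,7,2,3,4,1,0,8,1,2,4,3,2,5,4,7,3,1,2,3,7,8,4,3,7,5,6,4,1]))) .none) .none) (.node .none (.node (.node (.node .none (.word [5,4,3,7,8,3,4,5,3,0,1,2,4,3,6,7,3,8,7,4,1,2,0,2,3,5,4,3,2,1,2,1,6,5,4,7,8,3,7,2,3,4,5,3,4,3,1,2,1,0,1,0]))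 .none) .none))) (.node (.node (.node (.node .none (.node (.word [8,3,0,2,7,3,2,1,4,3,2,3,7,6,3,2,0,6,5,4,3,2,7,4,3,7,1,2,3,4,5,6,5]) (.word [5,4,3,7,8,3,4,5,1,0,4,3,2,1,6,5,4,7,3,4,5,6,2,3,4,1,5,4,3,8,7,3,4,1,2,1,0,4,6,5,4,3,7,8,4,2,3,7,4,5,4,1,2]))) (.word [0,1,2,1,6,7,3,2,4,3,7,3,1,2,0,2,1,3,6,5,4,3,7,2,3,4,5,6,4,5,1,2,3,2])) .none) (.node (.node (.node .none (.node .none (.word [1,2,3,4,5,7,3,2,8,7,3,4,3,7,8,2,3,7,5,4,3,2,1,0,1,0,4,3,7,3,4,2,3,7,8,4,5,3,4,2,3,7,6,3,2,5,1,4,3,2,6,5,4,3,7,4,5,6,1,2,3,4,0,1]))) .none) (.word [2,3,4,3,2,0,2,1,0,3,2,7,8,3,7,1,2,1,0,4,3,5,4,8,7,3,4,2,3,7,4,5,4,1,2]))))) (.node (.node (.node (.node .none (.node (.word [6,5,7,3,2,1,4,3,2,8,7,3,4,5,6,2,3,0,1,2,8,5,4,3,7,8,3,4,5,2,1,0,3,2,6,5,4,3,7,8,2,3,4,1,2,3,7,5,6]) (.node (.node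 .none (.word [5,4,3,5,4,7,3,4,5,2,3,4,0,1,0,2,1,6,5,4,3,7,2,3,4,5,6,1,2,0,1,0])) .none))) (.word [4,3,7,5,4,2,3,7,8,4,5,3,4,1,2,1,0,4,5,7,3,4,1,2,3,7,5,3,4,1,2,0,1])) (.node (.node (.node (.node .none (.node (.word [5,4,3,7,3,4,5,0,1,0,6,5,4,3,2,7,4,3,7,1,2,3,4,5,6,0,1,0]) (.word [5,4,3,7,8,3,4,5,3,0,1,4,3,7,3,4,0,2,1,7,3,2,4,3,5,4,2,3,7,6,5,3,4,3,0,1,2,1]))) (.node .none (.word [1,2,3,4,5,8,6,5,4,3,1,0,4,5,7,3,4,1,2,3,7,5,3,4,1,2,0,1]))) (.node (.node .none (.node (.word [8,0,2,7,3,2,4,3,8,7,3,2,1,8,7,6,1,2,1,6,7,3,2,4,3,7,3,1,2,0,1,2,6,5,4,7,8,3,7,6,3,4,5,3,4,3,2,1,6,5,3,4,2,3,7,3,4,5,6,2]) (.word [1,4,3,2,6,5,4,7,3,8,7,4,5,6,2,3,4,1,5,3,0,1,2,3,4,3,6,5,7,3,2,4,3,7,8,7,5,6,4,3,1,2,1,0,1,2,1,4,3,5,4,7,8,2,3,7,4,5,6,3,5,4,7,8,2,3,7,4,5,6,4,5,1,2,1]))) (.node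 (.node .none (.word [4,3,6,5,4,3,7,3,2,1,4,3,7,2,3,4,5,6,4,8,0,4,3,7,3,4,1,0,1,2,1,4,3,5,4,7,3,7,8,2,3,7,4,5,6,4,5,1,2])) .none))) (.node .none (.node (.node (.node .none (.word [0,1,4,3,7,3,4,0,2,1,7,3,2,4,3,5,4,2,3,7,6,5,3,4,3,0,1,2,1])) .none) (.node (.node .none (.word [8,1,0,2,4,6,5,4,7,3,8,7,4,5,3,4,2,1,2,3,7,8,4,5,3,4,2,3,7,6,3,2,1,4,3,2,6,5,4,3,7,4,5,6,2,3,4,0,1])) .none))))) (.node (.node (.node (.node (.word [2,3,5,4,3,2,1,2,1,4,3,5,4,7,3,7,8,7,4,5,6,2,3,4,5,1,2]) (.word [1,0,2,4,6,7,3,2,8,7,3,5,4,3,7,5,4,2,1,3,8,1,2,1,4,3,5,4,7,8,2,3,7,4,5,6,4,1,3,4,5,7,2,3,7,8,4,3,7,5,6,2,0,1])) (.node (.node (.node .none (.word [1,2,3,4,5,8,6,5,4,3,2,1,0,1,2,3,4,3,2,1,2,1,6,7,3,2,4,3,7,3,1,2,0,1,2,6,5,4,7,8,3,7,6,3,4,5,3,4,3,2,1,0,1,0])) .none) .none)) (.node (.node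 (.node .none (.node .none (.word [4,3,7,5,4,2,3,7,8,4,5,3,4,0,1,2,1,6,7,3,2,4,3,7,3,1,2,0,1,2,6,5,4,7,8,3,7,6,3,4,5,3,4,3,2,1]))) .none) (.node (.word [2,3,4,3,2,0,1,2,1,6,7,3,2,4,3,7,3,1,2,0,1,2,6,5,4,7,8,3,7,6,3,4,5,3,4,2,3,2,1]) (.node (.node .none (.word [1,2,3,4,5,8,6,5,4,2,3,2,1,0,1,2,1,6,7,3,2,4,3,7,3,1,2,0,1,2,6,5,4,7,8,3,7,6,3,4,5,3,4,3,2,1])) .none)))) (.node (.node (.node (.node .none (.word [2,3,4,5,4,3,2,1,2,1,6,5,4,7,8,3,7,2,3,4,5,3,4,3,1,2,1])) .none) (.node (.node (.node .none (.word [3,0,1,2,4,3,6,7,3,8,7,4,1,2,0,2,3,5,4,3,2,1,2,1,6,5,4,7,8,3,7,2,3,4,5,3,4,3,1,2,1,0,1,0])) .none) .none)) (.node (.node (.word [0,1,4,3,2,7,3,4,0,1,2,3,4,3,5,7,3,2,1,4,3,7,5,6,5,0,1,2,3,1,2]) (.node (.node .none (.word [3,1,0,4,6,5,7,3,2,4,3,7,8,7,4,5,3,4,2,1,2,3,5,4,3,2,5,4,3,7,3,4,5,1,2,1,0,4,6,5,4,3,7,8,4,2,3,7,5,4,1,2]))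 .none)) .none)))))

/-- A subtree. -/
def sub46 : WTree :=
  (.node (.node (.node (.node (.word [5,4,3,7,8,3,4,5]) (.node (.node .none (.node .none (.word [1,2,3,4,5,6,5,4,2,3,2,1,2,3,5,4,3,2,1,2,1,4,3,5,4,7,8,2,3,7,4,5,6,4,1,2,1,0,2,1,3,7,3,4,2,3,7,6,1,2,1,0]))) (.node .none (.node (.node .none (.word [1,2,3,4,5,6,5,4,3,2,1,4,3,6,5,4,3,7,3,2,1,4,3,7,2,3,4,5,6,4,8,1,2,1,0,4,3,5,7,3,8,4,2,3,7,8,1,2,3,7,5,4,1])) .none)))) (.node (.node (.node (.word [8,0,2,1,0,3,2,5,4,7,8,3,7,0,1,2,1,6,7,3,2,4,3,7,3,1,2,0,1,2,6,5,4,7,8,3,7,6,3,4,5,3,4,3,2,1,6,5,7,3,2,4,7,5,3,4,2,3,7,5,6]) (.node .none (.word [1,0,2,5,4,6,5,4,7,3,8,7,4,5,3,4,2,1,0,2,1,0,7,5,4,3,7,8,2,3,7,6,4,5,1,4,3,2,6,5,4,3,7,4,5,6,1,2,3,4,0,1]))) .none) (.node (.node (.node (.word [1,2,3,4,5,6,5,4,2,3,2,1]) (.word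 [3,0,2,1,6,7,3,4,5,8,7,3,2,4,7,3,2,0,1,6,5,7,3,2,4,3,7,8,7,3,4,2,3,7,5,6,5,2,4,3,5,4,7,8,3,7,4,5,6,4,5,2,0,1])) .none) (.node .none (.node (.word [0,1,2,3,4,3,6,5,7,3,2,4,3,7,8,7,5,6,4,3,1,2,1,0]) (.word [2,3,4,3,2,0,1,0,6,5,4,3,2,7,4,3,7,1,2,3,4,5,6,0,1,0])))))) (.node (.node .none (.node (.node .none (.node (.node .none (.word [3,0,2,1,0,3,2,7,8,3,7,1,2,1,0,3,2,1,6,5,4,3,7,8,5,4,2,3,7,6,0,2,1,0,3,2,7,3,4,5,6,8,1,2,3,7,8,4,3,7,4,3,2,1])) .none)) .none)) (.node (.node (.word [1,2,3,4,5,8,6,5,4,3,2,1,5,0,2,1,7,3,2,1,4,3,7,6,5,2,3,2,0]) (.node .none (.node (.node .none (.word [1,0,2,1,4,3,2,6,5,7,3,4,7,8,3,7,5,3,4,1,2,1,4,3,7,3,4,5,1,4,3,2,6,5,4,3,7,4,5,6,1,2,3,4,0,1])) .none))) (.node .none (.node (.node (.node .none (.word [5,4,3,7,8,3,4,5,3,0,1,4,3,2,7,3,4,5,0,1,2,1,4,3,5,4,7,8,2,3,7,4,5,6,4,1,2,1,0,5,4,3,7,2,3,4,1,0]))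 .none) .none))))) (.node (.node (.node (.word [4,3,7,5,4,2,3,7,8,4,5,3,4,3]) (.node .none (.node (.node (.node (.word [5,1,4,3,2,6,5,4,7,3,4,5,6,2,3,4,5,1]) (.word [1,2,3,4,5,8,6,5,4,2,3,2,0,2,4,6,5,4,7,3,8,7,4,5,3,4,2,1,2,3,7,8,4,5,3,4,2,3,7,6,3,2,1,4,3,2,6,5,4,3,7,4,5,6,2,3,4,0,1])) .none) (.word [3,0,1,4,3,2,7,3,4,0,1,6,5,7,3,2,8,7,3,4,5,6,1,2,3,0,1,2,0,1])))) (.node (.node (.node (.node .none (.word [1,2,3,4,5,6,5,4,3,2,1,0,1,4,3,2,7,3,4,7,3,8,7,1,2,3,1,2,1,0])) .none) (.node .none (.node .none (.word [1,2,3,4,5,8,6,5,4,3,2,1,6,7,3,2,4,3,5,4,8,7,3,2,7,5,6,0,1,2,0,4,3,8,7,3,4,2,3,7,3,8,7,5,4,2,3,7,6,2])))) (.node .none (.node (.node (.node .none (.word [3,1,0,2,4,6,5,4,7,3,8,7,4,5,3,4,2,1,2,3,7,8,4,5,3,4,2,3,7,6,3,2,1,4,3,2,6,5,4,3,7,4,5,6,2,3,4,0,1])) (.word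 [1,2,3,4,5,8,6,5,4,2,3,1,0,4,5,7,3,4,1,2,3,7,5,3,4,1,2,0,1])) .none)))) (.node (.node (.node (.node (.node (.node .none (.word [5,4,3,7,8,3,4,5,3,0,1,4,3,2,7,3,4,0,1,6,5,7,3,2,8,7,3,4,5,6,1,2,3,0,1,2,0,1])) .none) .none) .none) (.node (.node (.node .none (.word [5,4,3,7,8,3,4,5,3,6,5,7,3,2,4,3,5,7,4,2,3,7,5,6,1,2,1,4,3,5,4,7,8,2,3,7,4,5,6,4,1,2,1,0,2,3,7,8,1,2,3,7,1,0])) .none) .none)) (.node .none (.node (.node (.node (.node .none (.word [2,3,4,3,2,0,1,7,3,2,1,8,7,3,2,1,2,1,6,7,3,2,4,3,7,3,1,2,0,1,2,6,5,4,7,8,3,7,6,3,4,5,3,4,3,2,1,0,5,1,0])) .none) .none) .none)))))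

/-- A subtree. -/
def sub47 : WTree :=
  (.node (.node (.node (.node (.word [5,4,3,7,8,3,4,5,3]) (.node (.node .none (.node (.node .none (.word [4,3,7,5,4,2,3,7,8,4,5,3,4,0,2,1,0,3,2,7,8,3,7,1,4,3,2,6,5,4,8,7,3,4,5,6,1,2,3,4,0,1])) .none)) (.node .none (.word [0,1,2,4,6,7,3,2,8,7,4,1,2,0,1,2,6,5,4,7,8,3,7,6,4,5,3,4,2,3,2,1])))) (.node .none (.node (.node (.node (.node .none (.word [1,2,3,4,5,8,6,5,4,3,2,1,0,2,7,3,2,1,4,3,2,3,7,6,3,2,0,6,5,4,3,2,7,4,3,7,1,2,3,4,5,6,5])) .none) (.word [0,1,2,1,6,7,3,2,4,3,7,3,1,2,0,1,2,6,5,4,7,8,3,7,6,3,4,5,3,4,2,3,2,1,2,5,6,5,4,3,7,8,3,4,5,7,4,3,7,8,0,1,2,3,7,4,3,1,0])) .none))) (.node (.node (.node (.node (.node (.node (.word [8,0,2,1,3,7,3,4,5,3,4,2,3,7,5,6,5,1,2,3,0]) (.word [2,3,4,3,2,0,1,0,2,1,6,5,4,3,8,7,2,3,4,5,6,1,2,0,1,0]))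 .none) (.word [4,3,7,5,4,2,3,7,4,5,3,4,0,1,0,6,5,4,3,2,7,4,3,7,1,2,3,4,5,6,3,0,1,0])) .none) (.node (.word [8,5,1,2,1,4,3,5,4,7,8,2,3,7,4,5,6,2,3,4,5,1,2]) (.node (.node (.node (.word [0,1,2,4,6,7,3,2,8,7,4,1,2,0,1,2,3,4,5,8,6,5,4,3,2,1,0,2,1,3,7,3,4,2,3,7,6,1,2,1,0]) (.word [8,3,1,0,6,5,7,3,2,4,3,5,7,8,7,3,4,2,3,7,5,6,1,2,3,7,8,4,5,3,4,2,3,7,6,3,2,1,6,5,7,3,2,4,3,7,8,7,5,3,4,2,3,7,5,6,0,1])) (.word [8,3,0,1,0,2,1,6,5,4,3,7,2,3,4,5,6,1,2,0,1,0])) .none))) (.word [8,0,1,2,1,6,7,3,2,4,3,7,3,1,2,0,1,2,6,5,4,7,8,3,7,3,4,5,3,4,2,3,2,1]))) (.node (.node (.node (.node .none (.node (.node .none (.word [4,3,7,5,4,2,3,7,4,5,3,4,0,1,0,6,5,4,3,2,7,4,3,7,1,2,3,4,5,6,0,1,0])) .none)) (.node (.node .none (.word [2,3,5,4,3,2,1,2,1,6,5,4,7,8,3,7,2,3,4,5,3,4,3,1,2,1])) (.node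 (.node .none (.word [2,1,4,5,4,7,3,2,4,8,7,3,4,5,6,4,0,1,2,6,5,7,3,2,4,3,7,8,7,3,4,2,3,7,5,6,5,4,3,2,6,5,4,8,3,7,4,5,6,1,2,3,4,0,1])) .none))) (.node (.node (.node (.word [5,4,3,5,4,7,3,4,5,2,3,4,0,2,1,0,3,2,7,8,3,7,1,2,1,0,4,3,5,4,8,7,3,4,2,3,7,4,5,4,1,2]) (.node (.node .none (.word [2,6,5,4,3,7,3,2,4,3,5,6,1,2,1,4,3,5,4,7,8,2,3,7,4,5,6,4,1,2,1,0,2,1,7,3,2,8,7,3,4,1,2,3,7,1,0])) (.word [4,3,7,5,4,2,3,7,4,5,3,4,1,0,2,1,4,3,2,6,5,7,3,4,7,8,3,7,5,3,4,1,2,1,4,3,8,7,3,4,1,2,3,4,5,7,3,2,4,3,7,5,6,1,2,3,0,1,2,0,1]))) (.node .none (.word [1,2,3,4,5,6,5,4,3,2,1,0,1,2,4,6,7,3,2,8,7,4,1,2,0,1,2,6,5,4,7,8,3,7,6,4,5,3,4,2,3,2,1]))) (.node (.node .none (.node (.node .none (.word [8,0,1,4,3,7,3,4,0,2,1,7,3,2,4,3,5,4,2,3,7,6,5,3,4,3,0,1,2,1])) .none)) .none))) (.node (.node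 (.node (.node (.node .none (.node .none (.word [2,3,4,3,2,0,1,2,4,3,6,7,3,8,7,4,1,2,0,2,3,5,4,3,2,1,2,1,6,5,4,7,8,3,7,2,3,4,5,3,4,3,1,2,1,0,1,0]))) .none) .none) (.node (.node (.node .none (.word [0,1,2,1,6,7,3,2,4,3,7,3,1,2,0,1,6,5,7,3,2,4,3,7,8,7,3,4,2,3,7,5,6,5,1,0,2,1,3,7,3,4,2,3,7,6,1,2,1,0])) .none) (.node .none (.word [2,3,4,3,2,0,1,2,4,6,7,3,2,8,7,4,1,2,0,2,1,3,6,5,4,3,8,7,2,3,4,5,6,4,5,3,1,2])))) (.node (.node .none (.node .none (.word [2,1,7,3,2,4,5,6,8,7,3,4,1,2,3,7,5,3,4,3,1,2,1,4,7,3,2,4,3,8,7,3,4,8,2,3,7,6,2,8,1,2,1,4,3,5,4,7,8,2,3,7,4,5,6,4,1,2,1,0,2,1,0,6,5,7,2,3,7,8,4,5,3,4,2,3,7,6]))) (.node (.node (.node .none (.word [1,2,3,4,5,6,5,4,2,3,2,1,0,1,4,3,2,7,3,4,7,3,8,7,2,3,1,2,1,0])) .none) .none)))))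

/-- A subtree. -/
def sub48 : WTree :=
  (.node (.node (.node (.node (.node (.node (.node (.node (.word [8,0,1,4,3,2,7,3,4,5,2,1,4,7,8,3,7,6,3,4,5,2,3,0]) (.word [0,1,4,3,2,7,3,4,5,0,1,2,1,4,3,5,4,7,8,2,3,7,4,5,6,4,1,2,1,0,5,4,3,7,2,3,4,1,0])) .none) .none) (.node (.word [8,2,1,6,5,7,3,2,8,7,3,4,5,8,1,2,3,7,3,4,3,0,1,2,1,3,1,2,3,4,5,8,6,5,4,3,2,1,0,7,3,2,4,3,7,8,1,2,3,7,1,2,0]) (.word [2,3,4,3,2,0,2,7,3,2,1,4,3,2,3,7,6,3,2,0,6,5,4,3,2,7,4,3,7,1,2,3,4,5,6,5]))) (.node (.node (.node .none (.word [1,0,2,4,6,7,3,2,8,7,3,5,4,3,7,5,4,2,1,8,0,4,3,7,2,3,4,1,0,5,1,2,4,3,6,7,3,4,5,4,3,7,8,2,3,7,3,4,2,1])) .none) (.node (.node (.node .none (.word [3,0,1,2,3,4,3,2,1,2,1,6,7,3,2,4,3,7,3,1,2,0,1,2,6,5,4,7,8,3,7,6,3,4,5,3,4,3,2,1,0,1,0])) .none) (.node (.node (.word [8,0,2,1,0,3,2,5,7,8,3,7,1,2,1,4,3,5,4,7,8,2,3,7,4,5,6,4,1,3,4,5,7,3,2,4,3,7,5,6,1,2,3,0,1,2,0,1])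 (.word [5,4,3,7,8,3,4,5,3,1,0,2,4,6,5,4,7,3,8,7,4,5,3,4,2,1,2,3,7,8,4,5,3,4,2,3,7,6,3,2,1,4,3,2,6,5,4,3,7,4,5,6,2,3,4,0,1])) .none)))) (.node (.node (.node (.node (.word [0,1,5,2,7,3,2,4,5,6,5,3,4,2,3,7,8,5,2,1,0]) (.node (.word [8,3,0,2,1,0,3,2,5,7,8,3,7,1,2,1,4,3,5,4,7,8,2,3,7,4,5,6,4,1,3,4,5,7,3,2,4,3,7,5,6,1,2,3,0,1,2,0,1]) (.word [1,0,2,1,4,3,2,6,5,7,3,4,7,8,3,7,5,3,4,1,2,1,5,4,3,7,3,4,5,1,4,3,2,6,5,4,3,7,4,5,6,1,2,3,4,0,1]))) .none) .none) (.node (.node .none (.word [0,1,0,6,5,4,3,2,7,4,3,7,1,2,3,4,5,6,3,0,1,0])) (.word [2,3,4,3,2,0,1,4,3,2,7,3,4,0,1,6,5,7,3,2,8,7,3,4,5,6,1,2,3,0,1,2,0,1])))) (.node (.node (.word [8,3]) (.node .none (.node .none (.node (.node .none (.word [6,5,7,3,2,1,4,3,2,8,7,3,4,5,6,2,3,0,1,2,5,4,3,7,3,4,5,2,3,4,3,2,5,1,2,1,0,3,2,1,6,5,4,3,7,8,5,4,2,3,7,6,0,4,3,2,6,5,4,8,3,7,4,5,6,1,2,3,4,0,1]))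 .none)))) (.node (.node (.word [8,0,1,2,4,6,7,3,2,8,7,4,1,2,0,1,2,6,5,4,7,3,7,8,7,6,4,5,3,4,2,3,2,1]) (.node (.node (.word [1,2,3,4,5,6,5,4,2,3,2,1,0,1,2,1,6,7,3,2,4,3,7,3,1,2,0,1,2,6,5,4,7,3,7,8,7,3,4,5,3,4,3,2,1]) (.node (.word [1,2,3,4,5,6,5,4,3,2,1,2,5,6,5,4,3,7,3,2,4,3,5,6,0,4,3,7,2,3,4,1,2,3,6,7,3,8,4,2,3,7,3,2,1,0]) (.word [0,1,2,3,7,3,2,4,8,3,7,6,3,2,0,1,2,4,5,7,3,4,5,3,7,8,2,3,7,6,4,2,1,0,2,3,7,4,2,3,7,8,5,4,3,7,6,1,2,0]))) (.node .none (.word [5,4,3,7,3,4,5,0,1,0,1,2,1,0,3,2,1,6,5,4,3,7,8,5,4,2,3,7,6,0,1,0,2,3,4,3,2,1,0])))) (.node (.node .none (.node (.node .none (.word [5,4,3,7,8,3,4,5,0,1,4,3,2,7,3,4,5,0,1,2,1,4,3,5,4,7,8,2,3,7,4,5,6,4,1,2,1,0,5,4,3,7,2,3,4,1,0])) .none)) .none)))) (.node (.node (.node (.node (.node .none (.word [5,4,3,7,3,4,5,0,1,0,2,1,6,5,4,3,7,2,3,4,5,6,1,2,3,0,1,0]))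 .none) (.node .none (.node (.node (.node (.word [5,4,3,5,4,7,3,4,5,2,3,4,0,1,6,5,3,4,2,3,7,3,4,5,6,2,1,0]) (.word [3,0,1,2,3,4,3,2,0,1,6,5,7,3,2,4,3,7,8,7,3,4,2,3,7,5,6,5,1,0,2,3,4,3,2,1,0])) .none) (.word [5,4,3,7,8,3,4,5,3,0,1,2,3,4,3,6,5,7,3,2,4,3,7,8,7,5,6,4,3,1,2,1,0])))) (.node .none (.node (.node (.node .none (.word [3,2,1,4,5,4,7,3,2,4,8,7,3,4,5,6,4,0,1,2,6,5,7,3,2,4,3,7,8,7,3,4,2,3,7,5,6,5,4,3,2,6,5,4,8,3,7,4,5,6,1,2,3,4,0,1])) (.node (.node (.word [5,4,3,5,4,7,3,4,5,2,3,4,0,1,2,6,5,4,3,7,3,4,5,6,2,3,1,0]) (.word [8,3,4,3,6,5,4,3,7,3,2,1,4,3,7,2,3,4,5,6,4,8,1,2,1,0,4,3,5,7,3,8,4,2,3,7,8,1,2,3,7,5,4,1])) .none)) .none))) (.node (.node (.node .none (.node .none (.node (.node .none (.word [1,2,4,3,7,3,2,8,7,3,4,5,4,3,7,6,3,4,2,1,5,4,3,7,3,4,0,5,1,0,2,3,4,5,3,2,1,2,4,3,5,4,7,8,7,3,4,2,3,7,5,6,4,0,1]))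 .none))) (.word [0,7,3,2,1,4,3,2,8,7,3,4,2,8,1,2,3,7,8,5,4,3,7,6,2,6,3,7,8,4,1,2,3,7,4,1,2,0])) (.node (.node (.node (.node .none (.node .none (.word [1,6,5,4,7,3,2,1,4,3,7,8,7,3,4,2,3,7,4,5,6,1,8,0,4,3,7,2,3,4,1,2,3,7,4,2,3,7,8,5,4,3,7,6,1,2,0,1,2,1,0,3,4,3,7,3,2,1,8,5,4,3,7,8,2,3,7,5,6,1,2]))) .none) .none) (.node .none (.node .none (.node .none (.word [2,3,4,3,2,0,1,4,3,7,3,4,0,2,1,7,3,2,4,3,5,4,2,3,7,6,5,3,4,3,0,1,2,1]))))))))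

/-- A subtree. -/
def sub49 : WTree :=
  (.node (.node sub45 sub46) (.node sub47 sub48))

/-- A subtree. -/
def sub50 : WTree :=
  (.node (.node (.node (.node .none (.node (.node (.node .none (.node (.word [3,0,1,2,3,4,3,6,5,7,3,2,4,3,7,8,7,5,6,4,3,1,2,1,0]) (.word [2,1,4,5,4,7,3,2,4,8,7,3,4,5,6,4,0,1,2,1,0,7,3,8,1,2,3,7,8,5,4,3,7,6,2,0,3,1,2,4,3,5,7,3,8,4,2,3,7,5,6,4,2,0,1]))) .none) (.node .none (.word [8,0,1,2,1,6,7,3,2,4,3,7,3,1,2,0,1,2,6,5,4,7,3,7,8,7,6,3,4,5,3,4,3,2,1])))) (.node (.node (.node (.node (.node .none (.word [1,2,3,4,5,6,5,4,3,2,1,0,1,2,3,4,7,3,8,1,2,3,7,8,3,4,3,2,1,0])) (.node .none (.word [2,1,4,5,4,7,3,2,4,8,7,3,4,5,6,4,0,4,3,5,4,7,8,2,3,7,4,5,6,4,1,2,4,3,2,6,5,4,3,7,4,5,6,1,2,3,4,0,1]))) .none) (.node (.node .none (.word [4,3,7,5,4,2,3,7,4,5,3,4,0,1,0,1,2,1,0,3,2,1,6,5,4,3,7,8,5,4,2,3,7,6,0,1,0,2,3,4,3,2,1,0]))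 .none)) .none)) (.node (.node (.node (.node (.node .none (.node .none (.word [5,4,3,7,3,4,5,0,2,1,0,3,2,7,8,3,7,1,4,3,2,6,5,4,8,7,3,4,5,6,1,2,3,4,0,1]))) .none) (.word [5,4,3,7,8,3,4,5,0,1,2,4,6,7,3,2,8,7,4,1,2,0,1,2,6,5,4,7,3,7,8,7,6,4,5,3,4,2,3,2,1])) (.node .none (.node (.node (.node .none (.word [5,4,3,7,8,3,4,5,3,0,1,4,3,2,7,3,4,0,2,3,5,4,3,2,1,2,1,6,5,4,7,8,3,7,2,3,4,5,3,4,3,1,2,1,0,4,3,7,2,3,4,1,0])) .none) .none))) (.node (.node (.node .none (.node (.node (.word [5,4,3,7,8,3,4,5,4,3,7,3,4,1,2,1,0,4,3,5,7,3,2,3,4,1,2,3,7,8,5,4,2,1]) (.word [4,3,6,5,4,3,7,3,2,1,4,3,7,2,3,4,5,6,4,3,1,2,4,5,7,3,4,5,3,7,8,2,3,7,6,4,2,1,0,2,3,7,8,1,2,3,7,5,1,0])) .none)) (.node .none (.node (.node .none (.word [3,2,1,4,5,4,7,3,2,4,8,7,3,4,5,6,4,0,4,3,5,4,7,8,2,3,7,4,5,6,4,1,2,4,3,2,6,5,4,3,7,4,5,6,1,2,3,4,0,1]))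 .none))) (.node (.node (.word [0,1,2,6,5,4,3,7,3,4,5,6,2,3,1,0]) (.node .none (.word [1,2,3,4,5,8,6,5,4,2,3,2,1,0,1,2,3,4,3,6,5,7,3,2,4,3,7,8,7,5,6,4,3,1,2,1,0]))) .none)))) (.node (.node (.node (.node .none (.node (.node .none (.node .none (.word [5,4,3,7,8,3,4,5,1,4,6,5,7,3,2,4,3,7,8,7,4,5,3,4,2,1,0,2,1,4,6,5,4,3,2,4,3,7,2,3,4,5,6,4,1,2,1,0,1,2,4,5,7,3,4,5,3,7,8,2,3,7,6,4,2,0,1]))) .none)) (.node (.node .none (.node (.node .none (.word [8,3,0,1,2,3,4,3,2,1,2,1,6,7,3,2,4,3,7,3,1,2,0,1,2,6,5,4,7,8,3,7,6,3,4,5,3,4,3,2,1,0,1,0])) .none)) .none)) (.node (.node (.node (.node (.node .none (.word [2,3,4,3,2,1,6,5,7,3,4,5,8,7,3,2,4,3,7,8,4,3,7,5,6,2,1,4,3,5,4,7,8,2,3,7,4,5,6,4,1,2,1,0,6,5,7,3,2,4,3,7,8,1,2,3,7,4,5,6,3,2,0])) .none) .none) (.node .none (.node (.node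 .none (.word [8,2,6,5,4,3,7,3,2,4,3,5,6,1,2,1,4,3,5,4,7,8,2,3,7,4,5,6,4,1,2,1,0,2,1,7,3,2,8,7,3,4,1,2,3,7,1,0])) .none))) (.node (.node .none (.node .none (.word [1,2,3,4,5,8,6,5,4,3,2,1,0,2,1,0,3,2,7,8,3,7,1,2,1,0,4,3,5,4,8,7,3,4,2,3,7,4,5,4,1,2]))) (.node (.word [5,4,3,7,8,3,4,5,0,1,2,4,6,7,3,8,7,4,1,2,0,1,6,5,7,3,2,4,3,7,8,7,3,4,2,3,7,5,6,5,1,0,2,1,4,7,8,3,7,6,4,2,1,0]) (.node .none (.word [1,2,3,4,5,8,6,5,4,2,3,2,1,0,2,7,3,2,1,4,3,2,3,7,6,3,2,0,6,5,4,3,2,7,4,3,7,1,2,3,4,5,6,5])))))) (.node (.node (.node (.node .none (.word [5,4,3,7,8,3,4,5,0,1,7,3,2,1,4,8,7,3,2,0,2,3,5,4,3,2,1,2,1,6,5,4,7,8,3,7,2,3,4,5,3,4,3,1,2,1,6,5,7,3,2,4,7,5,3,4,2,3,7,5,6])) (.node .none (.node (.node .none (.word [2,1,4,5,4,7,3,2,4,8,7,3,4,5,6,4,0,1,2,1,5,4,3,7,3,4,5,4,3,7,3,4,1,4,3,2,6,5,4,8,3,7,4,5,6,1,2,3,4,0,1]))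 .none))) (.node .none (.node (.node (.node .none (.word [1,2,3,4,5,6,5,4,3,2,1,0,1,2,1,6,7,3,2,4,3,7,3,1,2,0,1,2,6,5,4,7,8,3,7,6,3,4,5,3,4,3,2,1])) .none) (.node (.word [0,2,1,0,3,2,7,8,3,7,1,2,1,0,4,3,5,4,8,7,3,4,2,3,7,4,5,4,1,2]) (.word [1,0,6,5,7,3,2,4,3,5,7,8,7,3,4,2,3,7,5,6,1,2,3,7,8,4,5,3,4,2,3,7,6,3,2,1,6,5,7,3,2,4,3,7,8,7,5,3,4,2,3,7,5,6,0,1]))))) (.node (.node (.node (.node .none (.word [5,4,3,5,4,7,3,4,5,2,3,4,0,1,4,3,7,3,4,0,2,1,7,3,2,4,3,5,4,2,3,7,6,5,3,4,3,0,1,2,1])) (.node (.node .none (.word [5,4,3,7,8,3,4,5,0,1,2,1,6,7,3,2,4,3,7,3,1,2,0,1,2,6,5,4,7,8,3,7,6,3,4,5,3,4,3,2,1])) .none)) (.node (.node (.word [0,1,0,2,1,6,5,4,3,7,8,2,3,4,5,6,1,2,0,1,0]) (.word [1,2,3,4,5,6,5,4,3,2,1,0,1,2,3,4,3,6,5,7,3,2,4,3,7,8,7,5,6,4,3,1,2,1,0])) (.node .none (.word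 [2,5,6,5,4,3,7,3,2,4,3,5,6,1,2,4,5,7,3,4,5,3,7,8,2,3,7,6,4,2,1,0,2,3,7,8,1,2,3,7,1,0])))) (.node (.node .none (.word [1,2,3,4,5,6,5,4,3,2,1,5,0,2,1,3,7,3,4,2,3,7,6,5,1,2,0])) (.node (.node .none (.word [6,5,7,3,2,4,3,5,7,4,2,3,7,5,6,1,2,1,0,3,2,1,6,5,4,3,7,8,5,4,2,3,7,6,0,2,4,3,5,4,7,8,3,7,4,5,6,4,5,2,1])) .none))))))

/-- A subtree. -/
def sub51 : WTree :=
  (.node (.node (.node (.node (.node (.node (.node (.word [5,0,2,1,3,6,8,7,3,4,2,3,7,5,1,2,3,0]) (.word [1,6,7,3,2,4,3,5,4,8,7,3,2,3,7,5,4,3,2,1,5,4,3,8,7,3,4,5,1,2,3,4,5,6,5,4,2,3,2,1,0,1,2,3,4,3,6,5,7,3,2,4,3,7,8,7,5,6,4,3,1,2,0])) (.word [5,4,3,5,4,7,3,4,5,2,3,4,0,1,2,6,5,4,3,7,3,4,5,6,2,1,0])) (.node (.node .none (.word [8,3,0,1,2,4,6,7,3,2,8,7,4,1,2,0,1,2,6,5,4,7,8,3,7,6,4,5,3,4,2,3,2,1])) .none)) (.node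 (.word [1,2,3,4,5,6,5,4,3,2,1,5,0,2,1,7,3,2,1,4,3,7,6,5,2,3,2,0]) (.node (.node .none (.word [5,4,3,7,3,4,5,1,0,2,1,4,3,2,6,5,7,3,4,7,8,3,7,5,3,4,1,2,1,4,3,8,7,3,4,1,2,3,4,5,7,3,2,4,3,7,5,6,1,2,3,0,1,2,0,1])) (.node (.node (.word [5,4,3,5,4,7,3,4,5,2,3,4,0,1,6,5,3,4,2,3,7,3,4,5,6,2,3,1,0]) (.word [8,0,1,2,3,4,3,2,1,2,1,6,7,3,2,4,3,7,3,1,2,0,1,2,6,5,4,7,8,3,7,6,3,4,5,3,4,3,2,1,0,1,0])) .none)))) (.node (.word [0,1,2,1,6,7,3,2,4,3,7,3,1,2,0,1,2,6,5,4,7,8,3,7,3,4,5,3,4,2,3,2,1]) (.node .none (.node .none (.node (.node .none (.word [8,3,0,1,4,3,7,3,4,0,2,1,7,3,2,4,3,5,4,2,3,7,6,5,3,4,3,0,1,2,1])) .none))))) (.node (.node (.node (.node .none (.node .none (.word [1,2,3,4,5,8,6,5,4,3,2,1,0,1,2,3,4,3,6,5,7,3,2,4,3,7,8,7,5,6,4,3,1,2,1,0]))) (.word [3,1,2,1,0,4,5,7,3,4,1,2,3,7,5,3,4,1,2,3,0,1]))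 (.node .none (.word [2,6,7,3,2,4,3,5,7,8,3,7,3,2,4,3,7,8,3,4,1,4,3,2,6,5,4,3,7,4,5,6,1,2,3,4,0,6,5,7,3,2,4,3,7,8,7,3,4,2,3,7,5,6,5,1,2,3,7,8,7,4,5,3,4,2,3,7,6,3,2]))) (.node (.node (.node (.node .none (.word [5,4,3,7,8,3,4,5,0,2,7,3,2,1,4,3,2,3,7,6,3,2,0,6,5,4,3,2,7,4,3,7,1,2,3,4,5,6,5])) .none) (.node (.node (.word [0,1,4,3,2,7,3,4,5,2,1,4,7,8,3,7,6,3,4,5,2,3,1,4,3,2,7,3,4,7,3,8,7,1,2,3,1,2,1,0]) (.word [0,1,0,2,1,6,5,4,3,7,2,3,4,5,6,1,2,0,1,0])) .none)) (.node (.node .none (.node .none (.word [1,2,3,4,5,8,6,5,4,2,3,2,1,0,2,6,7,3,4,5,8,3,7,1,2,0,2,6,7,3,2,8,4,3,7,8,3,4,2,3,7,4,0,2,1,7,3,8,5,4,3,7,6,2,0]))) .none)))) (.node (.node (.node (.node (.node (.node (.word [0,1,4,3,2,7,3,4,5,2,1,4,7,8,3,7,6,3,4,5,2,3,0]) (.word [0,2,1,6,7,3,4,5,8,7,3,2,4,7,3,2,0,1,6,5,7,3,2,4,3,7,8,7,3,4,2,3,7,5,6,5,2,4,3,5,4,7,8,3,7,4,5,6,4,5,2,0,1]))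 .none) (.node .none (.node .none (.word [3,4,3,6,5,4,3,7,3,2,1,4,3,7,2,3,4,5,6,4,5,4,3,7,8,3,4,5,1,2,1,0,4,3,5,7,3,8,4,2,3,7,8,1,2,3,7,5,4,1])))) (.node (.node (.node (.node .none (.word [1,2,3,4,5,6,5,4,2,3,2,0,2,4,6,5,4,7,3,8,7,4,5,3,4,2,1,2,3,7,8,4,5,3,4,2,3,7,6,3,2,1,4,3,2,6,5,4,3,7,4,5,6,2,3,4,0,1])) (.word [1,2,3,4,5,8,6,5,4,3,2,0,2,1,0,3,2,1,6,5,7,3,4,2,3,7,8,6,5,4,3,2,1,7,3,8,7,5,2,3,0,1,2,0])) .none) .none)) (.node (.node (.node (.word [0,1,4,3,2,7,3,4,5,2,1,4,7,8,3,7,6,3,4,5,2,3,0,4,3,7,5,4,2,3,7,8,4,5,3,4,3]) (.node .none (.word [8,3,4,3,6,5,4,3,7,3,2,1,4,3,7,2,3,4,5,6,4,5,4,3,7,8,3,4,5,1,2,1,0,4,3,5,7,3,8,4,2,3,7,8,1,2,3,7,5,4,1]))) .none) (.node .none (.node (.node (.word [0,1,0,2,1,6,5,4,3,7,8,7,2,3,4,5,6,1,2,0,1,0]) (.word [3,0,2,1,0,3,2,5,4,7,8,3,7,2,3,5,4,3,2,1,2,1,6,5,4,7,8,3,7,2,3,4,5,3,4,3,1,2,1,0,5,1,0]))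 .none)))) (.node (.node (.node (.node (.node .none (.word [2,3,4,3,2,0,1,2,6,5,4,3,8,7,3,4,5,6,2,1,0])) .none) .none) (.node (.node .none (.word [1,2,3,4,5,8,6,5,4,3,2,1,0,1,2,4,6,7,3,2,8,7,4,1,2,0,1,2,6,5,4,7,8,3,7,6,4,5,3,4,2,3,2,1])) (.node .none (.node (.node .none (.word [1,0,4,3,2,6,5,4,7,3,4,5,6,2,3,4,1,2,6,7,3,2,8,4,3,7,8,3,4,2,3,7,4,1,2,4,3,5,7,3,8,4,2,3,7,5,6,4,2,0,1])) .none)))) (.node (.node (.node (.node (.node .none (.word [1,2,3,4,5,6,5,4,3,2,1,0,1,2,3,4,7,3,8,1,2,3,7,3,4,3,2,1,0])) .none) .none) (.node (.node (.word [5,4,3,7,8,3,4,5,1,2,1,0,4,5,7,3,4,1,2,3,7,5,3,4,1,2,0,1]) (.word [2,3,4,3,2,1,0,2,1,0,3,2,1,6,5,7,3,4,2,3,7,8,6,5,4,3,2,1,7,3,8,7,5,2,3,0,1,2,0])) .none)) (.node (.node (.node (.node .none (.word [8,3,0,1,2,1,6,7,3,2,4,3,7,3,1,2,0,1,2,6,5,4,7,8,3,7,6,3,4,5,3,4,3,2,1]))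 .none) (.word [8,0,1,2,4,6,7,3,2,8,7,4,1,2,0,2,1,3,6,5,4,3,8,7,2,3,4,5,6,4,5,3,1,2])) (.word [5,4,3,5,4,7,3,4,5,2,3,4,0,1,2,6,5,4,3,7,8,7,3,4,5,6,2,1,0]))))))

/-- A subtree. -/
def sub52 : WTree :=
  (.node (.node (.node (.node (.node .none (.node (.node .none (.word [4,3,7,5,4,2,3,7,8,4,5,3,4,0,1,5,2,7,3,2,4,5,6,5,3,4,2,3,7,8,5,2,1,0])) (.node (.word [1,2,1,0,4,5,7,3,4,1,2,3,7,5,3,4,1,2,0,1]) (.word [1,2,3,4,5,6,5,4,2,3,2,1,0,2,7,3,2,1,4,3,2,3,7,6,3,2,0,6,5,4,3,2,7,4,3,7,1,2,3,4,5,6,5])))) (.node (.node (.node .none (.node .none (.word [1,4,6,5,7,3,2,4,3,7,8,7,4,5,3,4,2,1,2,3,6,7,3,2,4,3,5,4,8,7,3,2,0,1,5,2,3,7,8,1,2,3,7,5,1,2,3,4,3,2,1,0,2,1,0,3,2,6,5,4,3,7,8,2,3,4,1,2,3,7,5,6]))) .none) .none)) (.node (.node (.node (.word [3]) (.node (.node .none (.word [1,2,5,4,6,5,4,7,3,8,7,4,5,3,4,2,6,5,7,3,2,4,3,7,8,7,3,4,2,3,7,5,6,5,1,0,2,1,7,3,4,5,8,7,3,4,2,3,7,4,5,6,3,2,0]))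 (.word [4,3,6,5,4,3,7,3,2,1,4,3,7,2,3,4,5,6,4,8,0,4,3,7,2,3,4,1,0,1,2,1,4,3,5,4,7,3,7,8,2,3,7,4,5,6,4,5,1,2,8]))) .none) (.node .none (.node (.node .none (.word [8,0,1,2,4,6,7,3,8,7,4,1,2,0,1,6,5,7,3,2,4,3,7,8,7,3,4,2,3,7,5,6,5,1,0,2,1,4,7,8,3,7,6,4,2,1,0])) .none)))) (.node (.node (.node (.node .none (.node (.node .none (.word [2,1,4,5,7,3,2,4,8,7,3,4,5,6,4,0,1,4,5,7,3,4,5,3,7,8,2,3,7,6,4,2,1,2,3,4,5,3,2,1,2,1,0,4,6,5,4,3,7,8,4,2,3,7,5,4,1,2])) .none)) .none) (.node (.node .none (.node (.node .none (.word [0,1,2,3,4,3,2,0,1,6,5,7,3,2,4,3,7,8,7,3,4,2,3,7,5,6,5,1,0,2,3,4,3,2,1,0])) (.word [1,0,4,3,2,6,5,4,7,3,4,5,6,2,3,4,1,0,2,3,7,4,2,3,7,8,5,4,3,7,6,1,2,0,1,2,4,3,5,4,7,8,3,7,4,5,6,4,5,2,1]))) (.node (.node (.node .none (.word [8,3,0,2,1,0,3,2,7,8,3,7,1,2,1,0,3,2,1,6,5,4,3,7,8,5,4,2,3,7,6,0,2,1,0,3,2,7,3,4,5,6,8,1,2,3,7,8,4,3,7,4,3,2,1]))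 .none) (.word [0,1,2,4,6,7,3,2,8,7,4,1,2,0,2,1,3,6,5,4,3,8,7,2,3,4,5,6,4,5,3,1,2])))) (.node (.node (.node (.word [3,5,1,2,1,4,3,5,4,7,8,2,3,7,4,5,6,2,3,4,5,1,2]) (.node (.node (.word [3,1,2,1,0,4,5,7,3,4,1,2,3,7,5,3,4,1,2,0,1]) (.word [3,2,1,4,5,4,7,3,2,4,8,7,3,4,5,6,4,0,1,2,1,4,3,8,7,3,4,1,2,1,4,3,5,7,3,8,7,4,3,7,5,6,2,3,4,1,2,0,1])) .none)) .none) (.node (.node (.node .none (.node .none (.word [8,3,4,3,6,5,4,3,7,3,2,1,4,3,7,2,3,4,5,6,4,8,0,4,3,7,3,4,1,0,1,2,1,4,3,5,4,7,3,7,8,2,3,7,4,5,6,4,5,1,2]))) .none) (.node (.node (.word [5,4,3,7,8,3,4,5,3,1,2,1,0,4,5,7,3,4,1,2,3,7,5,3,4,1,2,0,1]) (.word [0,4,6,5,7,3,4,8,7,3,2,1,8,3,7,4,5,6,4,0,2,3,5,4,3,2,1,2,1,6,5,4,7,8,3,7,2,3,4,5,3,4,3,1,2,1,0,4,6,5,4,7,3,8,1,2,3,7,8,4,3,7,5,6,4,0])) (.node (.node .none (.word [5,4,3,7,3,4,5,0,1,2,3,4,3,2,0,1,6,5,7,3,2,4,3,7,8,7,3,4,2,3,7,5,6,5,1,0,2,3,4,3,2,1,0]))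 (.word [4,3,6,5,4,3,7,3,2,1,4,3,7,2,3,4,5,6,4,3,0,2,3,7,8,1,2,3,7,5,1,0,1,2,4,3,5,4,7,8,3,7,4,5,6,4,5,2,1]))))))) (.node (.node (.node (.node .none (.node (.node .none (.word [1,6,5,7,3,4,5,8,7,3,2,4,3,7,8,4,3,7,5,6,2,1,0,3,2,1,6,5,4,3,7,8,5,4,2,3,7,6,0,2,1,4,3,5,4,7,3,7,8,2,3,7,4,5,6,4,5,1,2])) (.word [1,2,3,4,5,6,5,4,3,2,1,0,1,2,1,4,7,3,2,4,8,7,3,6,2,3,7,3,8,7,5,6,4,5,3,4,2,3,7,8,1,0]))) (.node (.node (.word [3,0,7,3,2,1,4,3,7,8,2,3,7,1,3,7,4,2,3,7,8,5,4,3,7,6,1,2,6,3,7,8,4,1,2,3,7,4,1,2,0]) (.word [4,3,7,5,4,2,3,7,4,5,3,4,0,1,2,3,4,3,6,5,7,3,2,8,4,3,7,5,6,4,1,2,3,2,1,0])) (.node .none (.node (.node .none (.word [5,4,3,7,8,3,4,5,0,2,1,0,3,2,7,8,3,7,1,4,3,2,6,5,4,8,7,3,4,5,6,1,2,3,4,0,1])) .none)))) (.node (.node (.word [5,0,2,1,3,7,3,4,2,3,7,6,5,1,2,0]) (.word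 [0,1,4,3,2,7,3,4,5,2,1,4,7,8,3,7,6,3,4,5,2,3,0,2,3,5,4,3,2,1,2,1,4,3,5,4,7,8,3,7,3,4,5,6,2,3,4,5,1,2])) (.node (.node (.node (.word [1,2,3,4,5,8,6,5,4,3,2,1,0,2,1,3,7,3,4,5,3,4,2,3,7,5,6,5,1,2,3,0]) (.node .none (.word [0,7,3,4,8,7,3,2,3,1,2,0,4,7,3,2,4,3,8,7,3,4,8,2,3,7,6,3,5,4,3,2,1,2,1,6,5,4,7,8,3,7,2,3,4,5,3,4,3,1,2,1,0,2,3,7,8,1,2,3,7,5,0]))) (.node (.node .none (.word [3,0,1,4,3,7,3,4,0,2,1,7,3,2,4,3,5,4,2,3,7,6,5,3,4,3,0,1,2,1])) .none)) (.node .none (.node (.node .none (.word [2,3,4,3,2,1,0,4,3,2,6,5,4,7,3,4,5,6,2,3,4,1,2,6,7,3,2,8,4,3,7,8,3,4,2,3,7,4,1,2,4,3,5,7,3,8,4,2,3,7,5,6,4,2,0,1])) .none))))) (.node (.node (.node (.node (.node .none (.node .none (.word [8,3,2,6,5,4,3,7,3,2,4,3,5,6,1,2,1,4,3,5,4,7,8,2,3,7,4,5,6,4,1,2,1,0,2,1,7,3,2,8,7,3,4,1,2,3,7,1,0])))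 .none) .none) (.node .none (.node (.node (.node .none (.word [1,2,3,4,5,8,6,5,4,3,2,1,0,1,4,3,7,3,4,0,2,1,7,3,2,4,3,5,4,2,3,7,6,5,3,4,3,0,1,2,1])) .none) (.node (.node .none (.word [6,5,7,3,2,1,4,3,2,8,7,3,4,5,6,2,3,0,1,2,5,4,3,7,3,4,5,2,3,4,3,2,0,2,3,7,8,1,2,3,7,5,1,0,4,3,7,3,4,1,4,3,2,6,5,4,8,3,7,4,5,6,1,2,3,4,0,1])) .none)))) (.node (.node (.node (.word [0,1,4,3,2,7,3,4,7,3,8,7,8,1,2,3,1,2,1,0]) (.word [5,4,3,7,3,4,5,0,1,4,3,2,7,3,4,0,1,2,3,4,3,5,7,3,2,1,4,3,7,5,6,5,0,1,2,3,1,2])) .none) .none))))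

/-- A subtree. -/
def sub53 : WTree :=
  (.node (.node (.node (.node (.node .none (.node (.node .none (.word [0,1,2,1,6,7,3,2,4,3,7,3,1,2,0,1,2,6,5,4,7,8,3,7,6,3,4,5,3,4,2,3,2,1,0,1,0,6,5,4,3,2,7,4,3,7,1,2,3,4,5,6,0,1,0])) .none)) (.node .none (.node .none (.node (.node .none (.word [0,1,4,3,2,7,3,4,5,2,1,4,7,8,3,7,6,3,4,5,2,3,1,2,4,6,7,3,2,8,7,4,1,2,0,1,2,6,5,4,7,8,3,7,6,4,5,3,4,2,3,2,1])) .none)))) (.node .none (.node .none (.node (.node (.word [5,4,3,7,8,3,4,5,0,1,5,2,7,3,2,4,5,6,5,3,4,2,3,7,8,5,2,1,0]) (.word [5,4,3,7,3,4,5,0,1,2,4,3,6,7,3,8,7,4,1,2,0,2,3,5,4,3,2,1,2,1,6,5,4,7,8,3,7,2,3,4,5,3,4,3,1,2,1,0,1,0])) .none)))) (.node (.node (.node (.word [5,4,3,7,8,3,4,5,2,5,6,5,4,3,7,8,3,4,5,6,4,6,7,3,0,1,2,3,7,8,3,7,4,3,1,0]) (.node (.node (.node .none (.word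 [5,4,3,7,3,4,5,0,1,4,3,2,7,3,4,0,1,6,5,7,3,2,8,7,3,4,5,6,1,2,3,0,1,2,0,1])) .none) .none)) (.node (.word [1,2,3,4,5,6,5,4,3,2,1,0,1,4,3,2,7,3,4,5,2,1,4,7,8,3,7,6,3,4,5,2,3,0]) (.node .none (.node (.word [5,4,3,7,8,3,4,5,3,0,2,7,3,2,1,4,3,2,3,7,6,3,2,0,6,5,4,3,2,7,4,3,7,1,2,3,4,5,6,5]) (.word [0,2,6,7,3,4,5,8,3,7,1,2,0,1,6,5,7,3,2,4,3,7,8,7,3,4,2,3,7,5,6,5,1,0,2,1,4,7,8,3,7,6,4,2,1,6,5,8,3,4,2,3,7,3,4,5,6,2,1,0]))))) (.node (.node .none (.node (.node (.word [2,5,6,5,4,3,7,8,3,4,5,7,4,3,7,8,0,1,2,3,7,4,3,1,0]) (.node .none (.word [2,6,5,4,3,7,3,4,5,6,2,1,2,4,5,7,3,4,5,3,7,8,2,3,7,6,4,2,1,8,3,1,2,1,0,3,2,7,3,4,5,6,8,1,2,3,7,8,4,3,7,4,3,2,1]))) (.word [1,4,3,2,6,5,4,7,3,8,4,5,6,2,3,4,1,0,1,4,3,2,7,3,4,0,5,4,3,7,8,3,4,5,1,2,3,4,5,7,3,2,4,3,7,5,6,1,2,3,0,1,2,0,1])))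 (.node .none (.node (.node (.node (.word [0,1,2,3,4,7,3,8,1,2,3,7,3,4,2,3,2,1,0]) (.word [8,0,1,2,4,3,6,7,3,8,7,4,1,2,0,2,3,5,4,3,2,1,2,1,6,5,4,7,8,3,7,2,3,4,5,3,4,3,1,2,1,0,1,0])) .none) .none))))) (.node (.node (.node .none (.node (.node (.node (.node .none (.word [8,3,0,1,2,3,4,3,2,0,1,6,5,7,3,2,4,3,7,8,7,3,4,2,3,7,5,6,5,1,0,2,3,4,3,2,1,0])) (.word [2,3,4,3,2,0,1,2,4,6,7,3,2,8,7,4,1,2,0,1,2,6,5,4,7,8,3,7,6,4,5,3,4,2,3,2,1])) .none) (.node (.node (.node .none (.word [8,0,1,2,3,4,3,2,0,1,6,5,7,3,2,4,3,7,8,7,3,4,2,3,7,5,6,5,1,0,2,3,4,3,2,1,0])) .none) (.node (.node (.word [1,2,3,4,5,6,5,4,2,3,2,1,0,1,4,3,2,7,3,4,7,3,8,7,1,2,3,1,2,1,0]) (.word [5,4,3,7,3,4,5,1,0,2,1,4,3,2,6,5,7,3,4,7,8,3,7,5,3,4,1,2,1,5,4,3,7,3,4,5,1,4,3,2,6,5,4,3,7,4,5,6,1,2,3,4,0,1])) .none))))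 (.node (.node .none (.node .none (.node (.node .none (.word [4,3,7,5,4,2,3,7,4,5,3,4,0,1,2,3,4,3,2,0,1,6,5,7,3,2,4,3,7,8,7,3,4,2,3,7,5,6,5,1,0,2,3,4,3,2,1,0])) (.word [3,0,1,4,3,2,7,3,4,5,0,1,2,1,4,3,5,4,7,8,2,3,7,4,5,6,4,1,2,1,0,5,4,3,7,2,3,4,1,0])))) (.node (.node (.word [0,1,2,6,5,4,3,7,8,3,4,5,6,2,1,0]) (.node (.node .none (.word [1,0,2,4,6,5,4,7,3,8,7,4,5,3,4,2,1,2,3,7,8,4,5,3,4,2,3,7,6,3,2,1,4,3,2,6,5,4,3,7,4,5,6,2,3,4,0,1])) .none)) .none))) (.node (.node (.node (.node (.node (.node .none (.word [1,0,6,5,7,3,2,8,7,3,4,5,6,1,2,3,0,1,2,1,4,3,7,8,3,4,0,2,3,7,8,1,2,3,7,5,1,0,2,3,7,8,4,5,3,4,2,3,7,6,3,2,1,2,4,3,5,4,7,8,7,3,4,2,3,7,5,6,4,1])) .none) .none) .none) (.node (.node (.node (.node .none (.word [1,0,2,4,6,5,7,3,2,4,8,3,7,5,3,4,2,1,2,3,5,4,3,2,0,1,0,8,5,4,3,7,3,4,5,1,2,4,3,6,7,3,4,5,4,3,7,8,2,3,7,3,4,2,1]))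 .none) .none) .none)) (.node .none (.node (.node (.node .none (.word [2,3,4,3,2,0,1,2,6,5,4,3,7,3,4,5,6,2,1,0])) (.word [1,2,4,5,7,3,4,5,3,7,8,2,3,7,6,4,2,1,0,2,1,3,7,3,4,2,3,7,6,1,2,1,0])) (.node .none (.node (.node .none (.word [1,2,4,3,7,3,2,8,7,3,4,5,4,3,7,6,3,4,2,1,5,4,3,7,8,7,3,4,0,2,3,4,3,2,1,0,1,2,4,3,2,5,4,7,3,1,2,3,7,8,4,3,7,5,6,4,1])) .none)))))))

/-- A subtree. -/
def sub54 : WTree :=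
  (.node (.node sub50 sub51) (.node sub52 sub53))

/-- A subtree. -/
def sub55 : WTree :=
  (.node (.node (.node (.node (.node (.node (.node .none (.node .none (.word [8,2,6,5,4,3,7,8,3,4,5,6,3,4,3,2,0,1,0,2,1,6,5,4,3,2,8,7,3,4,5,6,1,2,0,4,3,7,3,4,0,2,1,4,5,7,3,2,4,3,7,8,4,5,2,3,4,0,1,2,1,4,3,8,7,3,4]))) .none) (.node .none (.node .none (.word [4,3,7,5,4,2,3,7,4,5,3,4,0,1,2,7,3,2,1,4,3,2,3,7,6,3,2,0,1,2,1,4,3,5,4,7,8,2,3,7,4,5,6,4,1,2,1,0,2,1,7,3,2,8,7,3,4,1,2,3,7,0])))) (.word [5,1,2,1,4,3,5,4,7,8,2,3,7,4,5,6,2,3,4,5,1,2])) (.node (.node .none (.word [5,1,4,3,2,6,5,4,7,3,4,5,6,2,3,4,5,3,1])) .none)) (.node (.node (.node (.node .none (.node .none (.word [0,1,0,6,5,4,3,2,7,4,3,7,1,2,3,4,5,6,0,1,0]))) (.node .none (.node (.node .none (.word [6,5,7,3,2,1,4,3,2,8,7,3,4,5,6,2,3,0,1,2,5,4,3,7,3,4,0,2,3,7,8,1,2,3,7,5,1,0,1,4,3,2,6,5,4,8,3,7,4,5,6,1,2,3,4,0,1]))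 .none))) (.node (.node (.node (.node .none (.word [4,3,7,5,4,2,3,7,8,4,5,3,4,0,1,4,3,2,7,3,4,0,2,3,5,4,3,2,1,2,1,6,5,4,7,8,3,7,2,3,4,5,3,4,3,1,2,1,0,4,3,7,2,3,4,1,0])) (.word [1,2,3,4,5,6,5,4,3,2,1,0,2,1,4,6,7,3,2,4,5,8,7,3,2,1,4,6,5,4,3,2,4,3,7,2,3,4,5,6,4,1,2,1,2,1,7,3,2,8,7,3,4,1,2,3,7,0])) (.node (.node .none (.word [8,0,2,1,0,3,2,7,8,3,7,1,2,1,0,3,2,1,6,5,4,3,7,8,5,4,2,3,7,6,0,2,1,0,3,2,7,3,4,5,6,8,1,2,3,7,8,4,3,7,4,3,2,1])) .none)) .none)) (.node (.node .none (.node .none (.node .none (.word [8,0,1,4,3,2,7,3,4,5,0,1,2,1,4,3,5,4,7,8,2,3,7,4,5,6,4,1,2,1,0,5,4,3,7,2,3,4,1,0])))) (.node (.node (.node .none (.node .none (.word [8,1,0,4,3,2,1,6,5,4,7,3,4,5,6,2,3,4,1,5,4,3,8,7,3,4,1,2,1,0,4,6,5,4,3,7,8,4,2,3,7,4,5,4,1,2]))) (.word [0,1,6,5,3,4,2,3,7,3,4,5,6,2,1,0]))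 .none)))) (.node (.node (.node (.node (.node .none (.node (.node (.word [0,1,2,3,4,7,3,8,1,2,3,7,8,3,4,2,3,2,1,0]) (.word [4,3,7,5,4,2,3,7,4,5,3,4,0,2,1,0,3,2,5,4,7,8,3,7,2,3,5,4,3,2,1,2,1,6,5,4,7,8,3,7,2,3,4,5,3,4,3,1,2,1,0,5,1,0])) .none)) (.node (.node .none (.word [4,3,7,5,4,2,3,7,8,4,5,3,4,0,1,0,2,1,6,5,4,3,7,2,3,4,5,6,1,2,0,1,0])) (.node .none (.word [1,2,3,4,5,6,5,4,3,1,0,4,5,7,3,4,1,2,3,7,5,3,4,1,2,0,1])))) (.node (.node (.word [0,1,4,3,2,7,3,4,5,2,4,7,8,3,7,6,3,4,5,1,2,0]) (.node (.word [4,3,7,5,4,2,3,7,4,5,3,4,1,2,3,4,5,6,5,4,2,3,2,1]) (.word [8,3,0,1,4,3,2,7,3,4,5,0,1,2,1,4,3,5,4,7,8,2,3,7,4,5,6,4,1,2,1,0,5,4,3,7,2,3,4,1,0]))) (.node (.node (.node .none (.word [5,4,3,7,3,4,5,0,2,1,0,3,2,5,4,7,8,3,7,2,3,5,4,3,2,1,2,1,6,5,4,7,8,3,7,2,3,4,5,3,4,3,1,2,1,0,5,1,0]))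 (.word [0,1,2,1,6,7,3,2,4,3,7,3,1,2,0,1,2,6,5,4,7,8,3,7,6,3,4,5,3,4,2,3,2,1,0,2,1,3,7,3,4,5,3,4,2,3,7,5,6,5,1,2,3,0])) .none))) (.node (.node (.node (.node .none (.word [8,1,6,5,7,3,4,5,8,7,3,2,4,3,7,8,4,3,7,5,6,2,1,0,3,2,1,6,5,4,3,7,8,5,4,2,3,7,6,0,2,1,4,3,5,4,7,3,7,8,2,3,7,4,5,6,4,5,1,2])) .none) (.node .none (.node (.word [1,2,3,4,5,8,6,5,4,2,3,2,1,0,1,2,4,6,7,3,2,8,7,4,1,2,0,1,2,6,5,4,7,8,3,7,6,4,5,3,4,2,3,2,1]) (.word [0,1,2,1,6,7,3,2,4,3,7,3,1,2,0,1,2,6,5,4,7,8,3,7,6,3,4,5,3,4,2,3,2,1,2,1,4,5,7,3,2,4,8,7,3,4,5,6,4,0,1,2,1,4,3,8,7,3,4,1,2,1,0,4,6,5,4,3,7,8,4,2,3,7,5,4,1,2])))) (.node .none (.node (.node (.node .none (.word [8,0,1,2,1,6,7,3,2,4,3,7,3,1,2,0,1,2,6,5,4,7,8,3,7,6,3,4,5,3,4,3,2,1])) .none) .none)))) (.node (.node (.node (.node (.node (.word [2,3,5,4,3,2,1,2,1,4,3,5,4,7,8,3,7,4,5,6,2,3,4,5,1,2,3])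 (.node .none (.word [1,4,3,2,6,5,4,7,3,4,5,6,2,3,4,1,4,7,3,2,4,3,8,7,3,4,8,2,3,7,6,2,5,4,3,7,8,3,4,5,1,2,3,4,5,8,6,5,4,3,2,1,0,6,7,3,8,1,2,3,7,8,4,3,7,2,0]))) (.node .none (.word [1,2,3,4,5,6,5,4,3,2,1,0,2,1,0,3,2,7,8,3,7,1,4,3,2,6,5,4,8,7,3,4,5,6,1,2,3,4,0,1]))) (.node .none (.word [1,2,4,6,7,3,2,8,7,3,5,4,3,7,5,4,2,1,3,8,4,3,7,3,4,1,2,1,6,5,4,7,8,3,7,2,3,4,5,3,4,3,1,2,1,6,5,8,3,4,2,3,7,3,4,5,6,2]))) (.node .none (.node (.word [4,3,7,5,4,2,3,7,4,5,3,4,0,1,0,2,1,6,5,4,3,7,2,3,4,5,6,1,2,3,0,1,0]) (.word [2,3,5,4,3,2,1,2,1,4,3,5,4,7,8,2,3,7,4,5,6,4,1,2,1,0,2,1,3,7,3,4,2,3,7,6,1,2,1,0])))) (.node (.node (.node .none (.node (.node (.word [2,1,7,3,2,4,5,6,8,7,3,4,1,2,3,7,5,3,4,3,1,3,4,5,8,6,5,4,3,2,1,0,7,3,2,4,3,7,8,2,3,4,1,2,3,7,1,0]) (.word [8,3,0,1,2,4,3,6,7,3,8,7,4,1,2,0,2,3,5,4,3,2,1,2,1,6,5,4,7,8,3,7,2,3,4,5,3,4,3,1,2,1,0,1,0]))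 .none)) (.node .none (.word [0,2,1,0,3,2,5,7,8,3,7,8,0,2,1,0,3,2,5,4,7,8,3,7,1,2,1,6,5,4,7,8,3,7,4,5,2,3,4,3,1,2,0,1,6,5,3,4,2,3,7,3,4,5,6,2]))) (.node (.node .none (.word [1,2,3,4,5,6,5,4,3,2,1,0,7,3,2,1,4,8,7,3,2,1,4,3,7,3,4,0,5,1,2,1,3,4,3,5,7,3,2,1,4,3,7,8,5,4,2,3,7,1,2])) (.node (.node .none (.word [3,6,5,7,3,2,4,3,5,7,4,2,3,7,5,6,1,2,1,4,3,5,4,7,8,2,3,7,4,5,6,4,1,2,1,0,2,3,7,8,1,2,3,7,1,0])) .none))))))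

/-- A subtree. -/
def sub56 : WTree :=
  (.node (.node (.node (.word [0,1,4,3,2,7,3,4,5,2,1,4,7,8,3,7,6,3,4,5,2,3,0,2,3,5,4,3,2,1,2,1,4,3,5,4,7,3,7,8,7,4,5,6,2,3,4,5,1,2]) (.node (.word [2,3,4,5,4,3,2,1,2,1,4,3,5,4,7,8,3,7,3,4,5,6,2,3,4,5,1,2]) (.node .none (.node (.node .none (.word [1,2,3,4,5,6,5,4,3,2,1,2,1,4,5,7,3,2,4,8,7,3,4,5,6,4,0,1,2,1,4,3,8,7,3,4,1,2,1,0,4,6,5,4,3,7,8,4,2,3,7,5,4,1,2])) .none)))) (.node (.node (.node (.node .none (.node (.node .none (.word [1,2,3,4,5,8,6,5,4,2,3,2,1,0,1,2,3,4,3,2,1,2,1,6,7,3,2,4,3,7,3,1,2,0,1,2,6,5,4,7,8,3,7,6,3,4,5,3,4,3,2,1,0,1,0])) (.word [1,2,3,4,5,6,5,4,2,3,2,1,0,1,2,3,4,3,6,5,7,3,2,4,3,7,8,7,5,6,4,3,1,2,1,0]))) .none) (.node (.node (.word [1,2,3,4,5,8,6,5,4,2,3,2,1,0,1,4,3,2,7,3,4,5,2,1,4,7,8,3,7,6,3,4,5,2,3,0])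 (.node .none (.word [5,4,3,5,4,7,3,4,5,2,3,4,0,2,1,0,3,2,5,4,7,8,3,7,1,2,1,6,5,4,7,8,3,7,4,5,2,3,4,3,1,2,0,1]))) (.word [3,0,1,2,1,6,7,3,2,4,3,7,3,1,2,0,1,2,6,5,4,7,8,3,7,6,3,4,5,3,4,2,3,2,1]))) (.node (.node (.node (.node .none (.node (.word [5,4,3,7,3,4,5,0,1,4,3,2,7,3,4,0,1,2,3,4,3,5,7,3,2,1,4,3,7,5,6,5,2,3,0,1,2]) (.word [4,6,5,7,3,2,4,8,7,3,8,7,4,5,6,4,2,3,0,1,2,1,6,7,3,2,4,3,7,3,1,2,0,1,2,6,5,4,7,8,3,7,6,3,4,5,3,4,3,2,1,0,2,1,3,2,3,7,8,4,3,7,0]))) (.node .none (.word [5,4,3,5,4,7,3,4,5,2,3,4,0,1,2,4,6,7,3,2,8,7,4,1,2,0,1,2,6,5,4,7,8,3,7,6,4,5,3,4,2,3,2,1]))) .none) (.node (.node (.node (.word [5,4,3,7,8,3,4,5,0,1,0,2,1,6,5,4,3,7,8,2,3,4,5,6,1,2,0,1,0]) (.word [1,2,3,4,5,6,5,4,3,2,1,0,7,3,2,1,4,3,7,8,2,3,7,1,3,7,4,2,3,7,8,5,4,3,7,6,1,2,6,3,7,8,4,1,2,3,7,4,1,2,0]))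 (.word [1,2,3,4,5,6,5,4,2,3,1,0,4,5,7,3,4,1,2,3,7,5,3,4,1,2,3,0,1])) .none)))) (.node (.node (.node .none (.node (.node (.word [8,2,5,6,5,4,3,7,8,3,4,5,6,4,6,7,3,0,1,2,3,7,8,3,7,4,3,1,0]) (.word [0,1,2,3,4,7,3,8,1,2,3,7,8,3,4,3,2,1,0])) .none)) (.node (.node .none (.word [0,2,1,0,3,2,5,7,8,3,7,1,4,3,2,6,5,4,3,7,4,5,6,1,2,3,4,0,2,1,0,4,6,5,4,3,7,8,4,2,3,7,4,5,4,1,2])) (.node (.node (.node .none (.word [3,2,1,4,5,4,7,3,2,4,8,7,3,4,5,6,4,0,1,2,1,8,1,2,3,4,5,7,3,2,4,3,7,5,6,1,2,3,0,1,2,0,1])) (.word [0,1,2,1,6,7,3,2,4,3,7,3,1,2,0,1,2,6,5,4,7,3,7,8,7,6,3,4,5,3,4,3,2,1])) (.node (.node .none (.word [3,1,6,5,7,3,4,5,8,7,3,2,4,3,7,8,4,3,7,5,6,2,1,0,3,2,1,6,5,4,3,7,8,5,4,2,3,7,6,0,2,1,4,3,5,4,7,3,7,8,2,3,7,4,5,6,4,5,1,2])) .none)))) (.node (.node (.node (.node (.word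 [5,4,3,5,4,7,3,4,5,2,3,4,0,1,0,2,1,6,5,4,3,7,8,2,3,4,5,6,1,2,0,1,0]) (.node (.word [0,1,0,2,1,6,5,4,3,7,2,3,4,5,6,1,2,3,0,1,0]) (.word [1,0,4,3,2,1,6,5,4,7,3,8,4,5,6,2,3,4,2,4,5,7,3,4,5,3,7,8,2,3,7,6,4,2,4,3,2,6,5,4,3,7,4,5,6,1,2,3,4,0,1]))) .none) (.node (.node (.node (.word [0,1,2,1,6,7,3,2,4,3,7,3,1,2,0,1,2,6,5,4,7,3,7,8,7,3,4,5,3,4,3,2,1]) (.word [4,3,7,5,4,2,3,7,8,4,5,3,4,1,0,2,1,0,3,2,1,6,5,7,3,4,2,3,7,8,6,5,4,3,2,1,7,3,8,7,5,2,3,0,1,2,0])) (.node (.node .none (.word [1,2,3,4,5,8,6,5,4,3,2,1,0,1,2,1,6,7,3,2,4,3,7,3,1,2,0,1,2,6,5,4,7,8,3,7,6,3,4,5,3,4,3,2,1])) .none)) .none)) (.node (.node (.node (.node .none (.word [8,0,1,2,3,4,3,6,5,7,3,2,4,3,7,8,7,5,6,4,3,1,2,1,0])) .none) .none) (.word [1,2,3,4,5,6,5,4,3,2,1])))))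

/-- A subtree. -/
def sub57 : WTree :=
  (.node (.node (.node (.node (.node (.word [5,4,3,5,4,7,3,4,5,2,3,4,5,1,2,1,4,3,5,4,7,8,2,3,7,4,5,6,2,3,4,5,1,2]) (.word [5,4,3,7,8,3,4,5,3,5,1,2,1,4,3,5,4,7,8,2,3,7,4,5,6,2,3,4,5,1,2])) .none) (.node .none (.node (.node (.node (.word [1,2,3,4,5,8,6,5,4,3,2,1]) (.word [0,1,2,1,6,7,3,2,4,3,7,3,1,2,0,1,2,6,5,4,7,8,3,7,6,3,4,5,3,4,2,3,2,1,0,1,4,3,2,7,3,4,6,5,7,3,2,4,3,7,8,3,7,4,5,6,3,1,2,1,0])) (.node (.word [3,1,4,3,2,6,5,4,7,3,8,4,5,6,2,3,4,1,0,1,4,3,2,7,3,4,0,5,4,3,7,8,3,4,5,1,2,3,4,5,7,3,2,4,3,7,5,6,1,2,3,0,1,2,0,1]) (.word [8,0,2,1,0,3,2,7,8,3,7,1,4,3,2,6,5,4,8,7,3,4,5,6,1,2,3,4,0,1]))) (.node (.node .none (.word [4,3,7,5,4,2,3,7,8,4,5,3,4,0,1,2,6,5,4,3,7,8,3,4,5,6,2,1,0])) .none)))) (.node (.word [0,1,4,3,7,8,3,4,2,3,7,8,5,4,3,7,8,2,3,7,1,2,3,0])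 (.node (.node (.node (.node (.word [0,2,1,0,3,2,5,4,7,8,3,7,0,1,2,1,6,7,3,2,4,3,7,3,1,2,0,1,2,6,5,4,7,8,3,7,6,3,4,5,3,4,3,2,1,6,5,7,3,2,4,7,5,3,4,2,3,7,5,6]) (.node .none (.word [1,0,4,6,5,7,3,2,4,3,7,8,7,4,5,3,4,2,1,2,3,5,4,3,2,4,3,7,3,4,5,1,2,1,0,4,6,5,4,3,7,8,4,2,3,7,5,4,1,2]))) .none) .none) (.node (.node .none (.word [0,2,1,0,3,2,5,7,8,3,7,1,2,1,4,3,5,4,7,8,2,3,7,4,5,6,4,1,3,4,5,7,3,2,4,3,7,5,6,1,2,3,0,1,2,0,1])) (.node .none (.node .none (.word [8,4,3,7,8,3,4,0,2,1,6,7,3,4,5,8,7,3,2,4,7,3,2,1,2,1,6,7,3,2,4,3,7,3,1,2,0,1,2,6,5,4,7,8,3,7,6,3,4,5,3,4,3,2,1,0,7,3,2,4,3,7,8,1,2,3,7,1,2,0]))))))) (.node (.node (.node (.node .none (.node .none (.node (.node .none (.word [5,4,3,7,8,3,4,5,1,2,5,4,6,5,4,7,3,8,7,4,5,3,4,2,6,5,7,3,2,4,3,7,8,7,3,4,2,3,7,5,6,5,1,0,2,1,7,3,4,5,8,7,3,4,2,3,7,4,5,6,3,2,0]))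 (.word [0,1,4,3,2,7,3,4,5,2,1,4,7,8,3,7,6,3,4,5,2,3,1,2,3,4,3,2,0,1,6,5,7,3,2,4,3,7,8,7,3,4,2,3,7,5,6,5,1,0,2,3,4,3,2,1,0])))) (.word [0,1,4,3,2,7,3,4,7,3,8,7,1,2,3,1,2,1,0])) (.node (.node .none (.node (.node (.word [5,4,3,7,8,3,4,5,0,2,1,0,3,2,5,4,7,8,3,7,1,2,1,6,5,4,7,8,3,7,4,5,2,3,4,3,1,2,0,1]) (.word [0,1,2,1,6,7,3,2,4,3,7,3,1,2,0,1,2,6,5,4,7,8,3,7,6,3,4,5,3,4,2,3,2,1,0,1,2,3,4,3,6,5,7,3,2,8,4,3,7,5,6,4,3,1,2,1,0])) (.word [5,4,3,7,8,3,4,5,0,1,0,2,1,6,5,4,3,7,2,3,4,5,6,1,2,0,1,0]))) (.node .none (.node (.node (.node (.word [2,3,4,3,2,0,1,6,5,3,4,2,3,7,3,4,5,6,2,3,1,0]) (.word [3,4,3,6,5,4,3,7,3,2,1,4,3,7,2,3,4,5,6,4,8,1,2,1,0,4,3,5,7,3,8,4,2,3,7,8,1,2,3,7,5,4,1])) (.word [0,1,2,1,6,7,3,2,4,3,7,3,1,2,0,1,2,6,5,4,7,8,3,7,6,3,4,5,3,4,2,3,2,1,5,0,2,1,7,3,2,1,4,3,7,6,5,2,3,2,0]))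 (.word [1,0,4,3,2,1,6,5,4,7,3,4,5,6,2,3,4,1,5,0,2,1,0,7,5,4,3,7,8,2,3,7,6,4,1,2,3,4,5,8,6,5,4,3,2,1,0,2,1,0,7,5,4,3,7,8,2,3,7,6,4]))))) (.node (.node (.node (.node (.node .none (.node .none (.word [8,4,3,6,5,4,3,7,3,2,1,4,3,7,2,3,4,5,6,4,8,0,4,3,7,3,4,1,0,1,2,1,4,3,5,4,7,3,7,8,2,3,7,4,5,6,4,5,1,2]))) .none) .none) (.node (.node .none (.node (.node .none (.word [5,4,3,7,8,3,4,5,3,4,3,6,5,4,3,7,3,2,1,4,3,7,2,3,4,5,6,4,0,4,3,7,2,3,4,1,0,4,6,5,4,3,2,7,3,4,1,2,3,7,3,4,5,6,3,4])) .none)) (.node (.node .none (.word [1,2,3,4,5,6,5,4,3,2,1,0,1,4,3,2,7,3,4,7,3,8,7,2,3,1,2,1,0])) .none))) .none)))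

/-- A subtree. -/
def sub58 : WTree :=
  (.node (.node (.node (.node (.word [5,0,2,1,7,3,2,1,4,3,7,6,5,2,3,2,0]) (.node (.node (.node .none (.node .none (.word [5,4,3,7,8,3,4,5,0,1,2,3,7,3,2,4,8,3,7,6,3,2,0,1,2,1,4,3,5,4,7,8,2,3,7,4,5,6,4,1,2,1,0,2,3,7,4,2,3,7,8,5,4,3,7,6,1,2,0]))) (.node .none (.word [1,2,3,4,5,6,5,4,2,3,1,0,4,5,7,3,4,1,2,3,7,5,3,4,1,2,0,1]))) (.node .none (.word [0,1,2,6,5,4,3,7,3,4,5,6,2,1,0])))) (.node (.node (.node (.word [0,1,2,4,6,7,3,2,8,7,4,1,2,0,1,2,6,5,4,7,3,7,8,7,6,4,5,3,4,2,3,2,1]) (.word [1,2,3,4,5,6,5,4,3,1,0,4,5,7,3,4,1,2,3,7,5,3,4,1,2,3,0,1])) .none) .none)) (.node (.node (.node .none (.node (.word [3,0,1,4,3,2,7,3,4,0,1,2,3,4,3,5,7,3,2,1,4,3,7,5,6,5,0,1,2,3,1,2]) (.node (.node .none (.word [1,2,3,4,7,3,4,8,7,3,2,1,8,6,5,4,3,7,2,3,0,1,2,1,3,0,4,3,7,3,4,1,0,1,2,3,4,5,8,6,5,4,3,2,1,0,2,1,0,7,5,4,3,7,8,2,3,7,6,4]))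 (.word [8,4,3,6,5,4,3,7,3,2,1,4,3,7,2,3,4,5,6,4,5,4,3,7,8,3,4,5,1,2,1,0,4,3,5,7,3,8,4,2,3,7,8,1,2,3,7,5,4,1])))) (.node .none (.node .none (.word [5,4,3,7,8,3,4,5,3,0,1,4,3,2,7,3,4,0,1,2,3,4,3,5,7,3,2,1,4,3,7,5,6,5,2,3,0,1,2])))) (.node (.node (.node .none (.node (.node .none (.word [1,0,4,3,2,1,6,5,4,7,3,4,5,6,2,3,4,1,5,4,3,7,3,4,5,1,2,1,4,3,5,7,3,8,7,4,3,7,5,6,2,3,4,1,2,0,1])) .none)) (.node (.word [2,3,4,3,2,0,1,2,6,5,4,3,7,3,4,5,6,2,3,1,0]) (.node (.node .none (.word [1,0,2,1,4,3,2,6,5,7,3,4,7,8,3,7,5,3,4,1,2,1,8,3,1,2,1,4,3,5,7,3,8,7,4,3,7,5,6,2,3,4,1,2,0,1])) .none))) (.node (.node .none (.word [2,3,4,3,5,6,5,4,3,7,8,3,4,5,7,4,3,7,8,0,1,2,3,7,4,3,1,0])) .none)))) (.node (.node (.node (.node (.node (.node (.node .none (.word [1,2,3,4,5,6,5,4,2,3,2,1,0,1,4,3,7,3,4,0,2,1,7,3,2,4,3,5,4,2,3,7,6,5,3,4,3,0,1,2,1]))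 (.word [0,1,4,3,2,7,3,4,0,1,6,5,7,3,2,8,7,3,4,5,6,1,2,3,0,1,2,0,1])) .none) (.node (.node .none (.word [0,1,2,1,6,7,3,2,4,3,7,3,1,2,0,1,2,6,5,4,7,8,3,7,6,3,4,5,3,4,2,3,2,1,0,1,6,5,3,4,2,3,7,3,4,5,6,2,3,1,0])) (.node (.node .none (.word [4,3,7,5,4,2,3,7,8,4,5,6,5,4,3,7,3,2,1,4,3,7,2,3,4,5,6,4,8,1,2,1,0,4,3,5,7,3,8,4,2,3,7,8,1,2,3,7,5,4,1])) .none))) (.node (.node (.node (.node .none (.word [1,2,3,4,5,8,6,5,4,2,3,2,0,4,6,5,7,3,2,4,3,7,8,7,4,5,3,4,2,1,2,3,5,4,3,2,5,4,3,7,3,4,5,1,2,1,0,4,6,5,4,3,7,8,4,2,3,7,5,4,1,2])) (.node .none (.word [1,2,3,4,5,8,6,5,4,3,2,4,5,7,3,2,1,8,7,3,2,4,8,3,7,5,3,4,3,2,1,6,5,4,3,7,8,5,4,2,3,7,6,0,1,0,2,1,0,4,5,3,7,8,4,3,7,5,6,4,2]))) .none) (.node (.node .none (.word [2,1,4,5,4,7,3,2,4,8,7,3,4,5,6,4,0,1,2,1,8,1,2,3,4,5,7,3,2,4,3,7,5,6,1,2,3,0,1,2,0,1]))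 .none))) (.node (.node .none (.node .none (.word [3,1,0,2,1,0,3,2,1,6,5,7,3,4,2,3,7,8,6,5,4,3,2,1,7,3,8,7,5,2,3,0,1,2,0]))) (.node (.node (.node (.node .none (.word [2,3,4,3,2,1,0,2,4,6,5,4,7,3,8,7,4,5,3,4,2,1,2,3,7,8,4,5,3,4,2,3,7,6,3,2,1,4,3,2,6,5,4,3,7,4,5,6,2,3,4,0,1])) .none) (.node (.node .none (.word [8,3,1,0,2,4,6,5,4,7,3,8,7,4,5,3,4,2,1,2,3,7,8,4,5,3,4,2,3,7,6,3,2,1,4,3,2,6,5,4,3,7,4,5,6,2,3,4,0,1])) .none)) .none))) (.node (.node (.node (.node (.node (.word [2,3,5,4,3,2,8,0,6,5,7,3,2,4,3,7,8,1,2,3,7,4,5,6,3,2,0,7,3,8,7,4,5,2,3,0,1,2,0]) (.word [8,0,2,6,7,3,4,5,8,3,7,1,2,0,2,6,7,3,2,8,4,3,7,8,3,4,2,3,7,4,0,2,1,7,3,8,5,4,3,7,6,2,0])) .none) (.node .none (.node (.node .none (.word [8,1,2,5,4,6,5,4,7,3,8,7,4,5,3,4,2,6,5,7,3,2,4,3,7,8,7,3,4,2,3,7,5,6,5,1,0,2,1,7,3,4,5,8,7,3,4,2,3,7,4,5,6,3,2,0]))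 (.word [1,2,1,0,3,2,1,6,5,4,3,7,8,5,4,2,3,7,6,0,1,0,4,6,5,4,7,3,8,1,2,3,7,8,4,3,7,5,6,4,2,1,7,3,8,5,4,3,7,6,2,0])))) (.node (.word [0,1,4,3,2,7,3,4,7,3,8,7,8,2,3,1,2,1,0]) (.node (.node (.node .none (.word [1,2,4,6,7,3,2,8,7,3,5,4,3,7,5,4,2,1,8,3,0,1,2,3,4,3,6,5,7,3,2,4,3,7,8,7,5,6,4,3,1,2,1,0,8,3,1,6,5,4,7,3,2,4,3,7,8,7,3,4,1,2,3,7,4,5,6,1])) .none) .none))) (.node (.node .none (.node (.node .none (.word [5,4,3,7,3,4,5,6,5,7,3,2,4,3,5,7,4,2,3,7,5,6,1,2,1,4,3,5,4,7,8,2,3,7,4,5,6,4,1,2,1,0,2,3,7,8,1,2,3,7,1,0])) (.word [2,3,4,3,2,0,1,6,5,8,3,4,2,3,7,3,4,5,6,2,1,0]))) (.node .none (.node .none (.node .none (.word [4,3,7,5,4,2,3,7,8,4,5,3,4,1,0,4,3,2,1,6,5,4,7,3,4,5,6,2,3,4,1,5,4,3,8,7,3,4,1,2,1,0,4,6,5,4,3,7,8,4,2,3,7,4,5,4,1,2]))))))))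

/-- A subtree. -/
def sub59 : WTree :=
  (.node (.node sub55 sub56) (.node sub57 sub58))

/-- Points. -/
def levX2pts0 : List ℕ := [2,4,6,7,9,10,11,14,15,24,25,26,32,38,39,40,45,46,50,51,59,60,63,68,69,73,74,75,78,79,85,86,89,96,101,102,103,106,108,110,117,120,131,132,136,137,146,147,149,151,155,160,166,171,173,184,187,188,190,191,196,199,200,202,212,213,216,221,225,232,235,236,240,242,251,252,263,268,270,274,280,284,288,289,296,297,303,304,323,332,336,341,343,347,360,361,365,366,367,368,369,377,386,410,414,422,425,427,428,434,435,450,461,462,465,468,471,473,482,484,485,493,505,521,531,540,542,550,560,561,562,571,572,584,588,591,609,610,613,616,627,629,659,661,662,667,697,700,704,708,710,711,716,718,731,734,739,743,744,747,751,753,755,761,765,768,770,772,773,782,784,789,819,820,851,854,855,863,868,876,877,883,886,895,897,900,902,905,910,911,916,922,925,926,933,936,941,943,944,945]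

/-- Points. -/
def levX2pts1 : List ℕ := [947,950,956,970,983,1000,1020,1024,1026,1033,1040,1049,1055,1058,1060,1076,1080,1081,1084,1087,1090,1102,1106,1107,1114,1120,1122,1128,1129,1131,1137,1138,1147,1153,1166,1177,1181,1187,1206,1210,1211,1216,1223,1226,1236,1243,1244,1246,1259,1268,1270,1276,1277,1282,1285,1289,1293,1299,1301,1302,1304,1311,1320,1336,1345,1348,1362,1367,1385,1390,1393,1400,1401,1407,1410,1417,1420,1424,1427,1428,1430,1439,1440,1446,1463,1477,1479,1483,1485,1495,1497,1498,1499,1509,1521,1523,1524,1544,1552,1571,1576,1577,1579,1584,1587,1595,1605,1608,1610,1618,1622,1625,1643,1656,1674,1679,1683,1701,1704,1707,1735,1745,1761,1769,1780,1795,1797,1811,1815,1817,1839,1855,1875,1882,1885,1891,1902,1905,1948,1964,1965,1968,1969,1994,1996,2001,2021,2023,2024,2044,2046,2047,2048,2062,2079,2086,2106,2109,2113,2129,2169,2200,2201,2204,2205,2207,2208,2211,2212,2216,2224,2237,2246,2260,2264,2271,2272,2284,2297,2298,2328,2349,2354,2418,2446,2451,2458,2461,2462,2465,2466,2469,2470,2481,2485,2495,2514,2515,2519,2520]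

/-- Points. -/
def levX2pts2 : List ℕ := [2522,2528,2538,2541,2579,2597,2600,2603,2629,2646,2657,2661,2671,2673,2675,2694,2704,2705,2708,2712,2723,2724,2725,2728,2730,2740,2743,2747,2748,2773,2774,2781,2782,2783,2798,2802,2828,2834,2839,2847,2851,2863,2865,2878,2879,2884,2896,2897,2898,2909,2912,2913,2922,2927,2928,2944,2952,2953,2954,2957,2958,2965,2972,2973,2984,2990,2994,2997,3001,3017,3024,3026,3029,3045,3069,3075,3092,3104,3105,3106,3123,3124,3125,3126,3127,3137,3150,3154,3170,3172,3175,3179,3192,3198,3201,3205,3215,3231,3250,3284,3285,3298,3299,3301,3324,3345,3348,3356,3364,3410,3437,3438]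

/-- A level. -/
def levX2 : Level :=
  ⟨96, (.node (.node sub44 sub49) (.node sub54 sub59)), levX2pts0 ++ levX2pts1 ++ levX2pts2⟩

/-- A subtree. -/
def sub60 : WTree :=
  (.node (.node (.node (.node (.node (.node (.node .none (.node .none (.word [2,3,4,3,2,0,2,1,0,3,2,5,4,7,8,3,7,1,2,3,4,5,8,6,5,4,3,2,1,7,3,8,7,4,5,2,3,0,1,2,0]))) .none) .none) (.word [0,1,2,1,3,4,6,5,7,3,4,8,2,3,7,5,6,3,4,3,2,1,0,3,5,4,3,7,8,3,4,5,3,0,2,1,4,6,5,4,3,2,4,3,7,2,3,4,5,6,4,1,2,1,0])) (.node (.node (.node (.node .none (.word [0,2,1,5,4,3,6,7,3,8,7,4,2,5,4,3,7,2,3,4,1,0,1,2,3,4,5,6,5,4,2,3,2,1,0,1,4,3,2,7,3,4,5,2,4,7,8,3,7,6,3,4,5,1,2,0,2,3,4,3,2])) .none) .none) (.node .none (.node (.node .none (.word [1,0,2,1,4,3,5,7,3,2,1,4,3,7,5,4,0,1,2,1,4,3,5,4,8,7,3,2,4,5,7,3,4,0,1,2,1,6,7,3,2,4,3,7,3,1,2,0,1,2,4,6,5,7,3,4,2,3,7,8,7,3,4,5,4,2,1]))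 .none)))) (.node (.node (.node .none (.node .none (.node (.node .none (.word [1,5,4,3,2,6,5,4,3,7,8,7,3,4,5,6,2,3,4,5,1,0,1,3,2,6,5,4,3,7,3,2,4,3,5,6,1,0,2,5,6,5,4,3,7,8,3,4,7,5,4,3,7,8,0,1,2,3,7,4,1,0])) .none))) (.node (.node .none (.word [0,1,3,2,6,5,4,3,7,8,7,3,4,5,6,2,3,1,2,1,5,4,3,6,7,3,8,7,4,2,5,4,3,7,2,3,4,1,0,1,2,3,4,5,6,5,4,3,2,1,0,1,4,3,2,7,3,4,5,2,4,7,8,3,7,6,3,4,5,1,2,0])) .none)) (.node (.node .none (.word [0,2,1,5,4,3,6,7,3,8,7,4,2,5,4,3,7,2,3,4,1,0,1,2,3,4,5,6,5,4,2,3,2,1,0,1,4,3,2,7,3,4,5,2,4,7,8,3,7,6,3,4,5,1,2,0,5,4,3,7,3,4,5])) .none))) (.node (.word [8,1,2,3,2,4,3,5,4,3,6,7,3,8,7,4,5,6,2,1,0,2,1,3,7,3,4,2,3,7,6,1,2,1,0,4,3,7,5,4,2,3,7,8,4,5,3,4,2,5,6,5,4,3,7,8,3,4,5,6,4,6,7,3,0,1,2,3,7,8,3,7,4,3,1,0]) (.node (.node (.node .none (.node (.node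 (.node .none (.word [0,1,3,2,6,5,4,3,7,3,2,4,3,5,6,1,2,1,0,7,5,4,3,7,8,2,3,7,6,4,0,5,4,3,7,2,3,4,1,0])) .none) .none)) .none) .none)))

/-- A subtree. -/
def sub61 : WTree :=
  (.node (.node (.node (.node .none (.node .none (.node .none (.word [])))) .none) (.node (.node (.node .none (.node (.node .none (.node .none (.word [1,5,4,3,2,6,5,4,3,7,8,7,3,4,5,6,2,3,4,5,1,5,0,2,1,7,3,2,8,4,3,7,8,3,4,2,3,7,5,1,2,0]))) (.node .none (.word [0,1,3,2,6,5,4,3,7,3,4,5,6,2,4,3,7,3,4,0,8,0,6,5,7,3,2,4,3,7,8,1,2,3,7,4,5,6,3,2,0,4,3,7,3,4])))) .none) (.node (.node (.node .none (.node .none (.word [2,3,4,3,2,1,0,2,1,4,3,5,7,3,2,1,4,3,7,5,4,0,1,2,1,0,1,2,3,7,3,2,4,8,3,7,6,3,2,0,1,2,3,4,5,8,6,5,4,3,2,1,0,6,3,7,8,4,2,3,7,4,1,2,1,0]))) (.node .none (.word [5,4,3,5,4,7,3,4,5,2,6,5,4,3,7,3,2,1,4,3,7,2,3,4,5,6,4,8,0,4,3,7,2,3,4,1,0,1,2,1,4,3,5,4,7,3,7,8,2,3,7,4,5,6,4,5,1,2,5,0,2,1,3,6,8,7,3,4,2,3,7,5,1,2,3,0])))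 .none))) (.node (.node (.node .none (.node .none (.node (.node (.node .none (.word [5,4,3,5,4,7,3,4,5,2,3,4,8,4,7,3,2,4,3,8,7,3,4,8,2,3,7,6,2,1,2,3,4,5,8,6,5,4,3,2,1,2,6,7,3,2,8,4,3,7,8,3,4,2,3,7,4])) .none) .none))) .none) (.node (.node (.node (.node .none (.word [2,3,4,3,2,3,8,0,2,1,0,3,2,5,7,8,3,7,0,2,1,4,7,3,7,8,2,3,7,6,4,5,3,0])) .none) .none) (.node (.node .none (.word [0,1,3,4,7,3,2,1,0,8,7,3,4,7,5,4,3,8,7,3,4,5,6,5,3,4,3,2,5,4,3,7,8,3,4,5,0,1,2,3,4,3,6,5,7,3,2,4,3,7,8,7,5,6,4,3,1,2,1,0])) (.node (.node (.node (.node .none (.word [0,1,3,2,6,5,4,3,7,8,7,3,4,5,6,2,3,1,0,1,2,1,3,4,3,5,4,3,2,7,3,8,7,4,5,6,1,2,1,2,3,4,5,3,2,5,4,3,7,8,3,4,5,3,2,3,5,4,3,2,1,2,1,6,5,4,7,8,3,7,2,3,4,5,3,4,3,1,2,1])) .none) .none) .none)))))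

/-- A subtree. -/
def sub62 : WTree :=
  (.node (.node (.node (.node .none (.node .none (.word [1,5,4,3,2,6,5,4,3,7,8,7,3,4,5,6,2,3,4,5,1,0,1,2,1,3,4,6,5,7,3,4,8,2,3,7,5,6,3,4,3,2,1,0,3,5,4,3,7,8,3,4,5,0,1,2,3,4,6,5,7,3,8,4,1,2,3,7,5,6,3,4,3,2,1,0]))) (.node .none (.node (.node (.node .none (.word [5,4,3,5,4,7,3,4,5,2,3,4,0,2,1,5,4,6,5,7,3,2,4,3,7,8,7,5,3,7,2,3,4,1,0,5,4,3,7,8,3,4,5,0,1,2,3,4,7,3,8,1,2,3,7,3,4,3,2,1,0])) .none) .none))) .none) (.node .none (.node (.node (.node (.node .none (.word [0,2,1,5,6,7,3,2,4,3,7,2,6,8,7,3,4,1,2,3,7,4,5,1,2,0])) .none) .none) (.node (.node .none (.node .none (.node .none (.word [5,4,3,5,4,7,3,4,5,2,3,4,2,1,5,4,3,2,6,5,4,7,8,7,3,7,4,5,3,4,1,2,1,2,3,4,5,3,2,3,0,1,4,3,2,7,3,4,5,2,1,4,7,8,3,7,6,3,4,5,2,3,0,1,2,3,4,5,6,5,4,3,2,1]))))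 .none))))

/-- A subtree. -/
def sub63 : WTree :=
  (.node (.node (.node (.node .none (.word [5,4,3,7,3,4,5,0,2,1,5,4,3,6,7,3,8,7,4,2,5,4,3,7,2,3,4,1,0,1,2,3,4,5,6,5,4,3,2,1,0,1,4,3,2,7,3,4,5,2,4,7,8,3,7,6,3,4,5,1,2,0])) .none) (.node (.node .none (.node (.node (.node .none (.node .none (.word [1,5,4,3,2,6,5,4,3,7,8,7,3,4,5,6,2,3,4,5,1,0,2,1,5,6,7,3,2,4,3,7,2,6,8,7,3,4,1,2,3,7,4,5,1,2,0]))) .none) .none)) (.node (.node (.node (.node .none (.word [3,8,5,0,2,1,7,3,2,1,4,3,7,8,6,5,2,3,2,0,8,4,7,3,2,4,3,8,7,3,4,8,2,3,7,6,2,1,2,3,4,5,8,6,5,4,3,2,1,2,6,7,3,2,8,4,3,7,8,3,4,2,3,7,4])) (.node .none (.word [1,5,4,3,2,6,5,4,3,7,8,7,3,4,5,6,2,3,4,5,1,0,3,2,1,5,7,3,2,4,3,7,8,6,3,1,2,0,5,0,1,4,3,2,7,3,4,5,2,1,0,4,6,5,2,3,7,8,3,7,3,4,5,3,4,2]))) .none) (.node (.node .none (.node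 .none (.word [1,0,2,1,4,3,5,7,3,2,1,4,3,7,5,4,0,1,2,1,4,3,5,4,8,7,3,2,4,5,7,3,4,8,3,0,1,2,1,6,7,3,2,4,3,7,3,1,2,0,1,2,6,5,4,7,3,7,8,7,3,4,5,3,4,3,2,1]))) (.node .none (.node (.node .none (.word [0,1,3,2,6,5,4,3,7,8,7,3,4,5,6,2,3,1,0,5,0,2,1,7,3,2,8,4,3,7,8,3,4,2,3,7,5,1,2,0])) .none)))))) (.node (.node (.node .none (.node (.node .none (.node (.node .none (.word [2,3,4,3,2,0,1,3,2,6,5,4,3,7,3,2,4,3,5,6,1,0,2,5,6,5,4,3,7,8,3,4,7,5,4,3,7,8,0,1,2,3,7,4,1,0])) .none)) .none)) (.word [0,1,2,6,5,4,3,7,8,3,4,5,6,2,1,0,2,3,4,3,1,4,5,4,7,3,2,4,8,7,3,4,5,6,4,0,1,2,1,5,4,3,7,8,3,4,5,4,3,7,3,4,1,4,3,2,6,5,4,8,3,7,4,5,6,1,2,3,4,0,1])) (.node (.node .none (.node .none (.node .none (.node .none (.word [3,8,5,0,2,1,7,3,2,1,4,3,7,8,6,5,2,3,2,0,4,3,7,5,4,2,3,7,4,5,3,4]))))) (.word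 [4,3,7,5,4,2,3,7,4,5,3,4,1,2,3,4,3,5,4,3,6,7,8,7,3,7,4,5,6,2,1,0,2,1,3,7,3,4,2,3,7,6,1,2,1,0,1,2,3,4,5,8,6,5,4,3,2,1,0,2,1,0,3,2,5,4,7,8,3,7,1,2,1,6,5,4,7,8,3,7,4,5,2,3,4,3,1,2,0,1]))))

/-- A subtree. -/
def sub64 : WTree :=
  (.node (.node sub60 sub61) (.node sub62 sub63))

/-- A subtree. -/
def sub65 : WTree :=
  (.node (.node .none (.node (.node (.node .none (.node (.node .none (.word [0,1,3,2,6,5,4,3,7,8,7,3,4,5,6,2,3,1,0,5,4,3,5,4,7,3,4,5,2,3,4])) (.word [2,3,4,3,2,0,1,3,4,3,5,4,7,8,7,3,2,4,5,3,4,0,7,3,8,7,2,3,0,1,2,0,1,4,5,7,3,2,1,8,7,3,2,4,8,3,7,5,3,4,0,1,3,4,5,8,6,5,4,3,2,1,2,4,6,5,7,3,4,2,3,7,5,6,4,2]))) (.node (.node (.node .none (.node .none (.word [5,4,3,7,3,4,5,0,1,2,6,5,4,3,7,8,3,4,5,6,3,4,3,2,6,5,7,3,4,8,1,2,3,7,4,5,6,4,3,1,2,1,0]))) .none) .none))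 .none)) (.node .none (.node .none (.node (.node (.node (.node .none (.node .none (.word [2,3,4,3,2,3,4,3,5,4,8,7,3,2,4,5,3,4,1,2,1,0,4,5,7,3,4,1,2,3,7,8,5,3,4,1,2,3,1]))) .none) (.node (.word [5,4,3,7,3,4,5,0,1,2,6,5,4,3,7,8,3,4,5,6,2,1,0,2,3,4,3,2,5,4,3,5,4,7,3,4,5,2,3,4,0,1,2,6,5,4,3,8,7,3,4,5,6,2,1,0]) (.node .none (.word [3,8,5,0,2,1,7,3,2,1,4,3,7,8,6,5,2,3,2,0])))) .none))))

/-- A subtree. -/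
def sub66 : WTree :=
  (.node (.node (.node (.node (.node (.node (.node .none (.word [0,1,2,1,3,4,6,5,7,8,7,3,4,2,3,7,5,6,3,4,3,2,1,0,1,2,3,2,4,5,6,5,4,3,2,1,2,1,4,5,4,7,3,2,4,8,7,3,4,5,6,4,0,1,2,1,8,0,2,1,3,7,3,4,5,3,4,2,3,7,5,6,5,1,2,3,0,1,4,3,2,6,5,4,3,7,4,5,6,2,3,4,1])) .none) .none) (.word [0,2,1,5,4,3,6,7,3,8,7,4,2,5,4,3,7,2,3,4,1,0,1,2,3,4,5,6,5,4,2,3,2,1,0,1,4,3,2,7,3,4,5,2,4,7,8,3,7,6,3,4,5,1,2,0])) .none) (.node (.node (.node .none (.node (.node (.word [0,1,2,6,5,4,3,7,8,3,4,5,6,2,1,0,2,3,4,3,2,5,4,3,5,4,7,3,4,5,2,3,4,0,1,2,6,5,4,3,8,7,3,4,5,6,2,1,0]) (.word [2,3,4,3,2,0,1,2,4,3,6,8,7,3,2,4,5,8,7,3,7,3,4,2,3,7,6,1,2,1,0,2,3,5,4,3,2,0,2,1,6,5,4,7,8,6,5,3,4,2,3,7,5,3,4,2,1,0])) .none)) .none) (.node (.node .none (.node (.node (.node .none (.word [0,1,2,6,5,4,3,7,8,7,3,4,5,6,2,1,0,4,3,2,5,4,3,7,4,5,3,4,5,0,1,2,1,4,7,3,2,4,8,7,3,6,2,3,7,3,8,7,5,6,4,5,3,4,2,3,7,8,1,0]))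 .none) .none)) .none))) (.node (.node .none (.node .none (.node (.node (.node .none (.node .none (.word [0,1,2,6,5,4,3,7,8,3,4,5,6,2,1,0,2,3,4,3,2,5,4,3,7,8,3,4,5,3,0,1,2,3,4,6,5,7,3,8,4,1,2,3,7,5,6,3,4,3,2,1,0]))) .none) .none))) (.node (.node (.node .none (.node .none (.word [0,2,1,5,4,3,6,7,3,8,7,4,2,5,4,3,7,2,3,4,1,0,1,2,3,4,5,6,5,4,2,3,2,1,0,1,4,3,2,7,3,4,5,2,4,7,8,3,7,6,3,4,5,1,2,0,5,4,3,5,4,7,3,4,5,2,3,4]))) (.word [2,3,4,3,2,0,1,2,6,5,4,3,7,8,3,4,5,6,2,1,0,2,3,4,3,2,5,4,3,5,4,7,3,4,5,2,3,4,0,1,2,6,5,4,3,8,7,3,4,5,6,2,1,0])) .none)))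

/-- A subtree. -/
def sub67 : WTree :=
  (.node (.node (.node (.node (.node (.node (.node .none (.node .none (.word [0,1,2,6,5,4,3,7,8,3,4,5,6,3,4,3,2,6,5,7,3,4,8,1,2,3,7,4,5,6,4,3,1,2,1,0]))) .none) .none) (.node (.node .none (.node .none (.word [2,3,4,3,2,0,2,1,5,4,6,5,7,3,2,4,3,7,8,7,5,3,7,2,3,4,1,0,5,4,3,7,8,3,4,5,0,1,2,3,4,7,3,8,1,2,3,7,3,4,3,2,1,0]))) .none)) .none) (.node .none (.node .none (.word [2,1,0,3,2,5,6,5,7,3,4,1,2,3,7,5,3,4,3,2,1,0,4,3,7,2,3,4,1,0,3,8,0,1,2,4,3,6,7,3,8,7,4,1,2,0,1,2,1,3,2,6,5,7,3,4,0,1,2,3,7,4,5,4,3,2,0,1])))) (.node (.node (.node (.node (.node .none (.node (.node .none (.word [0,2,1,5,6,7,3,2,4,3,7,2,6,8,7,3,4,1,2,3,7,4,5,1,2,0,2,3,4,3,2])) .none)) (.word [1,5,4,3,2,6,5,4,3,7,8,7,3,4,5,6,2,3,4,5,1,4,3,7,5,4,2,3,7,4,5,3,4]))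 (.node (.node (.word [0,2,1,5,6,7,3,2,4,3,7,3,1,2,0,5,1,2,3,4,5,6,5,4,3,2,1,5,4,3,7,8,3,4,5,0,1,2,1,6,7,3,2,4,3,7,3,1,2,0,1,2,6,5,4,7,3,7,8,7,6,3,4,5,3,4,3,2,1]) (.node (.node .none (.word [4,3,7,5,4,2,3,7,4,5,3,4,0,1,2,6,5,4,3,7,8,3,4,5,6,3,4,3,2,6,5,7,3,4,8,1,2,3,7,4,5,6,4,3,1,2,1,0])) .none)) (.node .none (.node (.node (.word [2,3,4,3,2,0,2,1,5,4,3,6,7,3,8,7,4,2,5,4,3,7,2,3,4,1,0,1,2,3,4,5,6,5,4,3,2,1,0,1,4,3,2,7,3,4,5,2,4,7,8,3,7,6,3,4,5,1,2,0]) (.word [3,5,4,3,8,7,3,4,0,2,1,3,6,8,7,3,4,2,3,7,8,5,1,2,0,1,2,1,3,4,3,5,4,3,2,7,3,8,7,4,5,6,1,2,1,2,3,4,5,3,2,8,3,2,3,5,4,3,2,1,2,1,6,5,4,7,8,3,7,2,3,4,5,3,4,3,1,2,1])) .none)))) (.node .none (.node (.node .none (.node .none (.word [5,0,2,1,7,3,2,8,4,3,7,8,3,4,2,3,7,5,1,2,0]))) (.word [5,4,3,7,3,4,5])))) (.node (.word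 [2,3,4,3,2,0,2,1,5,4,3,6,7,3,8,7,4,2,5,4,3,7,2,3,4,1,0,1,2,3,4,5,6,5,4,2,3,2,1,0,1,4,3,2,7,3,4,5,2,4,7,8,3,7,6,3,4,5,1,2,0]) (.node (.node (.node .none (.word [1,2,4,5,8,7,3,2,1,4,3,2,3,7,5,3,4,0,1,2,1,4,3,7,3,4,1,2,3,4,5,8,6,5,4,3,2,1,0,1,2,3,4,3,6,5,7,3,2,8,4,3,7,5,6,4,1,2,3,2,1,0])) .none) (.node (.node .none (.node .none (.word [3,8,5,0,2,1,7,3,2,1,4,3,7,8,6,5,2,3,2,0,4,3,7,5,4,2,3,7,4,5,2,3,4]))) .none)))))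

/-- A subtree. -/
def sub68 : WTree :=
  (.node (.node .none (.node (.node (.node (.node (.node .none (.word [1,5,4,3,2,6,5,4,3,7,8,7,3,4,5,6,2,3,4,5,1,5,4,3,5,4,7,3,4,5,2,3,4])) .none) .none) .none) (.node (.node (.node .none (.word [0,2,1,5,4,6,5,7,3,2,4,3,7,8,7,5,3,7,2,3,4,1,0,5,4,3,7,8,3,4,5,0,1,2,3,4,7,3,8,1,2,3,7,3,4,3,2,0,2,1,6,5,4,3,2,8,7,3,4,5,6,4,5,7,3,2,4,3,7,8,4,5,3,4,0,1,2,0,1])) .none) (.node (.node (.node .none (.word [3,8,5,0,2,1,7,3,2,1,4,3,7,8,6,5,2,3,2,0,5,4,3,7,3,4,5])) .none) (.word [0,1,3,2,6,5,4,3,7,8,7,3,4,5,6,2,3,1,0,5,4,3,7,3,4,5]))))) (.node (.node (.node (.node .none (.node .none (.node (.node .none (.word [2,3,4,3,2,0,2,1,5,6,7,3,2,4,3,7,3,6,8,7,3,4,2,3,7,5,4,3,1,2,0])) .none))) .none) .none) (.node (.node (.node (.node (.node .none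 (.word [5,0,2,1,7,3,2,8,4,3,7,8,3,4,2,3,7,5,1,2,0,3,4,3,5,4,8,7,3,2,4,5,3,4,1,2,1,0,4,5,7,3,4,1,2,3,7,8,5,3,4,1,2,3,1])) .none) .none) (.node (.node (.node .none (.word [0,2,1,5,6,7,3,2,4,3,7,3,6,8,7,3,4,2,3,7,5,4,3,1,2,0,8,4,7,3,2,4,3,8,7,3,4,8,2,3,7,6,2,1,2,3,4,5,8,6,5,4,3,2,1,2,6,7,3,2,8,4,3,7,8,3,4,2,3,7,4])) .none) .none)) .none)))

/-- A subtree. -/
def sub69 : WTree :=
  (.node (.node sub65 sub66) (.node sub67 sub68))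

/-- A subtree. -/
def sub70 : WTree :=
  (.node (.node (.node .none (.node .none (.node (.node (.node .none (.word [3,5,4,3,8,7,3,4,0,2,1,3,6,8,7,3,4,2,3,7,8,5,1,2,0,5,4,3,7,3,4,5])) .none) (.word [4,3,7,5,4,2,3,7,4,5,3,4,0,1,0,2,1,6,5,4,3,2,8,7,3,4,5,6,4,5,7,3,2,4,3,7,8,4,5,3,4,0,1,2,0,1])))) (.node .none (.node .none (.node .none (.node .none (.node (.node .none (.word [2,3,4,3,2,3,5,4,3,8,7,3,4,0,2,1,3,6,8,7,3,4,2,3,7,8,5,1,2,0])) (.word [0,1,7,3,2,1,4,8,7,3,2,0,3,0,1,2,3,4,3,6,5,7,3,2,4,3,7,8,7,5,6,4,3,1,2,1,0,5,4,3,7,8,3,4,5,6,5,3,4,2,3,7,3,4,5,6,5,2]))))))) (.node (.node .none (.node .none (.node (.node (.node .none (.word [0,1,2,6,5,4,3,7,3,2,4,3,5,6,2,4,3,6,7,3,8,7,4,1,7,3,2,4,5,3,7,8,4,3,7,5,6,4,3,2,1,0])) .none) (.node .none (.node (.node .none (.word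 [0,1,3,2,6,5,4,3,7,8,7,3,4,5,6,2,3,1,0,4,3,7,5,4,2,3,7,4,5,3,4])) .none))))) (.node .none (.node (.node (.node .none (.word [1,5,4,3,2,6,5,4,3,7,8,4,5,6,2,3,4,1,5,0,1,2,1,6,7,3,2,4,3,7,3,1,2,0,1,2,6,5,4,7,8,3,7,6,3,4,5,3,4,2,3,2,1,0,2,1,4,6,5,4,3,2,4,3,7,2,3,4,5,6,4,1,2,1,0])) (.node .none (.word [5,4,3,7,3,4,5,0,1,2,6,5,4,3,7,3,2,4,3,5,6,2,4,3,6,7,3,8,7,4,1,7,3,2,4,5,3,7,8,4,3,7,5,6,4,3,2,1,0]))) .none))))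

/-- A subtree. -/
def sub71 : WTree :=
  (.node .none (.node (.node (.node (.node .none (.node .none (.node (.node .none (.word [0,2,1,0,3,2,5,4,7,8,3,7,1,2,3,4,5,8,6,5,4,3,2,1,7,3,8,7,4,5,2,3,0,1,2,0])) .none))) (.node (.node .none (.node .none (.word [2,3,4,3,2,8,4,7,3,2,4,3,8,7,3,4,8,2,3,7,6,2,1,2,3,4,5,8,6,5,4,3,2,1,2,6,7,3,2,8,4,3,7,8,3,4,2,3,7,4]))) (.node (.node .none (.node .none (.word [1,5,4,3,2,6,5,4,3,7,8,7,3,4,5,6,2,3,4,5,1,3,5,4,3,8,7,3,4,0,2,1,3,6,8,7,3,4,2,3,7,8,5,1,2,0]))) .none))) .none) (.node .none (.node .none (.node (.word [0,2,1,5,6,7,3,2,4,3,7,3,1,2,0,5,4,6,7,3,2,8,7,3,4,5,7,0,1,2,4,3,7,2,3,4,1,0,2,4,6,5,4,7,8,3,7,8,3,4,2,3,7,5,6,4]) (.node (.node (.node .none (.word [3,5,4,3,8,7,3,4,0,2,1,3,6,8,7,3,4,2,3,7,8,5,0,3,2,5,4,7,8,3,7,1,2,3,4,5,8,6,5,4,3,2,1,7,3,8,7,4,5,2,3,0,1,2,0]))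 .none) .none))))))

/-- A subtree. -/
def sub72 : WTree :=
  (.node (.node (.node (.node (.node (.node (.node .none (.word [1,5,4,3,2,6,5,4,3,7,8,7,3,4,5,6,2,3,4,5,1,2,3,4,3,2])) .none) .none) .none) (.node (.node (.node (.node .none (.word [4,3,7,5,4,2,3,7,4,5,6,5,4,3,7,3,2,1,4,3,7,2,3,4,5,6,4,8,0,4,3,7,2,3,4,1,0,1,2,1,4,3,5,4,7,3,7,8,2,3,7,4,5,6,4,5,1,2,5,0,2,1,3,6,8,7,3,4,2,3,7,5,1,2,3,0])) (.word [0,2,1,5,4,3,6,7,3,8,7,4,2,5,4,3,7,2,3,4,1,0,1,2,3,4,5,6,5,4,3,2,1,0,1,4,3,2,7,3,4,5,2,4,7,8,3,7,6,3,4,5,1,2,0])) .none) .none)) .none) (.node (.node (.node (.node (.node (.node .none (.node .none (.word [5,4,3,8,7,3,4,5,0,7,3,2,1,4,3,7,8,2,3,7,1,2,0,1,2,4,5,7,3,4,5,3,7,8,2,3,7,6,4,2,1,0,2,3,7,8,1,2,3,7,5,0]))) .none) (.node (.node (.node .none (.word [3,8,0,1,2,1,6,7,3,2,4,3,7,3,1,2,0,1,2,6,5,4,7,8,3,7,6,3,4,5,3,4,2,3,2,1,2,3,5,4,3,2,1,2,1,4,3,5,4,7,8,3,7,3,4,5,6,2,3,4,5,1,2]))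 .none) (.node (.node .none (.word [3,8,5,0,2,1,7,3,2,1,4,3,7,8,6,5,2,3,2,0,1,2,1,3,4,3,5,4,3,2,7,3,8,7,4,5,6,1,2,1,2,3,4,5,3,2,8,3,2,3,5,4,3,2,1,2,1,6,5,4,7,8,3,7,2,3,4,5,3,4,3,1,2,1])) .none))) .none) (.node .none (.node (.node .none (.node .none (.word [1,5,4,3,2,6,5,4,3,7,8,7,3,4,5,6,2,3,4,5,1,3,8,0,2,1,0,3,2,5,7,8,3,7,0,2,1,4,7,3,7,8,2,3,7,6,4,5,3,0]))) .none))) (.node (.node .none (.word [4,3,7,5,4,2,3,7,4,5,2,3,4,0,2,1,5,4,3,6,7,3,8,7,4,2,5,4,3,7,2,3,4,1,0,1,2,3,4,5,6,5,4,3,2,1,0,1,4,3,2,7,3,4,5,2,4,7,8,3,7,6,3,4,5,1,2,0])) (.node .none (.node .none (.node .none (.node (.node .none (.word [2,3,4,3,2,3,5,4,3,8,7,3,4,5,1,0,5,6,5,7,3,2,8,7,3,4,5,6,1,2,3,0,1,2,1,2,6,7,3,2,8,4,3,7,8,3,4,2,3,7,4,1,2,3,4,5,7,3,2,8,7,3,4,3,7,8,2,3,7,5,4,3,2,1])) .none)))))))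

/-- A subtree. -/
def sub73 : WTree :=
  (.node (.node (.node .none (.node (.node (.node (.node (.node .none (.word [3,8,5,0,2,1,7,3,2,1,4,3,7,8,6,5,2,3,2,1,2,6,5,4,3,7,8,3,4,5,6,3,4,3,2,6,5,7,3,4,8,1,2,3,7,4,5,6,4,3,1,2,1,0])) .none) .none) .none) .none)) (.node (.node (.node (.node .none (.node (.node .none (.word [1,5,4,3,2,6,5,4,3,7,4,5,6,2,3,4,1,5,0,1,2,1,6,7,3,2,4,3,7,3,1,2,0,1,2,6,5,4,7,8,3,7,6,3,4,5,3,4,2,3,2,1,0,2,1,4,6,5,4,3,2,4,3,7,2,3,4,5,6,4,1,2,1,0])) .none)) .none) .none) (.node .none (.node (.node .none (.node .none (.word [2,3,4,3,2,4,3,6,5,4,3,7,3,2,1,4,3,7,2,3,4,5,6,4,8,0,4,3,7,2,3,4,1,0,1,2,1,4,3,5,4,7,3,7,8,2,3,7,4,5,6,4,5,1,2,5,0,2,1,3,6,8,7,3,4,2,3,7,5,1,2,3,0]))) .none)))) (.node (.node (.node .none (.node (.node .none (.node (.node .none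 (.word [0,2,1,5,6,7,3,2,4,3,7,3,6,8,7,3,4,2,3,7,5,4,3,1,2,0])) .none)) .none)) .none) (.node (.node (.node (.node .none (.node .none (.word [2,3,4,3,1,5,4,3,2,6,5,4,7,8,7,3,7,4,5,3,4,1,2,1,2,3,4,5,3,2,3,0,1,4,3,2,7,3,4,5,2,1,4,7,8,3,7,6,3,4,5,2,3,0,1,2,3,4,5,6,5,4,3,2,1]))) .none) .none) .none)))

/-- A subtree. -/
def sub74 : WTree :=
  (.node (.node sub70 sub71) (.node sub72 sub73))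

/-- A subtree. -/
def sub75 : WTree :=
  (.node (.node (.node .none (.node .none (.node (.node .none (.word [4,3,7,5,4,2,3,7,4,5,3,4])) (.word [3,8,0,2,1,0,3,2,5,7,8,3,7,0,2,1,4,7,3,7,8,2,3,7,6,4,5,3,2,1,5,4,3,6,7,3,8,7,4,2,5,4,3,7,2,3,4,1,0,1,2,3,4,5,6,5,4,3,2,1,0,1,4,3,2,7,3,4,5,2,4,7,8,3,7,6,3,4,5,1,2,0])))) (.node (.node (.node (.node (.word [0,1,0,2,1,6,5,4,3,2,7,3,4,5,6,1,2,0,4,3,2,7,3,4,5,2,1,4,7,8,3,7,6,3,4,5,2,3,1,2,4,3,6,7,3,8,7,4,1,2,0,2,3,5,4,3,2,1,2,1,6,5,4,7,8,3,7,2,3,4,5,3,4,3,1,2,1,0,1,0]) (.node (.node .none (.word [4,3,7,5,4,2,3,7,4,5,2,3,4,8,4,7,3,2,4,3,8,7,3,4,8,2,3,7,6,2,1,2,3,4,5,8,6,5,4,3,2,1,2,6,7,3,2,8,4,3,7,8,3,4,2,3,7,4])) .none)) (.word [3,8,0,2,1,0,3,2,5,7,8,3,7,0,2,1,4,7,3,7,8,2,3,7,6,4,5,3,0,8,4,7,3,2,4,3,8,7,3,4,8,2,3,7,6,2,1,2,3,4,5,8,6,5,4,3,2,1,2,6,7,3,2,8,4,3,7,8,3,4,2,3,7,4]))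 .none) (.node (.node .none (.node .none (.word [3,4,3,5,4,8,7,3,2,4,5,7,3,4,2,1,4,5,7,3,2,4,8,7,3,4,5,6,4,0,1,2,1,3,5,1,2,4,5,7,3,4,5,3,7,8,2,3,7,6,4,2,1,8,3,1,2,4,3,5,7,3,8,4,2,3,7,5,6,4,2,0,1]))) .none))) (.node (.node (.node (.node (.node .none (.node .none (.word [5,4,3,5,4,7,3,4,5,2,3,4]))) .none) (.node .none (.node .none (.node .none (.word [0,1,3,2,6,5,4,3,7,8,7,3,4,5,6,2,3,1,0,4,3,7,5,4,2,3,7,4,5,2,3,4]))))) (.node (.node (.node .none (.word [0,2,1,5,6,7,3,2,4,3,7,2,6,8,7,3,4,1,2,3,7,4,5,1,2,1,2,6,5,4,3,7,8,3,4,5,6,3,4,3,2,6,5,7,3,4,8,1,2,3,7,4,5,6,4,3,1,2,1,0])) .none) .none)) (.node (.node (.node .none (.node .none (.node (.node .none (.word [0,1,2,6,5,4,3,8,7,3,4,5,6,2,1,0,2,3,4,3,2,1,2,4,3,7,3,2,8,7,3,4,5,4,3,7,6,3,4,2,1,5,8,0,2,1,3,7,3,4,5,3,4,2,3,7,5,6,5,1,2,3,0,1,2,4,3,5,4,7,8,3,7,4,5,6,4,2,1]))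 .none))) (.node .none (.node (.node .none (.word [4,3,7,5,4,2,3,7,4,5,3,4,8,4,7,3,2,4,3,8,7,3,4,8,2,3,7,6,2,1,2,3,4,5,8,6,5,4,3,2,1,2,6,7,3,2,8,4,3,7,8,3,4,2,3,7,4])) (.node .none (.word [3,4,3,5,4,8,7,3,2,4,5,3,4,1,2,1,0,4,5,7,3,4,1,2,3,7,8,5,3,4,1,2,3,1]))))) (.node (.node .none (.node (.node .none (.word [0,1,2,5,8,7,3,2,4,3,5,6,5,4,2,3,7,2,5,4,3,2,7,3,4,5,2,1,4,7,8,3,7,6,3,4,5,2,3,1,2,3,4,3,6,5,7,3,2,8,4,3,7,5,6,4,3,1,2,1,0])) .none)) .none))))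

/-- A subtree. -/
def sub76 : WTree :=
  (.node (.node (.node (.node (.node (.node .none (.word [0,1,3,2,6,5,4,3,7,8,7,3,4,5,6,2,3,1,0,8,4,7,3,2,4,3,8,7,3,4,8,2,3,7,6,2,1,2,3,4,5,8,6,5,4,3,2,1,2,6,7,3,2,8,4,3,7,8,3,4,2,3,7,4])) .none) (.node (.node .none (.node .none (.word [0,1,2,1,3,4,6,5,7,3,4,8,2,3,7,5,6,3,4,3,2,1,0,3,5,4,3,7,8,3,4,5,0,1,2,3,4,6,5,7,3,8,4,1,2,3,7,5,6,3,4,3,2,1,0]))) .none)) .none) (.node (.node (.node (.node (.node .none (.word [5,4,3,7,3,4,5,8,4,7,3,2,4,3,8,7,3,4,8,2,3,7,6,2,1,2,3,4,5,8,6,5,4,3,2,1,2,6,7,3,2,8,4,3,7,8,3,4,2,3,7,4])) .none) .none) .none) (.word [1,5,4,3,2,6,5,4,3,7,8,7,3,4,5,6,2,3,4,5,1,4,3,7,5,4,2,3,7,4,5,2,3,4]))) (.node (.node (.node .none (.node .none (.node .none (.node (.node .none (.word [2,3,4,3,2,5,0,2,1,7,3,2,8,4,3,7,8,3,4,2,3,7,5,1,2,0]))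 .none)))) (.node (.word [4,3,5,4,8,7,3,2,4,5,7,3,6,5,7,3,2,4,3,7,8,4,5,6,4,2,0,1,2,1,6,7,3,2,4,3,7,3,1,2,0,1,2,6,5,4,7,8,3,7,6,3,4,5,3,4,3,2,1,6,5,4,7,3,4,8,7,6,5,4,3,7,8,2,3,7,4,5,6,4,3,7,3,4]) (.node .none (.node (.node (.node .none (.word [4,3,7,5,4,2,3,7,4,5,2,3,4,0,1,2,6,5,4,3,7,8,3,4,5,6,3,4,3,2,6,5,7,3,4,8,1,2,3,7,4,5,6,4,3,1,2,1,0])) .none) .none)))) (.node (.node (.node (.node .none (.node (.node .none (.word [3,5,4,3,8,7,3,4,0,2,1,3,6,8,7,3,4,2,3,7,8,5,1,2,0])) .none)) .none) (.node .none (.word [2,1,4,5,4,7,3,2,4,3,7,8,4,5,3,4,0,1,2,1,7,3,8,7,2,3,0,1,2,1,4,3,2,7,3,4,5,2,1,4,7,8,3,7,6,3,4,5,2,3,1,0,2,1,6,5,4,3,7,2,3,4,5,6,1,2,3,0,1,0]))) (.node (.node .none (.node .none (.word [3,8,0,2,1,0,3,2,5,7,8,3,7,0,2,1,4,7,3,7,8,2,3,7,6,4,5,3,2,1,5,4,3,6,7,3,8,7,4,2,5,4,3,7,2,3,4,1,0,1,2,3,4,5,6,5,4,2,3,2,1,0,1,4,3,2,7,3,4,5,2,4,7,8,3,7,6,3,4,5,1,2,0])))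 (.node (.node .none (.node (.node .none (.word [5,4,3,7,3,4,5,0,1,2,6,5,4,3,7,8,3,4,5,6,2,1,0,2,3,4,3,2,5,4,3,7,8,3,4,5,3,0,1,2,3,4,6,5,7,3,8,4,1,2,3,7,5,6,3,4,3,2,1,0])) .none)) .none)))))

/-- A subtree. -/
def sub77 : WTree :=
  (.node (.node (.node (.node (.node (.node (.node .none (.word [1,0,2,1,4,3,5,7,3,2,1,4,3,7,5,4,0,1,2,1,3,5,4,3,8,7,3,4,5,4,3,7,5,4,2,3,7,4,5,3,4,0,1,2,1,6,7,3,2,4,3,7,3,1,2,0,1,2,6,5,4,7,3,7,8,7,3,4,5,3,4,3,2,1])) .none) .none) .none) .none) (.node (.node (.node (.node (.node .none (.node .none (.word [8,0,1,7,3,2,1,4,3,7,8,2,3,7,1,2,0,1,2,3,4,5,8,6,5,4,3,1,0,3,4,3,7,3,2,1,8,5,4,3,7,8,2,3,7,5,6,1,2]))) (.node .none (.word [4,3,7,5,4,2,3,7,4,5,2,3,4]))) .none) (.node .none (.node (.node .none (.word [2,3,4,3,2])) .none))) .none)) (.node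 (.node (.node .none (.node .none (.node (.node (.node .none (.word [5,4,3,5,4,7,3,4,5,2,3,4,0,2,1,0,3,2,5,4,7,8,3,7,1,2,3,4,5,8,6,5,4,3,2,1,7,3,8,7,4,5,2,3,0,1,2,0])) .none) .none))) (.node (.node (.node .none (.word [4,3,7,5,4,2,3,7,4,5,2,6,5,4,3,7,3,2,1,4,3,7,2,3,4,5,6,4,8,0,4,3,7,2,3,4,1,0,1,2,1,4,3,5,4,7,3,7,8,2,3,7,4,5,6,4,5,1,2,5,0,2,1,3,6,8,7,3,4,2,3,7,5,1,2,3,0])) .none) .none)) (.word [4,3,7,5,4,2,3,7,4,5,3,4,0,2,1,5,4,3,6,7,3,8,7,4,2,5,4,3,7,2,3,4,1,0,1,2,3,4,5,6,5,4,3,2,1,0,1,4,3,2,7,3,4,5,2,4,7,8,3,7,6,3,4,5,1,2,0])))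

/-- A subtree. -/
def sub78 : WTree :=
  (.node (.node (.node (.node (.node (.node (.node .none (.word [8,4,7,3,2,4,3,8,7,3,4,8,2,3,7,6,2,1,2,3,4,5,8,6,5,4,3,2,1,2,6,7,3,2,8,4,3,7,8,3,4,2,3,7,4])) .none) (.node (.node .none (.word [0,1,3,2,6,5,4,3,7,8,7,3,4,5,6,2,4,3,5,4,7,8,7,3,2,4,5,3,4,0,7,3,8,7,2,3,0,1,2,0,2,4,6,5,7,3,2,4,8,7,3,5,4,0,1,2,0,2,3,5,4,3,2,1,2,1,6,5,4,7,8,3,7,2,3,4,5,3,4,3,1,2,1,2,4,6,5,4,8,7,3,4,2,3,7,5,6,4])) .none)) .none) (.node .none (.node .none (.node (.node (.word [5,4,3,5,4,7,3,4,5,2,3,4,0,2,1,5,4,3,6,7,3,8,7,4,2,5,4,3,7,2,3,4,1,0,1,2,3,4,5,6,5,4,3,2,1,0,1,4,3,2,7,3,4,5,2,4,7,8,3,7,6,3,4,5,1,2,0]) (.word [5,0,2,1,7,3,2,8,4,3,7,8,3,4,2,3,7,5,0,3,2,5,4,7,8,3,7,1,2,3,4,5,8,6,5,4,3,2,1,7,3,8,7,4,5,2,3,0,1,2,0])) .none)))) (.node .none (.node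 .none (.word [5,4,3,7,3,4,5,1,2,4,5,8,7,3,2,1,4,3,2,3,7,5,3,4,0,1,2,1,4,3,7,3,4,1,2,3,4,5,8,6,5,4,3,2,1,0,1,2,3,4,3,6,5,7,3,2,8,4,3,7,5,6,4,1,2,3,2,1,0])))) (.node (.node (.word [5,4,3,7,3,4,5,0,1,2,1,3,4,6,5,7,3,4,8,2,3,7,5,6,3,4,3,2,1,0,3,5,4,3,7,8,3,4,5,3,0,2,1,4,6,5,4,3,2,4,3,7,2,3,4,5,6,4,1,2,1,0]) (.node .none (.node .none (.node (.node (.node .none (.word [0,2,1,5,6,7,3,2,4,3,7,3,6,8,7,3,4,2,3,7,5,4,3,1,2,1,2,6,5,4,3,7,3,2,4,3,5,6,2,4,3,6,7,3,8,7,4,1,7,3,2,4,5,3,7,8,4,3,7,5,6,4,3,2,1,0])) (.word [3,5,4,3,8,7,3,4,0,2,1,3,6,8,7,3,4,2,3,7,8,5,1,2,0,1,2,3,2,4,5,6,8,5,4,3,2,1,2,3,5,4,3,2,1,6,5,7,3,2,4,3,7,8,7,3,4,2,3,7,5,6,5,1,2,3,4,5,3,2])) .none)))) (.node (.node .none (.node (.node (.node (.node .none (.word [1,5,4,3,2,6,5,4,3,7,8,7,3,4,5,6,2,3,4,5,1,0,2,1,5,6,7,3,2,4,3,5,4,7,3,1,2,0,5,4,3,7,8,3,4,5,3,0,1,2,3,4,7,3,8,1,2,3,7,8,3,4,2,3,2,1,0]))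 (.node .none (.word [2,3,4,3,2,0,1,2,6,5,4,3,7,8,3,4,5,6,3,4,3,2,6,5,7,3,4,8,1,2,3,7,4,5,6,4,3,1,2,1,0]))) .none) .none)) .none)))

/-- A subtree. -/
def sub79 : WTree :=
  (.node (.node sub75 sub76) (.node sub77 sub78))

/-- Points. -/
def levX3pts0 : List ℕ := [16,31,35,54,55,91,92,107,124,128,138,140,150,181,186,230,239,249,278,291,298,352,370,376,388,443,449,451,463,470,494,523,564,568,581,595,599,622,625,630,672,707,802,826,867,872,881,891,904,918,1029,1031,1034,1039,1067,1070,1086,1088,1093,1132,1214,1217,1220,1233,1262,1295,1314,1322,1395,1447,1459,1472,1487,1503,1555,1575,1597,1640,1644,1670,1675,1689,1749,1750,1772,1773,1782,1832,1906,1908,1939,1971,1980,2017,2125,2239,2296,2325,2352,2410,2455,2456,2523,2527,2553,2582,2595,2605,2619,2710,2716,2717,2811,2837,2841,2846,2848,2867,2966,2971,3025,3041,3052,3061,3072,3078,3093,3111,3186,3234,3244,3263,3290,3368,3481]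

/-- A level. -/
def levX3 : Level :=
  ⟨904, (.node (.node sub64 sub69) (.node sub74 sub79)), levX3pts0⟩

/-- A subtree. -/
def sub80 : WTree :=
  (.node (.node .none (.node .none (.node (.node (.node (.node .none (.node .none (.word [1,2,3,4,3,5,4,3,6,7,8,7,3,7,4,5,6,2,1,0,2,1,3,7,3,4,2,3,7,6,1,2,1,0,4,3,5,4,7,3,2,4,5,7,5,4,8,7,3,2,4,5,7,3,4,3,1,4,5,7,3,2,1,8,7,3,2,4,8,3,7,5,3,4,3,2,1,6,5,4,3,7,8,5,4,2,3,7,6,0,1,0,2,1,0,4,5,3,7,8,4,3,7,5,6,4,2]))) .none) .none) .none))) (.node (.node (.node (.node .none (.node (.node .none (.node .none (.word [0,2,1,5,7,3,2,4,3,8,7,3,4,8,2,3,7,1,2,0,5,2,3,4,3,2,1,5,4,3,2,6,5,4,3,7,8,7,3,4,5,6,2,3,4,5,1,0,1,2,1,3,2,7,8,3,7,4,3,7,2,3,4,1,7,3,4,8,7,3,2,3,1,3,7,4,2,3,7,8,5,4,3,7,6,1,2,6,3,7,8,4,2,3,7,4,1,2,0]))) .none)) (.node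 (.node .none (.word [1,0,3,2,1,4,3,5,7,3,2,1,4,3,7,5,4,0,1,2,1,8,1,2,1,0,4,5,7,3,4,1,2,3,7,5,3,4,1,2,3,0,1,3,8,0,1,2,3,4,6,5,4,3,7,8,3,4,5,6,5,4,2,3,2,1,0])) .none)) (.node (.node .none (.node (.node (.node .none (.word [2,3,4,3,2,1,5,4,3,2,6,5,4,3,7,8,7,3,4,5,6,2,3,4,5,1,5,0,2,1,7,3,2,8,4,3,7,8,3,4,2,3,7,5,1,2,1,0,2,1,6,5,4,3,2,8,7,3,4,5,6,4,5,7,3,2,4,3,7,8,4,5,3,4,0,1,2,0,1])) .none) .none)) .none)) (.node (.node .none (.node (.node .none (.word [1,0,2,3,4,5,4,7,3,2,1,0,4,3,7,5,6,2,3,1,2,1,0,2,1,4,7,8,3,7,6,3,4,2,1,0,8,5,4,3,8,7,3,4,5,6,5,7,3,2,1,4,3,2,8,7,3,4,5,6,2,3,0,1,2,5,0,1,4,3,7,3,4,0,8,0,2,1,3,7,3,4,5,3,4,2,3,7,5,6,5,1,2,3,0,3,1,2,4,3,5,4,7,8,3,7,4,5,6,4,5,2,0,1])) .none)) .none)))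

/-- A subtree. -/
def sub81 : WTree :=
  (.node (.node .none (.node (.node (.node (.node (.node (.node .none (.word [0,1,3,4,7,3,8,7,3,2,1,0,3,7,6,4,6,5,4,3,8,7,3,4,5,6,5,2,1,2,3,4,5,6,5,4,2,3,2,1,2,5,6,5,4,3,7,8,3,4,5,6,4,6,7,3,0,1,2,3,7,8,3,7,4,3,1,0,1,5,4,3,2,6,5,4,3,7,8,7,3,4,5,6,2,3,4,5,1])) .none) .none) .none) .none) (.node .none (.node (.node (.node .none (.word [3,8,0,1,2,3,4,6,5,4,3,7,8,3,4,5,6,5,4,2,3,2,1,0])) .none) .none)))) (.node (.node (.node (.node (.node (.node .none (.word [0,1,0,2,1,6,5,4,3,2,8,7,3,4,5,6,1,2,0,1,0,5,4,3,7,8,3,4,5,3,0,1,0,2,1,6,5,4,3,7,8,7,2,3,4,5,6,1,2,0,1,0,1,0,3,2,1,4,3,5,7,3,2,1,4,3,7,5,4,0,1,2,1,8,1,2,1,0,4,5,7,3,4,1,2,3,7,5,3,4,1,2,3,0,1])) .none) .none) .none) (.node (.node .none (.node (.node (.node .none (.word [3,8,0,1,2,3,4,6,5,4,3,7,8,3,4,5,6,5,4,2,3,2,1,2,1,5,7,3,2,4,3,8,7,3,4,8,2,3,7,1,2,0,5,2,3,4,3,2,1,5,4,3,2,6,5,4,3,7,8,7,3,4,5,6,2,3,4,5,1,0,1,2,1,3,2,7,8,3,7,4,3,7,2,3,4,1,7,3,4,8,7,3,2,3,1,3,7,4,2,3,7,8,5,4,3,7,6,1,2,6,3,7,8,4,2,3,7,4,1,2,0]))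 .none) .none)) .none)) (.node (.node (.node (.node (.node (.word [1,0,3,2,1,4,3,5,7,3,2,1,4,3,7,5,4,0,1,2,1,8,1,2,1,0,4,5,7,3,4,1,2,3,7,5,3,4,1,2,3,0,1,0,1,2,3,4,5,4,3,2,1,0]) (.node .none (.word [4,3,5,4,7,3,2,4,5,7,3,4,0,2,1,5,6,7,3,2,4,3,7,3,6,8,7,3,4,2,3,7,5,4,3,1,2,0,5,4,3,7,3,4,5,0,1,3,2,6,5,4,3,7,8,7,3,4,5,6,2,3,1,0]))) .none) .none) (.node .none (.node (.word [2,1,3,5,4,6,5,4,3,2,7,8,3,4,5,6,3,1,2,0,2,1,4,7,8,2,3,7,6,4,2,1,0,8,3,0,1,2,1,6,7,3,2,4,3,7,3,1,2,0,2,1,3,6,5,4,3,7,2,3,4,5,6,4,5,1,2,3,2,3,8,0,1,2,3,4,6,5,4,3,7,8,3,4,5,6,5,4,2,3,2,1,0]) (.node .none (.word [0,1,3,2,6,5,4,3,7,8,7,3,4,5,6,2,3,1,0,1,0,2,3,4,5,4,7,3,2,1,0,4,3,7,5,6,2,3,1,2,1,0,2,1,4,7,8,3,7,6,3,4,2,1,0,8,1,2,3,4,5,8,6,5,4,3,2,1,0,1,2,4,3,6,7,3,8,7,4,1,2,0,1,2,1,3,2,6,5,7,3,4,0,1,2,3,7,4,5,4,3,2,0,1])))))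 .none)))

/-- A subtree. -/
def sub82 : WTree :=
  (.node (.node (.node (.node (.node (.node (.node (.node .none (.word [1,0,3,2,1,4,3,5,7,3,2,1,4,3,7,5,4,0,1,2,1,8,1,2,1,0,4,5,7,3,4,1,2,3,7,5,3,4,1,2,3,0,5,4,3,2,6,5,4,3,7,8,7,3,4,5,6,2,3,4,5,1])) .none) .none) .none) .none) .none) (.node (.node (.node .none (.node .none (.word [1,5,4,3,2,6,5,4,3,7,8,7,3,4,5,6,2,3,4,5,1,2,3,4,3,2,5,6,5,4,3,2,1,7,3,4,7,2,3,4,5,6,0,2,3,6,7,3,2,3,4,1,2,3,7,2,0,5,4,3,8,7,3,4,5,8,2,3,5,4,3,2,1,2,1,4,3,5,4,7,8,2,3,7,4,5,6,4,1,2,1,0,2,1,3,7,3,4,2,3,7,6,1,2,1,0]))) .none) .none)) (.node (.node (.node .none (.node .none (.node .none (.node .none (.word [2,3,2,1,5,4,6,5,4,3,2,7,3,4,5,6,3,1,2,0,2,1,3,7,3,4,2,3,7,6,1,2,1,0,8,3,0,1,2,4,6,7,3,2,8,7,4,1,2,0,2,1,3,6,5,4,3,8,7,2,3,4,5,6,4,5,3,1,2])))))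 .none) (.node (.node (.node .none (.node (.node .none (.node .none (.word [5,4,3,7,3,4,5,0,3,2,1,5,7,3,2,4,3,7,8,6,3,1,2,0,5,1,2,3,2,4,3,5,4,3,6,7,3,8,7,4,5,6,2,1,0,2,1,3,7,3,4,2,3,7,6,1,2,1,0,5,4,3,7,8,3,4,5,3,0,1,2,4,6,7,3,8,7,4,1,2,0,1,6,5,7,3,2,4,3,7,8,7,3,4,2,3,7,5,6,5,1,0,2,1,4,7,8,3,7,6,4,2,1,0]))) .none)) (.word [1,0,3,2,1,4,3,5,7,3,2,1,4,3,7,5,4,0,1,2,1,8,1,2,1,0,4,5,7,3,4,1,2,3,7,5,3,4,1,2,3,0,1,0,1,3,2,6,5,4,3,7,8,7,3,4,5,6,2,3,1,0])) (.node (.node .none (.word [])) .none))))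

/-- A subtree. -/
def sub83 : WTree :=
  (.node (.node .none (.node (.node (.node (.node (.node .none (.node .none (.word [4,3,2,5,4,3,7,4,5,3,4,5,0,1,3,2,6,5,4,3,7,8,7,3,4,5,6,2,3,1,0,5,4,3,5,4,7,3,4,5,2,3,4,1,2,3,4,5,6,8,5,4,3,2,1,0,1,2,7,3,2,1,4,3,2,3,7,6,3,2,0,2,3,5,4,3,2,1,2,1,6,5,4,7,8,3,7,2,3,4,5,3,4,3,1,2,1,0,2,3,7,8,1,2,3,7,0]))) .none) .none) .none) (.node (.node (.node (.node .none (.node .none (.word [4,3,5,4,7,3,2,4,5,7,3,4,0,2,1,5,6,7,3,2,4,3,7,3,6,8,7,3,4,2,3,7,5,4,3,1,2,0,5,4,3,7,3,4,5,2,3,4,3,2,0,1,0,2,1,6,5,4,3,2,8,7,3,4,5,6,1,2,0,4,3,7,3,4,0,2,1,4,5,7,3,2,4,3,7,8,4,5,2,3,4,0,1,2,1]))) .none) .none) .none))) (.node (.node (.node (.node (.node (.node (.node .none (.word [4,3,5,4,7,3,2,4,5,7,3,4,0,2,1,5,6,7,3,2,4,3,7,3,6,8,7,3,4,2,3,7,5,4,3,1,2,0,5,4,3,7,3,4,5,3,8,0,1,2,3,4,6,5,4,3,7,8,3,4,5,6,5,4,2,3,2,1,0]))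 .none) .none) .none) .none) .none) (.node (.node .none (.node (.node (.node .none (.node .none (.word [5,4,3,7,3,4,5,1,0,6,5,7,3,2,4,3,5,7,8,7,3,4,2,3,7,5,6,1,4,7,3,2,4,3,8,7,3,4,8,2,3,7,6,2,8,1,2,3,4,5,6,8,5,4,3,2,1,0,4,3,7,2,3,4,1,0,1,2,3,4,5,7,3,2,8,7,3,4,3,7,8,2,3,7,5,4,3,2,1]))) .none) .none)) .none)))

/-- A subtree. -/
def sub84 : WTree :=
  (.node (.node sub80 sub81) (.node sub82 sub83))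

/-- A subtree. -/
def sub85 : WTree :=
  (.node (.node .none (.node .none (.node (.node .none (.node (.node .none (.word [2,3,4,3,2,1,0,3,2,1,4,3,5,7,3,2,1,4,3,7,5,4,0,1,2,1,6,5,7,3,2,1,4,3,2,8,7,3,4,5,6,2,3,0,1,2,0,1,0,8,2,3,7,8,4,5,3,4,2,3,7,6,3,2,1,2,4,3,2,5,4,7,8,7,3,4,1,2,3,7,4,5,6,4,2,1,0,3,2,1,6,5,4,3,7,8,5,4,2,3,7,6,0,1,0,2,1,0,7,5,4,3,7,8,2,3,7,6,4])) .none)) (.node (.word [0,1,2,3,4,5,4,3,2,1,2,1,3,4,5,7,3,2,4,3,7,8,6,3,7,3,4,2,3,7,6,5,1,2,0,1,5,4,3,2,6,5,4,3,7,8,7,3,4,5,6,2,3,4,5,1,0,2,1,5,6,7,3,2,4,3,7,3,6,8,7,3,4,2,3,7,5,4,3,1,2,0]) (.node .none (.word [0,1,2,3,4,3,6,5,7,3,2,1,4,8,3,7,5,6,4,3,2,1,0,3,5,4,3,8,7,3,4,5,2,3,4,3,2,0,1,2,6,5,4,3,8,7,3,4,5,6,2,1,0,1,2,3,4,5,6,5,4,3,2,1,2,3,7,8,4,5,3,4,2,3,7,6,3,2,1,2,4,3,2,5,4,7,8,7,3,4,1,2,3,7,4,5,6,4,1,6,5,3,4,2,3,7,3,4,5,6,5,2]))))))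 (.node (.word [1,0,3,2,1,4,3,5,7,3,2,1,4,3,7,5,4,0,1,2,1,8,1,2,1,0,4,5,7,3,4,1,2,3,7,5,3,4,1,2,3,0,1]) (.node .none (.node (.word [2,3,4,3,2,1,5,4,3,2,6,5,4,3,7,8,7,3,4,5,6,2,3,4,5,1,3,8,0,2,1,0,3,2,5,7,8,3,7,0,2,1,4,7,3,7,8,2,3,7,6,4,5,3,0,3,4,3,5,4,8,7,3,2,4,5,3,4,1,2,1,0,4,5,7,3,4,1,2,3,7,8,5,3,4,1,2,3,1]) (.node (.node .none (.node .none (.word [0,1,3,2,6,5,4,3,7,8,7,3,4,5,6,2,3,1,2,1,5,7,3,2,4,3,8,7,3,4,8,2,3,7,1,2,0,5,2,3,4,3,2,1,5,4,3,2,6,5,4,3,7,8,7,3,4,5,6,2,3,4,5,1,0,1,2,1,3,2,7,8,3,7,4,3,7,2,3,4,1,7,3,4,8,7,3,2,3,1,3,7,4,2,3,7,8,5,4,3,7,6,1,2,6,3,7,8,4,2,3,7,4,1,2,0]))) .none)))))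

/-- A subtree. -/
def sub86 : WTree :=
  (.node (.node .none (.node (.node .none (.node (.node (.node (.node .none (.word [5,4,3,7,3,4,5,2,1,0,3,2,5,6,5,7,3,4,1,2,3,7,5,3,4,3,2,1,0,4,3,7,2,3,4,1,0,3,5,4,3,8,7,3,4,5,2,3,4,3,2,0,1,2,1,6,7,3,2,4,3,7,3,1,2,0,2,1,3,6,5,4,3,7,2,3,4,5,6,4,5,1,2,3,2])) .none) .none) .none)) (.node (.node (.node (.node .none (.word [0,1,2,3,4,5,4,3,2,1,0])) .none) (.node .none (.node .none (.word [1,5,4,3,2,6,5,4,3,7,8,7,3,4,5,6,2,3,4,5,1,0,2,1,5,7,3,2,4,3,8,7,3,4,8,2,3,7,1,2,0,5,0,1,2,3,4,3,8,7,3,2,1,8,3,7,4,3,2,7,3,2,1,4,8,7,3,2,0,4,3,7,8,3,4,5,4,3,7,8,3,4,5,0,2,1,3,2,3,7,8,4,3,7,0])))) .none))) (.node (.node .none (.node (.node (.node (.node (.node .none (.word [1,0,3,2,1,4,3,5,7,3,2,1,4,3,7,5,4,0,1,2,1,8,1,2,1,0,4,5,7,3,4,1,2,3,7,5,3,4,1,2,3,0,1,2,3,4,3,2,0,1,0,2,1,6,5,4,3,2,8,7,3,4,5,6,1,2,0,4,3,7,3,4,0,2,1,4,5,7,3,2,4,3,7,8,4,5,2,3,4,0,1,2,1]))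 .none) .none) .none) (.node .none (.node .none (.node .none (.word [0,1,2,3,4,5,4,3,2,1,0,4,3,2,5,4,3,7,4,5,3,4,5,0,1,3,2,6,5,4,3,7,8,7,3,4,5,6,2,3,1,0,5,4,3,5,4,7,3,4,5,2,3,4,1,2,3,4,5,6,8,5,4,3,2,1,0,1,2,7,3,2,1,4,3,2,3,7,6,3,2,0,2,3,5,4,3,2,1,2,1,6,5,4,7,8,3,7,2,3,4,5,3,4,3,1,2,1,0,2,3,7,8,1,2,3,7,0])))))) (.node (.node (.node .none (.node (.node (.node .none (.word [2,1,3,5,4,6,5,4,3,2,7,8,3,4,5,6,3,1,2,0,2,1,4,7,8,2,3,7,6,4,2,1,0,8,3,0,1,2,1,6,7,3,2,4,3,7,3,1,2,0,2,1,3,6,5,4,3,7,2,3,4,5,6,4,5,1,2,3,2])) .none) .none)) (.node .none (.node (.node .none (.word [0,1,4,7,3,2,1,0,8,7,3,4,5,7,4,3,8,7,3,4,5,6,5,2,0,1,6,5,3,4,2,3,7,3,4,5,6,2,3,1,0,2,3,4,3,2,1,2,3,4,5,6,8,5,4,3,2,1,0,1,2,7,3,2,1,4,3,2,3,7,6,3,2,0,2,3,5,4,3,2,1,2,1,6,5,4,7,8,3,7,2,3,4,5,3,4,3,1,2,1,0,2,3,7,8,1,2,3,7,0]))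 .none))) (.node (.node .none (.node .none (.word [0,1,3,4,7,3,8,7,3,2,1,0,3,7,6,4,6,5,4,3,8,7,3,4,5,6,5,2,1,2,3,4,5,6,5,4,2,3,2,1,2,5,6,5,4,3,7,8,3,4,5,6,4,6,7,3,0,1,2,3,7,8,3,7,4,2,6,5,4,3,7,8,7,3,4,5,6,2,3,1,0]))) .none))))

/-- A subtree. -/
def sub87 : WTree :=
  (.node (.node (.node (.node (.node .none (.node (.node .none (.word [3,8,0,1,2,3,4,6,5,4,3,7,8,3,4,5,6,5,4,2,3,2,3,4,7,3,8,7,3,2,1,0,3,7,6,4,6,5,4,3,8,7,3,4,5,6,5,2,1,2,3,4,5,6,5,4,2,3,2,1,2,5,6,5,4,3,7,8,3,4,5,6,4,6,7,3,0,1,2,3,7,8,3,7,4,3,1,0])) .none)) .none) (.node (.node (.node .none (.node (.node .none (.word [4,3,5,4,7,3,2,4,5,7,3,4,0,2,1,5,6,7,3,2,4,3,7,3,6,8,7,3,4,2,3,7,5,4,3,1,2,0,5,4,3,7,3,4,5,0,1,0,2,1,6,5,4,3,2,8,7,3,4,5,6,1,2,0,1,0,5,4,3,7,8,3,4,5,3,0,1,0,2,1,6,5,4,3,7,8,7,2,3,4,5,6,1,2,0,1,0]))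 .none)) (.node (.node (.node .none (.word [0,2,1,5,8,7,3,2,4,3,7,8,6,3,1,2,0,4,3,7,8,3,4,5,3,0,1,0,6,5,4,3,2,1,7,3,4,7,2,3,4,5,6,0,1,0,1,0,2,5,4,6,5,4,7,3,8,7,4,5,3,4,1,0,3,2,1,6,5,4,3,7,8,5,4,2,3,7,6,0,4,3,2,6,5,4,3,7,4,5,6,2,3,4,1])) .none) .none)) (.node (.node .none (.node .none (.word [0,3,5,4,6,7,3,2,8,7,3,7,4,1,2,0,7,3,8,7,5,2,3,0,1,2,0,8,3,0,3,2,1,5,6,5,7,3,2,4,3,5,4,3,7,3,1,2,0,1,2,3,4,5,6,8,5,4,3,2,1,3,0,7,3,4,8,7,3,2,3,1,2,0,4,3,7,8,3,4,2,3,5,4,3,2,1,2,1,6,5,4,7,8,3,7,2,3,4,5,3,4,3,1,2,1,6,5,3,4,2,3,7,3,4,5,6,5,2]))) .none))) (.node .none (.node .none (.node .none (.word [5,4,3,7,3,4,5,0,3,2,1,5,7,3,2,4,3,7,8,6,3,1,2,0,5,0,1,4,3,2,7,3,4,5,2,1,0,4,2,3,7,8,2,3,7,6,3,4,5,2]))))) (.node (.node .none (.node .none (.node (.node (.node (.node .none (.word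 [1,5,4,3,2,6,5,4,3,7,8,7,3,4,5,6,2,3,4,5,1,5,4,3,7,3,4,5,0,2,1,5,8,7,3,2,4,3,7,8,6,3,1,2,0,4,3,7,8,3,4,5,3,0,3,2,1,5,7,3,2,4,3,7,8,6,3,1,2,0,5,0,1,4,3,2,7,3,4,5,2,1,0,4,6,5,2,3,7,8,3,7,3,4,5,3,4,2])) .none) .none) .none))) (.node (.node (.node .none (.node .none (.node (.node .none (.word [0,2,3,6,5,4,7,3,2,1,8,7,3,4,2,3,7,5,6,0,8,5,4,3,7,8,3,4,5,0,6,5,7,3,2,4,3,7,8,1,2,3,7,4,5,6,3,2,1,2,3,4,5,4,3,2,1,0])) .none))) .none) (.node .none (.node (.node .none (.word [4,3,5,4,7,3,2,4,5,7,3,4,0,2,1,5,6,7,3,2,4,3,7,3,6,8,7,3,4,2,3,7,5,4,3,1,2,0,5,4,3,7,3,4,5,0,1,2,3,4,5,4,3,2,1,0])) .none)))))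

/-- A subtree. -/
def sub88 : WTree :=
  (.node (.node (.node (.node (.node .none (.node .none (.node (.node .none (.word [1,4,6,5,4,7,3,2,1,4,3,8,7,4,5,2,3,4,2,1,5,4,3,8,7,5,4,7,3,4,5,2,3,4,0,1,6,5,3,4,2,3,7,3,4,5,6,2,3,1,0,1,2,4,3,5,4,7,8,7,3,4,2,3,7,5,6,4,1])) .none))) (.node (.node .none (.node .none (.word [1,5,4,3,2,6,5,4,3,7,8,7,3,4,5,6,2,3,4,5,1,0,2,3,6,5,4,7,3,2,1,8,7,3,4,2,3,7,5,6,0,8,5,4,3,7,8,3,4,5,0,6,5,7,3,2,4,3,7,8,1,2,3,7,4,5,6,3,2,0]))) .none)) .none) (.node .none (.node (.node (.node (.node .none (.node .none (.word [0,1,3,2,6,5,4,3,7,8,7,3,4,5,6,2,3,1,0,2,3,4,3,2,1,5,4,3,2,6,5,4,3,7,8,7,3,4,5,6,2,3,4,5,1,5,0,2,1,7,3,2,8,4,3,7,8,3,4,2,3,7,5,1,2,1,0,2,1,6,5,4,3,2,8,7,3,4,5,6,4,5,7,3,2,4,3,7,8,4,5,3,4,0,1,2,0,1]))) .none) .none) .none))) (.node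 (.node (.node (.node .none (.node .none (.word [4,3,5,4,7,3,2,4,5,7,3,4,0,1,2,5,8,7,3,2,4,3,5,6,5,4,2,3,7,2,5,1,0,2,6,7,3,4,5,8,7,3,4,8,2,3,7,1,2,3,4,5,6,8,5,4,3,2,1,4,3,7,8,3,4,0,2,3,4,3,2,1,0,2,3,7,8,4,5,3,4,2,3,7,6,3,2,1,4,3,2,6,5,4,7,8,3,7,4,5,6,2,3,4,1]))) (.node (.word [0,1,3,4,7,3,8,7,3,2,1,0,3,7,6,4,6,5,4,3,8,7,3,4,5,6,5,2,1,2,3,4,5,6,5,4,2,3,2,1,2,5,6,5,4,3,7,8,3,4,5,6,4,6,7,3,0,1,2,3,7,8,3,7,4,3,2,3,4,5,4,3,2,1,0]) (.node (.node .none (.node .none (.word [3,8,0,1,2,3,4,6,5,4,3,7,8,3,4,5,6,5,4,2,3,2,1,0,2,3,4,3,2,1,5,4,3,2,6,5,4,3,7,8,7,3,4,5,6,2,3,4,5,1,5,0,2,1,7,3,2,8,4,3,7,8,3,4,2,3,7,5,1,2,1,0,2,1,6,5,4,3,2,8,7,3,4,5,6,4,5,7,3,2,4,3,7,8,4,5,3,4,0,1,2,0,1]))) .none))) (.node (.node (.node .none (.node .none (.word [2,3,4,3,2,0,1,0,2,1,6,5,4,3,2,8,7,3,4,5,6,1,2,0,4,3,7,3,4,0,2,1,4,5,7,3,2,4,3,7,8,4,5,2,3,4,0,1,2,0,3,2,1,4,3,5,7,3,2,1,4,3,7,5,4,0,1,2,1,8,1,2,1,0,4,5,7,3,4,1,2,3,7,5,3,4,1,2,3,0,1])))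 .none) .none)) .none))

/-- A subtree. -/
def sub89 : WTree :=
  (.node (.node sub85 sub86) (.node sub87 sub88))

/-- A subtree. -/
def sub90 : WTree :=
  (.node (.node (.node (.node (.node (.node .none (.word [1,5,4,3,2,6,5,4,3,7,8,7,3,4,5,6,2,3,4,5,1,4,3,5,4,7,3,2,4,5,7,3,4,0,2,1,5,6,7,3,2,4,3,7,3,6,8,7,3,4,2,3,7,5,4,3,1,2,0,5,4,3,7,3,4,5])) .none) .none) (.node .none (.node .none (.node .none (.word [1,5,4,3,2,6,5,4,3,7,8,7,3,4,5,6,2,3,4,5,1,0,1,3,2,6,5,4,3,7,8,7,3,4,5,6,2,3,1,0]))))) (.node (.node (.node (.node .none (.node .none (.word [0,1,2,3,4,3,8,7,3,2,1,8,3,7,4,3,2,1,0,1,2,3,4,5,6,5,4,3,2,1,2,1,4,5,4,7,3,2,4,8,7,3,4,5,6,4,0,1,2,1,4,3,7,3,4,2,3,7,8,4,5,3,4,2,3,7,6,3,2,3,1,2,4,3,5,7,3,8,4,2,3,7,5,6,4,2,0,1]))) (.node .none (.word [1,5,4,3,2,6,5,4,3,7,8,7,3,4,5,6,2,3,4,5,1,2,3,4,3,2,0,1,2,3,2,1,4,6,5,7,3,4,8,2,3,7,5,6,3,4,3,1,6,7,3,2,4,3,7,3,1,2,0,1,2,6,5,4,7,8,3,7,6,3,4,5,3,4,2,3,2,1,0,1,2,3,4,7,3,8,1,2,3,7,3,4,2,3,2,1,0])))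 .none) .none)) (.node (.node (.node .none (.node .none (.word [2,3,2,1,5,4,6,5,4,3,2,7,3,4,5,6,3,1,2,0,2,1,3,7,3,4,2,3,7,6,1,2,1,0,8,3,0,1,2,4,6,7,3,2,8,7,4,1,2,0,2,1,3,6,5,4,3,8,7,2,3,4,5,6,4,5,3,1,2,1,0,3,2,1,4,3,5,7,3,2,1,4,3,7,5,4,0,1,2,1,8,1,2,1,0,4,5,7,3,4,1,2,3,7,5,3,4,1,2,3,0,1]))) .none) (.node .none (.node (.node (.node (.node .none (.node .none (.word [2,1,3,5,4,6,5,4,3,2,7,8,3,4,5,6,3,1,2,0,2,1,4,7,8,2,3,7,6,4,2,1,0,8,3,0,1,2,1,6,7,3,2,4,3,7,3,1,2,0,2,1,3,6,5,4,3,7,2,3,4,5,6,4,5,1,2,3,2,1,5,4,3,2,6,5,4,3,7,8,7,3,4,5,6,2,3,4,5,1]))) .none) .none) (.word [0,1,3,4,7,3,8,7,3,2,1,0,3,7,6,4,6,5,4,3,8,7,3,4,5,6,5,2,1,2,3,4,5,6,5,4,2,3,2,1,2,5,6,5,4,3,7,8,3,4,5,6,4,6,7,3,0,1,2,3,7,8,3,7,4,3,1,0])))))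

/-- A subtree. -/
def sub91 : WTree :=
  (.node (.node .none (.node (.node (.node .none (.node .none (.word [0,1,0,6,5,4,3,2,1,7,3,4,7,2,3,4,5,6,0,1,0,5,4,3,7,3,4,5,8,1,6,5,4,7,3,2,1,4,3,7,8,7,3,4,2,3,7,4,5,6,1,5,4,3,8,7,3,4,1,2,1,0,3,2,1,6,5,4,3,7,8,2,3,7,5,6,5,0,1]))) .none) .none)) (.node (.node (.node (.node .none (.node .none (.word [0,1,3,2,6,5,4,3,7,8,7,3,4,5,6,2,3,1,0]))) .none) (.node .none (.node .none (.node .none (.node (.node .none (.word [3,8,0,1,2,3,4,6,5,4,3,7,8,3,4,5,6,5,4,2,3,2,1,2,1,0,3,2,5,4,7,8,3,7,1,2,3,4,5,6,8,5,4,3,2,1,7,3,8,7,4,5,2,3,0,1,2,0,5,4,3,7,3,4,5,0,2,1,0,3,2,5,4,7,8,3,7,1,2,3,4,5,8,6,5,4,3,2,1,7,3,8,7,4,5,2,3,0,1,2,0])) .none))))) (.node (.node (.node .none (.node .none (.word [0,2,1,3,4,5,7,3,2,4,3,7,8,6,3,7,3,4,2,3,7,6,5,1,2,0,1,5,4,3,2,6,5,4,3,7,8,7,3,4,5,6,2,3,4,5,1,0,2,1,5,6,7,3,2,4,3,7,3,6,8,7,3,4,2,3,7,5,4,3,1,2,0])))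 .none) .none)))

/-- A subtree. -/
def sub92 : WTree :=
  (.node (.node (.node (.node (.node (.node .none (.word [0,1,0,2,1,6,5,4,3,2,7,8,3,4,5,6,1,2,0,1,0,4,3,2,5,4,3,7,4,5,3,4,5,1,0,2,4,6,5,7,3,2,4,8,3,7,5,3,4,2,1,2,3,5,4,7,8,4,5,3,4,2,3,7,6,3,2,1,2,4,3,2,5,4,7,8,7,3,4,1,2,3,7,4,5,6,4,1,7,3,8,7,2,3,0,1,2,0])) .none) .none) (.node (.node (.node (.node .none (.node .none (.word [4,3,5,4,7,3,2,4,5,7,3,4,0,1,0,2,1,6,5,4,3,2,7,8,7,3,4,5,6,1,2,0,1,0,2,1,6,5,7,3,2,8,7,3,4,5,8,1,2,3,7,3,4,3,0,1,2,1,2,3,6,7,3,2,4,3,5,4,8,7,3,2,5,4,3,7,8,3,4,5,7,3,2,8,4,3,7,8,5,4,3,7,6,2,1,2,1,4,3,5,4,7,8,2,3,7,4,5,6,4,1,2,1]))) .none) .none) .none)) (.node .none (.node (.node (.node (.node (.node .none (.word [1,5,4,3,2,6,5,4,3,7,8,7,3,4,5,6,2,3,4,5,1,0,1,2,3,4,5,4,3,2,1,0])) .none)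 .none) .none) .none))) (.node (.node (.node .none (.node .none (.node .none (.node .none (.word [5,4,3,7,3,4,5,0,2,1,5,8,7,3,2,4,3,7,8,6,3,1,2,0,4,3,7,8,3,4,5,3,0,3,2,1,5,7,3,2,4,3,7,8,6,3,1,2,0,5,0,1,4,3,2,7,3,4,5,2,1,0,4,6,5,2,3,7,8,3,7,3,4,5,3,4,2,1,5,4,3,2,6,5,4,3,7,8,7,3,4,5,6,2,3,4,5,1]))))) (.node (.node .none (.node (.node .none (.node .none (.word [1,5,4,3,2,6,5,4,3,7,8,7,3,4,5,6,2,3,4,5,1,2,3,4,3,2,1,5,4,3,2,6,5,4,3,7,8,7,3,4,5,6,2,3,4,5,1,5,0,2,1,7,3,2,8,4,3,7,8,3,4,2,3,7,5,1,2,1,0,2,1,6,5,4,3,2,8,7,3,4,5,6,4,5,7,3,2,4,3,7,8,4,5,3,4,0,1,2,0,1]))) .none)) .none)) (.node (.node .none (.node (.node .none (.word [0,1,2,6,5,4,3,7,3,2,4,3,8,5,6,2,3,7,3,2,4,8,3,7,6,3,2,0,1,2,1,4,6,5,4,7,3,2,8,7,4,5,3,4,1,2,1,2,3,7,8,4,5,3,4,2,3,7,6,3,2,1,2,4,3,2,5,4,7,8,7,3,4,1,2,3,7,4,5,6,4,1,0,2,3,4,3,2,1,0]))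 .none)) .none)))

/-- A subtree. -/
def sub93 : WTree :=
  (.node (.node (.node (.node (.node .none (.node .none (.node (.node .none (.word [2,3,6,5,4,3,2,7,3,8,7,2,3,4,5,6,5,4,3,2,0,1,0,2,3,4,5,6,5,4,3,2,7,8,3,7,2,3,4,5,6,3,2])) .none))) .none) (.node (.node .none (.node (.node .none (.node .none (.word [0,2,3,6,5,4,7,3,2,1,8,7,3,4,2,3,7,5,6,0,8,5,4,3,7,8,3,4,5,0,6,5,7,3,2,4,3,7,8,1,2,3,7,4,5,6,3,2,0,1,5,4,3,2,6,5,4,3,7,8,7,3,4,5,6,2,3,4,5,1]))) .none)) .none)) (.node (.node .none (.node (.node .none (.node .none (.word [0,1,2,3,4,5,4,3,2,1,0,2,3,4,3,2,1,5,4,3,2,6,5,4,3,7,8,7,3,4,5,6,2,3,4,5,1,5,0,2,1,7,3,2,8,4,3,7,8,3,4,2,3,7,5,1,2,1,0,2,1,6,5,4,3,2,8,7,3,4,5,6,4,5,7,3,2,4,3,7,8,4,5,3,4,0,1,2,0,1]))) (.node (.node .none (.node .none (.word [1,3,2,1,4,3,5,8,7,3,2,1,4,3,7,5,4,0,1,2,1,4,3,5,4,2,3,7,8,4,5,3,4,5,4,3,8,7,3,4,0,2,1,3,6,8,7,3,4,2,3,7,8,5,1,2,1,0,2,1,6,5,4,3,2,8,7,3,4,5,6,4,5,7,3,2,4,3,7,8,4,5,3,4,0,1,2,0,1])))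 .none))) .none)) (.node (.node (.node .none (.node .none (.node (.node .none (.node .none (.word [0,1,2,3,4,5,4,3,2,1,0,5,6,5,4,3,2,1,7,3,4,7,2,3,4,5,6,0,2,3,6,7,3,2,3,4,1,2,3,7,2,0,3,8,0,1,4,3,2,7,3,4,5,2,1,4,7,8,3,7,6,3,4,5,2,3,1,0,2,1,6,5,4,3,7,8,7,2,3,4,5,6,1,2,0,1,0]))) .none))) .none) (.node (.node (.node .none (.node (.node .none (.node .none (.word [4,3,5,4,7,3,2,4,5,7,3,4,0,2,1,5,6,7,3,2,4,3,7,3,6,8,7,3,4,2,3,7,5,4,3,1,2,0,5,4,3,7,3,4,5,1,5,4,3,2,6,5,4,3,7,8,7,3,4,5,6,2,3,4,5,1]))) .none)) .none) (.node .none (.node (.node (.node (.node .none (.word [2,3,2,1,5,4,6,5,4,3,2,7,3,4,5,6,3,1,2,0,2,1,3,7,3,4,2,3,7,6,1,2,1,0,8,3,0,1,2,4,6,7,3,2,8,7,4,1,2,0,2,1,3,6,5,4,3,8,7,2,3,4,5,6,4,5,3,1,2,0,1,2,3,4,5,4,3,2,1,0])) .none) .none) .none)))))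

/-- A subtree. -/
def sub94 : WTree :=
  (.node (.node sub90 sub91) (.node sub92 sub93))

/-- A subtree. -/
def sub95 : WTree :=
  (.node (.node .none (.node (.node (.node (.node (.node (.node .none (.word [1,0,3,2,1,4,3,5,7,3,2,1,4,3,7,5,4,0,1,2,1,8,1,2,1,0,4,5,7,3,4,1,2,3,7,5,3,4,1,2,3,0,1,0,1,0,6,5,4,3,2,1,7,3,4,7,2,3,4,5,6,0,1,0,5,4,3,7,3,4,5,8,1,6,5,4,7,3,2,1,4,3,7,8,7,3,4,2,3,7,4,5,6,1,5,4,3,8,7,3,4,1,2,1,0,3,2,1,6,5,4,3,7,8,2,3,7,5,6,5,0,1])) .none) .none) .none) .none) (.node (.node (.node .none (.node .none (.word [0,2,1,0,3,2,5,4,7,8,3,7,1,2,3,4,5,6,8,5,4,3,2,1,7,3,8,7,4,5,2,3,0,1,2,0,5,4,3,7,3,4,5,0,2,1,0,3,2,5,4,7,8,3,7,1,2,3,4,5,8,6,5,4,3,2,1,7,3,8,7,4,5,2,3,0,1,2,0]))) .none) .none))) (.node (.node .none (.node .none (.word [5,4,3,7,3,4,5,0,3,2,1,5,7,3,2,4,3,7,8,6,3,1,2,0,5,0,1,4,3,2,7,3,4,5,2,1,0,4,2,3,7,8,2,3,7,6,3,4,5,2,0,1,2,3,4,5,4,3,2,1,0])))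 .none))

/-- A subtree. -/
def sub96 : WTree :=
  (.node (.node (.node (.node .none (.node .none (.node (.node (.node .none (.word [2,3,2,1,5,4,6,5,4,3,2,7,3,4,5,6,3,1,2,0,2,1,3,7,3,4,2,3,7,6,1,2,1,0,8,3,0,1,2,4,6,7,3,2,8,7,4,1,2,0,2,1,3,6,5,4,3,8,7,2,3,4,5,6,4,5,3,1,2,4,3,5,4,7,3,2,4,5,7,3,4,0,2,1,5,6,7,3,2,4,3,7,3,6,8,7,3,4,2,3,7,5,4,3,1,2,0,5,4,3,7,3,4,5])) .none) .none))) (.node (.node .none (.node (.word [4,3,5,4,7,3,2,4,5,7,3,4,0,2,1,5,6,7,3,2,4,3,7,3,6,8,7,3,4,2,3,7,5,4,3,1,2,0,5,4,3,7,3,4,5]) (.word [1,5,4,3,2,6,5,4,3,7,8,7,3,4,5,6,2,3,4,5,1,4,3,2,5,4,3,7,4,5,3,4,5,0,1,2,6,5,4,3,7,8,7,3,4,5,6,2,1,0,2,3,4,3,2,0,1,4,3,2,7,3,4,5,2,1,4,7,8,3,7,6,3,4,5,2,3,2,1,3,7,3,4,5,3,4,2,3,7,5,6,5,1,2,3,0]))) .none)) (.node (.node (.node .none (.node (.node .none (.node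 .none (.word [0,1,2,3,4,5,4,3,2,1,0,1,0,2,3,4,5,4,7,3,2,1,0,4,3,7,5,6,2,3,1,2,1,0,2,1,4,7,8,3,7,6,3,4,2,1,0,8,1,2,3,4,5,8,6,5,4,3,2,1,0,1,2,4,3,6,7,3,8,7,4,1,2,0,1,2,1,3,2,6,5,7,3,4,0,1,2,3,7,4,5,4,3,2,0,1]))) .none)) .none) .none)) (.node (.node (.node (.node .none (.node .none (.word [0,1,2,3,4,5,4,3,2,1,0,1,2,1,3,4,3,5,4,3,2,7,3,8,7,4,5,6,1,2,1,2,3,4,5,3,2,3,5,4,3,8,7,3,4,5,2,3,4,3,2,0,1,4,3,2,7,3,4,5,2,1,4,7,8,3,7,6,3,4,5,2,3,2,1,0,3,2,7,8,3,7,1,2,1,0,3,2,1,6,5,4,3,7,8,5,4,2,3,7,6,0,2,1,0,3,2,7,3,4,5,6,8,1,2,3,7,8,4,3,7,4,3,2,1]))) (.node (.node (.node .none (.word [0,2,1,5,8,7,3,2,4,3,7,8,6,3,1,2,0,4,3,7,8,3,4,5,3,1,5,4,3,2,6,5,4,3,7,8,7,3,4,5,6,2,3,4,5,1,4,3,7,5,4,2,3,7,4,5,2,3,4,3,4,3,5,4,8,7,3,2,4,5,3,4,1,2,1,0,4,5,7,3,4,1,2,3,7,8,5,3,4,1,2,3,1])) .none)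 .none)) .none) (.node (.node .none (.node .none (.node (.node .none (.word [5,4,3,7,3,4,5,0,1,0,3,6,5,4,3,2,1,7,3,4,7,2,3,4,5,6,0,1,0,1,4,6,5,4,7,3,2,1,4,3,8,7,4,5,2,3,4,2,1,3,0,2,1,4,6,5,4,3,2,4,3,7,2,3,4,5,6,4,1,2,1,0,1,2,3,4,5,7,3,2,8,7,3,4,3,7,8,2,3,7,5,4,3,2,1])) .none))) .none)))

/-- A subtree. -/
def sub97 : WTree :=
  (.node (.node (.node .none (.node .none (.node .none (.node .none (.node .none (.word [1,5,4,3,2,6,5,4,3,7,8,7,3,4,5,6,2,3,4,5,1,2,3,4,3,2,1,5,4,3,2,6,5,4,3,7,8,7,3,4,5,6,2,3,4,5,1,3,8,0,2,1,0,3,2,5,7,8,3,7,0,2,1,4,7,3,7,8,2,3,7,6,4,5,3,0,3,4,3,5,4,8,7,3,2,4,5,3,4,1,2,1,0,4,5,7,3,4,1,2,3,7,8,5,3,4,1,2,3,1])))))) (.node .none (.node (.node (.node .none (.node (.node .none (.word [4,3,5,4,7,3,2,4,5,7,3,4,0,1,3,2,6,5,4,3,7,8,7,3,4,5,6,2,3,1,0,4,3,7,5,4,2,3,7,4,5,3,4,0,1,0,2,1,6,5,4,3,2,8,7,3,4,5,6,1,2,0,1,0,4,3,5,4,8,7,3,2,4,5,7,3,4,8,0,7,3,2,1,4,8,7,3,2,1,4,3,7,3,4,0,5,1,2,1,3,4,3,5,7,3,2,1,4,3,7,8,5,4,2,3,7,1,2]))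 .none)) .none) (.node .none (.node .none (.word [1,5,4,3,2,6,5,4,3,7,8,7,3,4,5,6,2,3,4,5,1,0,1,3,4,7,3,8,7,3,2,1,0,3,7,6,4,6,5,4,3,8,7,3,4,5,6,5,2,1,2,3,4,5,6,5,4,2,3,2,1,2,5,6,5,4,3,7,8,3,4,5,6,4,6,7,3,0,1,2,3,7,8,3,7,4,3,1,0])))))) (.node (.node (.node .none (.node (.node (.node (.node .none (.word [1,5,4,3,2,6,5,4,3,7,8,7,3,4,5,6,2,3,4,5,1,3,8,0,1,2,3,4,6,5,4,3,7,8,3,4,5,6,5,4,2,3,2,1,0])) .none) .none) .none)) .none) .none))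

/-- A subtree. -/
def sub98 : WTree :=
  (.node (.node (.node (.node .none (.node .none (.node (.node .none (.word [4,3,5,4,7,3,2,4,5,7,3,4,0,2,1,5,6,7,3,2,4,3,7,3,6,8,7,3,4,2,3,7,5,4,3,1,2,0,2,1,0,3,2,5,6,5,7,3,4,1,2,3,7,5,3,4,3,2,1,0,4,3,7,2,3,4,1,0,3,5,4,3,8,7,3,4,5,2,3,4,3,2,0,1,2,1,6,7,3,2,4,3,7,3,1,2,0,2,1,3,6,5,4,3,7,2,3,4,5,6,4,5,1,2,3,2])) .none))) .none) (.word [2,3,4,3,2,1,2,3,2,4,5,6,5,4,3,2,1,0,1,7,3,2,1,4,8,7,3,2,0,2,3,7,8,4,5,3,4,2,3,7,6,3,2,1,2,4,3,2,5,4,7,8,7,3,4,1,2,3,7,4,5,6,4,1,0,2,1,3,7,3,4,2,3,7,6,1,2,1,0])) (.node (.node (.node .none (.node .none (.node .none (.node .none (.word [1,2,1,3,4,3,5,4,3,2,7,3,8,7,4,5,6,1,2,1,2,3,4,5,3,2,3,5,4,3,8,7,3,4,5,2,3,4,3,2,0,1,4,3,2,7,3,4,5,2,1,4,7,8,3,7,6,3,4,5,2,3,2,1,0,3,2,7,8,3,7,1,2,1,0,3,2,1,6,5,4,3,7,8,5,4,2,3,7,6,0,2,1,0,3,2,7,3,4,5,6,8,1,2,3,7,8,4,3,7,4,3,2,1])))))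 (.node (.node (.node (.node .none (.node .none (.word [1,0,3,2,1,4,3,5,7,3,2,1,4,3,7,5,4,0,1,2,1,8,1,2,1,0,4,5,7,3,4,1,2,3,7,5,3,4,1,2,3,0,1,2,1,3,5,4,6,5,4,3,2,7,8,3,4,5,6,3,1,2,0,2,1,4,7,8,2,3,7,6,4,2,1,0,8,3,0,1,2,1,6,7,3,2,4,3,7,3,1,2,0,2,1,3,6,5,4,3,7,2,3,4,5,6,4,5,1,2,3,2]))) .none) .none) .none)) (.node (.node .none (.node .none (.node .none (.node .none (.word [1,5,4,3,2,6,5,4,3,7,8,7,3,4,5,6,2,3,4,5,1]))))) (.node .none (.node .none (.word [1,5,4,3,2,6,5,4,3,7,8,7,3,4,5,6,2,3,4,5,0,3,2,1,4,3,5,7,3,2,1,4,3,7,5,4,0,1,2,1,8,1,2,1,0,4,5,7,3,4,1,2,3,7,5,3,4,1,2,3,0,1]))))))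

/-- A subtree. -/
def sub99 : WTree :=
  (.node (.node sub95 sub96) (.node sub97 sub98))

/-- Points. -/
def levX4pts0 : List ℕ := [18,47,56,114,158,180,211,226,241,331,372,401,440,486,511,513,517,656,688,693,758,793,795,798,801,804,809,825,843,890,961,994,999,1048,1130,1179,1256,1286,1378,1423,1466,1467,1569,1630,1635,1678,1709,1734,1778,1898,1940,1941,1951,1976,1983,1991,2010,2052,2076,2083,2088,2138,2149,2199,2218,2262,2301,2362,2374,2384,2392,2443,2630,2663,2829,2830,2870,3033,3116,3128,3141,3167,3168,3180,3182,3185,3260,3344,3371,3380,3389,3405,3413,3485,3486,3501]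

/-- A level. -/
def levX4 : Level :=
  ⟨372, (.node (.node sub84 sub89) (.node sub94 sub99)), levX4pts0⟩

/-- A subtree. -/
def sub100 : WTree :=
  (.node (.node (.node (.node .none (.node .none (.node .none (.node .none (.word []))))) .none) .none) .none)

/-- A subtree. -/
def sub101 : WTree :=
  (.node .none (.node .none sub100))

/-- A subtree. -/
def sub102 : WTree :=
  (.node .none (.node .none (.node .none (.node .none (.node (.node (.node .none (.word [1,5,4,3,2,6,5,4,3,7,8,7,3,4,5,6,2,3,4,5,1,5,4,3,7,3,4,5,0,2,1,3,4,5,7,3,2,4,3,7,8,6,3,7,3,4,2,3,7,6,5,1,2,0,1,3,5,4,3,2,6,5,4,3,7,4,5,6,2,3,4,1,5,0,2,1,0,3,2,7,8,3,7,8,0,2,1,0,3,2,5,4,7,8,3,7,1,2,1,6,5,4,7,8,3,7,4,5,2,3,4,3,1,2,0,1,3,4,6,5,4,3,2,7,3,4,1,2,3,7,3,4,5,6,3,4])) .none) .none)))))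

/-- A subtree. -/
def sub103 : WTree :=
  (.node (.node (.node (.node (.node (.node (.node .none (.node .none (.word [0,1,2,5,8,7,3,2,4,3,5,6,5,4,2,3,7,2,5,1,0,2,3,4,3,2,0,1,5,2,7,3,2,4,5,6,5,3,4,2,3,7,8,5,2,1,0]))) .none) .none) .none) .none) .none) (.node .none (.node .none (.node .none (.node (.node .none (.word [0,1,2,3,4,6,5,7,3,4,8,7,3,5,4,2,3,7,1,4,7,8,3,7,6,3,4,2,6,5,3,4,2,3,7,3,4,5,6,2,1,0,1,5,4,3,2,6,5,4,3,7,8,7,3,4,5,6,2,3,4,5,1,0,1,2,6,5,4,3,7,3,2,4,3,5,6,2,4,3,6,7,3,8,7,4,1,7,3,2,4,5,3,7,8,4,3,7,5,6,4,3,2,1,0])) .none)))))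

/-- A subtree. -/
def sub104 : WTree :=
  (.node (.node sub102 .none) (.node .none sub103))

/-- Points. -/
def levX5pts0 : List ℕ := [767,1267,1933,3087]

/-- A level. -/
def levX5 : Level :=
  ⟨1933, (.node .none (.node sub101 sub104)), levX5pts0⟩

/-- The levels. -/
def levX : List Level := [levX0,levX1,levX2,levX3,levX4,levX5]

/-- A subtree. -/
def sub105 : WTree :=
  (.node (.node (.node (.node (.node (.node (.node (.node (.word [1,2,3,7,8,4,3,7,5,6,4,5,2,3,4,1,2,3,7,3,1,0]) (.word [7,6,4,5,2])) (.node (.word [3,7,5,2,1,0]) (.word [1,2,3,4,5,4,3,2,0]))) (.node (.node (.word [0,1,2,3,7,1,0]) (.word [3,7,8,4,5,2,0])) (.word [3,7,6,5,4,1,2,1,0]))) (.node (.node (.node (.word [5,3,4,0,1,2,3,7,5,3,1,0]) (.word [7,8,6,5,2,0])) (.node (.word [2,3,7,5,0,1,2,1,0])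 (.word [3,7,8,5,2,3,4,1,2]))) (.node (.node (.word [8,6,5,4,3,7,6,5,1,0]) (.word [8,3,4,5,1,2])) (.word [0,1,2,0])))) (.node (.node (.node (.node (.word [8,7,2,3,4,0,1,2,3,7,3,1,0]) (.word [8,6,4,5,4,2,1,0])) (.node (.word [8,0,1,2,3,7,6,5,0]) (.word [8,5,6,3,4,5,4,3,2,0]))) (.node (.node (.word [8,4,0,1,2,3,7,2,1,0]) (.word [6,4,5,2,3,4,1,2])) (.word [3,4,5,3,0]))) (.node (.node (.node (.word [6,5,4,2,3,7,0]) (.word [7,8,3,4,5,4,2,1,0])) (.node (.word [1,2,1,0]) (.word [7,8,7,0,1,2,3,4,5,1,2,0]))) (.node (.node (.word [1,2,3,7,6,5,2,1,0]) (.word [8,5,2,3,4,1,2])) (.word [8,4,2,3,2]))))) (.node (.node (.node (.node (.node (.word [8,2,3,7,6,4,5,1,2,3,4,0,1,2,3,7,3,1,0]) (.word [8,6,5,4,2,3,2])) (.node (.word [1,2,3,7,1,2]) (.word [7,8,6,4,5,3,4,1,2,0]))) (.node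 (.node (.word [1,2,3,7,2,1,0]) (.word [5,1,2,3,4,0,1,2])) (.word [8,1,2,1,0]))) (.node (.node (.node (.word [4,0,1,2,3,7,3,1,0]) (.word [4,5,3,4,0,1,2,1,0])) (.node (.word [1,2,3,7,6,5,2,3]) (.word [7,8,7,2,3,4,5,4,3,2,0]))) (.node (.node (.word [8,4,3,7,4,1,0]) (.word [2,3,4,5,4,3,2])) (.word [5,6,3,4,5,4])))) (.node (.node (.node (.node (.word [6,5,3,4,1,2,3,7,3,0]) (.word [2,3,7,4,5,4,1,2])) (.node (.word [8,3,7,5,0]) (.word [7,8,1,2,3,4,5,3,2,0]))) (.node (.node (.word [4,3,7,5,1,0]) (.word [8,1,2,3,4,5,4,0])) (.word [4,5,4,2,1,0]))) (.node (.node (.node (.word [3,4,2,3,7,4,5,3,1,0]) (.word [7,5,6,4,5,4,3,2,0])) (.word [3,7,3,4,5,3])) (.node (.node (.word [8,0,1,2,3,7,5,2,1,0]) (.word [8,7,3,4,5,1,2])) (.word [8,6,5,4,0])))))) (.node (.node (.node (.node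 (.node (.node (.word [8,3,7,6,4,5,2,3,4,0,1,2,3,7,3,1,0]) (.word [8,4,3,2,0])) (.node (.word [7,5,3,0]) (.word [5,6,2,3,4,5,1,2]))) (.node (.node (.word [4,2,3,7,4,1,0]) (.word [3,7,8,6,5,4,2])) (.word [8,3,7,4,5,4,0]))) (.node (.node (.node (.word [3,4,1,2,3,7,3,0]) (.word [3,7,1,2,3,4,5,0])) (.node (.word [3,7,5,2,3]) (.word [3,7,8,2,3,4,5,3,4,2,0]))) (.node (.node (.word [8,0,1,2,3,7,0]) (.word [5,6,4,5,3,4,3,2])) (.word [7,8,7,6,5,0])))) (.node (.node (.node (.node (.word [8,7,3,4,0,1,2,3,7,3,1,0]) (.word [8,5,4,2])) (.node (.word [7,5,4,1,0]) (.word [7,8,2,3,4,5,0,1,2,0]))) (.node (.node (.word [6,5,4,1,2,3,7,5]) (.word [7,8,5,6,4,5,2,0])) (.word [7,4,3,2,0]))) (.node (.node (.node (.word [8,6,5,4,0,1,2,3,7,5,1,0]) (.word [8,6,5,4,2])) (.node (.word [8,3,7,4,5,0])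 (.word [3,7,8,1,2,3,4,5,4,3,1,2,0]))) (.node (.node (.word [1,2,3,7,0,1,2,1,0]) (.word [8,6,4,5,3,4,2])) (.word [6,3,4,5,3]))))) (.node (.node (.node (.node (.node (.word [7,6,4,5,1,2,3,4,0,1,2,3,7,3,1,0]) (.word [3,4,3,2])) (.node (.word [8,6,5,4,3,7,5,4]) (.word [3,7,8,3,4,5,4,2]))) (.node (.node (.word [8,6,5,4,3,7,5,1,0]) (.word [7,8,3,4,0,1,2,0])) (.word [6,5,0]))) (.node (.node (.node (.word [8,7,3,4,1,2,3,7,1,2,3]) (.word [8,5,4,0,1,2,0])) (.node (.word [8,4,1,0]) (.word [7,8,6,2,3,4,5,4,1,2]))) (.node (.node (.word [8,4,2,3,7,6,5,1,0]) (.word [1,2,3,4,5,4,2])) (.word [4,3,7,5,0,1,2,0])))) (.node (.node (.node (.node (.word [5,3,4,1,2,3,7,1,0]) (.word [8,4,5,0,1,2,1,0])) (.node (.word [4,3,7,3,4,5,0]) (.word [7,8,4,5,3,4,0,1,2]))) (.node (.node (.word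 [8,5,4,2,3,7]) (.word [8,5,6,4,5,0,1,2,1,0])) (.word [8,5,4,0]))) (.node (.node (.node (.word [6,5,4,3,7,0]) (.word [8,3,4,5,0,1,2,1,0])) (.word [3,7,6,5,2,0])) (.node (.node (.word [4,3,7,4,1,2,1,0]) (.word [8,1,2,3,4,5,1,2,0])) (.word [7,6,5,0,1,2,0]))))))) (.node (.node (.node (.node (.node (.node (.node (.word [7,8,4,2,3,7,5,6,4,5,1,2,3,4,0,1,2,3,7,3,1,0]) (.word [6,5,2])) (.node (.word [8,4,3,7,4,5,1,0]) (.word [7,8,5,2,3,4,0,1,2,0]))) (.node (.node (.word [8,6,5,4,0,1,2,3,7]) (.word [3,4,5,4,3,2,0])) (.word [7,4,2]))) (.node (.node (.node (.word [7,8,5,3,4,2,3,7,1,0]) (.word [2,3,4,5,2,0])) (.node (.word [4,1,2,3,7,5,2]) (.word [3,7,8,3,4,5,3,4,2]))) (.node (.node (.word [6,5,3,4,2,3,7,5]) (.word [1,2,3,4,5,3,2,0])) (.word [3,4,5,2,1,0])))) (.node (.node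 (.node (.node (.word [8,7,6,5,3,4,2,3,7,1,0]) (.word [7,5,6,4,5,2])) (.node (.word [8,3,7,4,2,1,0]) (.word [2,3,7,8,6,5,3,4,1,2]))) (.node (.node (.word [4,1,2,3,7,3]) (.word [5,6,3,4,5,2])) (.word [4,2,3,7,5,0,1,2,0]))) (.node (.node (.node (.word [3,4,0,1,2,3,7,2,1,0]) (.word [7,8,4,5,4,2,0])) (.node (.word [7,2]) (.word [3,7,8,7,1,2,3,4,5,3,2,0]))) (.node (.node (.word [3,4,1,2,3,7,5]) (.word [7,8,5,3,4,1,2])) (.word [4,5,4,1,2,1,0]))))) (.node (.node (.node (.node (.node (.word [7,4,5,2,3,4,1,2,3,7,3,1,0]) (.word [7,4,5,3,4,0,1,2,1,0])) (.node (.word [1,2,3,7,6,5]) (.word [8,6,4,5,3,4,3,1,2,0]))) (.node (.node (.word [1,2,3,7,2,3,0]) (.word [6,5,4,0,1,2])) (.word [7,8,7,6,5,1,0]))) (.node (.node (.node (.word [7,8,7,3,4,2,3,7,4,1,0]) (.word [5,3,4,3,2]))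 (.node (.word [7,8,3,7,4,0]) (.word [3,7,8,2,3,4,5,4,3,2]))) (.node (.node (.word [8,2,3,7,2,1,0]) (.word [7,3,4,5,4,0,1,2,0])) (.word [8,6,5,2,3,0])))) (.node (.node (.node (.node (.word [6,5,3,4,0,1,2,3,7,1,0]) (.word [7,8,6,4,5,2,1,0])) (.node (.word [5,4,3,7,6,4,5]) (.word [3,7,8,5,1,2,3,4,0,1,2]))) (.node (.node (.word [5,4,2,3,7,6,5,4,1,0]) (.word [7,8,3,4,5,2,3,2])) (.word [7,8,5,4,1,0]))) (.node (.node (.node (.word [1,2,3,7,5,3,1,0]) (.word [8,5,6,3,4,5,2,1,0])) (.word [2,3,7,6,5,1,2,0])) (.node (.node (.word [8,4,0,1,2,3,7,5]) (.word [2,3,4,5,3,0,1,2,0])) (.word [8,5,1,2,3])))))) (.node (.node (.node (.node (.node (.node (.word [3,7,5,6,4,5,1,2,3,4,0,1,2,3,7,3,1,0]) (.word [8,6,4,5,3])) (.node (.word [8,2,3,7,6,5,4,2,1,0]) (.word [7,8,2,3,4,0,1,2])))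 (.node (.node (.word [4,2,3,7,5,1,0]) (.word [1,2,3,4,0,1,2,0])) (.word [7,5,2,3,2]))) (.node (.node (.node (.word [6,5,4,1,2,3,7,5,3,0]) (.word [5,6,4,5,2,3,2,0])) (.node (.word [3,4,0,1,2,3,7,5,1,2]) (.word [2,3,7,8,3,4,5,1,2]))) (.node (.node (.word [4,0,1,2,3,7,6,5,0]) (.word [8,4,5,2,3,4,1,2,0])) (.word [7,6,4,5,2,0])))) (.node (.node (.node (.node (.word [7,8,7,5,3,4,1,2,3,7,1,0]) (.word [5,3,4,3,2,0])) (.node (.word [4,3,7,3,4,5,4,1,0]) (.word [7,8,3,4,5,4,3,1,2,0]))) (.node (.node (.word [4,2,3,7,5,4,1,0]) (.word [8,6,3,4,5,4,2,0])) (.word [7,5,4,2,3,2]))) (.node (.node (.node (.word [8,5,3,4,2,3,7,4,1,0]) (.word [8,6,5,3,4,2,0])) (.node (.word [5,3]) (.word [4,3,7,8,7,2,3,4,5,4,3,2,0]))) (.node (.node (.word [6,5,4,1,2,3,7,4,5]) (.word [7,8,2,3,4,5,4,2,0]))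 (.word [7,6,4,5,4]))))) (.node (.node (.node (.node (.node (.word [8,7,6,5,3,4,2,3,7,3,1,0]) (.word [8,5,4,0,1,2,1,0])) (.node (.word [5,4,3,7,6,4,5,0]) (.word [8,6,3,4,5,3,4,2]))) (.node (.node (.word [6,5,4,1,2,3,7,6,5]) (.word [8,4,5,3,4,1,2,0])) (.word [7,4,5,2,3]))) (.node (.node (.node (.word [5,3,4,2,3,7,3]) (.word [4,5,3,4,1,2,0])) (.node (.word [3,7,6,4,5,4,1,0]) (.word [3,7,8,2,3,4,5,0,1,2]))) (.node (.node (.word [5,4,3,7,3,4,5,3,0]) (.word [7,8,4,5,3,4,1,2,0])) (.word [3,4,0,1,2,1,0])))) (.node (.node (.node (.node (.word [6,5,4,1,2,3,7,5,3,1,0]) (.word [8,6,4,5,1,2,1,0])) (.node (.word [6,5,3,1,0]) (.word [8,0,1,2,3,4,5,1,2]))) (.node (.node (.word [4,2,3,7,5,3]) (.word [7,8,3,4,5,1,2,0])) (.word [7,4,5,1,2,3]))) (.node (.node (.node (.word [6,5,3,4,1,2,3,7,5,0])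 (.word [8,6,3,4,5,1,2,1,0])) (.word [8,0,1,2,3,7,5,1,2])) (.node (.node (.word [8,5,4,3,7,4,5,4,1,0]) (.word [8,2,3,4,5,1,2])) (.word [7,5,6,4,5,1,2,1,0]))))))))

/-- A subtree. -/
def sub106 : WTree :=
  (.node (.node (.node (.node (.node (.node (.node (.node (.word [7,8,3,7,5,6,4,5,2,3,4,1,2,3,7,3,1,0]) (.word [5,6,4,5,0])) (.node (.word [7,0]) (.word [7,8,4,5,2,3,4,1,2]))) (.node (.node (.word [0,1,2,3,7,5,3,1,0]) (.word [7,2,3,4,5,2,0])) (.word [8,7,4]))) (.node (.node (.node (.word [6,5,3,4,0,1,2,3,7,3]) (.word [8,6,5,2])) (.node (.word [1,2,3,7,0,1,2]) (.word [4,2,3,7,8,4,5,3,4,2,0]))) (.node (.node (.word [6,5,4,3,7,4,5,3]) (.word [8,7,2,3,4,5,2,0])) (.word [3,1,2,0])))) (.node (.node (.node (.node (.word [8,7,5,3,4,2,3,7,3,1,0]) (.word [8,7,5,4,1,2]))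 (.node (.word [1,2,3,7,5,2,3]) (.word [7,8,3,4,5,3,4,3,2,0]))) (.node (.node (.word [8,5,4,0,1,2,3,7]) (.word [2,3,7,8,3,4,2,0])) (.word [7,6,5,4,2,3,2]))) (.node (.node (.node (.word [5,4,3,7,8,6,5,3,4,2,3,7,4,1,0]) (.word [7,8,4,1,2])) (.node (.word [8,7,2,0]) (.word [4,3,7,8,5,6,4,5,3,4,2,0]))) (.node (.node (.word [2,3,7,5,0]) (.word [2,3,4,5,0,1,2])) (.word [5,4,0,1,2,1,0]))))) (.node (.node (.node (.node (.node (.word [3,7,4,5,2,3,4,0,1,2,3,7,3,1,0]) (.word [7,8,6,5,2])) (.node (.word [4,1,2,3,7,5,2,0]) (.word [8,7,1,2,3,4,5,2]))) (.node (.node (.word [8,4,1,2,3,7,5,1,0]) (.word [4,5,3,4,3,2])) (.word [8,7,5,2,0]))) (.node (.node (.node (.word [6,5,4,0,1,2,3,7,0]) (.word [8,4,5,3,4,1,2,1,0])) (.node (.word [8,3,7,5,4,2,1,0]) (.word [1,2,3,7,8,2,3,4,1,2])))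 (.node (.node (.word [8,4,2,3,7,5,4,1,0]) (.word [3,4,5,4,0,1,2])) (.word [6,4,5,3])))) (.node (.node (.node (.node (.word [7,8,7,5,3,4,0,1,2,3,7,1,0]) (.word [4,5,3,2])) (.node (.word [0]) (.word [2,3,7,8,5,3,4,1,2]))) (.node (.node (.word [5,4,3,7,4,5,3,0]) (.word [8,6,4,5,1,2])) (.word [8,7,5,4]))) (.node (.node (.node (.word [1,2,3,7,1,0]) (.word [8,4,5,3,2])) (.word [4,1,2,3,7,5,1,2])) (.node (.node (.word [8,0,1,2,3,7,5,0]) (.word [7,8,5,6,3,4,5,1,2,1,0])) (.word [7,3,4,5,4])))))) (.node (.node (.node (.node (.node (.node (.word [3,7,8,2,3,7,5,6,4,5,1,2,3,4,0,1,2,3,7,3,1,0]) (.word [7,8,6,4,5])) (.node (.word [5,4,3,7,3,4,5,3]) (.word [7,8,2,3,4,5,4,2,3,2]))) (.node (.node (.word [4,2,3,7,2,1,0]) (.word [2,3,4,5,4,2,3,2,0])) (.word [4,2,3,7,3,4,5]))) (.node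 (.node (.node (.word [6,5,4,3,7,3,1,0]) (.word [6,3,4,5,2,3,2,0])) (.node (.word [8,6,5,4,3,7,4,5,4]) (.word [1,2,3,7,8,4,5,3,4,2,0]))) (.node (.node (.word [8,5,4,0,1,2,3,7,5]) (.word [1,2,3,4,3,0,1,2,0])) (.word [7,6,5,2])))) (.node (.node (.node (.node (.word [6,4,5,3,4,0,1,2,3,7,5,3,1,0]) (.word [3,7,2,3,4,5])) (.node (.word [5,4,3,7,4,5,4]) (.word [7,8,6,2,3,4,5,1,2,0]))) (.node (.node (.word [8,4,2,3,7,4,1,0]) (.word [8,4,5,3,4,2])) (.word [7,5,3,4,1,2,1,0]))) (.node (.node (.node (.word [8,7,3,4,2,3,7,3,4,2,1,0]) (.word [7,8,5,6,4,5,2])) (.node (.word [4,2,3,7,3,4,5,0]) (.word [4,2,3,7,8,2,3,4,5,1,2]))) (.node (.node (.word [6,5,4,3,7,5,4]) (.word [1,2,3,4,5,0,1,2,0])) (.word [7,8,4,5,4,1,0]))))) (.node (.node (.node (.node (.node (.word [6,4,5,2,3,4,0,1,2,3,7,3,1,0])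 (.word [7,4,5,4,0,1,2,0])) (.node (.word [6,5,4,1,2,3,7,4,5,4]) (.word [7,8,6,5,3,4,1,2]))) (.node (.node (.word [6,5,4,3,7,4,5,3,0]) (.word [5,6,4,5,4,1,2,0])) (.word [3,7,6,4,5]))) (.node (.node (.node (.word [4,1,2,3,7,3,0]) (.word [7,1,2,3,4,5,4])) (.node (.word [5,4,3,7,3,4,5,4]) (.word [7,8,0,1,2,3,4,5,3,2]))) (.node (.node (.word [7,3,0]) (.word [1,2,3,4,5,4,1,2,0])) (.word [7,6,5,3,2,0])))) (.node (.node (.node (.node (.word [7,8,6,5,3,4,2,3,7,1,0]) (.word [6,5,3,1,2,0])) (.node (.word [7,5,2,3,0]) (.word [4,3,7,8,4,5,4,1,2]))) (.node (.node (.word [3,4,1,2,3,7,5,0]) (.word [8,5,6,4,5,1,2,0])) (.word [2,3,7,4,5,4]))) (.node (.node (.node (.word [6,5,4,2,3,7,6,4,5,3,1,0]) (.word [8,3,4,5,1,2,0])) (.word [7,5,2,3,2,0])) (.node (.node (.word [4,3,7,4]) (.word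 [7,8,6,2,3,4,5,1,2,1,0])) (.word [3,7,4,5,1,2,0]))))))) (.node (.node (.node (.node (.node (.node (.node (.word [8,7,5,6,4,5,2,3,4,1,2,3,7,3,1,0]) (.word [6,4,5,2,0])) (.node (.word [4,3,7,6,5,0]) (.word [3,7,8,2,3,4,3,1,2,0]))) (.node (.node (.word [6,5,4,1,2,3,7,5,3]) (.word [8,1,2,3,4,5,0])) (.word [5,4,0]))) (.node (.node (.node (.word [7,8,3,4,1,2,3,7,1,0]) (.word [8,5,4,3,2,0])) (.node (.word [4,2,3,7,5,2,0]) (.word [8,6,1,2,3,4,5,0,1,2,0]))) (.node (.node (.word [7,1,2,3,4,0,1,2,3,7,1,2,3]) (.word [8,6,4,5,4,3,2,0])) (.word [7,8])))) (.node (.node (.node (.node (.word [5,6,4,5,3,4,2,3,7,5,3,1,0]) (.word [7,6,5,4,1,2])) (.node (.word [7,8,3,7,4,1,0]) (.word [3,7,8,4,5,2,3,4,1,2]))) (.node (.node (.word [3,4,1,2,3,7,2,3]) (.word [8,5,3,4,1,2])) (.word [8,3,7,5,2])))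 (.node (.node (.node (.word [5,4,0,1,2,3,7,3]) (.word [4,5,4,1,2])) (.node (.word [5,0]) (.word [2,3,7,8,3,4,5,3,4,3,2]))) (.node (.node (.word [2,3,7,2,3]) (.word [8,7,3,4,5,4,2])) (.word [7,5,6,4,5,2,3]))))) (.node (.node (.node (.node (.node (.word [4,3,7,8,2,3,7,6,4,5,1,2,3,4,0,1,2,3,7,3,1,0]) (.word [6,5,3,4,1,2,1,0])) (.node (.word [3,7,5,2,3,0]) (.word [1,2,3,7,8,5,3,4,1,2]))) (.node (.node (.word [4,1,2,3,7,2,3,2,0]) (.word [6,4,5,4,0,1,2,0])) (.word [8]))) (.node (.node (.node (.word [3,4,2,3,7,1,0]) (.word [5,4,0,1,2])) (.node (.word [3,7,5,4]) (.word [7,8,0,1,2,3,4,5,4,2]))) (.node (.node (.word [3,7,0]) (.word [4,5,3,4,3,0,1,2,0])) (.word [6,5,4,2,3,2])))) (.node (.node (.node (.node (.word [7,5,3,4,2,3,7,1,0]) (.word [4,5,0,1,2,0])) (.node (.word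 [5,4,2,3,7,4,5]) (.word [7,8,2,3,4,5,4,3,2]))) (.node (.node (.word [8,4,2,3,7,0]) (.word [8,6,4,5,3,1,2,0])) (.word [7,4,5,4,2,0]))) (.node (.node (.node (.word [5,4,3,7,8,7,6,5,3,4,2,3,7,4,1,0]) (.word [8,4,5,0,1,2,0])) (.word [8,2,3,7,5,2])) (.node (.node (.word [0,1,2,3,7,6,5,3]) (.word [8,7,2,3,4,5,1,2,0])) (.word [8,5,2,3,2])))))) (.node (.node (.node (.node (.node (.node (.word [8,7,6,4,5,3,4,1,2,3,7,3,1,0]) (.word [6,4,5,2,3,2,0])) (.node (.word [2,3,7,5,1,2,1,0]) (.word [8,6,3,4,5,4,0,1,2,0]))) (.node (.node (.word [4,2,3,7,6,5,3,1,0]) (.word [8,6,5,3,4,0,1,2,1,0])) (.word [7,5,0,1,2,1,0]))) (.node (.node (.node (.word [5,1,2,3,4,0,1,2,3,7,3]) (.word [6,4,5,0,1,2])) (.node (.word [8,1,2,3,7,2]) (.word [3,7,8,1,2,3,4,5,1,2,0]))) (.node (.node (.word [4,0,1,2,3,7,6,5,3])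 (.word [5,2,3,4,0,1,2])) (.word [6,4,5,0])))) (.node (.node (.node (.node (.word [7,8,7,6,5,3,4,2,3,7,1,0]) (.word [7,8,3,4,5,4,1,0])) (.node (.word [3,7,0,1,2,1,0]) (.word [8,7,1,2,3,4,5,3,2,0]))) (.node (.node (.word [3,7,1,0]) (.word [8,6,4,5,3,4,2,0])) (.word [3,7,6,5,4,0,1,2,1,0]))) (.node (.node (.node (.word [5,4,3,7,1,0]) (.word [8,6,3,4,5,4,0])) (.word [4,5,3,0])) (.node (.node (.word [5,4,3,7,6,5,0]) (.word [7,8,4,5,3,4,3,2,0])) (.word [5,3,4,2,0]))))) (.node (.node (.node (.node (.node (.word [4,3,7,8,2,3,7,4,5,1,2,3,4,0,1,2,3,7,3,1,0]) (.word [8,3,4,1,2,0])) (.node (.word [0,1,2,3,7,5,1,2,0]) (.word [1,2,3,4,5,4,3,1,2,0]))) (.node (.node (.word [6,5,4,2,3,7,6,5,3]) (.word [6,4,5,3,4,0,1,2])) (.word [7,6,4,5,2,3,0]))) (.node (.node (.node (.word [6,5,4,3,7,3,0])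 (.word [2,3,4,5,4,1,2,1,0])) (.node (.word [3,7,5,2,3,2]) (.word [2,3,7,8,3,4,5,3,4,2]))) (.node (.node (.word [1,2,3,7,1,2,3]) (.word [1,2,3,7,8,5,4,1,2])) (.word [7,6,4,5,3,4,2,1,0])))) (.node (.node (.node (.node (.word [6,5,1,2,3,4,0,1,2,3,7,3]) (.word [4,5,3,0,1,2])) (.node (.word [7,3,4,5,3,1,0]) (.word [7,8,3,4,5,3,4,3,1,2,0]))) (.node (.node (.word [8,6,5,4,3,7,5,4,1,0]) (.word [7,8,2,3,4,5,1,2,1,0])) (.word [5,2,3,2]))) (.node (.node (.node (.word [1,2,3,4,0,1,2,3,7,2,3]) (.word [7,6,3,4,5,2,0])) (.word [3,7,5,4,2,3,2])) (.node (.node (.word [4,3,7,1,2,3]) (.word [7,2,3,4,5,4,3,2,0])) (.word [2,3,4,5,2,1,0]))))))))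

/-- A subtree. -/
def sub107 : WTree :=
  (.node (.node (.node (.node (.node (.node (.node (.node (.word [3,7,8,4,3,7,5,6,4,5,2,3,4,0,1,2,3,7,3,1,0]) (.word [5,1,2])) (.node (.word [8,7,1,0]) (.word [7,8,2,3,4,5,3,2,0]))) (.node (.node (.word [5,4,0,1,2,3,7,5,0]) (.word [2,3,4,5,2])) (.word [8,4,2,1,0]))) (.node (.node (.node (.word [6,5,4,0,1,2,3,7,1,0]) (.word [5,6,4,5,2,0])) (.node (.word [2,3,7,6,5,1,2,1,0]) (.word [7,8,2,3,4,5,0,1,2]))) (.node (.node (.word [6,5,4,3,7,6,5,0]) (.word [7,8,3,4,5,2])) (.word [8,0,1,2,1,0])))) (.node (.node (.node (.node (.word [7,6,5,3,4,0,1,2,3,7,3,1,0]) (.word [5,6,4,5,2,3])) (.node (.word [0,1,2,3,7,6,5]) (.word [0,1,2,3,4,5,3,1,2,0]))) (.node (.node (.word [8,0,1,2,3,7,1,0]) (.word [1,2,3,7,8,4])) (.word [2,3,4,5,3,1,0])))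 (.node (.node (.node (.word [6,5,4,2,3,7,5,3,0]) (.word [2,3,4,1,2])) (.node (.word [5,2,1,0]) (.word [4,3,7,8,7,2,3,4,5,1,2,0]))) (.node (.node (.word [8,1,2,3,7,5,0]) (.word [7,2,3,4,5,1,2])) (.word [7,5,4,0,1,2,0]))))) (.node (.node (.node (.node (.node (.word [8,7,6,4,5,1,2,3,4,0,1,2,3,7,3,1,0]) (.word [6,5,3,0,1,2,0])) (.node (.word [3,7,2,0]) (.word [0,1,2,3,4,5,1,2]))) (.node (.node (.word [1,2,3,7,0]) (.word [7,8,3,4,5,3,4,2,1,0])) (.word [8,5,2,1,0]))) (.node (.node (.node (.word [3,4,0,1,2,3,7,3,0]) (.word [8,5,2,3,4,1,2,1,0])) (.node (.word [3,7,5,3,4,2,1,0]) (.word [3,7,8,2,3,4,5,4,3,2,0]))) (.node (.node (.word [2,3,7,5,4,1,0]) (.word [7,8,5,3,4,3,2])) (.word [7,6,4,5,2,3])))) (.node (.node (.node (.node (.word [7,1,2,3,4,0,1,2,3,7,3,1,0]) (.word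 [8,4,5,1,2,3])) (.node (.word [7]) (.word [3,7,8,6,4,5,3,4,3,2]))) (.node (.node (.word [7,3,1,0]) (.word [1,2,3,4,5,1,2,3])) (.word [7,5,6,4,5,2,3,0]))) (.node (.node (.node (.word [8,3,4,1,2,3,7,2,1,0]) (.word [8,3,4,5,1,2,3])) (.word [3,7,3,2])) (.node (.node (.word [0,1,2,3,7,6,5,2,1,0]) (.word [7,8,6,3,4,5,2,3,2])) (.word [2,3,4,5,4,1,0])))))) (.node (.node (.node (.node (.node (.node (.word [8,7,6,4,5,2,3,4,1,2,3,7,3,1,0]) (.word [1,2,3,4,5,1,0])) (.node (.word [7,6,5,3,1,0]) (.word [8,2,3,4,5,4,3,2]))) (.node (.node (.word [5,4,3,7,4,1,0]) (.word [8,6,3,4,5,2,3,2,0])) (.word [4,3,7,3,4,5,4]))) (.node (.node (.node (.word [7,8,6,5,3,4,2,3,7,4,1,0]) (.word [2,3,4,5,2,3])) (.node (.word [7,2,3,2,0]) (.word [7,8,5,6,4,5,3,4,3,2,0]))) (.node (.node (.word [0,1,2,3,7,2,0])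 (.word [7,8,2,3,4,5,2,3,2,0])) (.word [7,8,4,5,1,0])))) (.node (.node (.node (.node (.word [5,2,3,4,0,1,2,3,7,3,1,0]) (.word [8,4,5,4])) (.node (.word [8,5,4,3,7,5,4]) (.word [8,7,1,2,3,4,5,1,2,0]))) (.node (.node (.word [3,4,2,3,7,3,4,2,1,0]) (.word [3,4,5,3,4,2])) (.word [7,5,4,2,3,2,0]))) (.node (.node (.node (.word [6,5,4,1,2,3,7,3]) (.word [8,6,4,5,4])) (.node (.word [3,7,5,6,4,5,1,0]) (.word [3,7,8,6,3,4,5,3,4,1,2]))) (.node (.node (.word [7,8,6,5,4,3,7,4,0]) (.word [8,7,3,4,5,3,4,2,0])) (.word [3,4,3,1,2]))))) (.node (.node (.node (.node (.node (.word [7,4,5,2,3,4,0,1,2,3,7,3,1,0]) (.word [6,2,3,4,5,2,1,0])) (.node (.word [6,5,4,2,3,7,4,5,4,0]) (.word [8,3,4,5,3,4,1,2]))) (.node (.node (.word [6,5,4,3,7,4,5,1,0]) (.word [8,3,4,5,4,0,1,2,1,0])) (.word [3,4,5,1,0])))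 (.node (.node (.node (.word [4,1,2,3,7,1,0]) (.word [6,4,5,4,0,1,2,1,0])) (.node (.word [8,4,3,7,4,5,4,0]) (.word [2,3,7,8,3,4,5,4,1,2]))) (.node (.node (.word [4,3,7,4,5,1,0]) (.word [8,7,3,4,5,4,1,2,0])) (.word [7,5,3,1,2,0])))) (.node (.node (.node (.node (.word [2,3,4,1,2,3,7,3,0]) (.word [7,5,6,4,5,1,2,0])) (.node (.word [7,2,3]) (.word [7,8,7,3,4,5,4,0,1,2,0]))) (.node (.node (.word [2,3,4,1,2,3,7,5]) (.word [7,8,3,4,5,0,1,2,1,0])) (.word [8,4,5,4,1,0]))) (.node (.node (.node (.word [6,5,4,3,7,5,3,0]) (.word [6,3,4,5,1,2,0])) (.word [2,3,7,6,5,3,2,0])) (.node (.node (.word [7,8,2,3,7,4,1,0]) (.word [0,1,2,3,4,5,2])) (.word [7,6,4,5,0,1,2,1,0]))))))) (.node (.node (.node (.node (.node (.node (.node (.word [8,3,7,5,6,4,5,2,3,4,0,1,2,3,7,3,1,0]) (.word [8,4,5]))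 (.node (.word [4,3,7,5]) (.word [8,4,5,2,3,4,3,1,2,0]))) (.node (.node (.word [6,5,4,0,1,2,3,7,5]) (.word [8,6,4,5,3,2,0])) (.word [7,5,4,2,0]))) (.node (.node (.node (.word [4,5,3,4,2,3,7,4,5,3,1,0]) (.word [8,6,5,3,2,0])) (.node (.word [2,3,7,5,2]) (.word [8,1,2,3,4,5,4,3,1,2,0]))) (.node (.node (.word [8,5,4,1,2,3,7,5]) (.word [7,8,2,3,4,5,2,0])) (.word [8,7,5,2])))) (.node (.node (.node (.node (.word [7,6,5,3,4,1,2,3,7,1,0]) (.word [3,4,1,2])) (.node (.word [7,4,2,1,0]) (.word [8,1,2,3,4,5,3,2]))) (.node (.node (.word [0,1,2,3,7,6,5,3,1,0]) (.word [4,5,3,4,1,2])) (.word [3,7,6,5,1,2,0]))) (.node (.node (.node (.word [5,4,0,1,2,3,7,0]) (.word [8,3,4,1,2])) (.node (.word [7,5,2,0]) (.word [3,7,8,5,6,2,3,4,5,1,2]))) (.node (.node (.word [3,4,2,3,7,5,0]) (.word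 [8,6,4,5,4,1,2])) (.word [6,4,5,4,2,1,0]))))) (.node (.node (.node (.node (.node (.word [7,6,5,2,3,4,1,2,3,7,3,1,0]) (.word [5,2,3,4,1,2,1,0])) (.node (.word [8,1,2,3,7,5]) (.word [4,2,3,7,8,5,3,4,1,2]))) (.node (.node (.word [4,2,3,7,5,3,0]) (.word [8,3,4,0,1,2])) (.word [2]))) (.node (.node (.node (.word [5,3,4,2,3,7,4,1,0]) (.word [8,4,5,4,2,3,2])) (.node (.word [8,3,7,5,4,0]) (.word [7,8,6,3,4,5,4,0,1,2]))) (.node (.node (.word [8,4,3,7,0]) (.word [8,6,4,5,4,0,1,2,0])) (.word [8,4,2,3,2,0])))) (.node (.node (.node (.node (.word [6,4,5,3,4,0,1,2,3,7,6,5,3,1,0]) (.word [5,0,1,2])) (.node (.word [8,3,7,4,5,1,0]) (.word [8,5,6,2,3,4,5,1,2]))) (.node (.node (.word [8,1,2,3,7,2,1,0]) (.word [7,8,5,6,3,4,5,2,1,0])) (.word [7,4,5,4]))) (.node (.node (.node (.word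 [4,1,2,3,7,6,5,3,1,0]) (.word [6,4,5,3,1,2,0])) (.word [1,2,3,7,6,5,0,1,2,0])) (.node (.node (.word [8,0,1,2,3,7,6,5]) (.word [8,6,2,3,4,5,0,1,2,1,0])) (.word [8,3,2])))))) (.node (.node (.node (.node (.node (.node (.word [8,7,5,6,4,5,3,4,0,1,2,3,7,3,1,0]) (.word [8,6,4,5,2,3,0])) (.node (.word [1,2,3,7,5,2,3,2]) (.word [1,2,3,4,5,4,1,2]))) (.node (.node (.word [5,4,3,7,3]) (.word [2,3,4,3,0,1,2,0])) (.word [8,7,6,5,2,1,0]))) (.node (.node (.node (.word [5,4,3,7,8,6,5,4,2,3,7,4,1,0]) (.word [8,6,5,4,3,2])) (.node (.word [0,1,2,3,7,6,5,0,1,2,1,0]) (.word [7,8,1,2,3,4,5,1,2]))) (.node (.node (.word [0,1,2,3,7,5,2,3,0]) (.word [7,8,2,3,4,3,1,2,0])) (.word [8,5,2,0])))) (.node (.node (.node (.node (.word [4,5,3,4,1,2,3,7,5,3,1,0]) (.word [6,3,4,5,4,0])) (.node (.word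 [3,7,2,3,2]) (.word [2,3,7,8,6,4,5,3,4,2]))) (.node (.node (.word [2,3,7,2,1,0]) (.word [3,4,5,3,4,3,2,0])) (.word [7,8,4,2,1,0]))) (.node (.node (.node (.word [3,4,2,3,7,2,1,0]) (.word [6,5,3,4,3,2,0])) (.node (.word [5,2,3,0]) (.word [4,3,7,8,2,3,4,5,3,4,3,2]))) (.node (.node (.word [6,5,4,3,7,6,5]) (.word [5,6,4,5,3,4,3,2,0])) (.word [3,7,4,5,4,2,0]))))) (.node (.node (.node (.node (.node (.word [6,4,5,3,4,1,2,3,7,3,1,0]) (.word [6,5,4,1,2,0])) (.node (.word [0,1,2,3,7,5,2,3,2]) (.word [7,8,3,4,5,3,4,2]))) (.node (.node (.word [6,5,3,4,2,3,7,5,0]) (.word [7,8,3,4,3,1,2,0])) (.word [7,6,4,5,3]))) (.node (.node (.node (.word [6,5,4,2,3,7,4,1,0]) (.word [7,8,3,4,1,2,0])) (.node (.word [7,1,2,3]) (.word [4,3,7,8,2,3,4,5,1,2]))) (.node (.node (.word [4,3,7,3,4,5,3,1,0])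 (.word [7,8,6,3,4,5,4,1,2,1,0])) (.word [7,4,5,3,4,1,2,1,0])))) (.node (.node (.node (.node (.word [6,4,5,3,4,2,3,7,6,5,3,1,0]) (.word [8,6,3,4,5,2,1,0])) (.node (.word [4,3,7,3,4,5,3]) (.word [8,6,3,4,5,3,4,1,2]))) (.node (.node (.word [4,2,3,7,2,3,2,0]) (.word [8,6,2,3,4,5,1,2,1,0])) (.word [7,5,3,2]))) (.node (.node (.node (.word [6,5,4,2,3,7,6,5,3,0]) (.word [7,8,6,3,4,5,2,1,0])) (.word [7,5,3,4,2,1,0])) (.node (.node (.word [4,3,7,5,4,0]) (.word [7,8,2,3,4,5,2])) (.word [8,6,5,1,2,1,0]))))))))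

/-- A subtree. -/
def sub108 : WTree :=
  (.node (.node (.node (.node (.node (.node (.node (.node (.word [8,4,3,7,5,6,4,5,2,3,4,0,1,2,3,7,3,1,0]) (.word [8,5,6,4,5,1,0])) (.node (.word [3,7,6,5,1,0]) (.word [3,7,8,2,3,4,5,2,3,2,0]))) (.node (.node (.word [4,0,1,2,3,7,6,5,3,1,0]) (.word [8,6,3,4,5,2,0])) (.word [7,8,7,4,0]))) (.node (.node (.node (.word [7,5,3,4,2,3,7,4,1,0]) (.word [7,3,4,5,2,0])) (.node (.word [8,2,3,7,5,2,0]) (.word [7,8,7,3,4,5,3,4,2]))) (.node (.node (.word [5,4,3,7,6,5,3,0]) (.word [5,6,3,4,5,3,2,0])) (.word [6,5,1,2,1,0])))) (.node (.node (.node (.node (.word [7,5,3,4,1,2,3,7,3,1,0]) (.word [3,4,3,0,1,2])) (.node (.word [4,3,7,3,4,1,2,1,0]) (.word [3,7,8,6,4,5,3,4,2,0]))) (.node (.node (.word [5,4,0,1,2,3,7,5]) (.word [7,8,4,5,4,2])) (.word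 [4,2,3,7,5,1,2]))) (.node (.node (.node (.word [5,2,3,4,0,1,2,3,7,3]) (.word [3,7,8,4,2])) (.node (.word [8,7,4,5,1,0]) (.word [3,7,8,7,1,2,3,4,5,1,2,0]))) (.node (.node (.word [8,5,4,2,3,7,5]) (.word [3,7,8,3,4,5,4,2,0])) (.word [5,4,1,2,0]))))) (.node (.node (.node (.node (.node (.word [7,5,6,4,5,3,4,0,1,2,3,7,3,1,0]) (.word [7,5,6,4,5,2,3,2,0])) (.node (.word [8,4,2,3,7,5]) (.word [7,8,2,3,4,5,4,1,2,0]))) (.node (.node (.word [4,1,2,3,7,5,0]) (.word [8,3,4,5,4,2,3,2])) (.word [7,8,7,5,0]))) (.node (.node (.node (.word [6,5,4,0,1,2,3,7,6,5,3,1,0]) (.word [2,3,4,5,3,4,2,1,0])) (.node (.word [7,5,4,2,1,0]) (.word [3,7,8,6,5,2,3,4,1,2]))) (.node (.node (.word [4,3,7,5,4,1,0]) (.word [8,5,3,4,0,1,2])) (.word [6,4,5,2,3,0])))) (.node (.node (.node (.node (.word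 [4,5,3,4,0,1,2,3,7,5,3,1,0]) (.word [3,4,5,2,3,2])) (.node (.word [5,1,0]) (.word [3,7,8,5,2,3,4,3,1,2,0]))) (.node (.node (.word [4,3,7,6,5,3,1,0]) (.word [8,3,4,5,3,2])) (.word [8,7,4,5,4,0]))) (.node (.node (.node (.word [5,4,1,2,3,7,5,0]) (.word [2,3,4,5,2,3,2])) (.word [2,3,7,6,5,0,1,2,1,0])) (.node (.node (.word [0,1,2,3,7,5]) (.word [5,6,3,4,5,0,1,2,0])) (.word [7,1,2,3,4,5,4,1,0])))))) (.node (.node (.node (.node (.node (.node (.word [4,2,3,7,5,6,4,5,1,2,3,4,0,1,2,3,7,3,1,0]) (.word [6,4,5,2,3])) (.node (.word [4,3,7,3,4,5,3,0]) (.word [3,4,5,3,4,0,1,2]))) (.node (.node (.word [8,5,4,3,7,1,0]) (.word [7,8,3,4,5,2,3,2,0])) (.word [7,5,1,2,3]))) (.node (.node (.node (.word [8,6,5,4,1,2,3,7,1,0]) (.word [3,7,8,6,5,4,2,0])) (.node (.word [6,5,4,3,7,3,4,5,4])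 (.word [2,3,7,8,4,5,3,4,0,1,2]))) (.node (.node (.word [5,4,1,2,3,7,5]) (.word [2,3,7,8,4,1,2])) (.word [4,5])))) (.node (.node (.node (.node (.word [8,7,3,4,2,3,7,3,1,0]) (.word [6,5,3,4,2,0])) (.node (.word [5,4,3,7,3,4,5,4,0]) (.word [8,2,3,4,5,4,3,1,2,0]))) (.node (.node (.word [8,5,4,3,7,4,1,0]) (.word [8,7,3,4,5,4,2,0])) (.word [7,6,5,3,4,2,1,0]))) (.node (.node (.node (.word [7,8,3,4,2,3,7,4,1,0]) (.word [2,3,4,5,4,2,0])) (.node (.word [7,5,2,3]) (.word [2,3,7,8,1,2,3,4,5,0,1,2,0]))) (.node (.node (.word [6,5,4,3,7,3,4,5,4,1,0]) (.word [1,2,3,4,5,3,4,2,0])) (.word [7,6,5,4,2]))))) (.node (.node (.node (.node (.node (.word [7,4,5,3,4,1,2,3,7,3,1,0]) (.word [8,4,0,1,2,0])) (.node (.word [6,5,4,3,7,5,6,4,5,0]) (.word [7,8,3,4,5,4,1,2]))) (.node (.node (.word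 [5,4,3,7,6,5,3,1,0]) (.word [3,4,5,3,4,1,2,0])) (.word [8,7,6,4,5]))) (.node (.node (.node (.word [4,1,2,3,7,5,3,1,0]) (.word [3,4,5,4,1,2,0])) (.node (.word [3,7,4,5,4,0]) (.word [3,7,8,6,4,5,3,4,1,2]))) (.node (.node (.word [3,7,6,5,3,1,0]) (.word [7,8,3,4,5,4,1,2,0])) (.word [7,6,4,5,2,3,2,0])))) (.node (.node (.node (.node (.word [6,5,3,4,2,3,7,5,3,1,0]) (.word [5,4,3,1,2,0])) (.node (.word [5,3,0]) (.word [3,7,8,6,4,5,3,4,1,2,0]))) (.node (.node (.word [2,3,7,5,3,0]) (.word [2,3,4,5,3,1,2,0])) (.word [2,3,7,3,4,5]))) (.node (.node (.node (.word [8,6,5,4,1,2,3,7,5,0]) (.word [6,5,4,3,1,2,0])) (.word [4,0,1,2,3,7,5,1,2])) (.node (.node (.word [2,3,7,6,5,4,1,0]) (.word [7,8,0,1,2,3,4,5,2,1,0])) (.word [5,3,1,2,0]))))))) (.node (.node (.node (.node (.node (.node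 (.node (.word [7,8,3,7,6,4,5,1,2,3,4,0,1,2,3,7,3,1,0]) (.word [8,6,5,2,0])) (.node (.word [5,4,3,7,6,4,5,4,1,0]) (.word [7,8,5,1,2,3,4,0,1,2]))) (.node (.node (.word [7,8,3,4,2,3,7,4,2,1,0]) (.word [8,5,6,4,5,4,2])) (.word [6,5,4,1,0]))) (.node (.node (.node (.word [4,1,2,3,7,3,1,0]) (.word [8,1,2,3,4,5,1,0])) (.node (.word [4,1,2,3,7,5,3,2,0]) (.word [8,7,0,1,2,3,4,5,1,2,0]))) (.node (.node (.word [4,0,1,2,3,7,0,1,2,1,0]) (.word [3,7,8,6,5,4,1,2])) (.word [1,2])))) (.node (.node (.node (.node (.word [7,5,1,2,3,4,0,1,2,3,7,3,1,0]) (.word [7,6,4,5,4,2])) (.node (.word [8,3,7,5,4,1,0]) (.word [8,5,6,3,4,5,0,1,2,0]))) (.node (.node (.word [8,6,5,4,0,1,2,3,7,5]) (.word [3,4,5,4,1,2])) (.word [8,7,6,5,2]))) (.node (.node (.node (.word [3,4,0,1,2,3,7,3]) (.word [6,4,5,4,2]))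 (.node (.word [6,5,1,0]) (.word [3,7,8,1,2,3,4,5,3,4,2]))) (.node (.node (.word [2,3,7,2,3,2,0]) (.word [8,2,3,4,5,4,2])) (.word [8,7,4,1,2]))))) (.node (.node (.node (.node (.node (.word [7,3,4,2,3,7,5,6,4,5,1,2,3,4,0,1,2,3,7,3,1,0]) (.word [8,4,5,3,4,2,1,0])) (.node (.word [1,2,3,7,6,5,2,3,2,0]) (.word [7,8,5,2,3,4,1,2]))) (.node (.node (.word [6,5,4,3,7,4,0]) (.word [4,5,3,4,0,1,2,0])) (.word [3,2,0]))) (.node (.node (.node (.word [5,4,3,7,3,1,0]) (.word [7,6,4,5,4,0,1,2,0])) (.node (.word [3,7,6,5,4,0]) (.word [3,7,8,2,3,4,5,4,0,1,2,0]))) (.node (.node (.word [8,5,4,3,7]) (.word [3,7,8,3,4,1,2])) (.word [7,6,5,4,2,3,2,0])))) (.node (.node (.node (.node (.word [8,7,3,4,1,2,3,7,2,1,0]) (.word [7,8,1,2])) (.node (.word [4,2,3,7,4,5,0]) (.word [8,6,3,4,5,4,0,1,2])))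 (.node (.node (.word [2,3,7,0]) (.word [2,3,4,5,0,1,2,0])) (.word [8,4,2,0]))) (.node (.node (.node (.word [6,5,4,3,7,4,1,0]) (.word [5,6,4,5,0,1,2,1,0])) (.word [4,2,3,7,5,2])) (.node (.node (.word [4,3,7,3,4,2,1,0]) (.word [8,6,2,3,4,5,1,2,0])) (.word [7,8,6,5,2,1,0])))))) (.node (.node (.node (.node (.node (.node (.word [7,5,6,4,5,3,4,1,2,3,7,3,1,0]) (.word [6,5,4,2,3,2,0])) (.node (.word [8,2,3,7]) (.word [7,8,3,4,5,4,0,1,2,0]))) (.node (.node (.word [7,2,3,4,1,2,3,7,1,2,3]) (.word [8,2,3,4,3,1,2,0])) (.word [1,2,0]))) (.node (.node (.node (.word [7,8,3,4,0,1,2,3,7,1,0]) (.word [1,2,3,4,0,1,2,1,0])) (.node (.word [0,1,2,3,7,5,1,2]) (.word [7,8,0,1,2,3,4,5,2]))) (.node (.node (.word [8,4,2,3,7,4,2,1,0]) (.word [8,6,5,2,3,4,0,1,2])) (.word [8,6,4,5,1,0]))))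 (.node (.node (.node (.node (.word [7,8,6,5,3,4,1,2,3,7,1,0]) (.word [8,2,3,4,5,4,1,0])) (.node (.word [2,1,0]) (.word [7,8,7,3,4,5,4,3,2,0]))) (.node (.node (.word [8,4,2,3,7,5,1,0]) (.word [7,8,4,5,3,4,2,0])) (.word [7,6,5,4,1,2,1,0]))) (.node (.node (.node (.word [5,4,3,7,3,0]) (.word [7,8,5,6,4,5,2,1,0])) (.word [3,4,5,3,1,0])) (.node (.node (.word [5,4,3,7,6,5,3]) (.word [1,2,3,7,8,5,3,4,2])) (.word [8,7,3,4,5,4,0]))))) (.node (.node (.node (.node (.node (.word [7,6,5,1,2,3,4,0,1,2,3,7,3,1,0]) (.word [8,4,5,4,1,2,1,0])) (.node (.word [8,0,1,2,3,7,2]) (.word [7,8,7,2,3,4,5,2]))) (.node (.node (.word [1,2,3,4,0,1,2,3,7,1,2,3]) (.word [8,5,6,3,4,5,4,2,1,0])) (.word [8,5,2,3,0]))) (.node (.node (.node (.word [6,5,3,4,2,3,7,6,4,5,3,1,0]) (.word [6,2,3,4,5,4,2,1,0]))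 (.node (.word [7,0,1,2,1,0]) (.word [3,7,8,6,2,3,4,5,1,2]))) (.node (.node (.word [4,2,3,7,0,1,2,1,0]) (.word [8,6,4,5,2,3,4,1,2])) (.word [7,5,4,3,2])))) (.node (.node (.node (.node (.word [7,8,5,3,4,0,1,2,3,7,1,0]) (.word [6,4,5,3,1,2])) (.node (.word [2,3,7,5,2,3,2]) (.word [2,3,7,8,4,5,3,4,1,2,0]))) (.node (.node (.word [6,5,4,3,7,6,5,4,1,0]) (.word [8,6,3,4,5,2])) (.word [6,5,1,2,3,2]))) (.node (.node (.node (.word [8,3,4,0,1,2,3,7,2,1,0]) (.word [7,3,4,5,2])) (.word [3,7,5,4,0,1,2,1,0])) (.node (.node (.word [8,2,3,7,5,2,1,0]) (.word [7,8,7,3,4,5,3,2,0])) (.word [5,3,0,1,2]))))))))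

/-- A subtree. -/
def sub109 : WTree :=
  (.node (.node sub105 sub106) (.node sub107 sub108))

/-- A subtree. -/
def sub110 : WTree :=
  (.node (.node (.node (.node (.node (.node (.node (.node (.word [2,3,7,8,4,3,7,5,6,4,5,2,3,4,0,1,2,3,7,3,1,0]) (.word [4,5,3,1,2])) (.node (.word [8,4,3,7]) (.word [7,8,1,2,3,4,5,2,0]))) (.node (.node (.word [8,5,4,0,1,2,3,7,5,1,0]) (.word [8,4,5,1,2])) (.word [7,6,5,4,2,1,0]))) (.node (.node (.node (.word [5,3,4,0,1,2,3,7,3,0]) (.word [8,5,1,2])) (.node (.word [2,3,7,5,1,2,0]) (.word [7,8,7,2,3,4,5,1,2]))) (.node (.node (.word [6,5,4,3,7,5]) (.word [1,2,3,4,5,2])) (.word [7,6,5,0,1,2,1,0])))) (.node (.node (.node (.node (.word [4,5,2,3,4,0,1,2,3,7,3,1,0]) (.word [8,3,4,5,4,2,1,0])) (.node (.word [1,2,3,7,5]) (.word [8,1,2,3,4,5,3,4,2,0])))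 (.node (.node (.word [0,1,2,3,7,2,1,0]) (.word [7,8,2,3,4,5,4,2,1,0])) (.word [8,6,5,3,0]))) (.node (.node (.node (.word [6,5,4,1,2,3,7,6,5,1,0]) (.word [2,3,4,3,0,1,2])) (.node (.word [7,4,5,2,1,0]) (.word [7,8,0,1,2,3,4,5,3,1,2,0]))) (.node (.node (.word [8,2,3,7,0]) (.word [6,1,2,3,4,5,2])) (.word [7,8,5,4,2,1,0]))))) (.node (.node (.node (.node (.node (.word [3,4,2,3,7,5,6,4,5,1,2,3,4,0,1,2,3,7,3,1,0]) (.word [7,6,5,4,3,2,0])) (.node (.word [2,3,7,2]) (.word [6,2,3,4,5,4,1,2]))) (.node (.node (.word [8,1,2,3,7,1,0]) (.word [6,5,2,3,4,0,1,2])) (.word [4,5,2,1,0]))) (.node (.node (.node (.word [5,4,0,1,2,3,7,5,3,1,0]) (.word [8,5,3,4,0,1,2,1,0])) (.node (.word [3,7,3,4,1,2,1,0]) (.word [7,8,1,2,3,4,5,4,3,2,0]))) (.node (.node (.word [4,3,7,4,0]) (.word [8,3,4,5,4,3,2]))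 (.word [7,2,3,4,5,0])))) (.node (.node (.node (.node (.word [5,6,4,5,3,4,2,3,7,6,5,3,1,0]) (.word [6,4,5,1,2,3])) (.node (.word [7,8,7,1,0]) (.word [3,7,8,2,3,4,5,3,2,0]))) (.node (.node (.word [4,3,7,3]) (.word [8,0,1,2,3,4,5,4,1,0])) (.word [8,5,4,2,1,0]))) (.node (.node (.node (.word [8,7,2,3,4,1,2,3,7,1,2,3]) (.word [8,6,4,5,1,2,3])) (.word [8,7,6,5,4,2,1,0])) (.node (.node (.word [0,1,2,3,7,1,2,0]) (.word [8,2,3,4,5,3,2])) (.word [6,3,4,5,4,1,0])))))) (.node (.node (.node (.node (.node (.node (.word [3,7,5,6,4,5,2,3,4,0,1,2,3,7,3,1,0]) (.word [2,3,4,5,0])) (.node (.word [3,7,6,5,3,0]) (.word [8,5,6,3,4,5,1,2]))) (.node (.node (.word [3,7,8,5,4,2,3,7,4,1,0]) (.word [7,8,6,5,4,1,2])) (.word [3,7,4,5,4]))) (.node (.node (.node (.word [5,3,4,2,3,7,3,0]) (.word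 [6,3,4,5,2,3])) (.node (.word [3,7,6,5,2,3,0]) (.word [3,7,8,3,4,5,3,4,3,2,0]))) (.node (.node (.word [4,1,2,3,7]) (.word [7,8,6,5,3,4,3,2])) (.word [5,6,3,4,5,4,1,0])))) (.node (.node (.node (.node (.word [4,5,3,4,0,1,2,3,7,3,1,0]) (.word [6,4,5,4])) (.node (.word [3,7,6,5,4,1,0]) (.word [7,8,6,2,3,4,5,0,1,2,1,0]))) (.node (.node (.word [6,5,4,1,2,3,7,6,5,3]) (.word [8,6,4,5,4,2])) (.word [7,6,5,2,3,2,0]))) (.node (.node (.node (.word [6,5,4,0,1,2,3,7,5,0]) (.word [8,5,3,4,2])) (.node (.word [4,3,7,5,6,4,5,0]) (.word [2,3,7,8,7,3,4,5,3,4,1,2,0]))) (.node (.node (.word [4,3,7,2,3]) (.word [7,8,4,5,3,4,2])) (.word [8,7,4,5,4,2,0]))))) (.node (.node (.node (.node (.node (.word [8,7,4,5,3,4,0,1,2,3,7,3,1,0]) (.word [4,5,4,2,3,2])) (.node (.word [6,5,4,3,7,4,5,4])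 (.word [8,2,3,4,5,0,1,2]))) (.node (.node (.word [6,5,4,3,7]) (.word [8,6,4,5,4,0,1,2,1,0])) (.word [7,5,6,4,5,1,0]))) (.node (.node (.node (.word [3,4,1,2,3,7,2,1,0]) (.word [8,3,4,0,1,2,0])) (.node (.word [8,4,3,7,5,4]) (.word [7,8,0,1,2,3,4,5,1,2]))) (.node (.node (.word [5,4,3,7,4,5,0]) (.word [7,2,3,4,5,4,1,2,0])) (.word [8,3,7,5,1,2])))) (.node (.node (.node (.node (.word [5,4,1,2,3,7,3,1,0]) (.word [8,7,4,5,1,2])) (.node (.word [3,7,6,4,5,1,0]) (.word [8,1,2,3,4,5,3,4,2]))) (.node (.node (.word [5,4,1,2,3,7,6,5]) (.word [8,6,3,4,5,0,1,2,1,0])) (.word [6,4,5,4,1,0]))) (.node (.node (.node (.word [6,5,4,2,3,7,6,5,1,0]) (.word [7,8,6,4,5,1,2])) (.word [7,3,2,0])) (.node (.node (.word [2,3,7,5,4,2,1,0]) (.word [8,2,3,4,5,3,1,2,0])) (.word [3,0,1,2,0])))))))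 (.node (.node (.node (.node (.node (.node (.node (.word [8,4,3,7,5,6,4,5,1,2,3,4,0,1,2,3,7,3,1,0]) (.word [6,4,5])) (.node (.word [8,4,3,7,6,5,1,0]) (.word [2,3,7,8,3,4,1,2]))) (.node (.node (.word [6,5,2,3,4,0,1,2,3,7,5]) (.word [7,8,3,4,5,2,0])) (.word [4]))) (.node (.node (.node (.word [3,4,2,3,7,3,1,0]) (.word [8,3,4,5,2,0])) (.node (.word [8,1,2,3,7,1,2]) (.word [3,7,8,6,4,5,3,4,2]))) (.node (.node (.word [8,6,5,4,3,7,6,5]) (.word [2,3,4,5,4,3,2,0])) (.word [8,6,5,2,1,0])))) (.node (.node (.node (.node (.word [6,4,5,3,4,2,3,7,3,1,0]) (.word [5,3,4,3,1,2])) (.node (.word [4,3,7,4,0,1,2,1,0]) (.word [7,8,6,3,4,5,1,2]))) (.node (.node (.word [0,1,2,3,7,2,3,0]) (.word [6,2,3,4,5,3,2,0])) (.word [8,2,3,7,5,1,2]))) (.node (.node (.node (.word [4,0,1,2,3,7,1,0])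 (.word [3,7,8,5,4,2,0])) (.node (.word []) (.word [3,7,8,1,2,3,4,5,4,3,2,0]))) (.node (.node (.word [4,2,3,7,5]) (.word [8,5,6,4,5,3,2])) (.word [8,5,4,1,2,1,0]))))) (.node (.node (.node (.node (.node (.word [8,7,6,5,3,4,1,2,3,7,3,1,0]) (.word [5,3,4,0,1,2,1,0])) (.node (.word [8,4,3,7,6,5]) (.word [3,7,8,4,5,3,4,1,2,0]))) (.node (.node (.word [1,2,3,7,6,5,3,1,0]) (.word [8,5,4,0,1,2])) (.word [7,1,2]))) (.node (.node (.node (.word [3,7,8,7,5,3,4,2,3,7,4,1,0]) (.word [8,3,4,3,2])) (.node (.word [8,3,7,4]) (.word [2,3,7,8,4,5,3,4,3,2]))) (.node (.node (.word [3,7,2,1,0]) (.word [5,6,4,5,4,0,1,2,0])) (.word [8,5,2,3,2,0])))) (.node (.node (.node (.node (.word [6,5,3,4,0,1,2,3,7,5,3,1,0]) (.word [3,7,8,4,5,2,1,0])) (.node (.word [5,4,3,7,5,6,4,5,0]) (.word [3,7,8,6,5,2,3,4,0,1,2])))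 (.node (.node (.word [4,1,2,3,7,1,2,3]) (.word [5,6,3,4,5,0,1,2,1,0])) (.word [7,5,4,2]))) (.node (.node (.node (.word [5,4,2,3,7,5,3,0]) (.word [4,5,0,1,2])) (.word [2,3,7,0,1,2])) (.node (.node (.word [3,4,0,1,2,3,7,5]) (.word [3,7,8,4,5,1,2])) (.word [7,6,5,3,2])))))) (.node (.node (.node (.node (.node (.node (.word [8,7,6,4,5,2,3,4,0,1,2,3,7,3,1,0]) (.word [8,3,4,5,3])) (.node (.word [2,3,7,2,3,2]) (.word [8,0,1,2,3,4,5,4]))) (.node (.node (.word [3,7,3,1,0]) (.word [5,2,3,4,0,1,2,0])) (.word [3,7,6,5,2,3,2]))) (.node (.node (.node (.word [5,3,4,1,2,3,7,6,5,3,1,0]) (.word [8,4,5,4,2,3,2,0])) (.node (.word [0,1,2,3,7,5,0,1,2,0]) (.word [7,8,7,1,2,3,4,5,1,2,0]))) (.node (.node (.word [0,1,2,3,7,2,3]) (.word [6,5,2,3,4,3,1,2,0])) (.word [6,5,2,0])))) (.node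 (.node (.node (.node (.word [7,3,4,1,2,3,7,3,1,0]) (.word [7,8,3,4,2,0])) (.node (.word [3,7,1,2,3]) (.word [7,8,5,6,4,5,3,4,1,2]))) (.node (.node (.word [8,4,2,3,7,2,1,0]) (.word [2,3,4,5,3,4,2,0])) (.word [8,7,4,5,4,2,1,0]))) (.node (.node (.node (.word [8,7,3,4,2,3,7,1,2,3]) (.word [8,4,5,3,4,2,0])) (.node (.word [7,4,5,2,3,0]) (.word [2,3,7,8,1,2,3,4,5,0,1,2]))) (.node (.node (.word [8,5,4,3,7,6,5,1,0]) (.word [8,3,4,5,3,4,3,2,0])) (.word [6,5,4]))))) (.node (.node (.node (.node (.node (.word [8,7,6,5,3,4,1,2,3,7,1,0]) (.word [7,6,4,5,4,1,2,0])) (.node (.word [0,1,2,3,7,5,1,2,3]) (.word [8,2,3,4,5,3,4,2]))) (.node (.node (.word [5,2,3,4,1,2,3,7,5]) (.word [6,5,3,4,3,1,2,0])) (.word [5,2,3]))) (.node (.node (.node (.word [3,7,8,6,5,3,4,2,3,7,4,1,0]) (.word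 [5,3,4,3,1,2,0])) (.node (.word [4,1,2,3,7,4,5,4]) (.word [3,7,8,6,2,3,4,5,0,1,2,0]))) (.node (.node (.word [3,7,4,5,3,1,0]) (.word [7,8,5,3,4,3,1,2,0])) (.word [7,5,2,3,4,1,2,1,0])))) (.node (.node (.node (.node (.word [6,5,3,4,2,3,7,3,0]) (.word [8,3,4,5,1,2,1,0])) (.node (.word [3,7,4,5,3]) (.word [2,3,7,8,4,5,4,1,2]))) (.node (.node (.word [4,2,3,7,2,3]) (.word [8,4,5,4,3,1,2,0])) (.word [5,1,2,3]))) (.node (.node (.node (.word [5,4,1,2,3,7,6,5,1,0]) (.word [8,2,3,4,5,1,2,1,0])) (.word [7,3,4,1,2,1,0])) (.node (.node (.word [5,4,3,7,5,4]) (.word [7,8,3,4,5,1,2])) (.word [3,4,5,1,2,1,0]))))))))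

/-- A subtree. -/
def sub111 : WTree :=
  (.node (.node (.node (.node (.node (.node (.node (.node (.word [7,8,4,3,7,5,6,4,5,1,2,3,4,0,1,2,3,7,3,1,0]) (.word [7,8,6,5,0])) (.node (.word [7,5,1,0]) (.word [7,8,6,4,5,3,4,3,2]))) (.node (.node (.word [5,4,0,1,2,3,7,5,3]) (.word [8,7,3,4,5,2,0])) (.word [8,7,4,2,0]))) (.node (.node (.node (.word [8,7,3,4,2,3,7,4,1,0]) (.word [2,3,4,5])) (.node (.word [8,2,3,7,5]) (.word [7,8,6,3,4,5,4,1,2]))) (.node (.node (.word [6,5,4,3,7,6,4,5,3,0]) (.word [8,7,3,4,5,3,2,0])) (.word [7,6,4,5,1,2,1,0])))) (.node (.node (.node (.node (.word [8,7,5,3,4,1,2,3,7,1,0]) (.word [8,7,4,5,4,2])) (.node (.word [0,1,2,3,7,6,5,2,3]) (.word [8,5,6,4,5,3,4,3,2,0]))) (.node (.node (.word [8,4,0,1,2,3,7,5,1,0]) (.word [7,8,5,4,1,2])) (.word [3,7,5,3,2])))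 (.node (.node (.node (.word [1,2,3,4,0,1,2,3,7,3]) (.word [5,3,4,3,0,1,2])) (.node (.word [7,8,7,0]) (.word [3,7,8,7,2,3,4,5,0,1,2,0]))) (.node (.node (.word [1,2,3,7,3,2,0]) (.word [3,4,5,3,4,1,2])) (.word [7,4,5,4,1,2,0]))))) (.node (.node (.node (.node (.node (.word [8,7,6,5,2,3,4,0,1,2,3,7,3,1,0]) (.word [7,6,4,5,3,2,0])) (.node (.word [1,2,3,7,5,3,2,0]) (.word [6,3,4,5,3,4,1,2]))) (.node (.node (.word [5,4,2,3,7,5,0]) (.word [7,8,3,4,3,2])) (.word [8,7,4,5,0]))) (.node (.node (.node (.word [6,5,4,0,1,2,3,7,3]) (.word [6,3,4,5,3,4,2,1,0])) (.node (.word [7,4,1,2,1,0]) (.word [4,3,7,8,5,2,3,4,1,2]))) (.node (.node (.word [5,4,3,7,5,4,0]) (.word [8,6,5,4,0,1,2])) (.word [8,4,5,3])))) (.node (.node (.node (.node (.word [7,3,4,0,1,2,3,7,3,1,0]) (.word [8,5,3,2]))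 (.node (.word [7,4,5,1,0]) (.word [7,8,4,5,2,3,4,3,1,2,0]))) (.node (.node (.word [4,3,7,4,5,3,1,0]) (.word [8,6,4,5,3,2])) (.word [8,7,5,4,2,0]))) (.node (.node (.node (.word [8,5,4,1,2,3,7,5,1,0]) (.word [6,3,4,5,2,3,2])) (.word [2,3,7,5,0,1,2,0])) (.node (.node (.word [1,2,3,7]) (.word [7,2,3,4,5,0,1,2,0])) (.word [7,2,3,4,5,4,0])))))) (.node (.node (.node (.node (.node (.node (.word [8,2,3,7,5,6,4,5,1,2,3,4,0,1,2,3,7,3,1,0]) (.word [7,1,2,3,4,5,0])) (.node (.word [3,7,4,5,3,0]) (.word [8,6,4,5,4,0,1,2]))) (.node (.node (.word [4,3,7,1,0]) (.word [3,7,8,6,5,3,4,2,0])) (.word [1,2,3,7,4,5,4]))) (.node (.node (.node (.word [6,5,3,4,2,3,7,4,5,3,1,0]) (.word [6,5,3,4,3,2])) (.node (.word [6,5,4,2,3,7,4,5,4]) (.word [7,8,1,2,3,4,5,3,2]))) (.node (.node (.word [8,4,0,1,2,3,7,5,0])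 (.word [8,5,2,3,4,0,1,2,0])) (.word [8,2])))) (.node (.node (.node (.node (.word [5,6,4,5,3,4,0,1,2,3,7,6,5,3,1,0]) (.word [3,4,5,4,2,0])) (.node (.word [5,4,2,3,7,4,5,4,0]) (.word [8,1,2,3,4,5,3,1,2,0]))) (.node (.node (.word [2,3,7,4,1,0]) (.word [8,2,3,4,5,4])) (.word [3,7,6,5,3,4,1,2,1,0]))) (.node (.node (.node (.word [7,3,4,2,3,7,4,2,1,0]) (.word [6,3,4,5,4,2,0])) (.node (.word [3,7,3,4,5,0]) (.word [5,4,3,7,8,2,3,4,5,3,1,2,0]))) (.node (.node (.word [6,5,4,3,7,6,5,4,0]) (.word [7,8,6,3,4,5,4,2,0])) (.word [4,1,2]))))) (.node (.node (.node (.node (.node (.word [8,7,4,5,3,4,2,3,7,3,1,0]) (.word [5,4,0,1,2,0])) (.node (.word [6,5,4,3,7,6,4,5]) (.word [8,6,3,4,5,4,1,2]))) (.node (.node (.word [6,5,4,3,7,6,4,5,3,1,0]) (.word [8,6,4,5,4,1,2,0])) (.word [3,7,5,6,4,5,0])))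 (.node (.node (.node (.word [5,4,2,3,7,3,0]) (.word [3,7,1,2,3,4,5])) (.node (.word [4,2,3,7,4,5,4,0]) (.word [2,3,7,8,3,4,5,3,4,1,2,0]))) (.node (.node (.word [7,5,3,1,0]) (.word [3,4,5,3,4,3,1,2,0])) (.word [7,5,4,3,2,0])))) (.node (.node (.node (.node (.word [6,5,4,2,3,7,3,1,0]) (.word [4,5,3,1,2,0])) (.node (.word [7,4,5,3,0]) (.word [4,3,7,8,5,3,4,1,2]))) (.node (.node (.word [2,3,7,3]) (.word [8,6,3,4,5,1,2,0])) (.word [3,7,3,4,5,4]))) (.node (.node (.node (.word [5,3,4,2,3,7,6,4,5,3,1,0]) (.word [4,5,4,3,1,2,0])) (.word [3,7,5,4,2,3,2,0])) (.node (.node (.word [7,4,1,0]) (.word [7,8,1,2,3,4,5,1,2,1,0])) (.word [4,5,1,2,0]))))))) (.node (.node (.node (.node (.node (.node (.node (.word [7,8,2,3,7,5,6,4,5,1,2,3,4,0,1,2,3,7,3,1,0]) (.word [8,4,5,2,0])) (.node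 (.word [4,3,7,6,4,5,1,0]) (.word [7,8,6,5,3,4,0,1,2,0]))) (.node (.node (.word [5,4,0,1,2,3,7,6,5,3,0]) (.word [7,0,1,2,3,4,5])) (.word [7,6,4,5,4,1,0]))) (.node (.node (.node (.word [8,5,3,4,1,2,3,7,1,0]) (.word [8,2,3,4,5,0])) (.node (.word [2,3,7,5,3,2,0]) (.word [4,3,7,8,2,3,4,5,3,2,0]))) (.node (.node (.word [4,0,1,2,3,7,2,3,2]) (.word [8,5,6,4,5,4,1,2])) (.word [8,7,6,5,2,0])))) (.node (.node (.node (.node (.word [5,4,3,7,8,2,3,7,4,5,1,2,3,4,0,1,2,3,7,3,1,0]) (.word [8,4,1,2])) (.node (.word [8,3,7,4,0]) (.word [8,7,2,3,4,5,0,1,2,0]))) (.node (.node (.word [4,0,1,2,3,7,2,3,2,0]) (.word [5,6,4,5,3,2])) (.word [4,3,7,5,2]))) (.node (.node (.node (.word [4,0,1,2,3,7,5,3,1,0]) (.word [8,5,4,1,2])) (.node (.word [7,6,4,5,1,0]) (.word [3,7,8,2,3,4,5,4,0,1,2])))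 (.node (.node (.word [3,7,2,3,0]) (.word [8,6,3,4,5,4,2])) (.word [5,6,4,5,2,3,0]))))) (.node (.node (.node (.node (.node (.word [8,2,3,7,4,5,1,2,3,4,0,1,2,3,7,3,1,0]) (.word [6,4,5,3,4,2,1,0])) (.node (.word [2,3,7,6,5,2,3,0]) (.word [7,8,6,4,5,2,3,4,1,2]))) (.node (.node (.word [8,6,5,4,3,7,4,1,0]) (.word [8,4,5,4,0,1,2,0])) (.word [7,6,5,2,0]))) (.node (.node (.node (.word [5,4,2,3,7,1,0]) (.word [8,4,0,1,2])) (.node (.word [7,5,4,0]) (.word [7,8,1,2,3,4,5,4,1,2]))) (.node (.node (.word [3,7,5,1,0]) (.word [7,8,5,3,4,0,1,2,0])) (.word [8,7,6,5,4,2])))) (.node (.node (.node (.node (.word [5,3,4,2,3,7,3,1,0]) (.word [5,3,0,1,2,0])) (.node (.word [5,4,3,7,3,4,5]) (.word [3,7,8,4,5,3,4,3,2]))) (.node (.node (.word [8,1,2,3,7,5,1,0]) (.word [6,3,4,5,0,1,2,0]))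 (.word [5,4,2,0]))) (.node (.node (.node (.word [3,7,8,6,5,4,2,3,7,4,1,0]) (.word [4,5,3,0,1,2,0])) (.word [3,7,1,2])) (.node (.node (.word [0,1,2,3,7,5,2,3,2,0]) (.word [1,2,3,4,5,1,2])) (.word [3,4,5,1,2,3,2])))))) (.node (.node (.node (.node (.node (.node (.word [7,6,4,5,2,3,4,1,2,3,7,3,1,0]) (.word [4,5,4,2,3,2,0])) (.node (.word [1,2,3,7,3,1,2,0]) (.word [7,1,2,3,4,5,1,2]))) (.node (.node (.word [5,4,2,3,7,3,4,5,3,1,0]) (.word [8,5,2,3,4,1,2,0])) (.word [3,7,6,5,0,1,2,1,0]))) (.node (.node (.node (.word [7,8,7,3,4,0,1,2,3,7,2,1,0]) (.word [3,7,4,5,4,3,2,0])) (.node (.word [0,1,2,3,7,6,5,2]) (.word [3,7,8,2,3,4,5,3,1,2,0]))) (.node (.node (.word [5,4,1,2,3,7,6,5,3]) (.word [7,8,6,3,4,5,3,4,2,1,0])) (.word [8,4,5,0])))) (.node (.node (.node (.node (.word [6,5,3,4,2,3,7,3,1,0])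 (.word [8,6,3,4,5,4,1,0])) (.node (.word [3,7,5,1,2,1,0]) (.word [8,7,2,3,4,5,4,3,2,0]))) (.node (.node (.word [8,5,4,3,7,0]) (.word [6,4,5,3,4,3,2,0])) (.word [4,1,2,0]))) (.node (.node (.node (.word [4,3,7,3,1,0]) (.word [8,2,3,4,5,4,0])) (.word [8,5,3,0])) (.node (.node (.word [6,5,4,3,7,6,4,5,3]) (.word [7,8,6,5,3,4,3,2,0])) (.word [3,4,3,2,0]))))) (.node (.node (.node (.node (.node (.word [8,7,5,1,2,3,4,0,1,2,3,7,3,1,0]) (.word [6,4,5,4,1,2,1,0])) (.node (.word [0,1,2,3,7,6,5,1,2,1,0]) (.word [7,8,7,3,4,5,3,4,2,0]))) (.node (.node (.word [2,3,4,1,2,3,7,3]) (.word [7,8,3,4,5,4,1,2,1,0])) (.word [6,5,2,3,0]))) (.node (.node (.node (.word [6,5,4,2,3,7,6,5,3,1,0]) (.word [5,6,3,4,5,4,2,1,0])) (.node (.word [1,2,3,2]) (.word [3,7,8,7,3,4,5,3,4,3,2,0]))) (.node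 (.node (.word [1,2,3,7,2,3,2]) (.word [8,4,5,2,3,4,0,1,2])) (.word [6,5,3,4,2,1,0])))) (.node (.node (.node (.node (.word [7,8,7,3,4,0,1,2,3,7,1,0]) (.word [7,8,4,5])) (.node (.word [1,2,3,7,6,5,1,2,3]) (.word [7,8,6,4,5,3,4,3,1,2,0]))) (.node (.node (.word [6,5,4,3,7,5,4,0]) (.word [7,8,1,2,3,4,5,2,1,0])) (.word [8,7,6,4,5,2,1,0]))) (.node (.node (.node (.word [8,7,2,3,4,0,1,2,3,7,1,2,3]) (.word [6,3,4,5,2])) (.word [4,1,2,3,2])) (.node (.node (.word [4,3,7,2,3,2]) (.word [7,8,7,2,3,4,5,2,0])) (.word [8,7,5,1,2]))))))))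

/-- A subtree. -/
def sub112 : WTree :=
  (.node (.node (.node (.node (.node (.node (.node (.node (.word [3,7,8,4,3,7,5,6,4,5,1,2,3,4,0,1,2,3,7,3,1,0]) (.word [8,1,2])) (.node (.word [8,2,3,7,6,5,1,0]) (.word [8,5,6,4,5,4,0,1,2]))) (.node (.node (.word [4,0,1,2,3,7,3]) (.word [1,2,3,4,5])) (.word [7,5,6,4,5,3,0]))) (.node (.node (.node (.word [6,5,4,0,1,2,3,7,5,3,1,0]) (.word [3,4,5,2])) (.node (.word [1,2,3,7,6,5,1,2,0]) (.word [3,7,8,6,2,3,4,5,3,2,0]))) (.node (.node (.word [6,5,4,3,7,3,4,5,1,0]) (.word [7,1,2,3,4,5,2,0])) (.word [7,6,5,1,2,0])))) (.node (.node (.node (.node (.word [6,5,2,3,4,0,1,2,3,7,3,1,0]) (.word [2,3,4,3,1,2])) (.node (.word [0,1,2,3,7,6,5,2,0]) (.word [7,8,2,3,4,5,3,4,2,0]))) (.node (.node (.word [0,1,2,3,7,0]) (.word [5,2,3,4,1,2]))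 (.word [7,3,4,5,3]))) (.node (.node (.node (.word [5,4,1,2,3,7,6,5,3,1,0]) (.word [8,7,4,5,4,1,2])) (.node (.word [8,7]) (.word [5,4,3,7,8,2,3,4,5,1,2,0]))) (.node (.node (.word [2,3,7]) (.word [4,3,7,8,5,4,2])) (.word [7,4,5,4,0,1,2,1,0]))))) (.node (.node (.node (.node (.node (.word [7,5,6,4,5,1,2,3,4,0,1,2,3,7,3,1,0]) (.word [7,5,4,3,1,2,0])) (.node (.word [2,3,7,3,2,0]) (.word [7,8,7,3,4,5,4,1,2,0]))) (.node (.node (.word [8,5,4,2,3,7,0]) (.word [3,4,5,4,3,2])) (.word [8,7,5]))) (.node (.node (.node (.word [5,3,4,0,1,2,3,7,3]) (.word [8,2,3,4,1,2,0])) (.node (.word [3,7,4,2,3,2]) (.word [2,3,7,8,6,4,5,3,4,3,2]))) (.node (.node (.word [8,5,4,3,7,4,0]) (.word [7,8,3,4,5,4,2,3,2])) (.word [6,5,2,3])))) (.node (.node (.node (.node (.word [6,5,1,2,3,4,0,1,2,3,7,3,0])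 (.word [7,6,4,5,1,2])) (.node (.word [7,2,0]) (.word [7,8,1,2,3,4,0,1,2]))) (.node (.node (.word [2,3,7,6,5,3,1,0]) (.word [7,8,3,4,5,1,2,3])) (.word [3,7,8,4,1,0]))) (.node (.node (.node (.word [8,4,1,2,3,7,1,0]) (.word [6,4,5,3,2])) (.word [3,4,2,3,7,5,1,2])) (.node (.node (.word [8,0,1,2,3,7]) (.word [7,8,2,3,4,5,2,3,2])) (.word [7,5,6,4,5])))))) (.node (.node (.node (.node (.node (.node (.word [8,7,5,6,4,5,3,4,1,2,3,7,3,1,0]) (.word [7,2,3,4,5])) (.node (.word [8,3,1,0]) (.word [7,8,3,4,5,4,3,2]))) (.node (.node (.word [7,3,4,2,3,7,1,2,3]) (.word [6,4,5,3,4,3,2])) (.word [3,7,6,4,5,4,0]))) (.node (.node (.node (.word [8,6,5,3,4,2,3,7,1,0]) (.word [1,2,3,4,5,3])) (.node (.word [1,2,3,7,6,5,0,1,2,1,0]) (.word [2,3,7,8,6,4,5,3,4,2,0]))) (.node (.node (.word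 [0,1,2,3,7,6,5,1,0]) (.word [8,5,6,4,5,0,1,2])) (.word [7,5,1,2])))) (.node (.node (.node (.node (.word [7,6,5,3,4,0,1,2,3,7,1,0]) (.word [7,2,3,4,5,4])) (.node (.word [8,4,3,7,5,4,0]) (.word [8,1,2,3,4,5,1,2]))) (.node (.node (.word [4,2,3,7,4,2,1,0]) (.word [6,4,5,3,4,2])) (.word [3,7,5,3,4,0,1,2,1,0]))) (.node (.node (.node (.word [6,5,4,0,1,2,3,7,6,5,3,0]) (.word [8,3,4,5,4])) (.node (.word [4,3,7,3,4,5]) (.word [3,7,8,6,1,2,3,4,5,0,1,2,0]))) (.node (.node (.word [8,6,5,4,3,7,5,4,0]) (.word [6,2,3,4,5,1,2])) (.word [6,3,4,5,0]))))) (.node (.node (.node (.node (.node (.word [7,6,4,5,3,4,0,1,2,3,7,3,1,0]) (.word [7,5,4,0,1,2])) (.node (.word [6,5,4,3,7,3,4,5,4,0]) (.word [7,8,4,5,3,4,1,2]))) (.node (.node (.word [5,4,2,3,7,6,5,1,0]) (.word [7,3,4,5,4,1,2,0]))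 (.word [8,6,5,1,0]))) (.node (.node (.node (.word [5,4,1,2,3,7,0]) (.word [8,4,5,4,0,1,2,1,0])) (.node (.word [5,4,2,3,7,4,5,4]) (.word [3,7,8,1,2,3,4,5,4,1,2,0]))) (.node (.node (.word [4,3,7,6,5,1,0]) (.word [8,5,6,4,5,4,1,2,0])) (.word [6,5,3,0,1,2])))) (.node (.node (.node (.node (.word [7,8,7,6,5,3,4,2,3,7,4,1,0]) (.word [3,4,5,1,2,0])) (.node (.word [3]) (.word [7,8,6,3,4,5,4,0,1,2,0]))) (.node (.node (.word [5,3,4,2,3,7,5,0]) (.word [8,7,3,4,5,1,2,0])) (.word [8,3,7,4,5,4]))) (.node (.node (.node (.word [6,5,4,3,7,6,5,3,1,0]) (.word [2,3,4,5,1,2,0])) (.word [3,7,6,5,2,3])) (.node (.node (.word [8,3,7,4,1,0]) (.word [7,8,3,4,5,3,1,2,0])) (.word [6,5,0,1,2,1,0]))))))) (.node (.node (.node (.node (.node (.node (.node (.word [7,8,3,7,4,5,2,3,4,1,2,3,7,3,1,0])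 (.word [3,7,3,4,5,2,0])) (.node (.word [4,3,7,4,5,0]) (.word [8,6,5,2,3,4,3,1,2,0]))) (.node (.node (.word [6,5,4,0,1,2,3,7,6,5,0]) (.word [8,4,5,4,3,2,0])) (.word [7,4,5,4,0]))) (.node (.node (.node (.word [7,8,7,3,4,1,2,3,7,2,1,0]) (.word [8,4,5,3,2,0])) (.node (.word [3,7,5,2,0]) (.word [3,7,8,7,3,4,5,3,4,2,0]))) (.node (.node (.word [2,3,4,1,2,3,7,2,3]) (.word [7,8,3,4,5,3,2,0])) (.word [8,7,4,5])))) (.node (.node (.node (.node (.word [6,4,5,3,4,1,2,3,7,5,3,1,0]) (.word [7,8,4,5,4,0])) (.node (.word [2,3,7,6,5,4,2,1,0]) (.word [4,3,7,8,6,5,3,4,1,2]))) (.node (.node (.word [4,0,1,2,3,7,5,3]) (.word [3,7,8,5,3,4,2,0])) (.word [7,3,1,2,0]))) (.node (.node (.node (.word [4,0,1,2,3,7,3,0]) (.word [3,7,4,5,4,1,2])) (.node (.word [7,4,5,0]) (.word [3,7,8,2,3,4,5,3,4,3,2])))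 (.node (.node (.word [8,1,2,3,7,6,5]) (.word [8,3,4,5,4,1,2])) (.word [8,4,5,4,2,1,0]))))) (.node (.node (.node (.node (.node (.word [7,5,6,4,5,3,4,2,3,7,3,1,0]) (.word [8,2,3,4,1,2,1,0])) (.node (.word [2,3,7,5,2,3]) (.word [7,8,6,4,5,3,4,0,1,2]))) (.node (.node (.word [3,4,2,3,7,2,3]) (.word [5,6,4,5,3,1,2,0])) (.word [7,6,5]))) (.node (.node (.node (.word [7,3,4,2,3,7,2,1,0]) (.word [7,4,5,4,0,1,2])) (.node (.word [7,8,7,4,1,0]) (.word [7,8,3,4,5,3,4,0,1,2]))) (.node (.node (.word [8,2,3,7,5,1,0]) (.word [3,4,5,3,4,0,1,2,0])) (.word [2,3,4,5,3,0])))) (.node (.node (.node (.node (.word [8,7,3,4,2,3,7,1,0]) (.word [3,7,4,5,0,1,2,0])) (.node (.word [4,3,7,5,6,4,5,1,0]) (.word [7,8,5,6,3,4,5,1,2]))) (.node (.node (.word [1,2,3,7,1,2,1,0]) (.word [8,4,5,0,1,2]))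 (.word [5,4]))) (.node (.node (.node (.word [3,4,2,3,7,2,3,0]) (.word [6,4,5,0,1,2,0])) (.word [1,2,3,7,5,0,1,2])) (.node (.node (.word [1,2,3,7,5,3]) (.word [7,8,2,3,4,5,0,1,2,1,0])) (.word [4,5,2,3,2])))))) (.node (.node (.node (.node (.node (.node (.word [8,7,4,5,2,3,4,1,2,3,7,3,1,0]) (.word [3,4,5,2,3,2,0])) (.node (.word [2,3,7,0,1,2,1,0]) (.word [7,0,1,2,3,4,5,2]))) (.node (.node (.word [5,4,3,7,4,5,3,1,0]) (.word [6,5,2,3,4,1,2,0])) (.word [7,8,2,1,0]))) (.node (.node (.node (.word [4,5,3,4,2,3,7,6,5,3,1,0]) (.word [7,8,6,5,1,2])) (.node (.word [0,1,2,3,7,6,5,1,2,0]) (.word [7,8,0,1,2,3,4,5,1,2,0]))) (.node (.node (.word [0,1,2,3,7,6,5,3,0]) (.word [8,6,5,3,4,0,1,2,0])) (.word [8,3,2,0])))) (.node (.node (.node (.node (.word [5,2,3,4,1,2,3,7,3,0]) (.word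 [2,3,4,5,4,0])) (.node (.word [8,3,7,5,2,1,0]) (.word [7,8,1,2,3,4,5,2]))) (.node (.node (.word [8,2,3,7,1,0]) (.word [7,8,3,4,5,4,2,0])) (.word [7,5,4,0,1,2,1,0]))) (.node (.node (.node (.word [4,2,3,7,1,0]) (.word [7,8,3,4,3,2,0])) (.word [8,2,3,0])) (.node (.node (.word [6,5,4,3,7,6,4,5,0]) (.word [7,8,6,4,5,3,4,2,0])) (.word [4,5,4,2,0]))))) (.node (.node (.node (.node (.node (.word [5,6,4,5,3,4,2,3,7,3,1,0]) (.word [8,5,4,1,2,0])) (.node (.word [0,1,2,3,7,0,1,2,0]) (.word [7,8,6,4,5,3,4,2]))) (.node (.node (.word [8,6,5,4,1,2,3,7,5]) (.word [8,5,6,4,5,4,1,2,1,0])) (.word [6,5,3]))) (.node (.node (.node (.word [6,5,4,3,7,1,0]) (.word [6,3,4,5,4,1,2,1,0])) (.node (.word [2,3,7,6,5,1,2,3]) (.word [4,3,7,8,2,3,4,5,3,2]))) (.node (.node (.word [2,3,7,6,4,5,3,1,0])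 (.word [8,6,4,5,3,4,0,1,2])) (.word [5,3,4,1,2,1,0])))) (.node (.node (.node (.node (.word [1,2,3,4,0,1,2,3,7,3,1,0]) (.word [8,2,3,4,5,2,1,0])) (.node (.word [3,7,6,4,5,3,0]) (.word [3,7,8,2,3,4,5,4,1,2,0]))) (.node (.node (.word [7,8,6,5,4,3,7,4,1,0]) (.word [5,6,4,5,3,4,1,2])) (.word [7,4,5,2,3,2]))) (.node (.node (.node (.word [4,3,7,8,5,4,2,3,7,4,1,0]) (.word [8,1,2,3,4,5,2,1,0])) (.word [3,7,6,5,3,4,2,1,0])) (.node (.node (.word [5,4,3,7,3,4,5,4,1,0]) (.word [7,1,2,3,4,5,3,2,0])) (.word [6,3,4,5,2,1,0]))))))))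

/-- A subtree. -/
def sub113 : WTree :=
  (.node (.node (.node (.node (.node (.node (.node (.node (.word [8,3,7,5,6,4,5,2,3,4,1,2,3,7,3,1,0]) (.word [7,6,5,1,2])) (.node (.word [8,5,4,3,7,4,5,0]) (.word [1,2,3,7,8,4,1,2]))) (.node (.node (.word [3,4,0,1,2,3,7,2,3]) (.word [2,3,4,5,3,2,0])) (.word [6,3,4,5,3,1,0]))) (.node (.node (.node (.word [7,8,7,3,4,2,3,7,1,0]) (.word [6,3,4,5,2,0])) (.node (.word [8,2,3,7,6,5,0]) (.word [7,8,6,3,4,5,3,4,2]))) (.node (.node (.word [8,6,5,4,2,3,7,5]) (.word [7,8,6,3,4,5,2,0])) (.word [7,5,6,4,5,2,1,0])))) (.node (.node (.node (.node (.word [7,2,3,4,1,2,3,7,3,1,0]) (.word [6,3,4,5])) (.node (.word [2,3,7,5,3,4,2,1,0]) (.word [3,7,8,4,5,3,4,3,2,0]))) (.node (.node (.word [4,0,1,2,3,7,5,0]) (.word [3,7,8,5,4,2])) (.word [3,7,5,0,1,2,0])))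 (.node (.node (.node (.word [8,7,3,4,0,1,2,3,7,1,2,3]) (.word [5,6,4,5,2])) (.node (.word [7,8,7,5,1,0]) (.word [3,7,8,1,2,3,4,5,3,1,2,0]))) (.node (.node (.word [8,4,2,3,7,5,0]) (.word [4,3,7,8,5,3,4,2,0])) (.word [8,4,1,2,0]))))) (.node (.node (.node (.node (.node (.word [8,7,4,5,3,4,1,2,3,7,3,1,0]) (.word [7,5,2,3,4,0,1,2,1,0])) (.node (.word [4,2,3,7,6,5]) (.word [8,3,4,5,3,4,3,1,2,0]))) (.node (.node (.word [4,2,3,7,3]) (.word [7,6,4,5,4,0,1,2])) (.word [8,7,6,4,5,1,0]))) (.node (.node (.node (.word [6,5,3,4,1,2,3,7,3]) (.word [7,5,6,4,5,1,2])) (.node (.word [3,7,6,5,4,2,1,0]) (.word [7,8,1,2,3,4,5,0,1,2]))) (.node (.node (.word [4,2,3,7,1,2,3]) (.word [7,8,3,4,0,1,2])) (.word [8,4,5,2,3,0])))) (.node (.node (.node (.node (.word [5,2,3,4,0,1,2,3,7,3,0])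 (.word [8,6,5,2,3,2])) (.node (.word [8,5,4,3,7,4,5]) (.word [7,8,6,5,3,4,0,1,2]))) (.node (.node (.word [4,2,3,7,6,4,5,3,1,0]) (.word [1,2,3,4,5,2,3,2])) (.word [7,8,4,0]))) (.node (.node (.node (.word [4,2,3,7,3,0]) (.word [3,7,8,6,4,5,2,1,0])) (.word [3,7,3,1,2,0])) (.node (.node (.word [0,1,2,3,7,3,2,0]) (.word [6,2,3,4,5,0,1,2,0])) (.word [4,5,1,2,3])))))) (.node (.node (.node (.node (.node (.node (.word [8,3,7,6,4,5,1,2,3,4,0,1,2,3,7,3,1,0]) (.word [8,4,5,2,3])) (.node (.word [3,7,6,4,5,3,1,0]) (.word [8,4,5,3,4,0,1,2]))) (.node (.node (.word [5,4,3,7,0]) (.word [5,6,4,5,0,1,2])) (.word [3,7,6,5,1,2,3]))) (.node (.node (.node (.word [6,5,4,1,2,3,7,5,1,0]) (.word [8,3,4,5,2,3,2,0])) (.node (.word [0,1,2,3,7,6,5,1,2,3]) (.word [7,8,5,6,3,4,5,0,1,2,0]))) (.node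 (.node (.word [4,0,1,2,3,7,5]) (.word [8,6,5,2,3,4,1,2,0])) (.word [8,5])))) (.node (.node (.node (.node (.word [4,5,3,4,2,3,7,3,1,0]) (.word [4,5,3,4,2,0])) (.node (.word [3,7,4,5,4,1,0]) (.word [3,7,8,2,3,4,5,1,2,0]))) (.node (.node (.word [5,4,3,7,4,0]) (.word [8,5,6,4,5,4,2,0])) (.word [8,3,4,2,1,0]))) (.node (.node (.node (.word [4,3,7,8,7,5,3,4,2,3,7,4,1,0]) (.word [8,3,4,5,4,2,0])) (.node (.word [7,4,5,3]) (.word [3,7,8,0,1,2,3,4,5,3,1,2,0]))) (.node (.node (.word [8,6,5,4,3,7,4,5,0]) (.word [2,3,4,5,3,4,3,2,0])) (.word [3,4,2]))))) (.node (.node (.node (.node (.node (.word [7,5,2,3,4,1,2,3,7,3,1,0]) (.word [4,5,4,0,1,2,1,0])) (.node (.word [6,5,4,3,7,3,4,5]) (.word [7,8,7,3,4,5,4,2]))) (.node (.node (.word [8,6,5,4,2,3,7]) (.word [8,6,5,3,4,1,2,0])) (.word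 [7,3,4,5,0]))) (.node (.node (.node (.word [3,4,2,3,7,3,0]) (.word [6,5,3,4,1,2,0])) (.node (.word [4,3,7,3,4,5,4,0]) (.word [3,7,8,5,6,4,5,3,4,3,2,0]))) (.node (.node (.word [4,3,7,5,3]) (.word [6,4,5,3,4,3,1,2,0])) (.word [7,2,3,4,0,1,2,1,0])))) (.node (.node (.node (.node (.word [6,5,4,1,2,3,7,1,0]) (.word [5,6,4,5,1,2,1,0])) (.node (.word [7,6,4,5,3,1,0]) (.word [8,6,2,3,4,5,4,1,2]))) (.node (.node (.word [1,2,3,7,2,3,2,0]) (.word [3,4,5,4,3,1,2,0])) (.word [7,6,3,4,5,4,1,0]))) (.node (.node (.node (.word [6,5,4,2,3,7]) (.word [8,5,6,4,5,1,2,1,0])) (.word [4,0,1,2,3,7,5,0,1,2,0])) (.node (.node (.word [8,5,4,3,7,4]) (.word [7,8,6,3,4,5,2])) (.word [4,3,1,2,0]))))))) (.node (.node (.node (.node (.node (.node (.node (.word [4,3,7,5,6,4,5,1,2,3,4,0,1,2,3,7,3,1,0])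 (.word [8,5,3,2,0])) (.node (.word [3,7,5,3]) (.word [7,8,6,5,2,3,4,0,1,2]))) (.node (.node (.word [3,7,8,3,4,2,3,7,4,1,0]) (.word [2,3,7,8,5,4,2])) (.word [8,4,3,7,4,5,4]))) (.node (.node (.node (.word [5,4,1,2,3,7,5,3,1,0]) (.word [5,6,4,5,4,2])) (.node (.word [1,2,3,7,5,0,1,2,0]) (.word [8,0,1,2,3,4,5,3,1,2,0]))) (.node (.node (.word [0,1,2,3,7,5,2,1,0]) (.word [8,4,5,2,3,4,1,2])) (.word [8,7,6,4,5,0])))) (.node (.node (.node (.node (.word [6,5,1,2,3,4,0,1,2,3,7,3,1,0]) (.word [6,5,4,2])) (.node (.word [7,4,0]) (.word [7,8,6,3,4,5,0,1,2,0]))) (.node (.node (.word [6,5,3,4,0,1,2,3,7,5]) (.word [8,6,5,4,1,2])) (.word [3,7,6,5,3,2,0]))) (.node (.node (.node (.word [5,3,4,1,2,3,7,3]) (.word [8,4,5,4,2])) (.node (.word [8,4,3,7,4,5]) (.word [4,3,7,8,3,4,5,3,4,1,2])))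 (.node (.node (.word [1,2,3,7,6,5,2,3,0]) (.word [7,8,3,4,5,4,2])) (.word [4,3,0,1,2]))))) (.node (.node (.node (.node (.node (.word [3,7,4,5,1,2,3,4,0,1,2,3,7,3,1,0]) (.word [7,4,5,4,3,2])) (.node (.word [4,3,7,4,2,3,2,0]) (.word [3,7,8,4,5,4,1,2]))) (.node (.node (.word [6,5,4,2,3,7,6,5,4,1,0]) (.word [5,3,4,3,0,1,2,0])) (.word [7,6,4,5,0]))) (.node (.node (.node (.word [5,3,4,2,3,7,4,5,3,1,0]) (.word [6,5,4,0,1,2,0])) (.node (.word [7,6,5,4,1,0]) (.word [3,7,8,3,4,5,3,4,0,1,2,0]))) (.node (.node (.word [8,5,4,3,7,4,5,1,0]) (.word [8,6,4,5,3,4,1,2,0])) (.word [4,3,7,5,1,2])))) (.node (.node (.node (.node (.word [7,3,4,1,2,3,7,1,0]) (.word [6,4,5,0,1,2,1,0])) (.node (.word [3,7,4,5,0]) (.word [8,3,4,5,3,4,0,1,2]))) (.node (.node (.word [1,2,3,7,5,0]) (.word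 [8,3,4,5,0,1,2,0])) (.word [4,5,4,0]))) (.node (.node (.node (.word [8,6,5,4,3,7,1,0]) (.word [8,6,4,5,0,1,2,1,0])) (.word [3,7,5,2])) (.node (.node (.word [8,4,3,7,4,2,1,0]) (.word [0,1,2,3,4,5,1,2,0])) (.word [0,1,2])))))) (.node (.node (.node (.node (.node (.node (.word [3,7,8,2,3,7,6,4,5,1,2,3,4,0,1,2,3,7,3,1,0]) (.word [6,5,4,3,2])) (.node (.word [8,2,3,7,5,0]) (.word [7,8,4,5,3,4,0,1,2,0]))) (.node (.node (.word [8,4,1,2,3,7,2,1,0]) (.word [6,5,3,4,0,1,2,0])) (.word [7,6,5,1,2,1,0]))) (.node (.node (.node (.word [8,5,3,4,0,1,2,3,7,1,0]) (.word [2,3,4,0,1,2,0])) (.node (.word [4,0,1,2,3,7,5,3,2,0]) (.word [7,8,7,6,3,4,5,4,3,2,0]))) (.node (.node (.word [2,3,7,4,2,1,0]) (.word [5,6,3,4,5,1,2])) (.word [8,3,4,5,1,0])))) (.node (.node (.node (.node (.word [6,5,4,1,2,3,7,3,1,0])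 (.word [8,6,3,4,5,4])) (.node (.word [8,3,7]) (.word [7,8,6,3,4,5,4,3,2,0]))) (.node (.node (.word [5,4,3,7,5,0]) (.word [7,8,5,3,4,3,2,0])) (.word [8,4,1,2,1,0]))) (.node (.node (.node (.word [4,2,3,7,5,3,1,0]) (.word [8,1,2,3,4,5,4,1,0])) (.word [8,6,5,3,1,0])) (.node (.node (.word [0,1,2,3,7,1,2,3]) (.word [7,8,2,3,4,5,1,2,3])) (.word [3,4,5,4,0]))))) (.node (.node (.node (.node (.node (.word [8,7,5,3,4,0,1,2,3,7,3,1,0]) (.word [5,6,4,5,4,2,1,0])) (.node (.word [8,0,1,2,3,7,5,2,0]) (.word [8,1,2,3,4,5,0,1,2,0]))) (.node (.node (.word [7,2,3,4,0,1,2,3,7,1,2,3]) (.word [8,6,2,3,4,5,4,2,1,0])) (.word [8,2,3,2,0]))) (.node (.node (.node (.word [8,6,5,4,1,2,3,7,0]) (.word [1,2,3,4,5,4,2,1,0])) (.node (.word [7,1,2,0]) (.word [3,7,8,1,2,3,4,5,0,1,2,0]))) (.node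 (.node (.word [1,2,3,7,1,2,0]) (.word [1,2,3,7,8,4,2])) (.word [7,4,5,4,2,3,2])))) (.node (.node (.node (.node (.word [3,4,0,1,2,3,7,3,1,0]) (.word [7,8,4,5,2,0])) (.node (.word [3,4,1,2,3,7,5,1,2]) (.word [3,7,8,6,4,5,3,4,0,1,2]))) (.node (.node (.word [8,6,5,4,3,7,5,0]) (.word [2,3,4,5,1,2])) (.word [7,0,1,2]))) (.node (.node (.node (.word [8,4,0,1,2,3,7,1,0]) (.word [5,6,3,4,5,2,0])) (.word [7,5,4,1,2,1,0])) (.node (.node (.word [3,7,1,2,1,0]) (.word [7,8,6,3,4,5,3,2,0])) (.word [5,6,3,4,5]))))))))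

/-- A subtree. -/
def sub114 : WTree :=
  (.node (.node sub110 sub111) (.node sub112 sub113))

/-- A subtree. -/
def sub115 : WTree :=
  (.node (.node (.node (.node (.node (.node (.node (.node (.word [2,3,7,8,4,3,7,5,6,4,5,2,3,4,1,2,3,7,3,1,0]) (.word [3,7,4,5,2])) (.node (.word [2,3,7,6,5,2,1,0]) (.word [8,1,2,3,4,5,3,2,0]))) (.node (.node (.word [8,5,4,0,1,2,3,7,0]) (.word [8,6,5,1,2])) (.word [7,4,5,4,2,1,0]))) (.node (.node (.node (.word [2,3,4,0,1,2,3,7,3,0]) (.word [4,5,1,2])) (.node (.word [3,7,1,2,0]) (.word [3,7,8,3,4,5,4,1,2]))) (.node (.node (.word [8,5,4,2,3,7,6,5,1,0]) (.word [3,7,8,3,4,5,2,0])) (.word [7,4,5,0,1,2,1,0])))) (.node (.node (.node (.node (.word [7,5,2,3,4,0,1,2,3,7,3,1,0]) (.word [2,3,4,5,4,2,1,0])) (.node (.word [1,2,3,7,2]) (.word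 [7,0,1,2,3,4,5,1,2,0]))) (.node (.node (.word [4,0,1,2,3,7,1,2,1,0]) (.word [8,1,2,3,4,5,4,2,1,0])) (.word [8,4,5,3,0]))) (.node (.node (.node (.word [6,5,4,1,2,3,7,5,0]) (.word [5,6,4,5,1,2,3])) (.node (.word [3,7,6,5,1,2,1,0]) (.word [3,7,8,1,2,3,4,5,3,4,2,0]))) (.node (.node (.word [8,4,2,3,7]) (.word [7,8,2,3,4,1,2])) (.word [6,2,3,4,5,1,0]))))) (.node (.node (.node (.node (.node (.word [2,3,7,5,6,4,5,1,2,3,4,0,1,2,3,7,3,1,0]) (.word [8,7,6,5,4,1,2])) (.node (.word [8,1,2,3,7,6,5,0]) (.word [8,1,2,3,4,5,4,2]))) (.node (.node (.word [8,4,1,2,3,7,0]) (.word [8,6,3,4,5,3,4,2,1,0])) (.word [7,6,4,5,2,1,0]))) (.node (.node (.node (.word [5,4,0,1,2,3,7,3,0]) (.word [6,5,3,4,0,1,2,1,0])) (.node (.word [4,3,7,3,4,0,1,2,1,0]) (.word [3,7,8,7,2,3,4,5,3,2,0]))) (.node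 (.node (.word [8,2,3,7,4,1,0]) (.word [3,4,5,3,4,3,2])) (.word [8,7,3,4,5,4])))) (.node (.node (.node (.node (.word [5,6,4,5,3,4,2,3,7,4,5,3,1,0]) (.word [7,0,1,2,3,4,5,4,1,0])) (.node (.word [8,7,5,1,0]) (.word [7,8,2,3,4,5,4,3,2,0]))) (.node (.node (.word [4,2,3,7,6,5,1,0]) (.word [8,5,6,4,5,2,3,2])) (.word [6,5,4,2,1,0]))) (.node (.node (.node (.word [3,4,2,3,7,6,5,3,1,0]) (.word [6,3,4,5,1,2,3])) (.word [7,3,4,5,3,0])) (.node (.node (.word [0,1,2,3,7,0,1,2,1,0]) (.word [1,2,3,4,5,3,2])) (.word [5,6,4,5,4,1,0])))))) (.node (.node (.node (.node (.node (.node (.word [8,7,5,6,4,5,2,3,4,0,1,2,3,7,3,1,0]) (.word [8,6,4,5,0])) (.node (.word [3,0]) (.word [1,2,3,4,5,0,1,2]))) (.node (.node (.word [4,3,7,8,5,3,4,2,3,7,4,1,0]) (.word [7,8,3,4,5,2,3])) (.word [4,2,3,7,4,5,4])))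 (.node (.node (.node (.word [2,3,4,1,2,3,7,2,3,0]) (.word [7,6,4,5,4,3,2,0])) (.node (.word [2,3,7,6,5,2,3]) (.word [7,8,6,3,4,5,3,4,3,2,0]))) (.node (.node (.word [8,0,1,2,3,7,5,1,0]) (.word [8,6,4,5,3,4,3,2])) (.word [7,8,5,0])))) (.node (.node (.node (.node (.word [7,5,3,4,0,1,2,3,7,3,1,0]) (.word [8,3,4,2])) (.node (.word [4,1,0]) (.word [3,7,8,3,4,5,1,2]))) (.node (.node (.word [5,4,0,1,2,3,7,6,5,0]) (.word [6,3,4,5,4,2])) (.word [7,8,7,6,5]))) (.node (.node (.node (.word [6,5,4,0,1,2,3,7]) (.word [4,5,3,4,2])) (.node (.word [4,2,3,7,4,5]) (.word [4,3,7,8,2,3,4,5,4,1,2]))) (.node (.node (.word [4,2,3,7,6,5,3]) (.word [7,8,6,5,3,4,2])) (.word [7,8,4]))))) (.node (.node (.node (.node (.node (.word [5,6,4,5,1,2,3,4,0,1,2,3,7,3,1,0]) (.word [8,4,3,2])) (.node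 (.word [8,6,5,4,3,7,4,5,4,0]) (.word [4,3,7,8,5,3,4,2]))) (.node (.node (.word [8,6,5,4,2,3,7,6,5,1,0]) (.word [5,6,4,5,4,0,1,2,1,0])) (.word [8,5,0]))) (.node (.node (.node (.word [7,8,3,4,1,2,3,7,2,1,0]) (.word [3,4,3,0,1,2,0])) (.node (.word [8,5,4,3,7,4,5,4]) (.word [3,7,8,7,2,3,4,5,4,1,2,0]))) (.node (.node (.word [5,4,3,7,5]) (.word [8,1,2,3,4,5,4])) (.word [3,7,6,5,0,1,2,0])))) (.node (.node (.node (.node (.word [3,4,1,2,3,7,3,1,0]) (.word [8,6,5,0,1,2,1,0])) (.node (.word [5,4,3,7,6,4,5,4,0]) (.word [8,0,1,2,3,4,5,4,2]))) (.node (.node (.word [8,5,4,2,3,7,5,0]) (.word [6,2,3,4,5,0,1,2,1,0])) (.word [8,7,3,4,5,4,1,0]))) (.node (.node (.node (.word [6,5,4,3,7,5,1,0]) (.word [7,3,4,5,1,2,0])) (.word [3,7,5,3,2,0])) (.node (.node (.word [3,7,4,2,1,0]) (.word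 [2,3,4,5,4,3,1,2,0])) (.word [5,0,1,2,0]))))))) (.node (.node (.node (.node (.node (.node (.node (.word [7,8,3,7,5,6,4,5,1,2,3,4,0,1,2,3,7,3,1,0]) (.word [8,5,2])) (.node (.word [5,4,3,7,5,6,4,5,1,0]) (.word [2,3,7,8,5,4,1,2]))) (.node (.node (.word [8,6,5,4,0,1,2,3,7,5,0]) (.word [8,3,4,5,3,2,0])) (.word [7,5,4]))) (.node (.node (.node (.word [5,3,4,2,3,7,1,0]) (.word [3,4,5,3,2,0])) (.node (.word [1,2,3,7,5,1,2]) (.word [7,8,5,6,4,5,3,4,2]))) (.node (.node (.word [5,3,4,1,2,3,7,5]) (.word [8,1,2,3,4,5,2,0])) (.word [8,4,5,2,1,0])))) (.node (.node (.node (.node (.word [7,6,5,3,4,2,3,7,3,1,0]) (.word [6,2,3,4,5,0])) (.node (.word [8,2,3,7,5,4,2,1,0]) (.word [3,7,8,2,3,4,5,1,2,3]))) (.node (.node (.word [0,1,2,3,7,3]) (.word [8,5,6,4,5,2])) (.word [2,3,7,6,5,0,1,2,0])))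 (.node (.node (.node (.word [8,3,4,0,1,2,3,7,1,0]) (.word [4,5,3,4,3,1,2])) (.node (.word [7,5]) (.word [3,7,8,7,2,3,4,5,4,3,2,0]))) (.node (.node (.word [5,3,4,2,3,7,5]) (.word [7,3,4,5,4,1,2])) (.word [6,5,4,1,2,1,0]))))) (.node (.node (.node (.node (.node (.word [8,7,6,4,5,3,4,2,3,7,3,1,0]) (.word [7,6,5,3,4,0,1,2,1,0])) (.node (.word [8,5,4,3,7,6,5,0]) (.word [7,8,4,5,3,4,3,1,2,0]))) (.node (.node (.word [1,2,3,7,5,3,0]) (.word [5,3,4,0,1,2])) (.word [7,8,5,1,0]))) (.node (.node (.node (.word [7,3,4,2,3,7,4,1,0]) (.word [8,5,4,3,2])) (.node (.word [7,5,6,4,5,3,1,0]) (.word [3,7,8,3,4,5,3,4,3,2]))) (.node (.node (.word [4,3,7,1,2,1,0]) (.word [8,5,6,4,5,3,1,2,0])) (.word [4,5,2,3,2,0])))) (.node (.node (.node (.node (.word [6,5,4,0,1,2,3,7,3,1,0]) (.word [5,6,3,4,5,2,1,0]))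 (.node (.word [8,4,3,7,4,5,0]) (.word [7,8,6,5,2,3,4,1,2]))) (.node (.node (.word [2,3,4,1,2,3,7,1,2,3]) (.word [3,7,8,6,3,4,5,2,1,0])) (.word [7,4,1,2]))) (.node (.node (.node (.word [5,4,2,3,7,3]) (.word [3,7,8,3,4,5,2,1,0])) (.word [2,3,7,5,3,1,2,0])) (.node (.node (.word [4,0,1,2,3,7,6,5]) (.word [8,2,3,4,5,0,1,2,0])) (.word [7,4,5,3,2])))))) (.node (.node (.node (.node (.node (.node (.word [8,3,7,4,5,2,3,4,0,1,2,3,7,3,1,0]) (.word [2,3,4,5,3])) (.node (.word [1,2,3,7,5,1,2,3]) (.word [0,1,2,3,4,5,4,2]))) (.node (.node (.word [4,3,7,3,0]) (.word [8,1,2,3,4,0,1,2,1,0])) (.word [2,3,2]))) (.node (.node (.node (.word [6,5,4,1,2,3,7,6,5,3,1,0]) (.word [8,6,4,5,2,3,2,0])) (.node (.word [0,1,2,3,7,0,1,2]) (.word [3,7,8,2,3,4,5,0,1,2,0]))) (.node (.node (.word [1,2,3,7,3])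 (.word [7,8,5,2,3,4,1,2,0])) (.word [4,5,2,0])))) (.node (.node (.node (.node (.word [7,5,3,4,1,2,3,7,1,0]) (.word [8,3,4,3,2,0])) (.node (.word [5,4,1,2,3,7,3,4,5]) (.word [4,2,3,7,8,4,5,3,4,2]))) (.node (.node (.word [3,4,2,3,7,1,2,3]) (.word [1,2,3,4,5,4,2,0])) (.word [4,2,3,2]))) (.node (.node (.node (.word [5,4,2,3,7,4,1,0]) (.word [4,5,3,4,3,2,0])) (.node (.word [8,3]) (.word [4,3,7,8,5,6,2,3,4,5,1,2]))) (.node (.node (.word [6,5,4,3,7,5,6,4,5,1,0]) (.word [6,3,4,5,3,4,3,2,0])) (.word [4,5,4]))))) (.node (.node (.node (.node (.node (.word [7,6,4,5,3,4,2,3,7,3,1,0]) (.word [3,7,4,5,4,1,2,0])) (.node (.word [5,4,3,7,6,4,5,3]) (.word [7,8,6,3,4,5,4,2]))) (.node (.node (.word [6,5,3,4,1,2,3,7,5]) (.word [7,8,5,3,4,1,2,0])) (.word [7,6,5,2,3]))) (.node (.node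 (.node (.word [4,3,7,8,7,6,5,3,4,2,3,7,4,1,0]) (.word [8,5,3,4,1,2,0])) (.node (.word [3,7,3,4,5,4,1,0]) (.word [3,7,8,3,4,5,3,4,1,2]))) (.node (.node (.word [4,3,7,6,5,3,0]) (.word [8,6,5,3,4,3,1,2,0])) (.word [3,7,6,5,3,4,0,1,2,1,0])))) (.node (.node (.node (.node (.word [6,5,3,4,1,2,3,7,6,5,3,1,0]) (.word [2,3,4,5,1,2,1,0])) (.node (.word [8,5,3,1,0]) (.word [7,8,7,3,4,5,3,4,1,2,0]))) (.node (.node (.word [4,2,3,7,6,5,3,0]) (.word [0,1,2,3,4,5])) (.word [7,6,5,1,2,3]))) (.node (.node (.node (.word [6,5,4,1,2,3,7,6,5,0]) (.word [1,2,3,4,5,1,2,1,0])) (.word [3,7,3,4,0,1,2,1,0])) (.node (.node (.word [8,4,3,7,5,4,1,0]) (.word [7,8,5,6,3,4,5,2,0])) (.word [6,4,5,1,2,1,0]))))))))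

/-- A subtree. -/
def sub116 : WTree :=
  (.node (.node (.node (.node (.node (.node (.node (.node (.word [8,4,3,7,5,6,4,5,2,3,4,1,2,3,7,3,1,0]) (.word [7,8,4,5,0])) (.node (.word [3,7,5,0]) (.word [8,5,6,4,5,3,4,3,2]))) (.node (.node (.word [5,4,1,2,3,7,3]) (.word [7,3,4,5,3,2,0])) (.word [8,3,7,5,4]))) (.node (.node (.node (.word [4,5,3,4,0,1,2,3,7,6,5,3,1,0]) (.word [8,6,4,5])) (.node (.word [8,2,3,7,2]) (.word [7,8,7,3,4,5,4,1,2]))) (.node (.node (.word [6,5,4,3,7,6,5,3]) (.word [7,3,4,5,4,3,2,0])) (.word [8,1,2,0])))) (.node (.node (.node (.node (.word [7,4,5,3,4,2,3,7,3,1,0]) (.word [4,3,0,1,2,0])) (.node (.word [1,2,3,7,6,5,3]) (.word [3,7,8,3,4,5,3,4,2,0]))) (.node (.node (.word [8,5,4,0,1,2,3,7,5,0]) (.word [6,1,2,3,4,5])) (.word [3,7,6,5,4,2,3,2,0])))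 (.node (.node (.node (.word [4,5,3,4,2,3,7,6,4,5,3,1,0]) (.word [6,2,3,4,5])) (.node (.word [8,7,5,0]) (.word [3,7,8,1,2,3,4,5,3,2]))) (.node (.node (.word [1,2,3,7,5,2,0]) (.word [8,5,6,3,4,5,2])) (.word [8,4,0,1,2,1,0]))))) (.node (.node (.node (.node (.node (.word [8,7,6,4,5,3,4,0,1,2,3,7,3,1,0]) (.word [3,7,4,5,3,2,0])) (.node (.word [1,2,3,7,6,5,2,0]) (.word [7,8,6,3,4,5,4,1,2,0]))) (.node (.node (.word [5,4,2,3,7]) (.word [8,5,3,4,3,2])) (.word [3,1,2]))) (.node (.node (.node (.word [6,5,4,0,1,2,3,7,5,1,0]) (.word [8,6,5,3,4,1,2,1,0])) (.node (.word [3,7,4,0,1,2,1,0]) (.word [2,3,7,8,5,2,3,4,1,2]))) (.node (.node (.word [5,4,3,7,4]) (.word [8,4,5,4,0,1,2])) (.word [3,4,5,3])))) (.node (.node (.node (.node (.word [7,5,3,4,0,1,2,3,7,1,0]) (.word [6,5,3,2]))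 (.node (.word [3,7,6,5,0]) (.word [2,3,7,8,2,3,4,1,2]))) (.node (.node (.word [4,3,7,5,3,0]) (.word [7,3,4,5,1,2])) (.word [7,8,7,4]))) (.node (.node (.node (.word [8,5,4,1,2,3,7,0]) (.word [8,6,5,3,2])) (.word [3,7,0,1,2,0])) (.node (.node (.word [8,0,1,2,3,7,6,5,1,0]) (.word [8,3,4,5,0,1,2])) (.word [6,3,4,5,4])))))) (.node (.node (.node (.node (.node (.node (.word [7,8,2,3,7,6,4,5,1,2,3,4,0,1,2,3,7,3,1,0]) (.word [3,7,2,3,4,5,0])) (.node (.word [4,3,7,6,5,3]) (.word [6,3,4,5,4,0,1,2]))) (.node (.node (.word [8,4,2,3,7,1,0]) (.word [8,2,3,4,5,2,3,2,0])) (.word [1,2,3,7,3,4,5]))) (.node (.node (.node (.word [6,5,4,2,3,7,5,3,1,0]) (.word [2,3,7,8,5,4,2,0])) (.node (.word [6,5,4,3,7,5,6,4,5]) (.word [4,3,7,8,5,2,3,4,0,1,2]))) (.node (.node (.word [5,4,0,1,2,3,7,6,5])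 (.word [8,1,2,3,4,0,1,2,0])) (.word [5,2])))) (.node (.node (.node (.node (.word [6,5,2,3,4,0,1,2,3,7,3,0]) (.word [6,4,5,4,2,0])) (.node (.word [4,3,7,5,4]) (.word [8,0,1,2,3,4,5,1,2,0]))) (.node (.node (.word [4,3,7,4,1,0]) (.word [7,8,5,3,4,2])) (.word [3,4,1,2,1,0]))) (.node (.node (.node (.word [7,8,7,3,4,2,3,7,4,2,1,0]) (.word [5,6,4,5,4,2,0])) (.node (.word [3,7,6,4,5,0]) (.word [2,3,7,8,2,3,4,5,3,4,2]))) (.node (.node (.word [6,5,4,3,7,4,5,4,0]) (.word [8,6,3,4,5,3,4,2,0])) (.word [7,5,4,1,2]))))) (.node (.node (.node (.node (.node (.word [5,6,4,5,3,4,0,1,2,3,7,3,1,0]) (.word [7,6,5,4,0,1,2,0])) (.node (.word [8,6,5,4,3,7,4,5]) (.word [8,7,3,4,5,4,1,2]))) (.node (.node (.word [6,5,4,3,7,6,5,3,0]) (.word [6,3,4,5,4,1,2,0])) (.word [2,3,7,4,5]))) (.node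 (.node (.node (.word [1,2,3,7,3,1,0]) (.word [6,1,2,3,4,5,4])) (.node (.word [4,3,7,6,5,4]) (.word [3,7,8,3,4,5,3,4,3,1,2,0]))) (.node (.node (.word [3,7,5,3,0]) (.word [8,2,3,4,5,4,1,2,0])) (.word [7,4,5,3,2,0])))) (.node (.node (.node (.node (.word [6,5,3,4,2,3,7,1,0]) (.word [8,6,5,1,2,0])) (.node (.word [2,3,0]) (.word [7,8,3,4,5,3,4,0,1,2,0]))) (.node (.node (.word [4,1,2,3,7,6,5,0]) (.word [6,2,3,4,5,1,2,0])) (.word [3,7,6,4,5,4]))) (.node (.node (.node (.word [6,5,4,2,3,7,3,4,5,3,1,0]) (.word [8,6,5,3,1,2,0])) (.word [7,4,2,3,2,0])) (.node (.node (.word [3,7,4,0]) (.word [8,5,6,4,5,3,4,1,2])) (.word [7,6,4,5,1,2,0]))))))) (.node (.node (.node (.node (.node (.node (.node (.word [3,7,5,6,4,5,2,3,4,1,2,3,7,3,1,0]) (.word [3,4,5,2,0])) (.node (.word [3,7,4,5,1,0])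 (.word [8,6,5,3,4,0,1,2]))) (.node (.node (.word [6,5,4,0,1,2,3,7,6,5,3]) (.word [8,0,1,2,3,4,5,1,0])) (.word [8,4,0]))) (.node (.node (.node (.word [3,4,1,2,3,7,1,0]) (.word [1,2,3,4,5,0])) (.node (.word [2,3,7,6,5,2,0]) (.word [7,8,1,2,3,4,5,0,1,2,0]))) (.node (.node (.word [4,0,1,2,3,7,1,2,3]) (.word [5,6,4,5,4,0,1,2])) (.word [8,7,4,5,2,0])))) (.node (.node (.node (.node (.word [5,6,4,5,3,4,1,2,3,7,6,5,3,1,0]) (.word [5,4,1,2])) (.node (.word [8,4,3,7,4]) (.word [7,8,3,4,5,0,1,2]))) (.node (.node (.word [4,0,1,2,3,7,2,3]) (.word [7,8,3,4,1,2])) (.word [3,7,6,5,2]))) (.node (.node (.node (.word [5,4,0,1,2,3,7,5,3,0]) (.word [6,5,4,1,2])) (.node (.word [8,0]) (.word [1,2,3,7,8,4,5,3,4,3,2]))) (.node (.node (.word [2,3,7,5,3]) (.word [6,3,4,5,3,4,2])) (.word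 [5,6,4,5,3]))))) (.node (.node (.node (.node (.node (.word [3,7,8,2,3,7,4,5,1,2,3,4,0,1,2,3,7,3,1,0]) (.word [8,5,3,4,1,2,1,0])) (.node (.word [3,7,2,3,2,0]) (.word [7,8,4,5,2,3,4,0,1,2]))) (.node (.node (.word [7,8,6,5,4,2,3,7,4,1,0]) (.word [3,4,5,4,0,1,2,0])) (.word [7,4,5,2,0]))) (.node (.node (.node (.word [8,5,3,4,2,3,7,1,0]) (.word [3,4,0,1,2])) (.node (.word [7,4,2,0]) (.word [7,8,1,2,3,4,5,3,4,2]))) (.node (.node (.word [7,1,0]) (.word [8,4,5,3,4,0,1,2,0])) (.word [7,8,6,5,4,2,1,0])))) (.node (.node (.node (.node (.word [7,3,4,2,3,7,3,1,0]) (.word [6,5,0,1,2,0])) (.node (.word [4,3,7,4,5]) (.word [7,8,3,4,5,3,4,3,2]))) (.node (.node (.word [8,1,2,3,7,0]) (.word [5,6,4,5,0,1,2,0])) (.word [7,6,5,4,2,0]))) (.node (.node (.node (.word [4,3,7,8,6,5,3,4,2,3,7,4,1,0])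 (.word [8,6,5,0,1,2,0])) (.word [8,3,7,5,2,0])) (.node (.node (.word [0,1,2,3,7,6,5,2,3,0]) (.word [7,8,7,3,4,5,1,2,0])) (.word [6,4,5,1,2,3,2])))))) (.node (.node (.node (.node (.node (.node (.word [8,7,6,5,2,3,4,1,2,3,7,3,1,0]) (.word [8,6,5,2,3,2,0])) (.node (.word [1,2,3,7,5,1,2,0]) (.word [8,2,3,4,5,4,0,1,2,0]))) (.node (.node (.word [4,2,3,7,4,5,3,1,0]) (.word [4,5,2,3,4,1,2,0])) (.word [0,1,2,1,0]))) (.node (.node (.node (.word [6,5,2,3,4,0,1,2,3,7,3]) (.word [8,6,5,0,1,2])) (.node (.word [8,0,1,2,3,7,5,2]) (.word [7,8,2,3,4,5,4,3,1,2,0]))) (.node (.node (.word [4,1,2,3,7,2,3]) (.word [8,5,1,2,3,4,0,1,2])) (.word [3,4,5,0])))) (.node (.node (.node (.node (.word [7,6,5,3,4,2,3,7,1,0]) (.word [6,2,3,4,5,4,1,0])) (.node (.word [7,1,2,1,0]) (.word [7,8,7,1,2,3,4,5,2,0])))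 (.node (.node (.word [2,3,7,5,1,0]) (.word [7,8,6,5,3,4,2,0])) (.word [7,5,4,1,2,0]))) (.node (.node (.node (.word [5,4,2,3,7,5,1,0]) (.word [1,2,3,4,5,4,0])) (.word [6,5,3,0])) (.node (.node (.word [5,4,3,7,6,4,5,1,0]) (.word [3,7,8,4,5,3,4,2,0])) (.word [8,5,4,2,0]))))) (.node (.node (.node (.node (.node (.word [2,3,7,4,5,1,2,3,4,0,1,2,3,7,3,1,0]) (.word [2,3,7,1,2,3,4,5])) (.node (.word [0,1,2,3,7,3,1,2,0]) (.word [8,7,3,4,5,3,4,3,2,0]))) (.node (.node (.word [5,4,2,3,7,6,5,3,0]) (.word [8,2,3,4,5,4,1,2,1,0])) (.word [4,5,2,3,0]))) (.node (.node (.node (.word [6,5,4,3,7,5,3,1,0]) (.word [8,3,4,5,4,1,2,1,0])) (.node (.word [8,7,5,2,1,0]) (.word [7,8,1,2,3,4,5,4,3,1,2,0]))) (.node (.node (.word [4,2,3,7,2,3,2]) (.word [3,7,8,2,3,4,5,4,2,1,0])) (.word [4,5,3,4,2,1,0]))))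 (.node (.node (.node (.node (.word [8,7,3,4,0,1,2,3,7,2,1,0]) (.word [7,8,5,2])) (.node (.word [8,3,7,6,5,4,2,1,0]) (.word [3,7,8,3,4,5,3,4,1,2,0]))) (.node (.node (.word [6,5,4,3,7,4]) (.word [8,0,1,2,3,4,5,2,1,0])) (.word [8,2,3,2]))) (.node (.node (.node (.word [5,2,3,4,1,2,3,7,3]) (.word [7,8,4,5,2])) (.word [8,7,5,4,2,1,0])) (.node (.node (.word [2,3,7,1,2,3]) (.word [8,7,2,3,4,5,3,2,0])) (.word [8,3,4,5,2,1,0]))))))))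

/-- A subtree. -/
def sub117 : WTree :=
  (.node (.node (.node (.node (.node (.node (.node (.node (.word [7,8,4,3,7,5,6,4,5,2,3,4,1,2,3,7,3,1,0]) (.word [7,8,5,2,0])) (.node (.word [8,3,7,5,1,0]) (.word [7,8,3,4,5,4,3,2,0]))) (.node (.node (.word [4,0,1,2,3,7,5,1,0]) (.word [8,3,4,5,2])) (.word [7,8,3,7,4]))) (.node (.node (.node (.word [6,5,4,0,1,2,3,7,3,0]) (.word [8,5,6,4,5,0])) (.node (.word [4,1,2,3,7,5,1,2,0]) (.word [7,8,3,4,5,3,4,1,2]))) (.node (.node (.word [6,5,4,3,7,6,4,5,1,0]) (.word [8,1,2,3,4,5])) (.word [7,4,5,1,2,0])))) (.node (.node (.node (.node (.word [6,4,5,3,4,0,1,2,3,7,3,1,0]) (.word [3,7,8,4])) (.node (.word [4,0,1,2,3,7,5,2,0]) (.word [8,2,3,4,5,3,4,3,2,0]))) (.node (.node (.word [4,0,1,2,3,7]) (.word [2,3,7,8,4,2])) (.word [8,3,4,5,3,1,0])))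 (.node (.node (.node (.word [6,5,4,1,2,3,7,6,5,3,0]) (.word [2,3,7,8,4,2,0])) (.node (.word [8,2,1,0]) (.word [4,3,7,8,1,2,3,4,5,1,2,0]))) (.node (.node (.word [8,1,2,3,7,6,5,1,0]) (.word [3,7,8,4,5,4,2])) (.word [4,0,1,2,0]))))) (.node (.node (.node (.node (.node (.word [3,7,6,4,5,1,2,3,4,0,1,2,3,7,3,1,0]) (.word [7,4,5,3,1,2,0])) (.node (.word [2,3,7,5,2,0]) (.word [8,7,3,4,5,3,4,1,2,0]))) (.node (.node (.word [1,2,3,7,5,1,0]) (.word [5,6,4,5,1,2])) (.word [8,7,2]))) (.node (.node (.node (.word [2,3,4,0,1,2,3,7,2,3,0]) (.word [2,3,4,3,1,2,0])) (.node (.word [2,3,7,6,5,3,4,2,1,0]) (.word [3,7,8,5,6,4,5,3,4,3,2]))) (.node (.node (.word [7,8,5,4,3,7,4,1,0]) (.word [8,2,3,4,5,4,2,3,2])) (.word [4,5,2,3])))) (.node (.node (.node (.node (.word [5,1,2,3,4,0,1,2,3,7,3,1,0])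 (.word [8,6,5,1,2,3])) (.node (.word [3,7,5]) (.word [2,3,7,8,6,4,5,3,4,1,2,0]))) (.node (.node (.word [3,7,5,3,1,0]) (.word [8,2,3,4,5,1,2,3])) (.word [5,6,4,5,3,0]))) (.node (.node (.node (.word [4,1,2,3,7,2,1,0]) (.word [6,4,5,1,2])) (.word [2,3,7,5,3,2])) (.node (.node (.word [8,4,1,2,3,7]) (.word [4,3,7,8,6,5,4,1,2])) (.word [8,3,4,5,4,1,0])))))) (.node (.node (.node (.node (.node (.node (.word [3,7,6,4,5,2,3,4,1,2,3,7,3,1,0]) (.word [8,2,3,4,5,1,0])) (.node (.word [5,3,1,0]) (.word [8,3,4,5,3,4,3,2]))) (.node (.node (.word [5,4,2,3,7,5,4,1,0]) (.word [2,3,7,8,5,3,4,2,0])) (.word [2,3,7,4,5,4,0]))) (.node (.node (.node (.word [6,5,3,4,2,3,7,4,1,0]) (.word [8,3,4,5,2,3])) (.node (.word [2,3,7,6,5,2,3,2,0]) (.word [3,7,8,5,6,4,5,3,4,2,0]))) (.node (.node (.word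 [0,1,2,3,7,5,0]) (.word [7,8,3,4,5,4,2,3,2,0])) (.word [7,8,6,5,1,0])))) (.node (.node (.node (.node (.word [7,8,7,6,5,3,4,0,1,2,3,7,1,0]) (.word [8,6,5,4])) (.node (.word [8,5,4,3,7,4,5,4,0]) (.word [7,8,7,2,3,4,5,1,2,0]))) (.node (.node (.word [8,3,4,2,3,7,4,2,1,0]) (.word [8,3,4,5,4,2])) (.word [7,3,4,0,1,2,1,0]))) (.node (.node (.node (.word [6,5,4,0,1,2,3,7,5,3]) (.word [2,3,4,5,4])) (.node (.word [3,7,4,5]) (.word [2,3,7,8,3,4,5,3,4,1,2]))) (.node (.node (.word [8,6,5,4,3,7,4]) (.word [7,8,7,3,4,5,4,2,0])) (.word [7,8,4,2,0]))))) (.node (.node (.node (.node (.node (.word [8,7,6,5,3,4,0,1,2,3,7,3,1,0]) (.word [7,8,4,5,4,2,1,0])) (.node (.word [6,5,4,3,7,6,4,5,4,0]) (.word [7,8,6,2,3,4,5,3,2,0]))) (.node (.node (.word [6,5,4,3,7,6,5,1,0]) (.word [1,2,3,4,5,4]))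 (.word [8,4,5,1,0]))) (.node (.node (.node (.word [8,5,4,1,2,3,7,1,0]) (.word [3,4,5,4,0,1,2,1,0])) (.node (.word [8,3,7,4,5,4,1,0]) (.word [7,8,6,3,4,5,3,4,1,2]))) (.node (.node (.word [5,4,3,7,3,4,5,1,0]) (.word [7,1,2,3,4,5,2])) (.word [7,4,3,1,2,0])))) (.node (.node (.node (.node (.word [5,3,4,1,2,3,7,3,0]) (.word [6,4,5,1,2,0])) (.node (.word [7,5,3]) (.word [8,7,0,1,2,3,4,5,2]))) (.node (.node (.word [5,4,2,3,7,5]) (.word [7,2,3,4,5,1,2,0])) (.word [8,6,5,4,1,0]))) (.node (.node (.node (.word [6,5,4,3,7,4,5,3,1,0]) (.word [8,6,4,5,1,2,0])) (.word [8,7,6,5])) (.node (.node (.word [8,4,3,7,4,0]) (.word [8,3,4,5,4,3,1,2,0])) (.word [4,5,0,1,2,1,0]))))))) (.node (.node (.node (.node (.node (.node (.node (.word [4,3,7,5,6,4,5,2,3,4,0,1,2,3,7,3,1,0]) (.word [8,6,5]))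 (.node (.word [5,4,2,3,7,4,5,0]) (.word [7,8,4,5,2,3,4,1,2,0]))) (.node (.node (.word [6,5,3,4,0,1,2,3,7,5,0]) (.word [6,4,5,4,3,2,0])) (.word [4,2,0]))) (.node (.node (.node (.word [5,3,4,2,3,7,5,3,1,0]) (.word [4,5,4,3,2,0])) (.node (.word [2,3,7,6,5]) (.word [7,8,7,3,4,5,3,4,3,2,0]))) (.node (.node (.word [5,4,2,3,7,6,5,3]) (.word [8,3,4,5,4,3,2,0])) (.word [3,0,1,2])))) (.node (.node (.node (.node (.word [6,5,3,4,1,2,3,7,3,1,0]) (.word [3,7,8,4,2,0])) (.node (.word [3,7,5,4,2,1,0]) (.word [7,8,2,3,4,5,3,2]))) (.node (.node (.word [5,4,1,2,3,7,5,3]) (.word [4,3,7,8,5,4,2,0])) (.word [3,7,5,3,1,2,0]))) (.node (.node (.node (.word [5,4,0,1,2,3,7,5,1,0]) (.word [3,7,8,3,4,2,0])) (.node (.word [2,0]) (.word [3,7,8,1,2,3,4,5,0,1,2]))) (.node (.node (.word [4,2,3,7,6,5,0])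 (.word [2,3,4,5,4,1,2])) (.word [3,4,5,4,2,1,0]))))) (.node (.node (.node (.node (.node (.word [6,4,5,2,3,4,1,2,3,7,3,1,0]) (.word [2,3,4,1,2,0])) (.node (.word [3,7,2,3]) (.word [8,6,4,5,3,4,1,2]))) (.node (.node (.word [4,1,2,3,7,6,5,3,0]) (.word [7,0,1,2,3,4,5,4])) (.word [7,4,5]))) (.node (.node (.node (.word [7,8,7,3,4,2,3,7,2,1,0]) (.word [3,7,8,4,5,4,2,1,0])) (.node (.word [8,7,5,4,1,0]) (.word [7,8,2,3,4,5,4,0,1,2]))) (.node (.node (.word [8,3,7,1,0]) (.word [2,3,4,5,4,0,1,2,0])) (.word [8,6,4,5,3,0])))) (.node (.node (.node (.node (.word [8,7,5,3,4,2,3,7,4,1,0]) (.word [8,0,1,2])) (.node (.word [4,1,2,3,7,4,5]) (.word [8,1,2,3,4,5,0,1,2]))) (.node (.node (.word [4,2,3,7,1,2,1,0]) (.word [3,4,5,0,1,2])) (.word [7,6,5,4]))) (.node (.node (.node (.word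 [3,4,2,3,7,3]) (.word [7,5,6,4,5,0,1,2,0])) (.word [4,1,2,3,7,5,0,1,2,0])) (.node (.node (.word [1,2,3,7,2,3]) (.word [7,8,6,3,4,5,0,1,2,1,0])) (.word [2,3,7,4,5,1,2])))))) (.node (.node (.node (.node (.node (.node (.word [7,5,6,4,5,2,3,4,0,1,2,3,7,3,1,0]) (.word [2,3,4,5,2,3,0])) (.node (.word [8,1,2,3,7,6,5,2,1,0]) (.word [8,7,3,4,5,4,0,1,2,0]))) (.node (.node (.word [5,4,3,7,5,3,0]) (.word [8,2,3,4,0,1,2,0])) (.word [5,1,2,3,2]))) (.node (.node (.node (.word [6,4,5,3,4,2,3,7,6,4,5,3,1,0]) (.word [7,6,5,4,3,1,2,0])) (.node (.word [4,0,1,2,3,7,5,1,2,0]) (.word [3,7,8,6,2,3,4,5,1,2,0]))) (.node (.node (.word [0,1,2,3,7,2,3,2,0]) (.word [6,5,3,4,0,1,2])) (.word [4,3,2,0])))) (.node (.node (.node (.node (.word [2,3,4,1,2,3,7,3,1,0]) (.word [8,6,4,5,4,0])) (.node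 (.word [8,7,2,1,0]) (.word [7,8,2,3,4,5,1,2]))) (.node (.node (.word [8,4,3,7,1,0]) (.word [8,3,4,5,3,4,2,0])) (.word [7,4,0,1,2,0]))) (.node (.node (.node (.word [8,3,4,2,3,7,1,0]) (.word [8,5,3,4,3,2,0])) (.node (.word [2,3,2,0]) (.word [1,2,3,7,8,3,4,5,3,4,3,2]))) (.node (.node (.word [6,5,4,2,3,7,4,5,0]) (.word [8,5,6,4,5,3,4,2,0])) (.word [7,6,4,5,4,2,0]))))) (.node (.node (.node (.node (.node (.word [6,5,2,3,4,1,2,3,7,3,1,0]) (.word [5,3,4,1,2,0])) (.node (.word [8,0,1,2,3,7,6,5,2,1,0]) (.word [8,5,6,4,5,3,4,2]))) (.node (.node (.word [6,5,4,2,3,7,6,5,0]) (.word [5,6,3,4,5,4,1,2,1,0])) (.word [4,5,3]))) (.node (.node (.node (.word [8,6,5,4,2,3,7,1,0]) (.word [5,6,4,5,4,1,2,1,0])) (.node (.word [3,7,5,1,2,3]) (.word [7,8,5,6,3,4,5,3,4,2]))) (.node (.node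 (.word [5,4,3,7,6,5,4,1,0]) (.word [6,4,5,3,4,1,2])) (.word [7,6,5,3,4,1,2,1,0])))) (.node (.node (.node (.node (.word [4,5,3,4,1,2,3,7,6,5,3,1,0]) (.word [1,2,3,4,5,2,1,0])) (.node (.word [5,4,3,7,6,5,4]) (.word [7,8,1,2,3,4,5,4,1,2,0]))) (.node (.node (.word [4,1,2,3,7,0,1,2,1,0]) (.word [7,8,6,3,4,5,1,2,1,0])) (.word [3,2]))) (.node (.node (.node (.word [5,4,1,2,3,7,6,5,3,0]) (.word [0,1,2,3,4,5,2,1,0])) (.word [3,4,2,1,0])) (.node (.node (.word [4,3,7,4,5,4,1,0]) (.word [7,6,3,4,5,4,3,2,0])) (.word [5,6,4,5,2,1,0]))))))))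

/-- A subtree. -/
def sub118 : WTree :=
  (.node (.node (.node (.node (.node (.node (.node (.node (.word [7,8,3,7,6,4,5,2,3,4,1,2,3,7,3,1,0]) (.word [7,4,5,1,2])) (.node (.word [8,5,4,3,7,5]) (.word [8,1,2,3,4,0,1,2]))) (.node (.node (.word [3,4,1,2,3,7,3]) (.word [1,2,3,4,5,2,0])) (.word [8,7,4,5,4,1,0]))) (.node (.node (.node (.word [8,7,3,4,2,3,7,2,1,0]) (.word [7,8,6,4,5,2])) (.node (.word [2,3,7,1,2]) (.word [8,5,6,3,4,5,3,4,2]))) (.node (.node (.word [5,4,3,7,6,4,5,3,1,0]) (.word [8,6,3,4,5,3,2,0])) (.word [8,5,1,2,1,0])))) (.node (.node (.node (.node (.word [4,5,3,4,1,2,3,7,3,1,0]) (.word [7,8,4,2])) (.node (.word [3,7,3,4,2,1,0]) (.word [7,8,6,4,5,3,4,3,2,0]))) (.node (.node (.word [5,3,4,0,1,2,3,7,5,0]) (.word [4,5,3,4,3,0,1,2])) (.word [3,7,0,1,2])))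 (.node (.node (.node (.word [6,5,2,3,4,1,2,3,7,3]) (.word [7,8,4,5,4])) (.node (.word [8,7,6,5,1,0]) (.word [3,7,8,1,2,3,4,5,1,2]))) (.node (.node (.word [5,4,2,3,7,6,5]) (.word [8,4,5,3,4,1,2])) (.word [3,4,1,2,0]))))) (.node (.node (.node (.node (.node (.word [5,6,4,5,2,3,4,0,1,2,3,7,3,1,0]) (.word [7,1,2,3,4,0,1,2,1,0])) (.node (.word [5,4,3,7,6,5]) (.word [0,1,2,3,4,5,3,2]))) (.node (.node (.word [4,1,2,3,7,6,5,1,0]) (.word [3,7,8,3,4,5,4,2,1,0])) (.word [7,8,0]))) (.node (.node (.node (.word [5,3,4,0,1,2,3,7,6,5,3,1,0]) (.word [8,3,4,5,3,4,2,1,0])) (.node (.word [4,2,1,0]) (.word [7,8,5,6,2,3,4,5,1,2]))) (.node (.node (.word [4,2,3,7,6,5,4,1,0]) (.word [8,2,3,4,0,1,2])) (.word [3,4,5,2,3,0])))) (.node (.node (.node (.node (.word [2,3,4,0,1,2,3,7,3,1,0])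 (.word [8,4,5,2,3,2])) (.node (.word [8,1,0]) (.word [3,7,8,2,3,4,0,1,2]))) (.node (.node (.word [2,3,7,4,5,3,1,0]) (.word [8,6,3,4,5,2,3,2])) (.word [6,3,4,5,3,0]))) (.node (.node (.node (.word [4,1,2,3,7,5,1,0]) (.word [8,3,4,5,2,3,2])) (.word [3,7,5,1,2,0])) (.node (.node (.word [0,1,2,3,7,5,2,0]) (.word [8,5,6,4,5,0,1,2,0])) (.word [7,6,4,5,1,2,3])))))) (.node (.node (.node (.node (.node (.node (.word [7,8,3,7,4,5,1,2,3,4,0,1,2,3,7,3,1,0]) (.word [3,4,5,2,3])) (.node (.word [5,4,3,7,6,5,4,0]) (.word [8,3,4,5,4,0,1,2]))) (.node (.node (.word [8,5,4,2,3,7,5,1,0]) (.word [8,5,6,4,5,2,3,2,0])) (.word [1,2,3]))) (.node (.node (.node (.word [6,5,4,1,2,3,7,0]) (.word [3,4,5,4,2,3,2,0])) (.node (.word [6,5,4,2,3,7,3,4,5]) (.word [7,8,7,2,3,4,5,0,1,2,0]))) (.node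 (.node (.word [5,3,4,0,1,2,3,7,5]) (.word [7,8,2,3,4,0,1,2,0])) (.word [6,5])))) (.node (.node (.node (.node (.word [7,5,3,4,2,3,7,3,1,0]) (.word [8,6,5,4,2,0])) (.node (.word [4,3,7,6,5,4,0]) (.word [7,8,2,3,4,5,3,1,2,0]))) (.node (.node (.word [8,5,4,2,3,7,5,4,1,0]) (.word [7,2,3,4,5,2])) (.word [5,3,4,2,1,0]))) (.node (.node (.node (.word [3,4,2,3,7,4,1,0]) (.word [3,4,5,3,4,2,0])) (.node (.word [2,3]) (.word [4,3,7,8,1,2,3,4,5,0,1,2,0]))) (.node (.node (.word [8,6,5,4,3,7,5]) (.word [8,1,2,3,4,5,4,2,0])) (.word [5,4,2]))))) (.node (.node (.node (.node (.node (.word [8,7,2,3,4,1,2,3,7,3,1,0]) (.word [7,6,4,5,4,0,1,2,1,0])) (.node (.word [5,4,1,2,3,7,4,5]) (.word [8,7,3,4,5,3,4,2]))) (.node (.node (.word [5,4,2,3,7,6,4,5,3,1,0]) (.word [8,3,4,5,4,1,2,0])) (.word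 [2,3,7,3,4,5,0]))) (.node (.node (.node (.word [3,4,1,2,3,7,6,5,3,1,0]) (.word [8,4,5,4,1,2,0])) (.node (.word [4,3,7,6,4,5,4,0]) (.word [3,7,8,5,6,4,5,3,4,2]))) (.node (.node (.word [5,4,3,7,4,5,3]) (.word [7,8,6,5,3,4,1,2,0])) (.word [7,4,5,4,2,3,2,0])))) (.node (.node (.node (.node (.word [8,6,5,3,4,1,2,3,7,1,0]) (.word [8,4,3,1,2,0])) (.node (.word [8,3,0]) (.word [7,8,1,2,3,4,5,4,2]))) (.node (.node (.word [1,2,3,7,5,2,3,0]) (.word [8,2,3,4,5,1,2,0])) (.word [7,3,4,5,4,0]))) (.node (.node (.node (.word [6,5,2,3,4,1,2,3,7,5]) (.word [8,5,4,3,1,2,0])) (.word [0,1,2,3,7,5,0,1,2])) (.node (.node (.word [7,8,5,4,3,7,4,0]) (.word [3,7,8,3,4,5,2])) (.word [8,5,1,2,0]))))))) (.node (.node (.node (.node (.node (.node (.node (.word [8,3,7,5,6,4,5,1,2,3,4,0,1,2,3,7,3,1,0])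 (.word [4,5,3,2,0])) (.node (.word [7,3]) (.word [8,6,5,2,3,4,1,2]))) (.node (.node (.word [3,4,2,3,7,4,2,1,0]) (.word [3,7,6,4,5,4,3,2,0])) (.word [8,5,4,1,0]))) (.node (.node (.node (.word [5,4,1,2,3,7,3,0]) (.word [7,1,2,3,4,5])) (.node (.word [1,2,3,7,6,5,3,2,0]) (.word [7,8,1,2,3,4,5,3,4,2,0]))) (.node (.node (.word [0,1,2,3,7,1,2,1,0]) (.word [3,7,8,6,5,3,4,2])) (.word [7,8,2,0])))) (.node (.node (.node (.node (.word [4,5,1,2,3,4,0,1,2,3,7,3,1,0]) (.word [4,5,4,2])) (.node (.word [3,7,4]) (.word [8,6,2,3,4,5,0,1,2,0]))) (.node (.node (.word [6,5,4,0,1,2,3,7,6,5]) (.word [8,4,5,4,1,2])) (.word [4,3,7,5,3,2,0]))) (.node (.node (.node (.word [3,4,0,1,2,3,7,2,3,0]) (.word [3,4,5,4,2])) (.node (.word [8,5,1,0]) (.word [3,7,8,1,2,3,4,5,4,1,2]))) (.node (.node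 (.word [2,3,7,6,5,3,0]) (.word [8,3,4,5,3,4,2])) (.word [8,7,5,4,2]))))) (.node (.node (.node (.node (.node (.word [8,7,4,5,1,2,3,4,0,1,2,3,7,3,1,0]) (.word [8,6,5,3,4,2,1,0])) (.node (.word [1,2,3,7,5,0,1,2,1,0]) (.word [3,7,8,2,3,4,1,2]))) (.node (.node (.word [6,5,4,3,7,5,4,1,0]) (.word [8,5,3,4,0,1,2,0])) (.word [8,2,0]))) (.node (.node (.node (.word [5,4,2,3,7,5,3,1,0]) (.word [4,5,4,0,1,2,0])) (.node (.word [7,4,5,4,1,0]) (.word [4,3,7,8,3,4,5,4,1,2]))) (.node (.node (.word [8,5,4,3,7,5,0]) (.word [8,5,6,4,5,4,0,1,2,1,0])) (.word [3,7,6,5,1,2])))) (.node (.node (.node (.node (.word [7,8,7,3,4,1,2,3,7,1,0]) (.word [7,5,6,4,5,0,1,2,1,0])) (.node (.word [5,4,2,3,7,3,4,5,0]) (.word [8,2,3,4,5,4,0,1,2]))) (.node (.node (.word [1,2,3,7,2,0]) (.word [3,4,5,3,0,1,2,0]))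 (.word [7,6,4,5,4,0]))) (.node (.node (.node (.word [6,5,4,2,3,7,5,4,1,0]) (.word [6,3,4,5,0,1,2,1,0])) (.word [2,3,7,5,1,2])) (.node (.node (.word [2,3,7,3,4,2,1,0]) (.word [7,8,6,3,4,5,1,2,0])) (.word [7,5,0,1,2])))))) (.node (.node (.node (.node (.node (.node (.word [5,6,4,5,2,3,4,1,2,3,7,3,1,0]) (.word [8,5,4,2,3,2,0])) (.node (.word [8,2,3,7,2,0]) (.word [4,3,7,8,5,4,1,2]))) (.node (.node (.word [3,4,1,2,3,7,1,2,3]) (.word [7,8,2,3,4,1,2,0])) (.word [7,4,5,1,2,1,0]))) (.node (.node (.node (.word [3,4,0,1,2,3,7,1,0]) (.word [5,2,3,4,0,1,2,1,0])) (.node (.word [1,2,3,7,5,2]) (.word [3,7,8,2,3,4,5,1,2]))) (.node (.node (.word [4,3,7,4,2,1,0]) (.word [7,8,2,3,4,5,3,4,2,1,0])) (.word [2,3,4,5,1,0])))) (.node (.node (.node (.node (.word [6,5,3,4,1,2,3,7,1,0])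 (.word [5,6,4,5])) (.node (.word [3,7,6,5,2,1,0]) (.word [7,8,5,6,3,4,5,3,2,0]))) (.node (.node (.word [5,4,3,7]) (.word [8,6,5,3,4,3,2,0])) (.word [5,4,1,2,1,0]))) (.node (.node (.node (.word [5,4,3,7,5,3,1,0]) (.word [0,1,2,3,4,5,4,1,0])) (.word [8,4,5,3,1,0])) (.node (.node (.word [5,4,3,7,6,4,5,3,0]) (.word [2,3,7,8,6,5,4,1,2])) (.word [6,4,5,4,0]))))) (.node (.node (.node (.node (.node (.word [6,4,5,1,2,3,4,0,1,2,3,7,3,1,0]) (.word [8,6,5,4,1,2,1,0])) (.node (.word [8,0,1,2,3,7,5]) (.word [6,1,2,3,4,5,0,1,2,0]))) (.node (.node (.word [8,7,1,2,3,4,0,1,2,3,7,1,2,3]) (.word [4,5,2,3,4,0,1,2])) (.word [4,2,3,2,0]))) (.node (.node (.node (.word [5,3,4,2,3,7,6,5,3,1,0]) (.word [8,6,3,4,5,4,2,1,0])) (.node (.word [3,7,5,0,1,2,1,0]) (.word [7,8,6,1,2,3,4,5,0,1,2,0])))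 (.node (.node (.word [2,3,7,1,2,1,0]) (.word [7,8,1,2,3,4,5,4,2,1,0])) (.word [4,3,2])))) (.node (.node (.node (.node (.word [5,3,4,0,1,2,3,7,1,0]) (.word [3,4,5,3,1,2])) (.node (.word [1,2,3,7,5,3,2]) (.word [7,8,6,4,5,3,4,1,2]))) (.node (.node (.word [8,6,5,4,3,7]) (.word [8,7,3,4,5,2])) (.word [7,8,5,2,1,0]))) (.node (.node (.node (.word [4,0,1,2,3,7,2,1,0]) (.word [7,8,6,4,5,2,0])) (.word [7,4,1,2,0])) (.node (.node (.word [4,3,7,0,1,2,1,0]) (.word [8,5,6,3,4,5,3,2,0])) (.word [7,8,2]))))))))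

/-- A subtree. -/
def sub119 : WTree :=
  (.node (.node sub115 sub116) (.node sub117 sub118))

/-- A subtree. -/
def sub120 : WTree :=
  (.node (.node (.node (.node (.node (.node (.node (.node (.word [3,7,8,4,3,7,5,6,4,5,2,3,4,1,2,3,7,3,1,0]) (.word [6,5,3,1,2])) (.node (.word [8,3,7,0]) (.word [8,2,3,4,5,4,3,2,0]))) (.node (.node (.word [5,4,0,1,2,3,7]) (.word [8,5,6,4,5,2,0])) (.word [5,4,2,1,0]))) (.node (.node (.node (.word [8,6,5,3,4,0,1,2,3,7,1,0]) (.word [7,8,6,4,5,0])) (.node (.word [2,3,7,3,1,2,0]) (.word [4,3,7,8,4,5,3,4,2]))) (.node (.node (.word [6,5,4,3,7,4,5,0]) (.word [8,2,3,4,5,2])) (.word [5,0,1,2,1,0])))) (.node (.node (.node (.node (.word [8,7,6,5,3,4,0,1,2,3,7,1,0]) (.word [7,5,6,4,5,1,2,3])) (.node (.word [0,1,2,3,7,5,2]) (.word [7,8,1,2,3,4,5,4,2,0])))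 (.node (.node (.word [8,4,0,1,2,3,7,0]) (.word [1,2,3,4,3,0,1,2])) (.word [8,6,4,5,3,1,0]))) (.node (.node (.node (.word [6,5,4,2,3,7,3]) (.word [2,3,7,8,4])) (.node (.word [7,6,5,2,1,0]) (.word [3,7,8,2,3,4,5,3,4,3,2,0]))) (.node (.node (.word [8,1,2,3,7,2,0]) (.word [7,8,4,5,4,1,2])) (.word [7,4,0,1,2]))))) (.node (.node (.node (.node (.node (.word [8,3,7,4,5,1,2,3,4,0,1,2,3,7,3,1,0]) (.word [7,6,5,3,1,2,0])) (.node (.word [2,3,7,5]) (.word [8,7,2,3,4,5,4,1,2,0]))) (.node (.node (.word [4,2,3,7,0]) (.word [8,2,3,4,5,3,4,2,1,0])) (.word [6,5,2,1,0]))) (.node (.node (.node (.word [3,4,0,1,2,3,7,5,3,1,0]) (.word [5,2,3,4,1,2,0])) (.node (.word [7,3,4,2,1,0]) (.word [3,7,8,1,2,3,4,5,3,2,0]))) (.node (.node (.word [3,7,4,1,0]) (.word [8,4,5,3,4,3,2])) (.word [7,1,2,3,4,5,1,0]))))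 (.node (.node (.node (.node (.word [6,4,5,3,4,1,2,3,7,6,5,3,1,0]) (.word [3,4,5,1,2,3])) (.node (.word [8,3,7,6,5,1,0]) (.word [7,8,5,6,4,5,3,4,3,2]))) (.node (.node (.word [3,7,3,0]) (.word [1,2,3,7,8,5,4,2])) (.word [7,5,6,4,5,3]))) (.node (.node (.node (.word [7,3,4,1,2,3,7,1,2,3]) (.word [2,3,4,5,1,2,3])) (.word [3,7,6,5,4,2,3,2])) (.node (.node (.word [0,1,2,3,7,5,1,2,1,0]) (.word [7,8,3,4,5,3,2])) (.word [8,6,4,5,4,1,0])))))) (.node (.node (.node (.node (.node (.node (.word [8,3,7,4,5,2,3,4,1,2,3,7,3,1,0]) (.word [8,3,4,5,0])) (.node (.word [7,4,5,3,1,0]) (.word [2,3,4,5,3,4,3,2]))) (.node (.node (.word [8,5,4,2,3,7,4,1,0]) (.word [4,5,2,3,4,1,2])) (.word [4,3,7,6,4,5,4]))) (.node (.node (.node (.word [3,7,8,7,6,5,3,4,2,3,7,4,1,0]) (.word [8,6,4,5,2,3]))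 (.node (.word [3,7,5,2,3,2,0]) (.word [2,3,7,8,3,4,5,3,4,2,0]))) (.node (.node (.word [0,1,2,3,7]) (.word [8,2,3,4,5,4,2,3,2,0])) (.word [5,6,4,5,1,0])))) (.node (.node (.node (.node (.word [7,2,3,4,0,1,2,3,7,3,1,0]) (.word [3,4,5,4])) (.node (.word [7,8,5,4,3,7,4]) (.word [3,7,8,2,3,4,5,0,1,2,1,0]))) (.node (.node (.word [5,4,0,1,2,3,7,6,5,3]) (.word [2,3,4,5,4,2])) (.word [7,4,5,2,3,2,0]))) (.node (.node (.node (.word [6,5,4,0,1,2,3,7,6,5,1,0]) (.word [7,8,3,4,2])) (.node (.word [1,2,3,7,4,5]) (.word [2,3,7,8,2,3,4,5,4,1,2]))) (.node (.node (.word [4,3,7,2,3,2,0]) (.word [7,3,4,5,3,4,3,2,0])) (.word [5,4,3,1,2]))))) (.node (.node (.node (.node (.node (.word [8,7,5,2,3,4,0,1,2,3,7,3,1,0]) (.word [8,5,4,2,3,2])) (.node (.word [6,5,4,3,7,6,5,4]) (.word [7,8,5,6,3,4,5,2])))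 (.node (.node (.word [6,5,4,3,7,5,0]) (.word [6,4,5,3,4,1,2,0])) (.word [6,4,5,1,0]))) (.node (.node (.node (.word [8,3,4,1,2,3,7,1,0]) (.word [2,3,7,0,1,2,3,4,5])) (.node (.word [5,4,3,7,5,6,4,5]) (.word [3,7,8,7,3,4,5,3,4,1,2,0]))) (.node (.node (.word [4,3,7,5,0]) (.word [7,3,4,5,3,4,1,2,0])) (.word [8,7,6,5,1,2])))) (.node (.node (.node (.node (.word [5,3,4,1,2,3,7,5,3,1,0]) (.word [6,4,5,3,0,1,2,0])) (.node (.word [3,7,3,4,5,1,0]) (.word [8,1,2,3,4,5,4,1,2]))) (.node (.node (.word [8,4,1,2,3,7,5,0]) (.word [8,2,3,4,5,0,1,2,1,0])) (.word [3,4,5,4,1,0]))) (.node (.node (.node (.word [6,5,4,3,7,3]) (.word [5,6,4,5,1,2,0])) (.word [4,2,3,7,5,3,2,0])) (.node (.node (.word [7,8,4,3,7,4,1,0]) (.word [7,8,2,3,4,5,1,2,0])) (.word [8,0,1,2,0]))))))) (.node (.node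 (.node (.node (.node (.node (.node (.word [7,8,3,7,6,4,5,2,3,4,0,1,2,3,7,3,1,0]) (.word [3,4,5])) (.node (.word [5,4,3,7,4,5]) (.word [7,8,6,5,2,3,4,1,2,0]))) (.node (.node (.word [6,5,4,1,2,3,7]) (.word [5,6,4,5,3,2,0])) (.word [3,7,6,5,4]))) (.node (.node (.node (.word [5,4,2,3,7,3,1,0]) (.word [6,4,5,3,2,0])) (.node (.word [3,7,2]) (.word [2,3,7,8,4,5,3,4,2]))) (.node (.node (.word [5,4,2,3,7,6,5,0]) (.word [8,2,3,4,5,3,2,0])) (.word [8,7,1,2])))) (.node (.node (.node (.node (.word [7,8,7,6,5,3,4,1,2,3,7,1,0]) (.word [7,8,5,4,2,0])) (.node (.word [3,7,4,1,2,1,0]) (.word [7,8,7,3,4,5,1,2]))) (.node (.node (.word [0,1,2,3,7,5,3,0]) (.word [3,7,8,4,5,4,2,0])) (.word [4,3,7,5,1,2,0]))) (.node (.node (.node (.word [8,5,4,0,1,2,3,7,1,0]) (.word [5,3,4,1,2])) (.node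 (.word [3,7,6,5]) (.word [4,3,7,8,2,3,4,5,4,3,2,0]))) (.node (.node (.word [8,5,4,3,7,6,5]) (.word [6,3,4,5,4,1,2])) (.word [7,5,6,4,5,4,2,1,0]))))) (.node (.node (.node (.node (.node (.word [7,6,4,5,3,4,1,2,3,7,3,1,0]) (.word [8,3,4,0,1,2,1,0])) (.node (.word [8,2,3,7,6,5]) (.word [7,8,6,5,3,4,3,1,2,0]))) (.node (.node (.word [5,4,2,3,7,5,3]) (.word [2,3,4,0,1,2])) (.word [7,5,2]))) (.node (.node (.node (.word [7,8,5,3,4,2,3,7,4,1,0]) (.word [3,4,5,4,2,3,2])) (.node (.word [8,7,4,0]) (.word [1,2,3,7,8,4,5,3,4,2]))) (.node (.node (.word [2,3,7,5,2,1,0]) (.word [6,3,4,5,4,0,1,2,0])) (.word [5,4,2,3,2,0])))) (.node (.node (.node (.node (.word [6,5,3,4,0,1,2,3,7,3,0]) (.word [7,4,5,0,1,2])) (.node (.word [8,4,3,7,6,5,0]) (.word [1,2,3,7,8,5,2,3,4,1,2]))) (.node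 (.node (.word [4,1,2,3,7,2,3,2]) (.word [8,5,6,3,4,5,1,2,1,0])) (.word [4,2]))) (.node (.node (.node (.word [4,1,2,3,7,5,3,0]) (.word [8,5,0,1,2])) (.word [8,1,2,3,7,5,1,2])) (.node (.node (.word [4,1,2,3,7,5]) (.word [7,8,3,4,5,0,1,2,0])) (.word [5,3,2])))))) (.node (.node (.node (.node (.node (.node (.word [3,7,6,4,5,2,3,4,0,1,2,3,7,3,1,0]) (.word [6,3,4,5,2,3,0])) (.node (.word [1,2,3,7,3,2]) (.word [1,2,3,4,5,3,4,2]))) (.node (.node (.word [2,3,7,5,3,1,0]) (.word [8,5,2,3,4,0,1,2,1,0])) (.word [8,7,4,5,2,1,0]))) (.node (.node (.node (.word [6,5,3,4,2,3,7,3]) (.word [8,6,5,4,2,3,2,0])) (.node (.word [8,0,1,2,3,7,1,2]) (.word [3,7,8,7,2,3,4,5,1,2,0]))) (.node (.node (.word [0,1,2,3,7,5,3]) (.word [8,5,2,3,4,3,1,2,0])) (.word [5,3,2,0])))) (.node (.node (.node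 (.node (.word [5,3,4,1,2,3,7,3,1,0]) (.word [5,6,4,5,4,0])) (.node (.word [2,3,7,5,1,2,3]) (.word [3,7,8,1,2,3,4,5,1,2,1,0]))) (.node (.node (.word [4,3,7,2,1,0]) (.word [8,2,3,4,5,4,2,0])) (.word [5,4,1,2,3,2]))) (.node (.node (.node (.word [7,8,3,4,2,3,7,2,1,0]) (.word [7,8,5,3,4,2,0])) (.node (.word [7,6,5,2,3,0]) (.word [2,3,7,8,2,3,4,5,3,4,3,2]))) (.node (.node (.word [6,5,4,3,7,4,5]) (.word [7,8,3,4,5,3,4,2,0])) (.word [8,5,4]))))) (.node (.node (.node (.node (.node (.word [7,6,5,3,4,1,2,3,7,3,1,0]) (.word [4,5,4,1,2,0])) (.node (.word [0,1,2,3,7,3,2]) (.word [7,8,2,3,4,5,4,2]))) (.node (.node (.word [6,5,4,2,3,7,5]) (.word [8,5,3,4,3,1,2,0])) (.word [8,2,3]))) (.node (.node (.node (.word [8,6,5,3,4,2,3,7,4,1,0]) (.word [8,3,4,3,1,2,0])) (.node (.word [4,1,2,3,7,3,4,5])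 (.word [3,7,8,2,3,4,5,4,1,2]))) (.node (.node (.word [4,3,7,6,4,5,3,1,0]) (.word [4,2,3,7,8,5,4,1,2])) (.word [2,3,4,1,2,1,0])))) (.node (.node (.node (.node (.word [5,6,4,5,3,4,2,3,7,6,4,5,3,1,0]) (.word [8,5,6,4,5,2,1,0])) (.node (.word [4,3,7,6,4,5,3]) (.word [7,8,7,1,2,3,4,5,2]))) (.node (.node (.word [4,3,7,2,3,0]) (.word [8,6,5,4,3,1,2,0])) (.word [8,1,2,3]))) (.node (.node (.node (.word [6,5,4,2,3,7,5,3]) (.word [7,8,3,4,5,1,2,1,0])) (.word [3,7,5,3,4,1,2,1,0])) (.node (.node (.word [5,4,3,7,4,5,4,0]) (.word [8,1,2,3,4,5,2])) (.word [8,4,5,1,2,1,0]))))))))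

/-- A subtree. -/
def sub121 : WTree :=
  (.node (.node (.node (.node (.node (.node (.node (.node (.word [7,8,3,7,5,6,4,5,2,3,4,0,1,2,3,7,3,1,0]) (.word [7,8,6,4,5,1,0])) (.node (.word [1,0]) (.word [7,8,2,3,4,5,4,2,3,2,0]))) (.node (.node (.word [4,0,1,2,3,7,5,3,0]) (.word [6,3,4,5,3,2,0])) (.word [8,7,5,4,0]))) (.node (.node (.node (.word [7,8,7,5,3,4,2,3,7,4,1,0]) (.word [8,3,4,5])) (.node (.word [8,3,7,2,0]) (.word [7,8,2,3,4,5,4,1,2]))) (.node (.node (.word [6,5,4,3,7,3,4,5,3,0]) (.word [7,8,7,3,4,5,2,0])) (.word [4,5,1,2,1,0])))) (.node (.node (.node (.node (.word [8,7,3,4,1,2,3,7,3,1,0]) (.word [5,4,3,0,1,2])) (.node (.word [0,1,2,3,7,6,5,2,3,2,0]) (.word [7,8,5,6,4,5,3,4,2,0]))) (.node (.node (.word [5,4,1,2,3,7]) (.word [6,2,3,4,5,2])) (.word [2,3,7,6,5,1,2])))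 (.node (.node (.node (.word [1,2,3,4,0,1,2,3,7,2,3,0]) (.word [7,8,5,4,2])) (.node (.word [8,3,7,6,5,0]) (.word [2,3,7,8,2,3,4,5,1,2]))) (.node (.node (.word [1,2,3,7,6,5,0]) (.word [8,6,2,3,4,5,3,2,0])) (.word [7,6,5,4,1,2,0]))))) (.node (.node (.node (.node (.node (.word [7,6,4,5,2,3,4,0,1,2,3,7,3,1,0]) (.word [7,4,5,4,3,2,0])) (.node (.word [1,2,3,7,0,1,2,0]) (.word [8,1,2,3,4,5,4,1,2,0]))) (.node (.node (.word [5,3,4,1,2,3,7,5,0]) (.word [2,3,4,5,4,2,3,2])) (.word [8,7,6,5,0]))) (.node (.node (.node (.word [6,5,4,0,1,2,3,7,5,3,0]) (.word [8,6,4,5,3,4,2,1,0])) (.node (.word [3,7,5,4,1,2,1,0]) (.word [3,7,8,5,2,3,4,0,1,2]))) (.node (.node (.word [5,4,3,7,4,5,4,1,0]) (.word [4,5,3,4,0,1,2])) (.word [8,6,5,3])))) (.node (.node (.node (.node (.word [5,3,4,0,1,2,3,7,3,1,0])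 (.word [6,4,5,2,3,2])) (.node (.word [7,6,5,1,0]) (.word [7,8,6,5,2,3,4,3,1,2,0]))) (.node (.node (.word [5,4,3,7,3,4,5,3,1,0]) (.word [2,3,4,5,3,2])) (.word [4,3,1,2]))) (.node (.node (.node (.word [5,4,2,3,7,0]) (.word [8,6,4,5,2,3,2])) (.word [8,2,3,7,1,2])) (.node (.node (.word [0,1,2,3,7,2]) (.word [8,7,3,4,5,0,1,2,0])) (.word [8,7,5,6,4,5,2,1,0])))))) (.node (.node (.node (.node (.node (.node (.word [8,3,4,2,3,7,5,6,4,5,1,2,3,4,0,1,2,3,7,3,1,0]) (.word [7,0,1,2,3,4,5,1,0])) (.node (.word [4,3,7,6,4,5,3,0]) (.word [2,3,4,5,4,0,1,2]))) (.node (.node (.word [2,3,7,1,0]) (.word [8,3,4,5,4,2,3,2,0])) (.word [7,3,4,5,4,1,0]))) (.node (.node (.node (.word [6,5,3,4,2,3,7,6,5,3,1,0]) (.word [2,3,4,5,2,3,2,0])) (.node (.word [6,5,4,3,7,6,4,5,4]) (.word [3,7,8,2,3,4,5,3,2])))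 (.node (.node (.word [2,3,4,0,1,2,3,7,5]) (.word [5,2,3,4,3,0,1,2,0])) (.word [7,6,4,5])))) (.node (.node (.node (.node (.word [8,7,5,3,4,2,3,7,1,0]) (.word [8,4,5,4,2,0])) (.node (.word [4,3,7,4,5,4,0]) (.word [7,8,1,2,3,4,5,1,2,0]))) (.node (.node (.word [7,8,5,4,2,3,7,4,1,0]) (.word [7,3,4,5,3,4,2,0])) (.word [7,4,5,3,4,2,1,0]))) (.node (.node (.node (.word [3,7,8,7,3,4,2,3,7,4,1,0]) (.word [8,6,4,5,4,2,0])) (.node (.word [7,3,4,5,1,0]) (.word [4,3,7,8,1,2,3,4,5,3,1,2,0]))) (.node (.node (.word [6,5,4,3,7,6,4,5,4,1,0]) (.word [5,6,3,4,5,4,3,2,0])) (.word [7,4,5,4,2]))))) (.node (.node (.node (.node (.node (.word [8,7,5,3,4,1,2,3,7,3,1,0]) (.word [3,4,0,1,2,0])) (.node (.word [6,5,4,2,3,7,4,5]) (.word [8,2,3,4,5,4,1,2]))) (.node (.node (.word [6,5,4,3,7,3,4,5,3,1,0])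 (.word [2,3,4,5,4,1,2,0])) (.word [3,7,3,4,5]))) (.node (.node (.node (.word [5,4,1,2,3,7,5,3,0]) (.word [6,4,5,4,1,2,0])) (.node (.word [5,4,3,7,6,4,5,4]) (.word [2,3,7,8,4,5,3,4,1,2]))) (.node (.node (.word [3,1,0]) (.word [8,3,4,5,3,4,1,2,0])) (.word [7,8,6,5])))) (.node (.node (.node (.node (.word [6,4,5,3,4,2,3,7,4,5,3,1,0]) (.word [8,5,3,1,2,0])) (.node (.word [7,6,5,3,0]) (.word [3,7,8,4,5,3,4,0,1,2,0]))) (.node (.node (.word [2,3,7,2,3,0]) (.word [1,2,3,4,5,1,2,0])) (.word [7,6,3,4,5,4]))) (.node (.node (.node (.word [8,6,5,4,2,3,7,0]) (.word [8,4,5,3,1,2,0])) (.word [0,1,2,3,7,6,5,1,2])) (.node (.node (.word [3,7,5,4,1,0]) (.word [3,7,8,2,3,4,5,1,2,1,0])) (.word [6,5,1,2,0]))))))) (.node (.node (.node (.node (.node (.node (.node (.word [8,4,2,3,7,5,6,4,5,1,2,3,4,0,1,2,3,7,3,1,0])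 (.word [6,5,3,2,0])) (.node (.word [4,3,7,3,4,5,1,0]) (.word [8,5,2,3,4,0,1,2]))) (.node (.node (.word [7,3,4,2,3,7,3,4,2,1,0]) (.word [5,6,4,5,4,1,2])) (.word [4,5,4,1,0]))) (.node (.node (.node (.word [5,4,1,2,3,7,1,0]) (.word [0,1,2,3,4,5,1,0])) (.node (.word [8,1,2,3,7,5,2]) (.word [7,8,5,6,3,4,5,4,3,2,0]))) (.node (.node (.word [8,0,1,2,3,7,2,1,0]) (.word [2,3,7,8,5,3,4,2])) (.word [5,3,1,2])))) (.node (.node (.node (.node (.word [8,7,1,2,3,4,0,1,2,3,7,3,1,0]) (.word [3,7,4,5,4,2])) (.node (.word [8,7,4,1,0]) (.word [7,8,7,3,4,5,0,1,2,0]))) (.node (.node (.word [8,6,5,4,1,2,3,7]) (.word [6,4,5,4,1,2])) (.word [3,7,5,1,2]))) (.node (.node (.node (.word [3,4,0,1,2,3,7,6,5,3,1,0]) (.word [6,2,3,4,5,4,0])) (.node (.word [4,5,1,0]) (.word [3,7,8,3,4,5,3,4,0,1,2])))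 (.node (.node (.word [2,3,7,5,2,3,0]) (.word [2,3,4,5,3,4,2])) (.word [3,7,8,4,0]))))) (.node (.node (.node (.node (.node (.word [2,3,7,6,4,5,1,2,3,4,0,1,2,3,7,3,1,0]) (.word [3,4,5,3,4,2,1,0])) (.node (.word [2,3,7,5,2,3,2,0]) (.word [1,2,3,7,8,3,4,2]))) (.node (.node (.word [8,6,5,4,2,3,7,5,4,1,0]) (.word [8,6,5,4,0,1,2,0])) (.word [5,2,0]))) (.node (.node (.node (.word [4,2,3,7,3,1,0]) (.word [3,7,4,5,4,0,1,2,0])) (.node (.word [4,0]) (.word [7,8,7,0,1,2,3,4,5,2]))) (.node (.node (.word [2,3,7,6,5,1,0]) (.word [3,7,8,5,4,1,2])) (.word [7,6,5,4,3,2])))) (.node (.node (.node (.node (.word [4,5,3,4,2,3,7,5,3,1,0]) (.word [8,5,0,1,2,0])) (.node (.word [4,3,7,6,5]) (.word [3,7,8,2,3,4,5,4,2,3,2]))) (.node (.node (.word [4,2,3,7]) (.word [8,6,4,5,0,1,2,0])) (.word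 [3,4,2,0]))) (.node (.node (.node (.word [8,6,5,4,2,3,7,4,1,0]) (.word [7,8,5,1,2])) (.word [2,3,7,6,5,2])) (.node (.node (.word [4,1,2,3,7,6,5,3]) (.word [8,5,6,3,4,5,1,2,0])) (.word [7,8,4,5,2,1,0])))))) (.node (.node (.node (.node (.node (.node (.word [8,7,5,6,4,5,3,4,2,3,7,3,1,0]) (.word [8,4,5,2,3,2,0])) (.node (.word [1,2,3,7,6,5,1,2,1,0]) (.word [8,3,4,5,3,4,0,1,2,0]))) (.node (.node (.word [3,4,2,3,7,6,4,5,3,1,0]) (.word [5,2,3,4,3,1,2,0])) (.word [7,5,1,2,0]))) (.node (.node (.node (.word [7,3,4,0,1,2,3,7,2,1,0]) (.word [7,5,6,4,5,3,2,0])) (.node (.word [4,0,1,2,3,7,5,2]) (.word [4,3,7,8,2,3,4,5,1,2,0]))) (.node (.node (.word [4,2,3,7,3,4,2,1,0]) (.word [6,5,2,3,4,1,2])) (.word [8,6,5,0])))) (.node (.node (.node (.node (.word [6,4,5,3,4,2,3,7,5,3,1,0])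 (.word [1,2,3,4,5,4,1,0])) (.node (.word [7,5,2,1,0]) (.word [7,8,7,2,3,4,5,3,2,0]))) (.node (.node (.word [8,5,4,3,7,5,1,0]) (.word [8,4,5,3,4,3,2,0])) (.word [7,4,5,4,1,2,1,0]))) (.node (.node (.node (.word [2,3,7,3,1,0]) (.word [5,6,4,5,2,3,2])) (.word [6,4,5,3,1,0])) (.node (.node (.word [6,5,4,3,7,3,4,5,3]) (.word [8,5,6,4,5,4,3,2,0])) (.word [8,3,4,2,0]))))) (.node (.node (.node (.node (.node (.word [7,4,5,1,2,3,4,0,1,2,3,7,3,1,0]) (.word [3,4,5,4,1,2,1,0])) (.node (.word [8,1,2,3,7]) (.word [8,6,2,3,4,5,1,2]))) (.node (.node (.word [2,3,4,0,1,2,3,7,2,3]) (.word [6,2,3,4,5,1,2,3])) (.word [5,2,3,2,0]))) (.node (.node (.node (.word [6,5,4,2,3,7,4,5,3,1,0]) (.word [8,5,6,4,5,4,2,1,0])) (.node (.word [8,3,7,6,5,2,1,0]) (.word [4,3,7,8,2,3,4,5,3,1,2,0]))) (.node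 (.node (.word [8,1,2,3,7,5,2,1,0]) (.word [7,8,6,2,3,4,5,4,2,1,0])) (.word [8,5,3,4,2,1,0])))) (.node (.node (.node (.node (.word [7,3,4,0,1,2,3,7,1,0]) (.word [6,4,5,2])) (.node (.word [2,3,7,3,2]) (.word [3,7,8,4,5,3,4,3,1,2,0]))) (.node (.node (.word [6,5,4,3,7,4,5,4,1,0]) (.word [3,7,8,4,5,2])) (.word [4,5,1,2,3,2]))) (.node (.node (.node (.word [7,3,4,0,1,2,3,7,1,2,3]) (.word [8,6,4,5,2])) (.word [7,4,0,1,2,1,0])) (.node (.node (.word [8,3,7,2,1,0]) (.word [8,7,3,4,5,4,3,2,0])) (.word [8,7,4,5,2]))))))))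

/-- A subtree. -/
def sub122 : WTree :=
  (.node (.node (.node (.node (.node (.node (.node (.node (.word [7,8,4,3,7,5,6,4,5,2,3,4,0,1,2,3,7,3,1,0]) (.word [5,6,3,4,5,4,0])) (.node (.word [3,7]) (.word [3,7,8,6,5,3,4,1,2]))) (.node (.node (.word [0,1,2,3,7,3,0]) (.word [8,2,3,4,5])) (.word [5,6,4,5,3,1,0]))) (.node (.node (.node (.word [6,5,3,4,0,1,2,3,7,6,5,3,1,0]) (.word [8,4,5,2])) (.node (.word [1,2,3,7,5,3,1,2,0]) (.word [3,7,8,4,5,3,4,1,2]))) (.node (.node (.word [5,4,3,7,6,5,1,0]) (.word [7,2,3,4,5,3,2,0])) (.word [5,1,2,0])))) (.node (.node (.node (.node (.word [5,6,4,5,3,4,0,1,2,3,7,5,3,1,0]) (.word [2,3,7,8,4,0])) (.node (.word [0,1,2,3,7,5,3,2,0]) (.word [8,6,3,4,5,3,4,3,2,0]))) (.node (.node (.word [0,1,2,3,7,5,1,0]) (.word [8,2,3,4,1,2])) (.word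 [8,7,6,5,4,2,0]))) (.node (.node (.node (.word [4,3,7,8,6,5,4,2,3,7,4,1,0]) (.word [5,4,3,0,1,2,0])) (.node (.word [8,3,7,5]) (.word [2,3,7,8,5,6,4,5,3,4,2,0]))) (.node (.node (.word [2,3,7,2,0]) (.word [3,7,8,5,3,4,2])) (.word [7,6,5,4,0,1,2,1,0]))))) (.node (.node (.node (.node (.node (.word [8,7,4,5,2,3,4,0,1,2,3,7,3,1,0]) (.word [6,5,0,1,2])) (.node (.word [2,3,7,6,5,0]) (.word [6,1,2,3,4,5,1,2]))) (.node (.node (.word [8,5,4,1,2,3,7,5,0]) (.word [8,4,5,4,3,2])) (.word [7,8,7]))) (.node (.node (.node (.word [8,6,5,4,0,1,2,3,7,1,0]) (.word [3,4,5,3,4,1,2,1,0])) (.node (.word [8,7,4,2,1,0]) (.word [3,7,8,1,2,3,4,0,1,2]))) (.node (.node (.word [8,5,4,3,7,5,4,1,0]) (.word [6,4,5,4,0,1,2])) (.word [8,5,2,3])))) (.node (.node (.node (.node (.word [8,7,3,4,0,1,2,3,7,1,0])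 (.word [3,7,4,5,1,2])) (.node (.word [7,5,0]) (.word [1,2,3,7,8,3,4,1,2]))) (.node (.node (.word [5,4,3,7,5,3]) (.word [6,3,4,5,1,2])) (.word [8,7,4,2]))) (.node (.node (.node (.word [4,1,2,3,7,0]) (.word [3,4,5,3,2])) (.word [1,2,3,7,6,5,1,2])) (.node (.node (.word [8,0,1,2,3,7,2,0]) (.word [8,5,6,3,4,5,0,1,2,1,0])) (.word [7,6,3,4,5,4,0])))))) (.node (.node (.node (.node (.node (.node (.word [7,5,6,4,5,2,3,4,1,2,3,7,3,1,0]) (.word [5,6,4,5,4])) (.node (.word [4,3,7,4,5,3]) (.word [7,8,4,5,3,4,3,2]))) (.node (.node (.word [8,3,4,2,3,7,2,1,0]) (.word [8,6,5,3,4,3,2])) (.word [3,7,3,4,5,4,0]))) (.node (.node (.node (.word [6,5,4,2,3,7,1,0]) (.word [7,8,6,5,4,2])) (.node (.word [3,7,4,2,3,2,0]) (.word [2,3,7,8,4,5,3,4,3,2,0]))) (.node (.node (.word [8,5,4,1,2,3,7])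 (.word [1,2,3,4,0,1,2])) (.word [7,4,5,2])))) (.node (.node (.node (.node (.word [6,5,3,4,0,1,2,3,7,3,1,0]) (.word [6,2,3,4,5,4])) (.node (.word [8,4,3,7,4,5,4,1,0]) (.word [7,8,5,6,3,4,5,1,2,0]))) (.node (.node (.word [3,7,8,4,2,3,7,4,1,0]) (.word [8,6,5,3,4,2])) (.word [7,2,3,4,1,2,1,0]))) (.node (.node (.node (.word [5,4,0,1,2,3,7,6,5,3,1,0]) (.word [7,3,4,5,4,2,0])) (.node (.word [2,3,7,4,5,0]) (.word [5,4,3,7,8,2,3,4,5,3,2]))) (.node (.node (.word [8,6,5,4,3,7,4,5,4,1,0]) (.word [8,7,2,3,4,5,2])) (.word [7,8,5,4,0]))))) (.node (.node (.node (.node (.node (.word [7,6,5,2,3,4,0,1,2,3,7,3,1,0]) (.word [4,0,1,2])) (.node (.word [6,5,4,1,2,3,7,3,4,5]) (.word [4,3,7,8,4,5,3,4,2,0]))) (.node (.node (.word [6,5,4,3,7,5,3]) (.word [7,8,5,6,4,5,1,2])) (.word [8,3,7,4,5])))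 (.node (.node (.node (.word [5,4,1,2,3,7,5,1,0]) (.word [8,6,5,4,0,1,2,1,0])) (.node (.word [4,3,7,4,5,4]) (.word [4,3,7,8,2,3,4,5,4,1,2,0]))) (.node (.node (.word [3,7,3]) (.word [8,6,3,4,5,4,1,2,0])) (.word [7,6,5,0,1,2])))) (.node (.node (.node (.node (.word [7,6,5,3,4,2,3,7,4,1,0]) (.word [8,4,5,1,2,0])) (.node (.word [3,7,6,5,3]) (.word [7,8,2,3,4,5,4,0,1,2,0]))) (.node (.node (.word [4,2,3,7,5,0]) (.word [5,6,3,4,5,1,2,0])) (.word [3,7,5,6,4,5]))) (.node (.node (.node (.word [5,4,2,3,7,6,5,3,1,0]) (.word [3,4,5,3,1,2,0])) (.word [3,7,6,5,2,3,2,0])) (.node (.node (.word [8,2,3,7,5,4,1,0]) (.word [8,0,1,2,3,4,5])) (.word [8,5,0,1,2,1,0]))))))) (.node (.node (.node (.node (.node (.node (.node (.word [8,3,7,6,4,5,2,3,4,1,2,3,7,3,1,0]) (.word [7,5,6,4,5,2,0]))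 (.node (.word [5,4,3,7,3,4,5,0]) (.word [7,8,5,2,3,4,3,1,2,0]))) (.node (.node (.word [5,4,0,1,2,3,7,6,5,1,0]) (.word [8,6,5,4,3,2,0])) (.word [7,6,5,4,0]))) (.node (.node (.node (.word [7,3,4,1,2,3,7,2,1,0]) (.word [6,5,4,3,2,0])) (.node (.word [3,7,3,2,0]) (.word [7,8,6,2,3,4,5,1,2]))) (.node (.node (.word [2,3,4,0,1,2,3,7,1,2,3]) (.word [8,5,6,4,5,3,2,0])) (.word [7,8,7,5])))) (.node (.node (.node (.node (.word [6,5,2,3,4,1,2,3,7,3,0]) (.word [7,4,5,4,1,2])) (.node (.word [7,8,4,3,7,4,0]) (.word [3,7,8,2,3,4,5,2,3,2]))) (.node (.node (.word [4,0,1,2,3,7,6,5,3,0]) (.word [6,5,3,4,1,2])) (.word [2,3,7,5,0,1,2]))) (.node (.node (.node (.word [0,1,2,3,7,3,1,0]) (.word [7,6,4,5,4,1,2])) (.node (.word [7,6,5,0]) (.word [4,3,7,8,2,3,4,5,4,3,2]))) (.node (.node (.word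 [8,4,1,2,3,7,5]) (.word [7,3,4,5,3,4,2])) (.word [8,6,5,4,2,1,0]))))) (.node (.node (.node (.node (.node (.word [5,6,4,5,3,4,1,2,3,7,3,1,0]) (.word [4,5,3,4,1,2,1,0])) (.node (.word [2,3,7,6,5,3]) (.word [3,7,8,2,3,4,5,4,1,2,1,0]))) (.node (.node (.word [4,2,3,7,2,3,0]) (.word [3,7,0,1,2,3,4,5])) (.word [5]))) (.node (.node (.node (.word [7,8,3,4,2,3,7,1,0]) (.word [7,6,5,4,0,1,2])) (.node (.word [7,4]) (.word [3,7,8,4,5,3,4,0,1,2]))) (.node (.node (.word [4,3,7]) (.word [8,3,4,5,4,0,1,2,0])) (.word [8,3,4,5,3,0])))) (.node (.node (.node (.node (.word [7,8,7,5,3,4,2,3,7,1,0]) (.word [7,6,4,5,0,1,2,0])) (.node (.word [5,4,1,2,3,7,4,5,4]) (.word [8,2,3,4,5,3,4,3,2]))) (.node (.node (.word [1,2,3,7,5,2,1,0]) (.word [7,3,4,5,0,1,2,0])) (.word [8,4]))) (.node (.node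 (.node (.word [4,1,2,3,7,2,3,0]) (.word [3,4,5,0,1,2,0])) (.word [8,3,7,2])) (.node (.node (.word [0,1,2,3,7,5,2,3]) (.word [7,1,2,3,4,5,1,2,0])) (.word [6,5,2,3,2])))))) (.node (.node (.node (.node (.node (.node (.word [3,7,4,5,2,3,4,1,2,3,7,3,1,0]) (.word [8,3,4,5,2,3,0])) (.node (.word [2,3,7,1,2,0]) (.word [8,5,6,4,5,4,0,1,2,0]))) (.node (.node (.word [4,3,7,5,3,1,0]) (.word [8,4,5,3,4,0,1,2,1,0])) (.word [7,0,1,2,0]))) (.node (.node (.node (.word [1,2,3,4,0,1,2,3,7,3,0]) (.word [7,4,5,4,3,1,2,0])) (.node (.word [0,1,2,3,7,5,3,1,2,0]) (.word [7,8,1,2,3,4,5,3,1,2,0]))) (.node (.node (.word [4,1,2,3,7,5,3]) (.word [7,8,3,4,5,3,4,1,2,1,0])) (.word [7,5,6,4,5,0])))) (.node (.node (.node (.node (.word [8,7,6,5,3,4,2,3,7,4,1,0]) (.word [8,3,4,5,4,0])) (.node (.word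 [8,2,3,7,6,5,2,1,0]) (.word [8,7,6,3,4,5,4,3,2,0]))) (.node (.node (.word [4,3,7,0]) (.word [5,6,4,5,3,4,2,0])) (.word [4,0,1,2,1,0]))) (.node (.node (.node (.word [8,5,4,2,3,7,1,0]) (.word [7,8,3,4,5,4,0])) (.word [7,6,4,5,3,0])) (.node (.node (.word [6,5,4,3,7,3,4,5,0]) (.word [8,6,4,5,3,4,3,2,0])) (.word [6,5,4,2,0]))))) (.node (.node (.node (.node (.node (.word [5,6,4,5,3,4,1,2,3,7,5,3,1,0]) (.word [3,4,3,1,2,0])) (.node (.word [0,1,2,3,7,5,0,1,2,1,0]) (.word [3,7,8,4,5,3,4,2]))) (.node (.node (.word [5,4,1,2,3,7,6,5,0]) (.word [8,6,3,4,5,4,1,2,1,0])) (.word [8,5,3]))) (.node (.node (.node (.word [6,5,4,2,3,7,5,1,0]) (.word [8,6,4,5,4,1,2,1,0])) (.node (.word [7,2,3,2]) (.word [3,7,8,2,3,4,5,3,4,2]))) (.node (.node (.word [2,3,7,3,4,5,3,1,0]) (.word [7,8,2,3,4,5,4,1,2,1,0]))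 (.word [8,3,4,1,2,1,0])))) (.node (.node (.node (.node (.word [5,1,2,3,4,0,1,2,3,7,3,0]) (.word [7,8,3,4,5,2,1,0])) (.node (.word [3,7,3,4,5,3,0]) (.word [8,0,1,2,3,4,5,3,2]))) (.node (.node (.word [8,6,5,4,3,7,4,0]) (.word [8,1,2,3,4,5,1,2,1,0])) (.word [7,6,5,2,3,2]))) (.node (.node (.node (.word [2,3,4,0,1,2,3,7,3]) (.word [7,8,2,3,4,5,2,1,0])) (.word [7,4,2,3,2])) (.node (.node (.word [4,3,7,6,5,4,1,0]) (.word [8,7,1,2,3,4,5,2,0])) (.word [8,6,4,5,2,1,0]))))))))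

/-- A subtree. -/
def sub123 : WTree :=
  (.node (.node (.node (.node (.node (.node (.node (.node (.word [4,3,7,5,6,4,5,2,3,4,1,2,3,7,3,1,0]) (.word [4,5,2])) (.node (.word [8,4,3,7,5,0]) (.word [7,8,1,2,3,4,0,1,2,0]))) (.node (.node (.word [4,0,1,2,3,7,2,3,0]) (.word [8,2,3,4,5,2,0])) (.word [7,8,4,1,0]))) (.node (.node (.node (.word [7,3,4,2,3,7,1,0]) (.word [8,6,4,5,2,0])) (.node (.word [1,2,3,7,6,5,2]) (.word [7,8,2,3,4,5,3,4,2]))) (.node (.node (.word [6,5,4,2,3,7,6,5]) (.word [6,3,4,5,4,3,2,0])) (.word [6,4,5,2,1,0])))) (.node (.node (.node (.node (.word [5,2,3,4,1,2,3,7,3,1,0]) (.word [7,8,5,4])) (.node (.word [4,3,7,4,2,3,2]) (.word [2,3,7,8,4,5,3,4,2,0]))) (.node (.node (.word [4,0,1,2,3,7,6,5,1,0]) (.word [3,7,8,3,4,2])) (.word [8,3,7,1,2]))) (.node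 (.node (.node (.word [7,8,3,4,0,1,2,3,7,2,1,0]) (.word [6,2,3,4,5,2,0])) (.node (.word [7,8,1,0]) (.word [3,7,8,2,3,4,5,4,3,1,2,0]))) (.node (.node (.word [4,1,2,3,7,6,5]) (.word [8,6,5,3,4,1,2])) (.word [7,6,4,5,4,1,2,1,0]))))) (.node (.node (.node (.node (.node (.word [8,7,5,2,3,4,1,2,3,7,3,1,0]) (.word [2,3,4,0,1,2,1,0])) (.node (.word [3,4,2,3,7,5]) (.word [7,8,3,4,5,3,4,1,2,0]))) (.node (.node (.word [2,3,7,3,0]) (.word [4,5,4,0,1,2])) (.word [5,6,3,4,5,1,0]))) (.node (.node (.node (.word [8,7,3,4,2,3,7,4,2,1,0]) (.word [4,5,4,3,2])) (.node (.word [7,8,4,3,7,4]) (.word [7,8,2,3,4,5,3,4,3,2]))) (.node (.node (.word [8,4,3,7,2,1,0]) (.word [0,1,2,3,4,5,4])) (.word [6,5,2,3,2,0])))) (.node (.node (.node (.node (.word [7,8,6,5,3,4,0,1,2,3,7,1,0]) (.word [6,3,4,5,1,2,3,2]))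 (.node (.word [8,4,3,7,5]) (.word [7,8,5,2,3,4,0,1,2]))) (.node (.node (.word [4,2,3,7,3,4,5,3,1,0]) (.word [8,2,3,4,5,2,3,2])) (.word [6,3,4,5,1,0]))) (.node (.node (.node (.word [1,2,3,7,3,0]) (.word [5,6,3,4,5,1,2,1,0])) (.word [4,2,3,7,5,1,2,0])) (.node (.node (.word [0,1,2,3,7,6,5,0]) (.word [8,6,3,4,5,0,1,2,0])) (.word [6,5,1,2,3])))))) (.node (.node (.node (.node (.node (.node (.word [8,7,5,6,4,5,1,2,3,4,0,1,2,3,7,3,1,0]) (.word [8,6,5,2,3])) (.node (.word [3,7,3,4,5,3,1,0]) (.word [7,8,5,3,4,0,1,2]))) (.node (.node (.word [5,4,3,7,5,1,0]) (.word [8,6,4,5,0,1,2])) (.word [7,3,2]))) (.node (.node (.node (.word [6,5,4,2,3,7,3,0]) (.word [7,8,3,4,5,2,3,0])) (.node (.word [0,1,2,3,7,5,3,2]) (.word [7,8,6,2,3,4,5,0,1,2,0]))) (.node (.node (.word [3,4,0,1,2,3,7,5,0])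 (.word [4,5,2,3,4,3,1,2,0])) (.word [3,7,4,5,2,0])))) (.node (.node (.node (.node (.word [8,7,3,4,1,2,3,7,1,0]) (.word [8,5,3,4,2,0])) (.node (.word [4,3,7,6,4,5,4,1,0]) (.word [8,0,1,2,3,4,5,2]))) (.node (.node (.word [5,4,3,7,5,4,1,0]) (.word [6,3,4,5,3,4,2,0])) (.word [7,4,3,2]))) (.node (.node (.node (.word [3,7,8,5,3,4,2,3,7,4,1,0]) (.word [6,4,5,3,4,2,0])) (.node (.word [7,6,5,3]) (.word [2,3,7,8,1,2,3,4,5,3,1,2,0]))) (.node (.node (.word [8,6,5,4,3,7,6,5,0]) (.word [8,2,3,4,5,3,4,2,0])) (.word [8,4,2]))))) (.node (.node (.node (.node (.node (.word [4,5,2,3,4,1,2,3,7,3,1,0]) (.word [6,5,4,0,1,2,1,0])) (.node (.word [6,5,4,2,3,7,3,4,5,0]) (.word [5,6,3,4,5,3,4,2]))) (.node (.node (.word [8,6,5,4,2,3,7,5,0]) (.word [4,5,3,4,3,1,2,0])) (.word [7,2,3,4,5,1,0])))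 (.node (.node (.node (.word [3,4,1,2,3,7,2,3,0]) (.word [8,6,5,4,1,2,0])) (.node (.word [5,4,2,3,7,3,4,5]) (.word [3,7,8,7,2,3,4,5,1,2]))) (.node (.node (.word [4,3,7,4,5,3,0]) (.word [8,4,5,3,4,3,1,2,0])) (.word [7,5,3,4,0,1,2,1,0])))) (.node (.node (.node (.node (.word [6,5,4,1,2,3,7,3,0]) (.word [6,3,4,5,1,2,1,0])) (.node (.word [4,5,3,1,0]) (.word [7,8,7,2,3,4,5,4,1,2,0]))) (.node (.node (.word [1,2,3,7,6,5,3,0]) (.word [8,3,4,5,3,1,2,0])) (.word [7,2,3,4,5,4,1,0]))) (.node (.node (.node (.word [6,5,4,2,3,7,5,0]) (.word [6,2,3,4,5,1,2,1,0])) (.word [0,1,2,3,7,6,5,0,1,2,0])) (.node (.node (.word [8,5,4,3,7,5,4,0]) (.word [7,8,7,3,4,5,2])) (.word [8,3,1,2,0]))))))) (.node (.node (.node (.node (.node (.node (.node (.word [7,8,3,7,4,5,2,3,4,0,1,2,3,7,3,1,0])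 (.word [5,4,3,2,0])) (.node (.word [7,2,3,0]) (.word [3,7,8,2,3,4,5,3,4,2,1,0]))) (.node (.node (.word [8,3,4,2,3,7,4,1,0]) (.word [1,2,3,4,5,2,3])) (.word [4,3,7,5,6,4,5]))) (.node (.node (.node (.word [3,4,1,2,3,7,5,3,1,0]) (.word [7,8,3,4,5,4])) (.node (.word [8,3,7,6,5]) (.word [7,8,2,3,4,5,3,4,3,2,0]))) (.node (.node (.word [8,4,0,1,2,3,7]) (.word [7,8,6,3,4,5,2,3,2,0])) (.word [5,6,3,4,5,0])))) (.node (.node (.node (.node (.word [8,7,5,3,4,0,1,2,3,7,1,0]) (.word [5,3,4,2])) (.node (.word [3,7,5,4,0]) (.word [2,3,7,8,4,5,1,2]))) (.node (.node (.word [5,2,3,4,0,1,2,3,7,5]) (.word [7,3,4,5,4,2])) (.word [7,5,3,2,0]))) (.node (.node (.node (.word [8,6,5,4,0,1,2,3,7,0]) (.word [6,5,3,4,2])) (.node (.word [4,3,7,6,4,5]) (.word [3,7,8,6,2,3,4,5,4,1,2]))) (.node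 (.node (.word [1,2,3,7,5,2,3,2,0]) (.word [5,6,4,5,3,4,2])) (.word [8,7,4,5,4]))))) (.node (.node (.node (.node (.node (.word [8,7,6,5,1,2,3,4,0,1,2,3,7,3,1,0]) (.word [5,4,3,2])) (.node (.word [7,8,6,5,4,3,7,4]) (.word [8,7,2,3,4,5,1,2]))) (.node (.node (.word [8,6,5,4,3,7,0]) (.word [3,7,8,4,1,2])) (.word [4,5,0]))) (.node (.node (.node (.word [3,4,2,3,7,5,3,1,0]) (.word [5,3,4,0,1,2,0])) (.node (.word [5,4,1,0]) (.word [4,3,7,8,4,5,3,4,1,2]))) (.node (.node (.word [8,4,3,7,5,1,0]) (.word [7,8,3,4,5,4,0,1,2,1,0])) (.word [3,7,5,0,1,2])))) (.node (.node (.node (.node (.word [7,8,5,3,4,1,2,3,7,1,0]) (.word [3,4,5,0,1,2,1,0])) (.node (.word [4,3,7,6,4,5,0]) (.word [7,8,3,4,5,4,0,1,2]))) (.node (.node (.word [1,2,3,7,6,5,1,0]) (.word [7,8,4,5,1,2])) (.word [6,5,4,0])))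 (.node (.node (.node (.word [8,6,5,4,2,3,7,5,1,0]) (.word [2,3,4,5,0,1,2,1,0])) (.word [4,3,7,5,2,0])) (.node (.node (.word [8,2,3,7,4,2,1,0]) (.word [1,2,3,4,5,3,1,2,0])) (.word [7,4,5,0,1,2,0])))))) (.node (.node (.node (.node (.node (.node (.word [7,8,2,3,7,4,5,1,2,3,4,0,1,2,3,7,3,1,0]) (.word [7,8,6,5,4,2,0])) (.node (.word [8,1,2,3,7,5,2,0]) (.word [3,7,8,5,3,4,1,2]))) (.node (.node (.word [4,1,2,3,7,1,2,1,0]) (.word [8,3,4,5,3,4,1,2,1,0])) (.word [5,1,2,1,0]))) (.node (.node (.node (.word [5,4,0,1,2,3,7,1,0]) (.word [8,2,3,4,0,1,2,1,0])) (.node (.word [0,1,2,3,7,6,5,3,2,0]) (.word [7,8,7,1,2,3,4,5,3,2,0]))) (.node (.node (.word [7,8,4,2,3,7,4,1,0]) (.word [8,5,6,4,5,1,2])) (.word [7,3,4,5])))) (.node (.node (.node (.node (.word [6,5,3,4,1,2,3,7,5,3,1,0])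 (.word [7,1,2,3,4,5,4,0])) (.node (.word [8,7,0]) (.word [8,1,2,3,4,5,4,3,2,0]))) (.node (.node (.word [5,4,3,7,4,5,1,0]) (.word [5,6,4,5,4,3,2,0])) (.word [7,6,4,5,4,2,1,0]))) (.node (.node (.node (.word [5,4,2,3,7,4,5,3,1,0]) (.word [8,5,6,4,5])) (.word [3,7,6,4,5,3])) (.node (.node (.word [0,1,2,3,7,2,3,2]) (.word [8,6,3,4,5,1,2])) (.word [8,4,5,4,0]))))) (.node (.node (.node (.node (.node (.word [7,4,5,3,4,0,1,2,3,7,3,1,0]) (.word [6,3,4,5,4,2,1,0])) (.node (.word [0,1,2,3,7,1,2]) (.word [7,8,6,3,4,5,3,4,2,0]))) (.node (.node (.word [3,4,0,1,2,3,7,1,2,3]) (.word [7,8,6,3,4,5,4,2,1,0])) (.word [6,4,5,3,0]))) (.node (.node (.node (.word [8,6,5,4,1,2,3,7,5,1,0]) (.word [8,2,3,4,5,4,2,1,0])) (.node (.word [7,5,1,2,1,0]) (.word [4,3,7,8,2,3,4,5,0,1,2,0]))) (.node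 (.node (.word [1,2,3,7,5,1,2,1,0]) (.word [2,3,7,8,3,4,2])) (.word [5,4,2,3,2])))) (.node (.node (.node (.node (.word [5,4,0,1,2,3,7,3,1,0]) (.word [6,5,1,2])) (.node (.word [2,3,7,0,1,2,0]) (.word [3,7,8,6,4,5,3,4,3,2,0]))) (.node (.node (.word [8,6,5,4,3,7,4,5,1,0]) (.word [8,5,6,3,4,5,2,0])) (.word [7,5,0,1,2,0]))) (.node (.node (.node (.word [4,0,1,2,3,7,0]) (.word [3,4,5,1,2])) (.word [4,1,2,1,0])) (.node (.node (.word [7,2,1,0]) (.word [8,6,3,4,5,4,3,2,0])) (.word [7,8,5]))))))))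

/-- A subtree. -/
def sub124 : WTree :=
  (.node (.node sub120 sub121) (.node sub122 sub123))

/-- Points. -/
def levY0pts0 : List ℕ := [0,1,2,3,4,5,6,7,8,9,10,11,12,13,14,15,16,17,18,19,20,21,22,23,24,25,26,27,28,29,30,31,32,33,34,35,36,37,38,39,40,41,42,43,44,45,46,47,48,49,50,51,52,53,54,55,56,57,58,59,60,61,62,63,64,65,66,67,68,69,70,71,72,73,74,75,76,77,78,79,80,81,82,83,84,85,86,87,88,89,90,91,92,93,94,95,96,97,98,99,100,101,102,103,104,105,106,107,108,109,110,111,112,113,114,115,116,117,118,119,120,121,122,123,124,125,126,127,128,129,130,131,132,133,134,135,136,137,138,139,140,141,142,143,144,145,146,147,148,149,150,151,152,153,154,155,156,157,158,159,160,161,162,163,164,165,166,167,168,169,170,171,172,173,174,175,176,177,178,179,180,181,182,183,184,185,186,187,188,189,190,191,192,193,194,195,196,197,198,199]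

/-- Points. -/
def levY0pts1 : List ℕ := [200,201,202,203,204,205,206,207,208,209,210,211,212,213,214,215,216,217,218,219,220,221,222,223,224,225,226,227,228,229,230,231,232,233,234,235,236,237,238,239,240,241,242,243,244,245,246,247,248,249,250,251,252,253,254,255,256,257,258,259,260,261,262,263,264,265,266,267,268,269,270,271,272,273,274,275,276,277,278,279,280,281,282,283,284,285,286,287,288,289,290,291,292,293,294,295,296,297,298,299,300,301,302,303,304,305,306,307,308,309,310,311,312,313,314,315,316,317,318,319,320,321,322,323,324,325,326,327,328,329,330,331,332,333,334,335,336,337,338,339,340,341,342,343,344,345,346,347,348,349,350,351,352,353,354,355,356,357,358,359,360,361,362,363,364,365,366,367,368,369,370,371,372,373,374,375,376,377,378,379,380,381,382,383,384,385,386,387,388,389,390,391,392,393,394,395,396,397,398,399]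

/-- Points. -/
def levY0pts2 : List ℕ := [400,401,402,403,404,405,406,407,408,409,410,411,412,413,414,415,416,417,418,419,420,421,422,423,424,425,426,427,428,429,430,431,432,433,434,435,436,437,438,439,440,441,442,443,444,445,446,447,448,449,450,451,452,453,454,455,456,457,458,459,460,461,462,463,464,465,466,467,468,469,470,471,472,473,474,475,476,477,478,479,480,481,482,483,484,485,486,487,488,489,490,491,492,493,494,495,496,497,498,499,500,501,502,503,504,505,506,507,508,509,510,511,512,513,514,515,516,517,518,519,520,521,522,523,524,525,526,527,528,529,530,531,532,533,534,535,536,537,538,539,540,541,542,543,544,545,546,547,548,549,550,551,552,553,554,555,556,557,558,559,560,561,562,563,564,565,566,567,568,569,570,571,572,573,574,575,576,577,578,579,580,581,582,583,584,585,586,587,588,589,590,591,592,593,594,595,596,597,598,599]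

/-- Points. -/
def levY0pts3 : List ℕ := [600,601,602,603,604,605,606,607,608,609,610,611,612,613,614,615,616,617,618,619,620,621,622,623,624,625,626,627,628,629,630,631,632,633,634,635,636,637,638,639,640,641,642,643,644,645,646,647,648,649,650,651,652,653,654,655,656,657,658,659,660,661,662,663,664,665,666,667,668,669,670,671,672,673,674,675,676,677,678,679,680,681,682,683,684,685,686,687,688,689,690,691,692,693,694,695,696,697,698,699,700,701,702,703,704,705,706,707,708,709,710,711,712,713,714,715,716,717,718,719,720,721,722,723,724,725,726,727,728,729,730,731,732,733,734,735,736,737,738,739,740,741,742,743,744,745,746,747,748,749,750,751,752,753,754,755,756,757,758,759,760,761,762,763,764,765,766,767,768,769,770,771,772,773,774,775,776,777,778,779,780,781,782,783,784,785,786,787,788,789,790,791,792,793,794,795,796,797,798,799]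

/-- Points. -/
def levY0pts4 : List ℕ := [800,801,802,803,804,805,806,807,808,809,810,811,812,813,814,815,816,817,818,819,820,821,822,823,824,825,826,827,828,829,830,831,832,833,834,835,836,837,838,839,840,841,842,843,844,845,846,847,848,849,850,851,852,853,854,855,856,857,858,859,860,861,862,863,864,865,866,867,868,869,870,871,872,873,874,875,876,877,878,879,880,881,882,883,884,885,886,887,888,889,890,891,892,893,894,895,896,897,898,899,900,901,902,903,904,905,906,907,908,909,910,911,912,913,914,915,916,917,918,919,920,921,922,923,924,925,926,927,928,929,930,931,932,933,934,935,936,937,938,939,940,941,942,943,944,945,946,947,948,949,950,951,952,953,954,955,956,957,958,959,960,961,962,963,964,965,966,967,968,969,970,971,972,973,974,975,976,977,978,979,980,981,982,983,984,985,986,987,988,989,990,991,992,993,994,995,996,997,998,999]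

/-- Points. -/
def levY0pts5 : List ℕ := [1000,1001,1002,1003,1004,1005,1006,1007,1008,1009,1010,1011,1012,1013,1014,1015,1016,1017,1018,1019,1020,1021,1022,1023,1024,1025,1026,1027,1028,1029,1030,1031,1032,1033,1034,1035,1036,1037,1038,1039,1040,1041,1042,1043,1044,1045,1046,1047,1048,1049,1050,1051,1052,1053,1054,1055,1056,1057,1058,1059,1060,1061,1062,1063,1064,1065,1066,1067,1068,1069,1070,1071,1072,1073,1074,1075,1076,1077,1078,1079,1080,1081,1082,1083,1084,1085,1086,1087,1088,1089,1090,1091,1092,1093,1094,1095,1096,1097,1098,1099,1100,1101,1102,1103,1104,1105,1106,1107,1108,1109,1110,1111,1112,1113,1114,1115,1116,1117,1118,1119,1120,1121,1122,1123,1124,1125,1126,1127,1128,1129,1130,1131,1132,1133,1134,1135,1136,1137,1138,1139,1140,1141,1142,1143,1144,1145,1146,1147,1148,1149,1150,1151,1152,1153,1154,1155,1156,1157,1158,1159,1160,1161,1162,1163,1164,1165,1166,1167,1168,1169,1170,1171,1172,1173,1174,1175,1176,1177,1178,1179,1180,1181,1182,1183,1184,1185,1186,1187,1188,1189,1190,1191,1192,1193,1194,1195,1196,1197,1198,1199]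

/-- Points. -/
def levY0pts6 : List ℕ := [1200,1201,1202,1203,1204,1205,1206,1207,1208,1209,1210,1211,1212,1213,1214,1215,1216,1217,1218,1219,1220,1221,1222,1223,1224,1225,1226,1227,1228,1229,1230,1231,1232,1233,1234,1235,1236,1237,1238,1239,1240,1241,1242,1243,1244,1245,1246,1247,1248,1249,1250,1251,1252,1253,1254,1255,1256,1257,1258,1259,1260,1261,1262,1263,1264,1265,1266,1267,1268,1269,1270,1271,1272,1273,1274,1275,1276,1277,1278,1279,1280,1281,1282,1283,1284,1285,1286,1287,1288,1289,1290,1291,1292,1293,1294,1295,1296,1297,1298,1299,1300,1301,1302,1303,1304,1305,1306,1307,1308,1309,1310,1311,1312,1313,1314,1315,1316,1317,1318,1319,1320,1321,1322,1323,1324,1325,1326,1327,1328,1329,1330,1331,1332,1333,1334,1335,1336,1337,1338,1339,1340,1341,1342,1343,1344,1345,1346,1347,1348,1349,1350,1351,1352,1353,1354,1355,1356,1357,1358,1359,1360,1361,1362,1363,1364,1365,1366,1367,1368,1369,1370,1371,1372,1373,1374,1375,1376,1377,1378,1379,1380,1381,1382,1383,1384,1385,1386,1387,1388,1389,1390,1391,1392,1393,1394,1395,1396,1397,1398,1399]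

/-- Points. -/
def levY0pts7 : List ℕ := [1400,1401,1402,1403,1404,1405,1406,1407,1408,1409,1410,1411,1412,1413,1414,1415,1416,1417,1418,1419,1420,1421,1422,1423,1424,1425,1426,1427,1428,1429,1430,1431,1432,1433,1434,1435,1436,1437,1438,1439,1440,1441,1442,1443,1444,1445,1446,1447,1448,1449,1450,1451,1452,1453,1454,1455,1456,1457,1458,1459,1460,1461,1462,1463,1464,1465,1466,1467,1468,1469,1470,1471,1472,1473,1474,1475,1476,1477,1478,1479,1480,1481,1482,1483,1484,1485,1486,1487,1488,1489,1490,1491,1492,1493,1494,1495,1496,1497,1498,1499,1500,1501,1502,1503,1504,1505,1506,1507,1508,1509,1510,1511,1512,1513,1514,1515,1516,1517,1518,1519,1520,1521,1522,1523,1524,1525,1526,1527,1528,1529,1530,1531,1532,1533,1534,1535,1536,1537,1538,1539,1540,1541,1542,1543,1544,1545,1546,1547,1548,1549,1550,1551,1552,1553,1554,1555,1556,1557,1558,1559,1560,1561,1562,1563,1564,1565,1566,1567,1568,1569,1570,1571,1572,1573,1574,1575,1576,1577,1578,1579,1580,1581,1582,1583,1584,1585,1586,1587,1588,1589,1590,1591,1592,1593,1594,1595,1596,1597,1598,1599]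

/-- Points. -/
def levY0pts8 : List ℕ := [1600,1601,1602,1603,1604,1605,1606,1607,1608,1609,1610,1611,1612,1613,1614,1615,1616,1617,1618,1619,1620,1621,1622,1623,1624,1625,1626,1627,1628,1629,1630,1631,1632,1633,1634,1635,1636,1637,1638,1639,1640,1641,1642,1643,1644,1645,1646,1647,1648,1649,1650,1651,1652,1653,1654,1655,1656,1657,1658,1659,1660,1661,1662,1663,1664,1665,1666,1667,1668,1669,1670,1671,1672,1673,1674,1675,1676,1677,1678,1679,1680,1681,1682,1683,1684,1685,1686,1687,1688,1689,1690,1691,1692,1693,1694,1695,1696,1697,1698,1699,1700,1701,1702,1703,1704,1705,1706,1707,1708,1709,1710,1711,1712,1713,1714,1715,1716,1717,1718,1719,1720,1721,1722,1723,1724,1725,1726,1727,1728,1729,1730,1731,1732,1733,1734,1735,1736,1737,1738,1739,1740,1741,1742,1743,1744,1745,1746,1747,1748,1749,1750,1751,1752,1753,1754,1755,1756,1757,1758,1759,1760,1761,1762,1763,1764,1765,1766,1767,1768,1769,1770,1771,1772,1773,1774,1775,1776,1777,1778,1779,1780,1781,1782,1783,1784,1785,1786,1787,1788,1789,1790,1791,1792,1793,1794,1795,1796,1797,1798,1799]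

/-- Points. -/
def levY0pts9 : List ℕ := [1800,1801,1802,1803,1804,1805,1806,1807,1808,1809,1810,1811,1812,1813,1814,1815,1816,1817,1818,1819,1820,1821,1822,1823,1824,1825,1826,1827,1828,1829,1830,1831,1832,1833,1834,1835,1836,1837,1838,1839,1840,1841,1842,1843,1844,1845,1846,1847,1848,1849,1850,1851,1852,1853,1854,1855,1856,1857,1858,1859,1860,1861,1862,1863,1864,1865,1866,1867,1868,1869,1870,1871,1872,1873,1874,1875,1876,1877,1878,1879,1880,1881,1882,1883,1884,1885,1886,1887,1888,1889,1890,1891,1892,1893,1894,1895,1896,1897,1898,1899,1900,1901,1902,1903,1904,1905,1906,1907,1908,1909,1910,1911,1912,1913,1914,1915,1916,1917,1918,1919,1920,1921,1922,1923,1924,1925,1926,1927,1928,1929,1930,1931,1932,1933,1934,1935,1936,1937,1938,1939,1940,1941,1942,1943,1944,1945,1946,1947,1948,1949,1950,1951,1952,1953,1954,1955,1956,1957,1958,1959,1960,1961,1962,1963,1964,1965,1966,1967,1968,1969,1970,1971,1972,1973,1974,1975,1976,1977,1978,1979,1980,1981,1982,1983,1984,1985,1986,1987,1988,1989,1990,1991,1992,1993,1994,1995,1996,1997,1998,1999]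

/-- Points. -/
def levY0pts10 : List ℕ := [2000,2001,2002,2003,2004,2005,2006,2007,2008,2009,2010,2011,2012,2013,2014,2015,2016,2017,2018,2019,2020,2021,2022,2023,2024,2025,2026,2027,2028,2029,2030,2031,2032,2033,2034,2035,2036,2037,2038,2039,2040,2041,2042,2043,2044,2045,2046,2047,2048,2049,2050,2051,2052,2053,2054,2055,2056,2057,2058,2059,2060,2061,2062,2063,2064,2065,2066,2067,2068,2069,2070,2071,2072,2073,2074,2075,2076,2077,2078,2079,2080,2081,2082,2083,2084,2085,2086,2087,2088,2089,2090,2091,2092,2093,2094,2095,2096,2097,2098,2099,2100,2101,2102,2103,2104,2105,2106,2107,2108,2109,2110,2111,2112,2113,2114,2115,2116,2117,2118,2119,2120,2121,2122,2123,2124,2125,2126,2127,2128,2129,2130,2131,2132,2133,2134,2135,2136,2137,2138,2139,2140,2141,2142,2143,2144,2145,2146,2147,2148,2149,2150,2151,2152,2153,2154,2155,2156,2157,2158,2159,2160,2161,2162,2163,2164,2165,2166,2167,2168,2169,2170,2171,2172,2173,2174,2175,2176,2177,2178,2179,2180,2181,2182,2183,2184,2185,2186,2187,2188,2189,2190,2191,2192,2193,2194,2195,2196,2197,2198,2199]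

/-- Points. -/
def levY0pts11 : List ℕ := [2200,2201,2202,2203,2204,2205,2206,2207,2208,2209,2210,2211,2212,2213,2214,2215,2216,2217,2218,2219,2220,2221,2222,2223,2224,2225,2226,2227,2228,2229,2230,2231,2232,2233,2234,2235,2236,2237,2238,2239,2240,2241,2242,2243,2244,2245,2246,2247,2248,2249,2250,2251,2252,2253,2254,2255,2256,2257,2258,2259,2260,2261,2262,2263,2264,2265,2266,2267,2268,2269,2270,2271,2272,2273,2274,2275,2276,2277,2278,2279,2280,2281,2282,2283,2284,2285,2286,2287,2288,2289,2290,2291,2292,2293,2294,2295,2296,2297,2298,2299,2300,2301,2302,2303,2304,2305,2306,2307,2308,2309,2310,2311,2312,2313,2314,2315,2316,2317,2318,2319,2320,2321,2322,2323,2324,2325,2326,2327,2328,2329,2330,2331,2332,2333,2334,2335,2336,2337,2338,2339,2340,2341,2342,2343,2344,2345,2346,2347,2348,2349,2350,2351,2352,2353,2354,2355,2356,2357,2358,2359,2360,2361,2362,2363,2364,2365,2366,2367,2368,2369,2370,2371,2372,2373,2374,2375,2376,2377,2378,2379,2380,2381,2382,2383,2384,2385,2386,2387,2388,2389,2390,2391,2392,2393,2394,2395,2396,2397,2398,2399]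

/-- Points. -/
def levY0pts12 : List ℕ := [2400,2401,2402,2403,2404,2405,2406,2407,2408,2409,2410,2411,2412,2413,2414,2415,2416,2417,2418,2419,2420,2421,2422,2423,2424,2425,2426,2427,2428,2429,2430,2431,2432,2433,2434,2435,2436,2437,2438,2439,2440,2441,2442,2443,2444,2445,2446,2447,2448,2449,2450,2451,2452,2453,2454,2455,2456,2457,2458,2459,2460,2461,2462,2463,2464,2465,2466,2467,2468,2469,2470,2471,2472,2473,2474,2475,2476,2477,2478,2479,2480,2481,2482,2483,2484,2485,2486,2487,2488,2489,2490,2491,2492,2493,2494,2495,2496,2497,2498,2499,2500,2501,2502,2503,2504,2505,2506,2507,2508,2509,2510,2511,2512,2513,2514,2515,2516,2517,2518,2519,2520,2521,2522,2523,2524,2525,2526,2527,2528,2529,2530,2531,2532,2533,2534,2535,2536,2537,2538,2539,2540,2541,2542,2543,2544,2545,2546,2547,2548,2549,2550,2551,2552,2553,2554,2555,2556,2557,2558,2559,2560,2561,2562,2563,2564,2565,2566,2567,2568,2569,2570,2571,2572,2573,2574,2575,2576,2577,2578,2579,2580,2581,2582,2583,2584,2585,2586,2587,2588,2589,2590,2591,2592,2593,2594,2595,2596,2597,2598,2599]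

/-- Points. -/
def levY0pts13 : List ℕ := [2600,2601,2602,2603,2604,2605,2606,2607,2608,2609,2610,2611,2612,2613,2614,2615,2616,2617,2618,2619,2620,2621,2622,2623,2624,2625,2626,2627,2628,2629,2630,2631,2632,2633,2634,2635,2636,2637,2638,2639,2640,2641,2642,2643,2644,2645,2646,2647,2648,2649,2650,2651,2652,2653,2654,2655,2656,2657,2658,2659,2660,2661,2662,2663,2664,2665,2666,2667,2668,2669,2670,2671,2672,2673,2674,2675,2676,2677,2678,2679,2680,2681,2682,2683,2684,2685,2686,2687,2688,2689,2690,2691,2692,2693,2694,2695,2696,2697,2698,2699,2700,2701,2702,2703,2704,2705,2706,2707,2708,2709,2710,2711,2712,2713,2714,2715,2716,2717,2718,2719,2720,2721,2722,2723,2724,2725,2726,2727,2728,2729,2730,2731,2732,2733,2734,2735,2736,2737,2738,2739,2740,2741,2742,2743,2744,2745,2746,2747,2748,2749,2750,2751,2752,2753,2754,2755,2756,2757,2758,2759,2760,2761,2762,2763,2764,2765,2766,2767,2768,2769,2770,2771,2772,2773,2774,2775,2776,2777,2778,2779,2780,2781,2782,2783,2784,2785,2786,2787,2788,2789,2790,2791,2792,2793,2794,2795,2796,2797,2798,2799]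

/-- Points. -/
def levY0pts14 : List ℕ := [2800,2801,2802,2803,2804,2805,2806,2807,2808,2809,2810,2811,2812,2813,2814,2815,2816,2817,2818,2819,2820,2821,2822,2823,2824,2825,2826,2827,2828,2829,2830,2831,2832,2833,2834,2835,2836,2837,2838,2839,2840,2841,2842,2843,2844,2845,2846,2847,2848,2849,2850,2851,2852,2853,2854,2855,2856,2857,2858,2859,2860,2861,2862,2863,2864,2865,2866,2867,2868,2869,2870,2871,2872,2873,2874,2875,2876,2877,2878,2879,2880,2881,2882,2883,2884,2885,2886,2887,2888,2889,2890,2891,2892,2893,2894,2895,2896,2897,2898,2899,2900,2901,2902,2903,2904,2905,2906,2907,2908,2909,2910,2911,2912,2913,2914,2915,2916,2917,2918,2919,2920,2921,2922,2923,2924,2925,2926,2927,2928,2929,2930,2931,2932,2933,2934,2935,2936,2937,2938,2939,2940,2941,2942,2943,2944,2945,2946,2947,2948,2949,2950,2951,2952,2953,2954,2955,2956,2957,2958,2959,2960,2961,2962,2963,2964,2965,2966,2967,2968,2969,2970,2971,2972,2973,2974,2975,2976,2977,2978,2979,2980,2981,2982,2983,2984,2985,2986,2987,2988,2989,2990,2991,2992,2993,2994,2995,2996,2997,2998,2999]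

/-- Points. -/
def levY0pts15 : List ℕ := [3000,3001,3002,3003,3004,3005,3006,3007,3008,3009,3010,3011,3012,3013,3014,3015,3016,3017,3018,3019,3020,3021,3022,3023,3024,3025,3026,3027,3028,3029,3030,3031,3032,3033,3034,3035,3036,3037,3038,3039,3040,3041,3042,3043,3044,3045,3046,3047,3048,3049,3050,3051,3052,3053,3054,3055,3056,3057,3058,3059,3060,3061,3062,3063,3064,3065,3066,3067,3068,3069,3070,3071,3072,3073,3074,3075,3076,3077,3078,3079,3080,3081,3082,3083,3084,3085,3086,3087,3088,3089,3090,3091,3092,3093,3094,3095,3096,3097,3098,3099,3100,3101,3102,3103,3104,3105,3106,3107,3108,3109,3110,3111,3112,3113,3114,3115,3116,3117,3118,3119,3120,3121,3122,3123,3124,3125,3126,3127,3128,3129,3130,3131,3132,3133,3134,3135,3136,3137,3138,3139,3140,3141,3142,3143,3144,3145,3146,3147,3148,3149,3150,3151,3152,3153,3154,3155,3156,3157,3158,3159,3160,3161,3162,3163,3164,3165,3166,3167,3168,3169,3170,3171,3172,3173,3174,3175,3176,3177,3178,3179,3180,3181,3182,3183,3184,3185,3186,3187,3188,3189,3190,3191,3192,3193,3194,3195,3196,3197,3198,3199]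

/-- Points. -/
def levY0pts16 : List ℕ := [3200,3201,3202,3203,3204,3205,3206,3207,3208,3209,3210,3211,3212,3213,3214,3215,3216,3217,3218,3219,3220,3221,3222,3223,3224,3225,3226,3227,3228,3229,3230,3231,3232,3233,3234,3235,3236,3237,3238,3239,3240,3241,3242,3243,3244,3245,3246,3247,3248,3249,3250,3251,3252,3253,3254,3255,3256,3257,3258,3259,3260,3261,3262,3263,3264,3265,3266,3267,3268,3269,3270,3271,3272,3273,3274,3275,3276,3277,3278,3279,3280,3281,3282,3283,3284,3285,3286,3287,3288,3289,3290,3291,3292,3293,3294,3295,3296,3297,3298,3299,3300,3301,3302,3303,3304,3305,3306,3307,3308,3309,3310,3311,3312,3313,3314,3315,3316,3317,3318,3319,3320,3321,3322,3323,3324,3325,3326,3327,3328,3329,3330,3331,3332,3333,3334,3335,3336,3337,3338,3339,3340,3341,3342,3343,3344,3345,3346,3347,3348,3349,3350,3351,3352,3353,3354,3355,3356,3357,3358,3359,3360,3361,3362,3363,3364,3365,3366,3367,3368,3369,3370,3371,3372,3373,3374,3375,3376,3377,3378,3379,3380,3381,3382,3383,3384,3385,3386,3387,3388,3389,3390,3391,3392,3393,3394,3395,3396,3397,3398,3399]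

/-- Points. -/
def levY0pts17 : List ℕ := [3400,3401,3402,3403,3404,3405,3406,3407,3408,3409,3410,3411,3412,3413,3414,3415,3416,3417,3418,3419,3420,3421,3422,3423,3424,3425,3426,3427,3428,3429,3430,3431,3432,3433,3434,3435,3436,3437,3438,3439,3440,3441,3442,3443,3444,3445,3446,3447,3448,3449,3450,3451,3452,3453,3454,3455,3456,3457,3458,3459,3460,3461,3462,3463,3464,3465,3466,3467,3468,3469,3470,3471,3472,3473,3474,3475,3476,3477,3478,3479,3480,3481,3482,3483,3484,3485,3486,3487,3488,3489,3490,3491,3492,3493,3494,3495,3496,3497,3498,3499,3500,3501,3502,3503,3504,3505,3506,3507,3508,3509]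

/-- A level. -/
def levY0 : Level :=
  ⟨1426, (.node (.node sub109 sub114) (.node sub119 sub124)), levY0pts0 ++ levY0pts1 ++ levY0pts2 ++ levY0pts3 ++ levY0pts4 ++ levY0pts5 ++ levY0pts6 ++ levY0pts7 ++ levY0pts8 ++ levY0pts9 ++ levY0pts10 ++ levY0pts11 ++ levY0pts12 ++ levY0pts13 ++ levY0pts14 ++ levY0pts15 ++ levY0pts16 ++ levY0pts17⟩

/-- A subtree. -/
def sub125 : WTree :=
  (.node (.node (.node (.node (.node (.node (.node (.node (.word [6,1,0,2,1,0,5,7,3,2,4,3,7,8,4,2,3,7,5,1,2,1,3,2,7,3,4,6,5,4,3,7,2,3,1,0,2,1,3,8,7,3,4,2,3,7,8,5,6,4,5,3]) (.word [3,5,4,6,5,7,8,7,6,3,4,1,2,3,0,1,2])) (.word [3,7,8,7,6,3,2,4,3,7,3,4,1,5,6,7,8,2,3,7,8,4,3,7,5,0,1,2,1])) (.node (.node .none (.word [2,1,4,7,8,2,3,7,4,2,3,0,1,2,0,1])) (.word [3,4,3,6,1,0,2,1,0,5,7,3,2,4,3,7,8,4,2,3,7,5,6,1,2])))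 (.node (.node (.node (.word [3,7,8,7,4,3,0,1,4,5,4,3,2,1,8,7,3,4,2,3,7,8,5,6,4,1,2]) (.word [6,3,4,3,2,4,5,4,8,7,3,8,7,2,3,4,5,6,3,1,2,1])) (.word [2,3,4,5,6,8,1,2,3,7,8,4,5,3,0,2,1,5,4,6,7,2,3,7,4,5,6,3,2,1])) (.node (.node (.word [0,1,3,5,4,3,7,8,7,5,6,5,4,2,3,2,1,4,5,4,3,7,8,7,6,3,4,5,2,3,1,2,1]) (.word [2,4,5,4,8,7,3,8,7,2,3,4,5,6,3,1,2,1])) (.word [3,7,8,7,3,4,7,3,8,7,8,2,3,7,4,5,6,4,5,3,1])))) (.node (.node (.node (.word [2,1,0,3,7,8,7,1,5,4,3,2,7,8,4,5,3,4,2,3,7,8,5,6]) (.node (.word [1,2,4,3,7,3,4,2,0,5,6,7,3,2,1,4,5,3,4,2,3,7,8,5,4,1,2,3,7]) (.word [0,1,2,6,3,2,1,0]))) (.node (.node .none (.word [0,3,2,7,3,2,4,3,7,8,7,3,4,2,3,7,1,2,3,0])) .none)) (.node (.node (.node (.word [3,2,5,4,6,5,7,3,4,2,3,7,8,3,7,4,1]) (.word [6,1,0,3,2,5,4,3,7,3,4,5,6,1,2,3,0,1]))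 (.node (.word [0,1,2,3,2,1,0,4,7,3,8,7,8,2,3,7,4,5,6,4,5,3,1]) (.word [0,1,2,3,2,0,1,2,4,5,4,6,5,4,3,7,2,3,4,5,2,1]))) (.node (.node (.word [6,1,2,1,0,3,7,8,7,2,3,5,4,6,5,3,4,1,2,3,0,1,2]) (.word [6,0,5,4,3,2,1,7,3,4,2,3,7,1,2,3,4,5,0,1])) (.word [1,0,2,1,0,3,5,4,6,2,3,7,3,4,5,6,1,2,0]))))) (.node (.node (.node (.node (.node (.word [0,7,8,7,2,3,1,2,3,4,3,0,1,2,5,6,8,7,5,3,4,1,2,3,7,8,5,6,4]) (.word [3,4,7,8,7,6,3,1,0,2,1,0,5,7,3,2,4,3,7,8,4,2,3,7,5,6,1,2])) (.word [3,7,8,7,3,1,2,1,4,3,2,5,4,8,7,3,7,8,6,4,5,2,3,4,3,1,2,0])) (.node (.node (.word [2,3,2,4,5,6,8,1,2,3,7,8,4,5,2,3,1,0]) (.word [3,4,3,6,1,0,2,3,5,7,3,2,4,3,7,8,6,5,4,2,3,7,2,1])) (.word [3,4,3,0,1,2,1,5,7,3,7,8,4,3,7,5,6,2,3,2]))) (.node (.node (.word [2,1,0,3,7,8,7,2,3,4,3,2,1,5,4,3,2,7,8,4,3,7,8,4,5,6,4,2])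 (.node (.word [3,4,3,2,1,5,4,3,2,7,8,4,5,3,4,2,3,7,8,5,6,1]) (.word [0,1,2,3,2,0,1,2,4,5,4,3,7,6,2,3,4,5,4,2,1]))) (.node (.node (.word [3,7,8,7,3,0,4,5,4,7,3,2,4,3,7,8,4,3,7,3,4,5,6]) (.word [0,1,2,4,5,6,7,8,5,4,3,7,2,3,4,5,1,0])) (.word [0,2,3,2,4,7,3,4,1,2,3,7,8,4,3,7,1,2,3,0])))) (.node (.node (.node (.word [0,1,2,1,0,4,3,5,6,8,4,5,2,3,4,1,2,3,7,8,3,1,0,2,1,5,4,3,2,7,8,4,5,3,4,2,3,7,8,5,6]) (.node .none (.word [2,4,5,4,8,7,3,8,7,2,3,4,5,3,1,2,1,0,1,3,7,8,7,6,2,3,1,0]))) (.node (.node (.word [0,1,2,3,2,1,4,5,4,7,3,2,4,3,7,8,4,3,7,3,4,5,6,1]) (.word [3,7,8,7,6,3,0,2,1,0,5,7,3,4,7,8,3,7,5,6,5,3,2,1])) (.word [6,1,3,4,3,0,2,5,4,3,2,1,7,8,6,5,4,3,7,8,6,4,5,2,0,1]))) (.node (.node (.node (.word [3,4,3,2,1,0,3,7,8,7,2,5,4,3,2,1,0,8,6,5,4,3,7,8,5,6,3,2,1]) (.word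 [3,7,8,7,6,3,1,2,1,4,5,7,3,4,2,3,7,5,6,4,5,3,2,1])) (.word [3,7,8,7,3,0,1,2,1,7,3,2,4,7,5,3,4,2,3,7,6,1,2,0,1,0])) (.node (.node (.word [0,1,2,1,5,4,3,6,5,8,4,2,3,7,8,5,6,5,4,1,2]) (.word [2,1,4,7,8,3,7,6,4,2,3,0,1,2,0,1])) (.word [0,1,2,3,2,0,1,4,5,4,3,7,8,7,3,4,5,6,5,2,3,1,2,1])))))) (.node (.node (.node (.node (.node (.word [3,2,7,3,4,6,5,4,3,7,2,3,1,0,2,1,3,8,7,3,4,2,3,7,8,5,6,4,5,3]) (.node (.word [3,7,8,7,2,7,3,4,6,5,4,3,7,2,3,1,0,2,4,5,6,8,7,3,8,7,2,3,4,5,1,2,3,0,1]) (.word [3,4,7,8,7,6,3,1,2,1,5,4,3,7,6,3,4,5,3,2,1]))) (.node (.node (.word [0,7,8,7,2,3,1,2,4,8,7,3,7,8,4,5,6,4,5,3,1]) (.word [3,7,8,7,3,2,1,5,7,3,2,4,3,7,8,2,3,7,5,6,5,2,3,1])) (.word [0,1,2,3,2,0,1,2,5,4,7,8,3,7,4,5,6,5,2,1]))) (.node (.node .none (.word [2,4,3,7,3,4,2,1,0,3,5,4,6,5,7,8,7,3,4,2,3,1,2,1]))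 (.node (.node .none (.word [3,4,3,5,4,6,7,8,1,2,3,7,4,5,2,0,1])) (.word [0,1,2,3,2,0,1,5,4,3,2,7,3,8,7,2,3,4,5,4,1])))) (.node (.node (.node .none (.node (.word [0,7,8,7,2,3,1,2,3,4,3,2,3,5,4,6,5,8,7,8,1,2,3,4,5,6,2,3,1,2]) (.word [1,0,4,3,7,8,2,3,7,4,3,1,2,1]))) (.node (.node (.word [2,4,3,7,3,4,3,5,4,6,5,8,4,1,2,3,7,8,3,4,5,6,0,1]) (.word [3,7,8,7,3,1,0,2,1,0,5,7,3,4,7,8,3,7,5,6,5,3,2,1])) (.word [4,8,7,3,2,1,5,4,3,7,8,5,6,5,3,2,1,0]))) (.node (.node (.word [0,1,2,1,0,4,3,5,6,8,4,5,2,3,4,1,2,3,7,8,3,1,0]) (.node .none (.word [0,1,2,5,4,7,8,3,7,4,5,6,1,2,3,2,1]))) (.node (.node (.word [3,7,8,7,3,1,2,4,3,7,3,4,2,0,2,1,3,5,6,7,2,3,7,8,4,3,7,5,6,1,2]) (.word [0,2,1,0,3,5,4,6,7,8,2,3,7,4,5,6,3,2,1])) (.word [2,4,3,5,4,3,7,8,1,2,3,7,8,6,0,1,2,3,4,5]))))) (.node (.node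 (.node (.node (.node (.word [6,2,1,5,7,3,2,4,3,7,8,2,3,7,5,6,5,2,3,0,1,4,5,4,3,2,1,8,7,3,4,2,3,7,8,5,6,4,1,2]) (.word [0,7,8,7,2,3,1,2,4,5,4,3,6,7,1,2,3,7,4,5,4,2,0])) (.node (.word [0,1,2,5,6,8,7,5,3,4,1,2,3,7,8,5,4]) (.word [2,1,0,3,7,8,7,2,3,5,4,7,3,8,1,2,3,7,4,5,6,3,1]))) (.node (.node (.word [1,3,2,7,3,4,6,5,4,3,7,2,3,1,4,7,3,4,8,7,3,4,2,3,7,4,5,6,4,5,3,1]) (.word [1,0,7,8,7,2,3,1,4,5,6,7,8,3,7,2,3,4,5,6,3,1])) .none)) (.node (.node (.node .none (.word [2,1,5,4,3,2,1,7,3,4,5,3,4,2,3,0,1,2,0])) (.node (.word [2,1,0,3,7,8,7,2,3,5,4,7,3,8,1,2,3,7,4,5,6,3]) (.word [2,1,0,3,4,3,6,5,4,3,7,2,3,4,5,1,2,1]))) (.node (.node (.word [0,1,2,3,2,0,1,0,3,7,8,7,3,2,1,5,4,3,2,7,8,4,5,3,4,2,3,7,8,5,6,1]) (.word [2,4,3,7,3,4,2,0,1,2,6,3,2,1,5,7,3,2,4,3,7,8,4,2,3,7,6,5])) .none)))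 (.node (.node (.node (.node .none (.word [2,3,2,4,5,7,3,8,4,2,3,7,5,6,4,3,1,2,1,0])) (.node (.word [2,1,5,4,3,2,7,8,4,5,3,4,2,3,7,8,5,1]) (.word [1,0,2,3,5,7,3,2,4,3,7,8,4,2,3,7,5,3,1,2,1]))) (.node (.word [2,4,5,4,8,7,3,8,7,2,3,4,5,3,1,2,1,6,1,0,2,1,0,5,7,3,2,4,3,7,8,4,2,3,7,5,1,2,1]) (.word [0,1,2,3,2,4,5,4,3,8,7,3,4,2,3,7,8,5,6,5,1,2,3]))) (.node (.node (.node .none (.word [0,2,1,0,5,4,3,7,6,3,4,5,2,3,1,2,0])) (.word [0,1,5,4,6,5,7,4,3,7,8,2,3,7,4,5,6,1,0])) (.node (.word [4,8,7,3,2,1,5,4,3,7,8,6,5,2,0,1,0]) (.word [2,4,3,7,3,4,2,3,2,5,6,7,3,2,8,7,3,4,2,3,7,5,1,2,1]))))))) (.node (.node (.node (.node (.node (.node (.word [2,4,3,7,3,4,2,1,0,7,8,7,2,3,1,2,0,5,4,6,5,7,3,4,2,3,7,8,4,3,7,6,4,5,3]) (.node (.word [2,1,0,3,7,8,7,2,6,1,2,1,5,4,3,2,7,8,4,5,3,4,2,3,7,8,5,6,1])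 (.word [3,7,8,7,3,0,2,5,4,3,2,1,7,8,6,5,4,3,7,8,6,4,5,2,0,1]))) (.node (.node (.word [2,1,0,3,7,8,7,4,3,7,3,4,2,1,3,2,5,4,6,5,7,3,4,2,3,7,8,3,7,6,4,1]) (.word [2,4,3,7,3,4,2,1,3,4,3,0,2,5,6,7,8,5,4,3,7,4,5,2,1])) (.word [3,2,5,6,7,3,2,8,7,3,4,2,3,7,5,6,1,2]))) (.node (.node (.node (.word [6,1,3,2,7,3,4,6,5,4,3,7,2,3,1,7,3,2,4,8,3,7,8,4,2,3,7,6,1]) (.word [1,0,1,4,5,4,3,2,1,7,8,3,4,2,3,7,1,2,3,4,5,6])) (.node (.word [2,3,4,5,6,8,1,2,3,7,8,4,5,3,0,2,1,0,3,4,3,6,5,4,3,7,2,3,4,5,6,1,2]) (.word [2,1,0,3,7,8,7,2,3,2,7,3,4,6,5,4,3,7,6,2,3,1]))) (.node (.node .none (.word [3,7,8,7,3,2,1,5,4,7,3,2,8,7,4,5,6,5,3,1,2,1,0])) (.word [0,2,1,0,5,7,3,2,4,3,7,8,4,2,3,7,5,1,2,1])))) (.node (.node (.node (.word [3,7,8,7,3,1,2,4,3,7,3,4,2,1,3,2,5,4,6,5,7,3,4,2,3,7,8,3,7,6,4,1])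 (.node (.word [0,1,2,3,5,7,3,2,8,7,3,4,2,3,7,5,6,0,1,2,3]) (.word [2,4,3,7,3,4,2,1,3,7,8,7,6,3,5,4,3,2,1,7,3,8,7,5,6,4,5,4,3,2,1]))) (.node (.node .none (.word [1,0,7,8,7,2,3,1,2,0,1,5,7,3,2,1,4,8,3,7,2,3,4,1,2,3,7,5,6,5])) (.word [0,7,8,7,2,3,1,4,3,7,3,4,2,1,3,2,5,4,7,8,3,7,4,5,6,2,3,1]))) (.node (.node (.node .none (.word [0,1,2,5,4,3,7,3,4,5,6,2,1,0])) (.node .none (.word [5,4,3,2,1,0,7,3,2,8,7,4,5,6,4,5,4,1,2,3,2,0]))) (.node (.node (.word [3,4,3,2,1,5,4,3,2,7,8,4,3,7,8,4,5,6,4,2,1]) (.word [3,4,3,0,1,2,5,4,3,6,5,4,3,7,2,3,4,5,6,1,2,3,1])) (.word [6,3,4,3,0,2,5,4,3,2,1,7,8,6,5,4,3,7,8,6,4,5,2,0,1]))))) (.node (.node (.node (.node (.node (.word [3,2,5,4,6,5,7,3,4,2,3,7,8,3,7,4,1,3,2,5,4,6,5,7,3,4,2,3,7,8,3,7,6,4]) (.word [6,0,2,4,5,4,7,8,3,7,2,3,4,5,1,2,3,0,1,2]))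 (.node (.word [2,1,0,3,7,8,7,2,3,4,3,2,1,5,7,3,2,4,3,7,8,4,2,3,7,5,6,5,2,3]) (.word [6,3,2,7,3,4,6,5,4,3,7,2,3,1,0,4,8,3,7,8,6,4,2,3,1,2]))) (.node .none (.word [0,1,2,3,2,1,5,4,3,2,7,3,8,7,2,3,4,5,4,1]))) (.node (.node (.node (.word [0,5,4,7,3,4,5,8,7,3,4,2,3,7,8,5,4,3,7,5]) (.word [3,4,3,6,0,1,4,5,4,3,2,1,7,8,3,4,2,3,7,1,2,3,4,5,6])) (.node (.word [0,2,1,3,5,6,7,2,3,7,8,4,3,7,5,6,1,2]) (.word [3,4,3,2,1,5,6,7,5,4,2,3,7,4,5,3,2,1]))) (.node (.word [3,4,3,2,1,5,4,3,2,7,3,7,4,5,3,4,2,3,7,8,7,6]) (.word [4,7,3,7,8,2,3,7,4,1,2,3,0,1,2])))) (.node (.node (.node (.node (.word [2,1,0,3,7,8,7,2,3,5,4,6,5,7,3,4,1,2,3,7,8,4,3,7,4,1]) (.word [6,1,5,4,3,2,1,0,8,6,5,4,3,7,8,5,3,2,1])) (.node (.word [0,7,8,7,2,3,1,2,3,4,3,0,1,2,5,6,8,7,3,4,1,2,3,7,8,5,4,1]) (.word [1,3,4,3,0,2,1,0,5,6,7,3,7,8,5,4,3,7,5,3,2,1])))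 (.node (.word [3,7,8,7,6,3,0,1,2,3,2,1,2,3,4,5,4,3,6,5,8,4,2,3,7,8,1,2,3,4,5,6]) (.word [6,1,0,3,5,6,7,3,2,4,3,7,8,7,3,4,2,3,7,5,6,1]))) (.node (.node (.word [6,1,2,4,3,7,3,4,2,0,2,1,3,5,6,7,2,3,7,8,4,3,7,5,6,1,2,1]) (.word [7,3,2,4,8,3,7,8,3,4,2,3,7,1])) (.node (.node (.word [3,4,3,0,1,2,5,6,8,7,3,4,1,2,3,7,8,5,6,4,0,4,5,4,7,3,2,4,3,7,8,4,3,7,3,4,5,1]) (.word [3,4,2,5,6,7,3,2,8,7,5,3,4,2,3,7,5,1,2,1])) (.word [6,2,4,3,7,3,4,1,5,6,7,8,2,3,7,8,4,3,7,5,0,1,2,1])))))) (.node (.node (.node (.node (.node (.node (.word [0,1,2,3,2,1,0,2,1,5,7,3,2,4,3,7,8,2,3,7,5,6,5,2,3,2,1,5,4,3,2,7,8,4,5,3,4,2,3,7,8,5,6]) (.word [3,4,3,0,1,2,6,3,1,0,5,4,6,5,7,8,7,3,4,5,6,2,3,4,1,2])) (.node (.word [6,2,1,0,3,7,8,7,1,5,4,3,2,1,7,3,4,5,3,4,2,3,0,1,2,0]) (.word [4,5,4,3,6,7,1,2,3,7,4,5,4,2,0])))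 (.node (.node (.word [3,4,3,2,1,0,3,7,8,7,2,3,5,4,6,5,3,4,1,2,3,0,1,2]) (.word [0,2,5,4,7,8,3,7,6,4,5,2])) (.word [2,1,0,7,3,2,4,3,7,8,4,2,3,7,6,2,1]))) (.node (.node (.word [3,7,8,7,3,2,1,0,3,7,8,7,2,0,2,3,4,5,4,3,6,5,8,4,2,3,7,8,1,2,3,4,5,6]) (.node .none (.word [0,1,2,6,3,2,5,7,3,2,1,4,8,3,7,2,3,4,1,2,3,7,5,6,5]))) (.node (.node (.word [6,1,2,1,0,3,7,8,7,1,5,4,3,2,7,8,4,5,3,4,2,3,7,8,5,6,1]) (.word [2,1,0,4,5,4,3,2,7,3,4,5,6,3,4,1,2])) (.word [2,1,5,6,7,3,2,5,4,3,7,8,2,3,7,5,6,2,3])))) (.node (.node (.node (.node (.word [1,0,7,8,7,2,3,0,4,3,2,5,8,7,3,4,3,7,8,1,2,3,4,5,0,1,2,3]) (.word [2,4,3,7,3,4,2,1,0,2,5,6,7,8,5,4,3,7,4,5,2,1])) (.node (.word [3,7,8,7,6,3,0,1,2,3,2,1,4,5,4,7,3,2,4,3,7,8,4,3,7,3,4,5,6,1]) (.word [6,1,3,4,3,5,4,3,2,1,7,3,2,7,4,5,6,4,5,4,3,1,2,1,0])))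 (.node (.word [3,4,3,2,1,0,3,7,8,7,2,5,4,3,2,1,0,8,6,5,4,2,3,7,8,5,6,3,2]) (.word [3,2,7,3,2,4,3,7,8,5,3,4,2,3,7,6,2,3,1]))) (.node .none (.node (.node (.word [3,7,8,7,3,1,2,1,0,3,7,8,7,1,0,4,3,2,5,8,7,3,4,3,7,6,5,2,3,4,1,2,3,7,8]) (.word [0,2,1,3,5,6,7,5,4,2,3,7,4,5,0,1,2,0,1])) .none)))) (.node (.node (.node (.node (.node (.word [6,2,3,4,5,4,3,2,8,7,3,4,1,2,3,7,8,3,4,5,6,3,4,2]) (.word [3,4,3,6,5,4,3,2,1,0,7,3,2,8,7,3,4,5,6,5,2,3,4,1,2])) (.word [0,1,3,5,4,3,7,8,7,5,6,5,4,2,3,2,1,5,6,7,3,2,8,7,3,4,2,3,7,5,6,2])) (.node (.node (.word [2,1,0,3,7,8,7,2,0,2,3,4,5,4,3,6,5,8,4,2,3,7,8,1,2,3,4,5,6]) (.word [0,7,8,7,2,3,1,2])) (.word [0,1,2,3,2,0,1,5,7,3,2,4,3,7,8,4,2,3,7,5,6,5,1]))) (.node (.node (.node (.word [0,7,8,7,2,3,1,4,3,7,3,4,2,1,3,2,5,4,6,5,7,3,4,2,3,7,8,2,3,7,6,4,1])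 (.word [3,7,8,7,3,1,0,2,4,3,5,4,6,5,7,2,3,4,5,6,2,3,4,5,1,2])) (.node (.word [3,7,8,7,4,3,0,2,1,0,5,7,3,2,4,3,7,8,2,3,7,5,6,5,3,2,1]) (.word [6,1,5,4,3,2,1,0,7,3,2,8,7,4,5,6,4,5,4,1,2,3,2,0]))) (.node (.word [2,4,3,7,3,4,2,3,2,5,4,6,5,7,3,4,2,3,7,8,2,3,7,4,1]) (.word [2,3,4,5,4,7,8,3,7,6,1,2,3,4,5,4])))) (.node (.node (.node (.node (.word [2,1,0,3,7,8,7,2,3,4,3,0,1,2,5,6,8,7,5,3,4,1,2,3,7,8,5,4]) (.word [0,2,3,2,4,7,3,8,1,2,3,7,6,4,3,0,1,2,1,0])) (.node (.word [0,7,8,7,2,3,1,2,0,5,4,3,2,7,3,8,7,2,3,4,5,4,1]) (.word [1,0,5,4,3,2,1,7,3,4,2,3,7,1,2,3,4,5,6,0,1]))) (.node (.node (.word [6,1,2,1,5,4,3,2,7,8,4,5,3,4,2,3,7,8,5,6,1]) (.word [6,0,2,3,2,5,4,6,7,8,1,2,3,7,4,5,6,2,3,1,2,0])) (.word [0,1,2,3,2,1,5,7,3,2,4,3,7,8,4,2,3,7,5,6,5,1]))) (.node (.node (.node (.word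 [1,3,2,5,4,6,5,7,3,4,2,3,7,8,3,7,6,4,1]) (.word [6,1,2,1,4,5,8,7,3,2,4,3,7,8,5,6,4,5,4,2,3,2,1])) (.word [0,1,2,6,3,2,1,0,2,4,3,7,3,4,2,3,2,5,6,7,3,2,8,7,3,4,2,3,7,5,6,1,2,1])) (.node (.node (.word [3,5,4,3,7,8,7,6,5,4]) (.word [3,7,8,7,6,3,5,4,3,2,1,7,3,2,7,4,5,6,4,5,4,3,1,2,0,1,0])) (.word [2,1,0,3,7,8,7,6,2,1]))))))))

/-- A subtree. -/
def sub126 : WTree :=
  (.node (.node (.node (.node (.node (.node (.node (.node (.word [3,7,8,7,3,2,4,3,7,3,4,2,1,3,2,5,4,6,5,7,3,4,2,3,7,8,3,7,6,4]) (.word [2,4,3,7,5,4,3,7,8,1,2,3,7,8,6,0,1,2,3,4,5])) (.node .none (.word [2,4,3,7,3,4,2,0,1,2,3,2,1,7,3,2,4,5,8,3,7,4,5,3,4,2,3,7,6,5,1]))) (.node (.node (.word [0,5,6,7,3,2,1,4,5,3,4,2,3,7,8,5,4,1,2,3,7]) (.word [6,1,0,7,8,7,2,3,1,2,0,1,5,7,3,2,1,4,8,3,7,2,3,4,1,2,3,7,5,6,5]))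 (.word [2,1,0,3,7,8,7,2,0,1,2,5,4,3,2,6,7,3,4,5,4,1,2,3,2,1]))) (.node (.node (.node (.word [3,4,3,0,1,2,5,6,8,7,3,4,1,2,3,7,8,5,6,4,0,5,7,3,2,4,3,7,8,4,2,3,7,5,6,5,1]) (.word [0,2,1,3,7,3,2,4,3,7,8,2,3,7,6,3,2])) (.node .none (.word [6,1,3,2,5,4,3,7,3,4,5,6,2,3,1]))) (.node (.word [3,7,8,7,3,0,1,2,3,1,0,4,3,5,6,8,4,5,2,3,4,1,2,3,7,8,3,1,0]) (.word [0,1,5,4,6,5,7,3,7,8,2,3,7,4,5,1,0])))) (.node (.node (.node (.node (.word [2,3,4,5,4,3,2,8,7,3,4,1,2,3,7,8,3,4,5,6,3,4,2]) (.word [3,7,8,7,4,3,2,1,5,6,7,5,4,2,3,7,4,5,6,3,2,1])) (.word [3,4,3,6,2,1,5,4,3,2,7,8,4,5,3,4,2,3,7,8,5,6,1])) (.node (.node (.word [2,1,0,3,7,8,7,4,3,7,3,4,2,1,3,2,5,4,6,5,7,3,4,2,3,7,8,2,3,7,6,4,1]) (.word [0,2,1,0,3,5,4,6,2,3,7,3,4,5,1,2,0])) (.word [6,3,2,7,3,2,4,3,7,8,5,3,4,2,3,7,6,2,3,1])))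 (.node (.node (.node .none (.word [3,4,3,0,1,2,5,4,3,2,6,7,3,4,5,4,0,1,2,3,2,1])) (.node (.word [3,7,8,7,3,2,4,3,7,3,4,2,1,3,2,5,4,7,8,3,7,4,5,6,2,3]) (.word [1,2,4,3,7,3,4,2,1,0,3,5,4,6,5,6,3,4,2,3,1,2]))) (.node (.node (.word [2,4,3,7,3,4,2,1,0,1,2,3,2,1,4,5,4,3,7,8,7,6,3,4,5,2,3,1,2,1]) (.word [0,7,8,7,2,3,1,2,3,4,3,0,2,1,0,5,6,7,3,5,4,3,7,5,6,2,3,1,2,0])) (.word [0,2,3,4,5,4,7,3,8,7,1,2,3,4,5,2,3,4,1,2]))))) (.node (.node (.node (.node (.word [2,4,3,7,3,4,2,3,7,8,7,3,0,1,4,5,4,3,2,1,8,7,3,4,2,3,7,8,5,6,4,1,2]) (.node (.word [3,7,8,7,4,3,2,1,5,4,3,2,7,8,4,5,3,4,2,3,7,8,5,6,1]) (.word [0,2,1,3,4,3,7,3,4,2,3,1,2,0]))) (.node (.node (.word [0,1,2,6,3,2,1,0,3,7,8,7,3,2,1,5,4,3,2,7,8,4,5,3,4,2,3,7,8,5,6,1]) (.word [3,4,7,8,7,6,3,2,1,5,4,3,2,1,7,3,4,5,6,3,4,2,3,0,1,2,0]))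 (.word [2,4,5,4,8,7,3,8,7,2,3,4,5,3,1,2,1,0,7,8,7,6,2,3,1,2,1]))) (.node (.node (.word [6,1,2,1,0,4,3,2,5,8,7,3,4,1,2,3,7,8,2,3,4,5,1,2,3]) (.word [3,7,8,7,6,3,2,3,5,4,3,2,1,8,2,3,7,8,5,6,4,5,3,2,1])) (.node (.node (.word [2,1,0,3,7,8,7,1,5,4,3,2,7,8,4,5,3,4,2,3,7,8,5,1]) (.word [6,1,2,1,5,7,3,2,4,3,7,8,5,4,2,3,7,6,5,2,3,1])) (.word [6,0,1,2,5,6,8,7,3,4,1,2,3,7,8,5,6,4,0,1,2,1,7,3,4,7,8,6,5,4,3,7,6,2,3,2,1])))) (.node (.node (.node (.node .none (.word [0,2,1,3,5,6,7,2,3,7,8,5,4,3,7,5,1,2,1])) (.node (.word [0,1,2,3,2,1,5,4,3,2,7,3,8,7,2,3,4,5,4]) (.word [2,4,3,7,3,4,2,3,7,8,7,3,1,5,4,3,2,1,7,3,8,7,5,6,4,5,4,3,2,1]))) (.node (.word [0,7,8,7,2,3,1,4,3,7,3,4,2,3,2,5,4,6,5,7,3,4,2,3,7,8,2,3,7,6,4,1]) (.word [2,1,0,3,7,8,7,1,5,4,3,2,1,7,3,7,4,5,3,4,2,3,0,1,2,0])))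 (.node (.word [2,1,0,4,3,2,5,4,8,5,3,4,1,2,3,7,8,5,6,5,1,0]) (.node (.node (.word [0,7,8,7,2,3,1,2,3,4,3,5,4,6,7,3,4,1,2,3,7,8,4,3,7,5,6,0,1]) (.word [0,2,1,0,5,6,7,3,7,8,5,4,3,7,5,3,2,1])) (.word [6,0,1,2,5,6,8,7,3,4,1,2,3,7,8,5,6,4,0,1,2,3,2,0,1,0])))))) (.node (.node (.node (.node (.node (.node (.word [3,4,3,0,1,2,5,7,3,8,7,8,4,3,7,5,6,0,1,2,4,3,0,1,2,5,6,8,7,3,4,1,2,3,7,8,5,6,4]) (.word [0,3,2,7,3,4,6,5,4,3,7,1,2,3,0,1])) (.node .none (.word [3,7,8,7,4,3,0,1,5,7,3,2,1,4,8,3,7,2,3,4,1,2,3,7,5,6,5]))) (.node (.node .none (.word [3,4,3,0,2,5,4,7,8,3,7,6,4,5,2,1])) .none)) (.node (.node (.word [6,0,2,5,4,3,2,1,7,8,6,5,4,3,7,8,4,5,6,5,2,0,3,7,8,7,3,1]) (.node .none (.word [6,1,2,4,3,7,3,4,2,1,0,3,5,4,6,5,6,3,4,2,3,1,2]))) (.node (.word [0,7,8,7,2,3,1,2,0,2,3,4,5,4,3,6,5,8,4,2,3,7,8,1,2,3,4,5,6,1])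 (.word [3,2,7,3,4,6,5,4,3,7,2,3,1,4,8,7,3,2,1,5,4,2,3,7,8,5,6,5,2,0,1,0])))) (.node (.node (.node (.node (.word [3,4,3,0,1,2,5,6,8,7,5,3,4,1,2,3,7,8,5,6,4,1]) (.word [3,2,5,6,7,3,2,8,7,3,4,2,3,7,5,6,1,2,1])) (.node (.word [0,2,1,3,4,5,4,3,2,8,7,3,4,2,3,7,8,1,2,3,4,5,1,2]) (.word [3,4,3,2,4,3,7,3,4,2,1,0,2,1,0,5,4,3,7,3,4,5,6,5,2,3,1,2,0,1]))) (.node (.node .none (.word [6,1,5,4,3,2,1,7,3,8,7,4,5,6,4,5,4,3,2,1])) (.word [6,2,3,2,4,5,7,3,8,4,2,3,7,5,6,4,1,2,0,1,0]))) (.node (.node (.node .none (.word [0,1,2,1,8,3,7,8,2,3,2])) (.node (.word [6,0,4,5,4,7,3,2,4,3,7,8,4,3,7,3,4,5,1]) (.word [4,7,8,1,2,3,7,4,3,0,1,2,1]))) (.node (.node (.word [3,4,3,0,1,2,5,6,8,7,3,4,1,2,3,7,8,5,6,7,3,4,8,1,2,3,7,8,4,3,7,1]) (.word [3,2,5,4,7,8,3,7,4,5,6,2,3,1])) .none)))) (.node (.node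 (.node (.node (.node (.word [2,4,3,7,3,4,1,0,3,7,8,7,2,3,5,4,6,5,7,3,4,1,2,3,7,8,4,3,7,4,1]) (.word [2,3,2,5,4,7,8,3,7,4,5,6,1,2,0,1,0])) (.node (.word [1,0,7,8,7,2,3,0,4,3,2,5,8,7,3,4,3,7,6,5,2,3,4,1,2,3,7,8]) (.word [3,4,3,0,1,2,5,4,3,2,6,7,3,4,5,6,4,1,2,3,2,1]))) (.node (.word [0,7,8,7,2,3,1,4,3,7,3,4,2,3,2,5,4,6,5,7,3,4,2,3,7,8,3,7,6,4,1]) (.word [0,1,4,5,4,3,2,1,8,7,3,4,5,2,3,4,1,2,3,7,8]))) (.node (.node (.node (.word [2,3,4,5,6,8,1,2,3,7,8,4,5,3,0,2,1,0,4,3,2,5,8,7,3,4,3,7,6,5,2,3,4,1,2,3,7,8]) (.word [0,1,2,4,5,6,7,8,5,4,3,7,2,3,4,5,6,1,0])) .none) (.node (.word [3,4,3,4,5,4,7,3,4,8,1,2,3,7,8,4,3,7,4,5,6,0]) (.word [1,3,2,7,3,4,6,5,4,3,7,2,3,1,4,8,7,3,2,1,5,4,2,3,7,8,6,5,2,0,1,0])))) (.node (.node (.node (.word [1,3,2,7,3,4,6,5,4,3,7,2,3,1,7,3,2,4,8,3,7,8,4,2,3,7,6,1])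 (.node (.word [2,1,0,7,3,2,4,3,7,8,2,3,7,2]) (.word [0,1,3,5,4,6,5,4,3,7,8,7,6,4,2,3,2,0,1,0]))) (.node (.node (.word [0,7,8,7,2,3,1,2,0,1,2,1,4,5,4,3,6,5,7,4,5,2,3,4,1,2,3,7,8,7]) (.word [3,7,8,7,3,0,1,2,3,2,1,7,3,2,4,5,8,3,7,4,5,3,4,2,3,7,6,5,1])) (.word [2,3,2,5,4,7,8,3,7,4,5,6,1,2,1,0]))) (.node (.node (.node (.word [2,1,0,3,7,8,7,2,3,2,5,4,6,5,7,3,4,2,3,7,8,3,7,6,4,1]) (.word [0,3,5,4,6,5,6,3,4,2,3,1,2])) (.word [0,7,8,7,2,3,1,2,6,3,2,5,4,3,2,1,7,5,6,5,3,4,2,3,0,1,2,0])) (.node (.node (.word [2,1,0,3,7,8,7,1,5,4,3,2,7,8,4,5,3,4,2,3,7,8,5]) (.word [3,4,7,8,7,3,1,0,1,5,7,3,2,1,4,8,3,7,2,3,4,1,2,3,7,5,6,5])) (.word [3,7,8,7,3,2,1,4,7,8,3,7,4,2,3,0,1,2,0,1]))))))) (.node (.node (.node (.node (.node (.node (.node (.word [2,1,0,3,7,8,7,2,3,2,5,4,6,5,7,3,4,2,3,7,8,3,7,4])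 (.word [1,3,2,7,3,4,6,5,4,3,7,2,3,1,0,2,5,6,7,8,5,4,3,7,4,5,6,2,1])) (.node (.word [6,1,0,1,2,3,2,1,4,5,4,7,3,2,4,3,7,8,4,3,7,3,4,5,6,1]) (.word [2,1,5,4,3,7,6,3,4,5,3,2]))) (.node (.node (.word [2,1,0,3,7,8,7,2,3,2,7,3,4,6,5,4,3,7,2,3,1,4,7,3,4,8,7,3,4,2,3,7,4,5,6,4,5,3,1]) (.word [0,1,2,7,3,4,6,5,4,3,7,6,2,0,1,0])) (.word [1,2,1,0,3,7,8,7,2,0,2,5,4,3,2,1,7,8,6,5,4,3,7,8,6,4,5,2,0,1]))) (.node (.node (.node (.word [1,2,4,3,7,3,4,2,1,0,1,2,5,7,3,2,8,7,8,3,4,2,3,7,5,6,1,2,3]) (.word [5,4,3,2,1,0,8,6,5,4,2,3,7,8,5,6,3,2])) (.node (.word [3,4,7,8,7,3,1,2,1,5,4,3,2,7,8,4,5,3,4,2,3,7,8,5,6,1]) (.word [0,2,1,3,4,3,7,3,4,2,3,1,2,0,1]))) (.node (.node (.word [2,1,0,3,4,3,2,7,3,4,5,6,4,5,2,3,1,7,3,2,4,8,3,7,8,4,2,3,7,1]) (.word [6,1,3,2,7,3,4,6,5,4,3,7,2,3,1,0,7,8,7,6,2,3,1,2]))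 (.word [0,2,1,3,4,5,6,7,2,3,7,0,1,2,3,4,5,6,3])))) (.node (.node (.node (.node .none (.word [2,1,5,7,3,2,4,3,7,8,4,2,3,7,5,6,5,2,3,1])) (.word [0,1,2,3,2,0,1,2,5,4,7,8,3,7,4,5,6,5,2])) (.node (.node (.word [2,1,0,3,7,8,7,2,3,4,3,0,2,1,3,8,7,3,4,2,3,7,8,5,6,4,5,3]) (.word [3,4,3,2,1,5,6,7,5,4,2,3,7,4,5,6,3,2,1])) (.word [3,4,3,2,1,5,6,7,3,2,5,4,3,7,8,2,3,7,5,6,2,3]))) (.node (.node .none (.node .none (.word [0,1,2,3,2,1,4,5,4,3,2,6,4,3,7,3,4,5,4,2,1]))) (.node (.node (.word [2,4,3,7,3,4,2,0,1,2,5,7,3,2,8,7,8,3,4,2,3,7,5,6,1,2,3]) (.word [0,1,2,5,4,3,6,5,4,3,7,2,3,4,5,6,1,2,3])) (.word [5,4,6,7,8,1,2,3,7,4,5,6,2,0]))))) (.node (.node (.node (.node (.node (.word [2,4,3,7,3,4,2,1,3,2,7,3,4,6,5,4,3,7,2,3,1,0,2,1,3,8,7,3,4,2,3,7,8,5,6,4,5,3]) (.word [2,3,4,5,6,8,1,2,3,7,8,4,5,3,0,2,1,5,4,7,3,2,3,7,4,5,6,5,0,1,2,3,2,0]))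 (.node (.word [3,4,3,2,1,5,7,3,2,4,3,7,8,2,3,7,6,5,2,3]) (.word [6,5,4,6,7,3,4,1,2,3,7,8,4,3,7,5,6,0,1,3,2,5,4,3,7,3,4,5,6,2,3,1]))) (.node (.node .none (.word [2,1,5,7,3,2,4,3,7,8,7,3,4,2,3,7,5,1,2,1])) (.word [2,1,4,5,6,7,3,4,2,3,7,1,2,3,4,5,4,0]))) (.node (.node (.word [2,3,4,5,6,8,1,2,3,7,8,4,5,6,3,0]) (.node (.word [3,4,3,0,7,8,7,2,3,1,2,0,1,5,4,3,2,1,8,6,5,4,3,7,8,5,6,2,3]) (.word [3,4,3,0,1,2,5,4,7,8,3,7,4,5,6,1,2,3,2,1]))) (.node (.node (.word [3,4,3,0,1,5,7,3,2,4,8,3,7,8,4,2,3,7,5,6,1,0]) (.word [3,7,8,7,6,3,2,3,4,5,6,7,3,4,2,3,7,1,2,3,4,5,6,1,0])) (.word [0,7,8,7,2,3,1,2,3,4,3,0,2,3,5,7,3,2,4,3,7,8,6,5,4,2,3,7,2,1])))) (.node (.node (.node (.node (.word [1,5,4,6,7,3,4,1,2,3,7,8,4,3,7,5,6,0,1,2,3,5,4,3,2,1,8,2,3,7,8,4,5,6,4,5,3,2,1]) (.word [3,7,8,7,4,3,0,1,2,1,5,7,3,7,8,4,3,7,5,6,2,3,2,1]))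 (.node (.word [3,7,8,7,6,3,2,1,0,3,7,8,7,1,0,4,3,2,5,8,7,3,4,3,7,6,5,2,3,4,1,2,3,7,8]) (.word [3,4,3,2,4,3,7,3,4,1,5,4,7,3,2,3,7,6,4,5,0,1,2,3,2,0,1]))) (.node (.node .none (.word [3,4,3,1,0,2,3,5,7,3,2,4,3,7,8,4,2,3,7,5,6,3,1,2])) .none)) (.node (.node (.node (.word [0,7,8,7,2,3,1,2,3,2,5,4,6,5,7,3,4,2,3,7,8,3,7,6,4]) (.word [1,2,4,3,7,3,4,2,5,4,3,2,1,0,8,6,5,4,3,7,8,5,3,2,1])) (.word [3,4,7,8,7,6,3,1,2,1,5,4,3,2,7,8,4,5,3,4,2,3,7,8,5,6,1])) (.node (.node (.word [0,7,8,7,2,3,1,2,3,4,3,2,1,5,7,3,2,4,3,7,8,2,3,7,5,6,5,2,3]) (.word [3,4,3,1,0,7,3,2,4,5,8,3,7,4,5,3,4,2,3,7,6,5,1])) (.word [3,7,8,7,6,3,2,4,3,7,3,4,2,1,0,3,5,4,6,5,7,8,7,3,4,2,3,1,2])))))) (.node (.node (.node (.node (.node (.node (.word [3,7,8,7,3,2,4,3,7,3,4,2,1,3,2,5,4,6,5,7,3,4,2,3,7,8,3,7,4,1])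 (.word [0,7,8,7,2,3,1,2,6,1,0,1,4,5,4,3,2,1,7,8,3,4,2,3,7,1,2,3,4,5,6])) (.node (.word [3,7,8,7,3,2,4,3,7,3,4,2,1,0,2,1,3,5,6,7,2,3,7,8,4,3,7,5,6,1,2,1]) (.word [0,4,5,4,3,7,8,7,3,4,5,6,5,2,3,1,2]))) (.node (.node .none (.word [2,3,4,3,5,4,2,3,7,1,2,3,4,5,6,0,1,2])) (.word [3,7,8,7,3,2,1,0,7,3,2,4,3,7,8,2,3,7,2]))) (.node (.node (.node (.word [2,1,0,3,7,8,7,2,1,2,3,4,5,4,3,2,8,7,3,4,1,2,3,7,8,3,4,5,6,3,4,2]) (.word [3,7,8,7,6,4,3,0,1,2,5,7,3,8,7,8,4,3,7,5,6,0,1,2,3,1])) (.node (.word [1,2,1,0,3,7,8,7,3,4,3,5,4,2,3,7,3,4,5,6,3,4,5,1,2]) (.word [3,4,3,2,1,5,4,6,7,2,3,7,4,5,3,2,1]))) (.node (.node (.word [3,7,8,7,3,1,2,1,0,3,7,8,7,1,5,4,3,2,7,8,4,5,3,4,2,3,7,8,5,6,1]) (.word [3,4,3,0,2,3,5,6,7,3,2,5,4,3,7,8,5,4,2,3,7,2,1])) (.word [0,7,8,7,2,3,1,2,3,4,2,5,6,7,3,2,8,7,3,4,2,3,7,5,1,2,1]))))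 (.node (.node (.node (.node (.word [0,7,8,7,2,3,1,2,0,5,4,6,5,7,3,4,2,3,7,8,4,3,7,4,5,6,5,3]) (.word [3,7,8,7,6,3,1,2,1,5,7,3,2,4,3,7,8,7,3,4,2,3,7,5,6,1,2])) (.node (.word [3,4,3,0,2,1,3,5,7,8,7,3,4,5,6,2,3,4,5]) (.word [0,1,2,5,4,3,7,3,4,5,6,3,2,0,1,0]))) (.node (.node (.word [3,4,3,0,1,5,7,3,2,4,8,3,7,8,4,2,3,7,5,6,0,1,0]) (.word [7,8,7,6,1,2,3,0,1,2])) (.word [3,4,3,0,7,8,7,2,3,1,2,3,5,4,6,5,6,3,4,1,2,3,0,1,2]))) (.node (.node (.node .none (.word [0,1,2,3,2,0,1,4,5,4,3,7,8,7,3,4,5,6,5,2,3,1,2])) (.word [0,1,2,3,2,0,1,0,2,1,4,5,4,7,3,2,8,4,3,7,5,6,4,5,1,2,0,1,0])) (.node (.node (.word [3,7,8,7,6,3,2,4,3,7,3,4,2,3,2,5,4,6,5,7,3,4,2,3,7,8,3,7,6,4,1]) (.word [0,3,5,4,6,7,3,4,8,7,3,4,2,3,7,5,6,4,5,1])) (.word [3,4,7,8,7,6,3,1,0,1,4,5,4,3,2,1,7,8,3,4,2,3,7,1,2,3,4,5,6])))))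 (.node (.node (.node (.node (.node (.word [3,4,3,0,1,2,5,4,7,8,3,7,4,5,6,0,1,2,3,1,0,4,3,2,1,5,8,3,4,2,3,7,8,2,3,4,5,6,1,0]) (.word [0,1,4,7,8,7,3,4,5,6,4,5,2,3,0,1,0])) (.node (.word [0,7,8,7,2,3,1,2,0,2,5,4,3,2,1,7,8,6,5,4,3,7,8,4,5,6,5,2,0,1]) (.word [6,2,1,5,7,3,2,4,3,7,8,2,3,7,5,6,5,2,3,0,3,5,4,6,5,6,3,4,2,3,1,2]))) (.node (.node (.word [3,7,8,7,3,0,2,5,4,3,2,1,7,8,6,5,4,3,7,8,4,5,6,4,3,2,7,3,4,5,6,4,5,4,2]) (.word [3,4,3,2,1,5,7,3,2,4,3,7,8,7,3,4,2,3,7,5,1,2])) (.word [2,1,5,6,7,3,2,5,4,3,7,8,2,3,7,5,2,3]))) (.node (.node (.node (.word [6,1,0,2,5,4,3,2,1,7,8,6,5,4,3,7,8,4,5,6,5,2,0,3,7,8,7,3,1]) (.word [3,4,3,2,1,5,7,3,2,4,3,7,8,7,3,4,2,3,7,5,1,2,1])) (.node (.word [3,4,3,6,1,2,1,5,7,3,2,8,7,3,4,2,3,7,5,6,0,1,2,1,0]) (.word [3,7,8,7,3,2,4,3,7,3,4,2,1,0,3,5,4,6,5,6,3,4,2,3,1,2])))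 (.node (.node (.word [3,7,8,7,3,1,2,1,0,4,3,2,5,4,8,5,3,4,1,2,3,7,8,6,5,1,0]) (.word [3,4,3,2,1,0,3,7,8,7,2,3,5,4,6,5,7,8,7,6,3,4,1,2,3,0,1,2])) (.word [6,0,7,8,7,2,3,1,2,0,4,5,4,3,7,8,7,3,4,5,6,5,2,3,1,2,1])))) (.node (.node (.node (.node (.word [2,1,0,3,7,8,7,2,6,1,2,3,4,5,4,3,2,8,7,3,4,1,2,3,7,8,3,4,5,6,3,4,2]) (.word [1,0,1,2,3,5,7,3,2,8,7,3,4,2,3,7,5,6,1,2,3,1])) (.word [0,2,1,0,5,7,3,2,4,3,7,8,5,4,2,3,7,5,1,2,1])) (.node (.node (.word [5,4,6,7,3,4,1,2,3,7,8,4,3,7,5,6,0,1,2,3,4,5,6,8,1,2,3,7,8,4,5,3,0,1]) (.word [2,4,3,7,3,4,2,1,3,4,3,2,4,5,4,8,7,3,8,7,2,3,4,5,6,3,1,2,1])) .none)) (.node (.node (.node (.word [1,0,7,8,7,2,3,1,2,4,8,7,3,2,1,5,4,3,7,8,5,6,5,2,0,1,0]) (.word [2,4,5,4,8,7,3,8,7,2,3,4,5,3,1,2,1])) (.word [3,7,8,7,6,3,1,2,3,5,4,3,2,1,8,2,3,7,8,5,6,4,5,3,2,1]))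 (.node (.node (.word [4,8,7,3,2,1,5,4,2,3,7,8,5,6,5,2,0,1,0]) (.word [5,6,7,8,5,4,1,2,3,7,4,5,2,0,1])) (.word [0,7,8,7,2,3,1,2,5,4,3,2,1,7,3,8,7,5,6,4,5,4,3,2,1]))))))))

/-- A subtree. -/
def sub127 : WTree :=
  (.node (.node (.node (.node (.node (.node (.node (.word [3,4,2,7,3,4,6,5,4,3,7,2,3,1,0,1,2,5,6,8,7,5,3,4,1,2,3,7,8,5,6,4]) (.node (.word [0,2,4,3,5,4,6,5,8,7,3,4,2,3,7,8,5,6,4,5,3,4,3,2]) (.word [3,4,3,2,1,0,3,7,8,7,2,0,1,2,5,4,3,2,6,7,3,4,5,6,4,1,2,3,2,1]))) (.node (.node (.word [0,1,3,5,4,3,7,8,7,5,6,5,4,2,3,2,1,0,4,8,7,3,2,1,5,4,2,3,7,8,6,5,3,2,0,1,0]) (.word [0,1,2,3,2,1,7,8,7,2,3,1,2,5,4,3,2,1,7,3,8,7,5,6,4,5,4,3,2,1])) (.word [3,2,1,5,4,7,2,3,7,4,5,6,0,1,2,3]))) (.node (.node .none (.word [3,7,8,7,6,3,2,4,3,7,3,4,2,1,0,2,1,3,5,6,7,2,3,7,8,4,3,7,5,6,1,2,1]))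 (.node (.node (.word [0,1,3,5,4,3,7,8,7,5,6,5,4,1,5,7,3,2,4,3,7,8,4,2,3,7,5,6,5,1]) (.word [1,3,2,7,3,4,6,5,4,3,7,2,3,1,0,4,5,4,3,7,8,7,3,4,5,6,5,2,3,1,2])) .none))) (.node (.node (.node (.node (.word [3,4,3,0,1,2,1,7,3,4,7,8,6,5,4,3,7,6,2,3,2,1,7,3,2,4,8,3,7,8,4,2,3,7,1]) (.word [3,7,8,7,3,1,2,1,3,4,3,2,7,3,4,5,6,4,5,1,2,3,0,1])) (.node (.word [0,1,2,3,2,0,1,0,2,4,3,7,3,4,2,3,2,5,6,7,3,2,8,7,3,4,2,3,7,5,1,2,1]) (.word [0,2,5,6,7,8,5,4,3,7,4,5,2,1]))) (.node (.word [2,1,0,3,7,8,7,2,3,4,3,2,1,5,4,3,2,7,3,7,4,5,3,4,2,3,7,8,7]) (.word [3,4,3,0,7,8,7,2,3,1,2,5,4,3,2,1,7,3,8,7,5,6,4,5,4,3,2,1]))) (.node (.node (.node (.word [0,1,2,5,6,8,7,3,4,1,2,3,7,8,5,6,4,0,2,1,3,5,6,7,2,3,7,8,4,3,7,5,6,1,2]) (.word [3,4,7,8,7,3,0,2,1,0,3,5,4,6,2,3,7,3,4,5,1,2,0])) (.node (.word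 [3,4,3,0,2,1,0,5,7,3,2,4,3,7,8,4,2,3,7,5,1,2,1]) (.word [4,7,8,1,2,3,7,6,4,3,0,1,2,1]))) (.node (.node (.word [6,2,3,2,4,5,6,8,1,2,3,7,8,4,5,6,2,3,1,0,2,1,5,4,3,7,3,4,5,6,5,3,2,1]) (.word [3,7,8,7,6,3,1,0,1,2,5,4,3,2,6,7,3,4,5,6,4,1,2,3,2,1])) (.word [3,4,7,8,7,3,2,1,4,5,7,3,4,2,3,7,5,6,4,5,3,2,1]))))) (.node (.node (.node (.node (.node .none (.word [0,5,4,3,7,3,2,4,8,7,3,4,2,3,7,5,4,1])) (.node .none (.word [3,4,3,2,1,0,3,7,8,7,2,4,5,4,3,2,1,7,8,2,3,7,6,4,5,4,3,2,1]))) (.node (.node .none (.word [3,7,8,7,6,3,1,0,2,5,4,3,2,1,7,8,6,5,4,3,7,8,6,4,5,2,0,1])) (.word [3,4,3,2,1,4,5,8,7,3,2,4,3,7,8,5,6,4,5,4,2,3,2,1]))) (.node (.node (.node (.word [0,1,2,3,2,1,4,5,4,7,3,2,4,3,7,8,4,3,7,3,4,5,6]) (.word [0,1,2,6,3,2,1,5,4,3,2,1,7,3,4,2,3,7,1,2,3,4,5,0,1])) (.node (.word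 [6,1,0,7,8,7,2,3,1,2,0,4,5,4,3,7,8,7,6,3,4,5,2,3,1,2,1]) (.word [6,1,0,5,6,7,3,2,8,7,3,4,2,3,7,5,2,1]))) (.node (.node (.word [0,2,5,6,7,3,2,5,4,3,7,8,2,3,7,5]) (.word [3,4,3,2,1,5,4,7,3,2,3,7,6,4,5,0,1,2,3,2,0,1])) (.word [2,4,3,7,3,4,2,1,0,3,5,4,6,5,7,8,7,6,3,4,2,3,1,2])))) (.node (.node (.node (.node (.word [0,1,2,3,2,0,1,0,2,4,3,7,3,4,2,1,0,3,2,5,4,7,8,3,7,4,5,6,1,2,3,0]) (.word [5,4,3,2,1,0,8,6,5,4,2,3,7,8,5,6,3,2,1])) (.node (.word [0,7,8,7,2,3,4,5,6,7,3,4,2,3,7,1,2,3,4,5,4,0]) (.word [2,1,5,4,7,3,2,8,7,4,5,6,5,3,1,2,1,0]))) (.node (.node (.word [3,4,3,0,4,5,4,7,3,2,4,3,7,8,4,3,7,3,4,5,6]) (.word [2,4,3,7,3,4,2,3,7,8,7,6,3,0,1,2,5,4,3,2,6,7,3,4,5,6,4,1,2,3,2,1])) (.word [3,7,8,7,3,2,4,3,7,3,4,2,1,3,2,5,4,3,7,3,4,5,6,2,3]))) (.node (.node (.node .none (.word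 [0,1,2,3,2,1,3,5,6,7,3,2,4,3,7,8,7,3,4,2,3,7,5,6,1])) (.word [0,1,4,5,6,8,3,7,8,3,4,5,2,3,0,1,0])) (.node .none (.word [1,0,2,3,5,7,3,2,4,3,7,8,6,5,4,2,3,7,2,1])))))) (.node (.node (.node (.node (.node (.node (.word [0,7,8,7,2,3,1,2,3,4,3,0,1,2,5,6,8,7,5,3,4,1,2,3,7,8,5,6,4,1]) (.word [0,3,2,5,4,7,8,3,7,4,5,6,1,2,3,0,1])) (.word [2,4,3,7,3,4,2,3,7,8,7,6,3,0,2,1,0,3,5,4,6,2,3,7,3,4,5,6,1,2,0,1])) (.node (.node (.word [6,0,5,4,6,5,7,3,4,2,3,7,8,4,3,7,4,5,6,5,3]) (.word [2,1,4,7,8,3,7,4,2,3,0,1,2,0])) (.word [3,4,3,0,1,2,5,6,8,7,3,4,1,2,3,7,8,5,6,4,0,1,3,7,8,7,2,3,0,1,0]))) (.node (.node (.node (.word [3,4,2,7,3,4,6,5,4,3,7,2,3,1,0,1,2,4,5,6,7,3,2,8,4,3,7,8,2,3,7,4,5,6,3,1,0]) (.word [0,7,8,7,2,3,1,2,3,4,3,0,2,1,0,3,5,4,6,7,8,2,3,7,4,5,3,2,1])) (.node (.word [2,4,3,7,3,4,2,1,0,1,4,5,4,3,7,8,4,2,3,7,5,6,4,5,4,2,1,0])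 (.word [6,1,2,4,3,7,3,4,2,1,0,3,5,4,6,5,3,4,2,3,1,2]))) (.node .none (.word [3,2,1,5,7,2,3,7,8,4,3,7,5,6,3,2,1,0])))) (.node (.node (.node (.word [6,0,2,5,4,3,2,1,7,8,6,5,4,3,7,8,4,5,6,5,2,0,3,5,4,3,7,8,7,5,6,5,4]) (.node (.word [0,1,2,5,6,8,7,3,4,1,2,3,7,8,5,4]) (.word [3,4,3,0,7,3,2,4,5,8,3,7,4,5,3,4,2,3,7,6,5,1]))) (.node (.node (.word [2,1,0,3,4,3,2,3,7,8,3,7,4,5,6,4,5,2,3]) (.word [3,4,3,6,1,0,2,3,5,7,3,2,4,3,7,8,6,5,4,2,3,7,6,2,1])) .none)) (.node (.node (.word [1,3,2,7,3,4,6,5,4,3,7,2,3,1,2,1,0,7,3,2,4,3,7,8,2,3,7,6,2,1]) (.node (.word [3,7,8,7,3]) (.word [2,1,0,3,7,8,7,2,3,2,5,4,7,8,3,7,4,5,6,2,3,1]))) (.node (.node .none (.word [7,8,7,1,2,3,0,1,2,1])) (.word [1,0,7,8,7,2,3,1,2,4,5,4,3,6,7,1,2,3,7,4,5,4,2,0]))))) (.node (.node (.node (.node (.node (.word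 [1,2,1,5,7,3,2,4,3,7,8,2,3,7,5,6,5,2,3,0,1,4,5,4,3,2,1,8,7,3,4,2,3,7,8,5,6,4,1,2]) (.word [0,7,8,7,2,3,1,2,6,5,4,3,2,1,7,3,8,7,5,6,4,5,4,3,2,1])) (.word [0,7,8,7,2,3,1,2,3,2,5,4,6,5,7,3,4,2,3,7,8,3,7,6,4,1])) (.node (.node (.word [6,2,1,4,5,4,3,2,8,7,3,4,3,7,8,0,1,2,3,4,5,1,2]) (.word [2,1,0,3,4,3,6,5,4,3,7,2,3,4,5,6,1,2])) (.word [3,4,3,0,1,2,6,3,2,1,5,4,3,7,3,2,4,8,7,3,4,2,3,7,5,4,1]))) (.node (.node .none (.node (.word [6,2,1,5,4,3,2,7,8,4,5,3,4,2,3,7,8,5,1]) (.word [3,7,8,7,3,1,5,4,3,2,1,7,3,8,7,5,6,4,5,4,3,2,1]))) (.node (.node (.word [0,1,2,1,0,4,3,5,6,8,4,5,2,3,4,1,2,3,7,8,3,1,0,2,1,5,4,3,7,3,4,5,6,5,3,2,1]) (.word [2,3,2,7,8,7,6,3,1,2,1,0])) (.word [2,4,3,7,3,4,2,3,4,2,5,6,7,3,2,8,7,3,4,2,3,7,5,1,2,1])))) (.node (.node (.node (.node (.word [2,1,4,5,8,7,3,2,4,3,7,8,1,2,3,4,5,6,4,1,0])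 (.word [3,7,8,7,6,3,1,2,1,5,4,3,7,3,4,5,6,5,3,2,1])) (.node (.word [4,8,7,3,2,1,5,4,3,7,8,5,6,5,3,2,0,1,0]) (.word [3,4,3,0,1,2,7,3,4,8,6,5,4,3,7,6,1,2,3,2,1]))) (.node (.node (.word [0,1,2,3,2,1,0,3,7,8,7,3,2,1,5,4,3,2,7,8,4,5,3,4,2,3,7,8,5,6,1]) (.word [2,4,3,7,3,4,2,0,1,2,3,2,1,5,6,7,3,2,8,7,3,4,2,3,7,5,2,1])) (.word [6]))) (.node (.node (.word [0,1,5,4,6,5,7,3,4,2,3,7,8,4,3,7,4,5,6,1,0]) (.word [0,2,3,2,4,7,3,4,1,2,3,7,8,4,3,7,6,2,3,0])) (.node (.node .none (.word [2,4,3,7,3,4,2,3,4,3,5,4,6,7,8,1,2,3,7,4,5,6,2,0,1])) (.word [7,3,2,4,8,7,3,4,2,3,7,1,2,3,0,1,2]))))))) (.node (.node (.node (.node (.node (.node (.node .none (.word [0,1,2,3,1,0,5,4,6,5,7,8,7,3,4,5,6,2,3,4,1,2])) (.node (.word [3,4,3,0,1,2,5,6,8,7,3,4,1,2,3,7,8,5,6,4,0,1,2,3,2,1,0]) (.word [3,2,7,3,4,6,5,4,3,7,2,3,1])))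 (.node (.node (.word [0,1,3,5,4,3,7,8,7,5,6,5,4,2,3,2,1,0,4,8,7,3,2,1,5,4,3,7,8,5,6,5,3,2,0,1,0]) (.word [3,4,3,0,2,3,5,7,3,2,4,3,7,8,4,2,3,7,5,6,3,1,2])) (.word [3,4,3,2,1,5,7,3,2,4,3,7,8,2,3,7,6,5,2,3,1]))) (.node (.node (.node .none (.word [3,5,4,6,5,3,4,1,2,3,0,1,2,1])) (.node (.word [2,3,5,4,6,5,8,7,8,1,2,3,4,5,2,3,1,2]) (.word [6,0,5,4,3,2,1,7,3,4,2,3,7,1,2,3,4,5,6,0,1]))) (.node (.node .none (.word [3,4,3,0,2,1,0,5,4,3,7,3,4,5,6,5,2,3,1,2,0])) .none))) (.node (.node (.node (.node (.word [6,5,4,6,7,3,4,1,2,3,7,8,4,3,7,5,6,0,1,2,3,5,4,3,2,1,8,2,3,7,8,4,5,6,4,5,3,2,1]) (.word [2,4,5,6,7,8,3,7,2,3,4,5,6,3,1])) (.node (.word [0,4,5,4,3,7,8,4,2,3,7,2,3,4,5,6]) (.word [0,1,3,5,4,3,7,8,7,5,6,5,4,2,3,2,0,1,0]))) (.node (.word [6,0,5,6,7,3,2,1,4,5,3,4,2,3,7,8,5,4,1,2,3,7])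 (.word [0,1,5,4,6,5,7,4,3,7,8,2,3,7,4,5,6,0,1,0]))) (.node (.node (.node (.word [1,2,1,0,4,3,2,5,8,7,3,4,1,2,3,7,8,2,3,4,5,1,2,3]) (.word [0,1,2,5,4,7,8,3,7,4,5,6,1,2,3,2])) .none) (.node (.node (.word [2,4,3,7,3,4,2,1,0,1,2,6,3,5,7,3,2,8,7,3,4,2,3,7,5,6,1,2,3,1]) (.word [0,2,1,0,5,6,7,3,7,8,5,4,3,7,5,6,3,2,1])) (.word [1,3,4,3,0,2,5,4,3,2,1,7,8,6,5,4,3,7,8,6,4,5,2,0,1]))))) (.node (.node (.node (.node (.word [0,7,8,7,2,3,1,2,3,2,7,3,4,6,5,4,3,7,2,3,1,0,2,1,0,4,3,5,4,3,8,2,3,7,8,1,2,3,4,5,6,0,1]) (.node (.word [1,2,4,3,7,3,4,2,1,0,2,1,3,5,6,7,2,3,7,8,4,3,7,5,6,1,2,1]) (.word [0,2,1,0,3,5,4,6,7,8,3,7,4,5,3,2,1]))) (.node (.node (.word [2,4,3,7,3,4,3,4,5,6,8,1,2,3,7,8,4,5,3,2,1,0,5,7,3,2,4,3,7,8,4,2,3,7,5,1,2,1]) (.word [4,8,7,3,2,1,5,4,2,3,7,8,6,5,3,2,1,0])) (.word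 [0,1,3,5,4,3,7,3,2,4,8,7,3,4,2,3,7,6,5,4,1,0]))) (.node (.node (.node (.word [0,1,2,6,3,2,1,5,4,6,5,7,3,4,2,3,7,8,4,3,7,6,4,5,3,1]) (.word [4,5,4,3,6,7,1,2,3,7,4,5,6,4,2,0])) (.node (.word [0,1,2,3,2,4,5,4,3,8,7,3,4,2,3,7,8,6,5,1,2,3]) (.word [2,1,0,3,7,8,7,4,3,7,3,4,2,1,0,3,5,4,6,5,6,3,4,2,3,1,2]))) (.node (.word [2,4,3,7,3,4,2,1,3,4,2,5,6,7,3,2,8,7,3,4,2,3,7,5,6,1,2]) (.word [2,1,3,4,3,2,7,3,4,5,6,4,5,1,2,3,0])))) (.node (.node (.node (.node (.word [2,3,4,5,6,8,1,2,3,7,8,4,5,3,0,2,1,5,4,3,2,7,8,4,5,3,4,2,3,7,8,5,6]) (.word [3,4,3,2,4,5,4,8,7,3,8,7,2,3,4,5,3,1,2,1])) (.node .none (.word [3,4,3,0,2,3,5,4,7,3,8,7,4,5,6,5,2,3,1,2,0,1]))) (.node (.node (.word [3,4,3,2,1,5,4,3,2,7,8,4,5,3,4,2,3,7,8,5,6]) (.word [6,1,0,2,1,0,3,5,4,6,7,8,3,7,4,5,3,2,1])) .none)) (.node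 (.node (.node .none (.word [6,1,2,1,0,3,7,8,7,2,5,4,3,2,1,7,3,8,7,5,6,4,5,4,3,2,1])) .none) (.node (.node (.word [2,4,3,7,3,4,2,0,5,6,7,3,2,1,4,5,3,4,2,3,7,8,5,4,1,2,3,7]) (.word [1,0,7,3,2,4,5,8,3,7,4,5,3,4,2,3,7,6,5,1])) (.word [3,4,3,0,1,2,5,4,7,8,3,7,4,5,6,0,1,2,3,2])))))) (.node (.node (.node (.node (.node (.word [0,7,8,7,2,3,1,2,3,5,4,6,5,7,3,4,1,2,3,7,8,4,3,7,4]) (.node (.word [2,1,0,3,7,8,7,2,3,4,3,5,4,6,7,3,4,1,2,3,7,8,4,3,7,5,6,0,1]) (.word [0,7,8,7,2,3,1,2,4,5,4,3,6,7,1,2,3,7,4,5,4,2,0,1]))) (.node (.word [3,7,8,7,3,0,1,2,3,2,4,5,4,3,2,1,8,7,3,4,2,3,7,8,5,6,4,1,2]) (.word [2,1,0,7,3,2,4,3,7,8,2,3,7,2,1]))) (.node (.node (.node (.word [3,4,3,0,5,4,6,5,7,3,4,2,3,7,8,4,3,7,6,4,5,3]) (.word [3,4,3,6,2,3,5,4,6,5,8,7,8,1,2,3,4,5,6,2,3,1,2])) (.node (.word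 [0,7,8,7,2,3,1,2,3,4,3,0,2,5,6,7,3,2,5,4,3,7,8,2,3,7,5,6,1]) (.word [3,7,8,7,6,3,1,5,4,3,2,1,7,3,8,7,5,6,4,5,4,3,2,1]))) (.node (.word [3,7,8,7,6,3,2,4,3,7,3,4,2,0,1,2,4,3,5,4,3,6,8,5,2,3,4,1,2,3,7,8,6,4,2]) (.word [2,4,3,7,3,4,2,1,0,7,8,7,2,3,1,2,5,4,6,7,8,1,2,3,7,4,5,6,2,0,1])))) (.node (.node (.node (.node (.word [2,4,3,7,3,4,2,1,3,2,5,4,6,5,7,3,4,2,3,7,8,2,3,7,4,1]) (.word [0,1,2,3,2,0,1,0,2,1,5,7,3,2,4,3,7,8,5,4,2,3,7,6,5,2,3,1])) (.node (.word [3,4,3,0,1,2,5,7,3,2,8,7,8,3,4,2,3,7,5,6,1,2,3]) (.word [2,4,3,7,3,4,2,1,2,4,5,4,8,7,3,8,7,2,3,4,5,6,3,1,2,1]))) (.node (.node (.word [2,3,2,4,5,6,8,1,2,3,7,8,4,5,6,2,3,1,0]) (.word [6,1,0,7,8,7,2,3,5,4,3,2,1,7,3,7,4,5,6,3,4,2,3,0,1,2,0])) (.word [0,2,1,0,3,5,4,6,2,3,7,3,4,5,6,1,2,0]))) (.node (.node (.node (.word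 [2,1,0,4,3,2,5,4,8,5,3,4,1,2,3,7,8,6,5,0,1,0]) (.word [2,1,4,5,4,7,3,2,8,4,3,7,5,6,4,5,1,2,0,1,0])) (.node .none (.word [2,4,3,7,3,4,1,5,4,7,3,2,3,7,6,4,5,0,1,2,3,2,0,1]))) (.node (.node .none (.word [3,7,8,7,3,1,2,1,5,4,3,7,6,3,4,5,3,2,1])) (.word [2,1,5,7,3,2,4,3,7,8,2,3,7,6,5,2,3,1]))))) (.node (.node (.node (.node (.node (.word [2,1,0,3,7,8,7,2,3,4,3,0,1,2,5,6,8,7,5,3,4,1,2,3,7,8,5,6,4]) (.word [3,4,7,8,7,3,1,0,2,1,0,3,5,4,6,7,8,2,3,7,4,5,3,2,1])) (.node .none (.word [0,1,4,5,3,4,2,3,7,3,4,5,4,2,0,1,0]))) (.node (.node (.word [3,2,5,4,6,5,7,3,4,2,3,7,8,3,7,6,4,1]) (.word [0,3,2,5,4,3,6,7,5,6,2,3,4,3,1,2,1])) (.word [2,1,0,3,7,8,7,2,6,1,5,4,3,2,1,0,8,6,5,4,3,7,8,5,6,3,2,1]))) (.node (.node .none (.word [1,4,8,7,3,2,1,5,4,3,7,8,5,6,5,3,2,0,1,0])) (.node (.node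 .none (.word [0,3,2,5,4,3,7,3,4,5,6,1,2,3,0,1])) (.word [1,0,7,8,7,2,3,1,2,0,4,5,4,3,7,8,7,3,4,5,6,5,2,3,1,2,1])))) (.node (.node (.node (.node (.word [3,4,3,0,1,2,1,7,3,4,7,8,6,5,4,3,7,6,2,3,2,1,2,4,5,6,7,8,3,7,2,3,4,5,6,3]) (.word [6,2,1,4,5,8,7,3,2,4,3,7,8,5,6,4,5,4,2,3,2,1])) (.word [3,7,8,7,3,0,4,5,4,7,3,2,4,3,7,8,4,3,7,3,4,5,1])) (.node (.node .none (.word [1,2,4,3,7,3,4,2,0,4,5,4,3,7,8,7,3,4,5,6,5,2,3,1,2,1])) (.word [6,1,2,4,3,7,3,4,2,3,2,5,6,7,3,2,8,7,3,4,2,3,7,5,6,1,2,1]))) (.node (.node (.node (.word [3,2,7,3,4,6,5,4,3,7,2,3,1,2,1,0,3,4,7,8,3,7,4,2,1]) (.word [0,1,2,6,3,2,1,7,8,7,2,3,5,4,3,2,1,7,3,4,5,6,3,4,2,3,0,1,2,0])) (.word [6,1,2,3,2,4,5,7,3,8,4,2,3,7,5,6,4,1,2,0,1,0])) (.node (.node (.word [3,7,8,7,3,0,4,5,4,7,3,2,4,3,7,8,4,3,7,3,4,5,6,1]) (.word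 [2,1,0,3,7,8,7,2,6,1,3,2,5,4,7,8,3,7,4,5,6,2,3,1])) (.word [3,4,3,6,1,2,1,4,5,8,7,3,2,4,3,7,8,5,6,4,5,4,2,3,2,1]))))))))

/-- A subtree. -/
def sub128 : WTree :=
  (.node (.node (.node (.node (.node (.node (.node (.node (.word [3,4,3,0,7,8,7,2,3,1,2,0,5,4,6,5,7,3,4,2,3,7,8,4,3,7,6,4,5,3]) (.word [3,7,8,7,3,1,2,1,5,7,3,2,4,3,7,8,7,3,4,2,3,7,5,6,1,2])) (.node (.word [3,4,3,6,1,2,1,5,7,3,2,4,3,7,8,7,3,4,2,3,7,5,6,1,2]) (.word [2,1,5,4,7,3,2,8,3,7,4,5,6,5,3,1,2,1,0]))) (.node (.node (.word [0,1,2,1,4,5,4,3,6,5,7,4,5,2,3,4,1,2,3,7,8,7]) (.word [3,5,4,6,5,6,3,4,1,2,3,0,1,2,1])) (.word [0,1,2,3,2,1,0,3,2,7,3,2,4,3,7,8,5,3,4,2,3,7,6,2,3]))) (.node (.node (.node (.word [2,4,3,7,3,4,2,1,0,2,5,4,3,2,1,7,8,6,5,4,3,7,8,4,5,6,5,2,0]) (.word [6,2,4,5,4,8,7,3,8,7,2,3,4,5,3,1,2,1]))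 (.node (.word [2,1,0,3,7,8,7,2,3,4,3,0,2,1,0,5,4,3,7,6,3,4,5,2,3,1,2,0]) (.word [3,7,8,7,6,3,4,5,4,3,2,1,7,8,4,3,7,6,4,5,4,3,2,1]))) (.node .none (.word [6,1,3,4,3,0,2,1,0,5,7,3,2,4,3,7,8,4,2,3,7,5,1,2,1])))) (.node (.node (.node (.node (.word [6,3,2,7,3,4,6,5,4,3,7,2,3,1,7,3,2,4,8,3,7,8,3,4,2,3,7,6,1]) (.word [1,4,7,3,4,8,7,3,4,2,3,7,4,5,6,4,5,3,1])) (.node .none (.word [0,2,1,0,3,5,4,6,7,8,2,3,7,4,5,3,2,1]))) (.node (.node (.word [0,1,3,5,4,3,7,8,7,5,6,5,4,2,3,2,1,0,4,8,7,3,2,1,5,4,3,7,8,6,5,3,2,0,1,0]) (.word [0,1,2,3,2,0,1,7,3,2,4,5,8,3,7,4,5,3,4,2,3,7,6,5,1])) .none)) (.node (.node (.node (.word [0,1,2,3,2,0,1,7,8,7,2,3,1,2,0,1,4,5,4,3,2,1,8,7,3,4,2,3,7,8,5,6,4,1,2]) (.word [2,1,5,4,3,7,3,4,5,6,5,3,2])) (.word [3,4,3,6,1,0,4,5,4,7,3,2,4,3,7,8,4,3,7,3,4,5,6,1]))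 (.node (.node .none (.word [3,4,3,0,2,1,0,5,6,7,3,5,4,3,7,5,6,2,3,1,2,0])) (.word [3,4,7,8,7,3,1,0,2,1,0,5,4,3,7,6,3,4,5,2,3,1,2,0,1]))))) (.node (.node (.node (.node (.node .none (.word [3,2,5,4,7,8,3,7,4,5,2,3,1])) (.word [2,4,3,7,3,4,2,1,0,1,2,3,5,7,3,2,8,7,3,4,2,3,7,5,6,1,2,3,1])) (.node (.node (.word [3,7,8,7,3,2,1,5,4,3,2,7,8,4,5,3,4,2,3,7,8,5,6,1]) (.word [3,7,8,7,3,1,0,2,1,0,5,7,3,2,4,3,7,8,4,2,3,7,5,6,1,2])) (.word [0,1,2,3,2,0,1,4,7,8,6,5,4,3,7,8,2,3,7,4,5,1]))) (.node (.node (.node (.word [2,1,0,3,7,8,7,2,1,3,2,5,4,6,5,7,3,4,2,3,7,8,3,7,6,4,1]) (.word [3,4,3,1,0,2,3,5,7,3,2,4,3,7,8,6,5,4,2,3,7,2,1])) .none) (.node (.node (.word [3,7,8,7,3,1,0,4,5,4,7,3,2,4,3,7,8,4,3,7,3,4,5,6,1]) (.word [0,1,4,5,4,3,8,7,3,4,2,3,7,8,5,6,5,1,2,3])) (.word [2,3,4,5,6,8,1,2,3,7,8,4,5,3,0,2,1,3,4,3,2,7,3,4,5,6,4,5,1,2,3,0,1]))))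 (.node (.node (.node (.node (.word [3,4,3,0,1,2,5,6,8,7,3,4,1,2,3,7,8,5,6,4,1]) (.word [0,1,2,3,2,0,1,0,2,4,5,4,8,7,3,8,7,2,3,4,5,3,1,2,1])) (.node .none (.word [2,4,3,7,3,4,2,1,5,4,3,2,1,7,3,2,7,4,5,6,4,5,4,3,1,2,0,1,0]))) (.node (.node (.word [0,7,8,7,2,3,1,2,3,4,3,2,1,5,4,3,2,7,8,4,3,7,8,4,5,6,4,2,1]) (.word [2,1,4,7,8,3,7,4,2,3,0,1,2,0,1])) .none)) (.node (.node (.node (.word [6,1,0,2,5,4,3,2,1,7,8,6,5,4,3,7,8,4,5,6,4,3,2,7,3,4,5,6,4,5,4,2]) (.word [3,7,8,7,3,1,2,3,4,5,6,7,3,4,2,3,7,1,2,3,4,5,6,1,0])) (.word [6,2,3,4,5,6,8,1,2,3,7,8,4,5,3,0,2,1,5,4,6,7,2,3,7,4,5,6,3,2,1])) (.word [0,2,5,4,3,2,1,7,8,6,5,4,3,7,8,4,5,6,5,2,0,3,5,4,3,7,8,7,5,6,5,4,1]))))) (.node (.node (.node (.node (.node (.node .none (.word [0,1,3,5,4,3,7,8,7,5,6,5,4,2,3,2,1,0,2,1,5,6,7,8,5,4,3,7,4,5,6,2,3,1,2,1,0]))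 .none) (.node (.node (.word [3,5,4,3,7,8,7,5,6,5,4]) (.word [2,4,3,7,3,4,2,1])) (.word [3,7,8,7,6,3,1,2,4,3,7,3,4,2,1,3,2,5,4,7,8,3,7,4,5,6,2,3,1]))) (.node (.node (.node (.word [3,7,8,7,6,3,1,2,3,4,5,4,3,2,8,7,3,4,1,2,3,7,8,3,4,5,6,3,4,2]) (.word [3,4,2,5,4,3,2,1,7,6,5,3,4,2,3,0,1,2,0,1])) (.node .none (.word [0,1,2,5,4,3,2,6,7,3,4,5,6,4,1,2,3,2,1]))) (.node (.node (.word [2,4,3,7,3,4,3,5,4,6,5,8,1,2,3,7,8,3,4,5,6,0,1]) (.word [2,1,0,3,4,5,6,2,3,4,5,3,1])) (.word [0,1,2,3,2,1,7,8,7,2,3,1,2,0,1,2,5,4,3,2,6,7,3,4,5,6,4,0,1,2,3,2,1])))) (.node (.node (.node (.node (.word [3,4,3,0,7,8,7,2,3,1,2,4,7,3,8,7,8,2,3,7,4,5,6,4,5,3]) (.word [3,4,7,8,7,3,1,0,1,4,5,4,3,2,1,7,8,3,4,2,3,7,1,2,3,4,5,6])) (.node (.word [2,4,3,7,3,4,2,3,2,5,4,6,5,7,3,4,2,3,7,8,2,3,7,6,4,1]) (.word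 [6,1,0,5,4,3,2,1,7,3,4,2,3,7,1,2,3,4,5,6,0,1]))) (.node (.node (.word [3,7,8,7,3,0,2,5,4,3,2,1,7,8,6,5,4,3,7,8,4,5,6,5,2,0,3,7,8,7,3,1]) (.word [3,2,1,8,2,3,7,8,6,3,2,1,0])) (.word [1,2,3,2,4,5,7,3,8,4,2,3,7,5,6,4,1,2,0,1,0]))) (.node (.node (.node .none (.word [3,7,8,7,6,3,1,2,1,0,3,4,7,8,3,7,4,2,1])) (.node (.word [3,7,8,7,6,3,2,4,3,7,3,4,2,1,3,2,5,4,7,8,3,7,4,5,6,2,3,1]) (.word [0,5,4,3,2,1,7,3,4,2,3,7,1,2,3,4,5,6,0]))) (.node (.node (.word [1,2,4,3,7,3,4,2,3,2,5,4,6,5,7,3,4,2,3,7,8,3,7,6,4,1]) (.word [2,1,0,3,7,8,7,2,0,3,2,5,4,7,8,3,7,4,5,6,1,2,3,0,1])) (.word [2,1,5,7,3,2,4,3,7,8,2,3,7,5,6,5,2,3,1]))))) (.node (.node (.node (.node (.node (.word [2,4,5,4,8,7,3,8,7,2,3,4,5,3,1,2,1,3,4,3,0,5,7,3,2,4,3,7,8,4,2,3,7,5,6,5,1]) (.word [0,1,2,5,4,3,2,6,7,3,4,5,4,0,1,2,3,2,1]))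 (.word [3,7,8,7,3,2,4,3,7,3,4,2,3,2,5,4,6,5,7,3,4,2,3,7,8,3,7,4,1])) (.node (.node .none (.word [3,7,8,7,3,1,0,2,1,0,5,4,3,7,6,3,4,5,2,3,1,2,0,1])) .none)) (.node (.node (.node .none (.word [3,7,8,7,6,3,0,1,4,5,4,3,2,1,7,8,3,4,2,3,7,1,2,3,4,5,6])) (.node (.word [3,4,7,8,7,6,3,1,0,2,1,0,5,7,3,2,4,3,7,8,2,3,7,5,6,5,3,2,1]) (.word [3,7,8,7,4,3,0,2,3,5,7,3,2,4,3,7,8,6,5,4,2,3,7,6,2,1]))) (.node (.node (.word [3,4,3,6,1,0,5,7,3,2,4,3,7,8,4,2,3,7,5,6,5,1]) (.word [0,1,2,3,2,1,0,5,4,3,2,1,0,7,3,2,8,7,4,5,6,4,5,4,1,2,3,2,0])) (.word [0,1,2,3,2,1,5,7,3,2,4,3,7,8,4,2,3,7,6,5,1])))) (.node (.node (.node (.node (.word [6,2,1,5,7,3,2,4,3,7,8,2,3,7,5,6,5,2,3,0,1,2,5,7,3,8,7,8,4,3,7,5,6,0,1,2,3]) (.word [2,1,0,3,7,8,7,2,3,4,3,2,1,5,4,7,3,2,3,7,6,4,5,0,1,2,3,2,0,1])) (.node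 (.word [0,1,2,6,3,2,1,0,2,1,5,4,3,2,7,8,4,3,7,8,4,5,4,2,1]) (.word [1,0,2,1,0,3,5,4,6,7,8,2,3,7,4,5,3,2,1]))) (.node .none (.word [3,7,8,7,6,3,1]))) (.node (.node (.node (.word [3,2,7,3,4,6,5,4,3,7,2,3,1,7,3,2,4,8,3,7,8,4,2,3,7,6]) (.word [3,4,3,0,7,8,7,2,3,5,4,3,2,1,7,3,7,4,5,6,3,4,2,3,0,1,2,0])) (.word [0,2,1,3,4,7,2,3,4,0,1,2,3,7,8,3,7,1])) (.word [0,5,7,3,2,4,3,7,8,4,2,3,7,6,5])))))) (.node (.node (.node (.node (.node (.node (.node (.word [3,2,5,4,6,5,7,3,4,2,3,7,8,3,7,4,1,2,1,0,3,7,8,7,2,3,5,4,6,5,7,3,4,1,2,3,7,8,4,3,7,4]) (.word [2,4,5,4,8,7,3,8,7,2,3,4,5,3,1,2,1,3,7,8,7,6,3])) (.node (.word [3,7,8,7,3,1,0,2,5,4,3,2,1,7,8,6,5,4,3,7,8,4,5,6,5,2,0]) (.word [2,4,3,7,3,4,2,1,0,3,5,6,7,3,2,4,3,7,8,7,3,4,2,3,7,5,6,1]))) (.node (.node (.word [2,4,3,7,3,4,2,0,1,2,3,2,1,0,4,8,7,3,2,1,5,4,3,7,8,5,6,5,2,1,0])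 (.word [3,4,3,0,1,2,5,4,3,7,3,4,5,6,3,2,1,0])) (.word [2,1,5,7,3,2,4,3,7,8,2,3,7,5,6,4,3,2,5,4,3,7,6,2,3,4,5,1,2]))) (.node (.node (.node (.word [1,2,4,3,7,3,4,2,1,0,2,1,3,5,6,7,2,3,7,8,4,3,7,5,1,2]) (.word [0,2,1,3,4,7,2,3,7,6,4,2,3,1,2,0,1])) (.word [2,1,0,3,7,8,7,4,3,7,3,4,2,1,0,3,5,4,6,5,7,8,7,3,4,2,3,1,2])) (.node (.node (.word [0,1,2,3,2,1,0,4,8,7,3,2,1,5,4,3,7,8,6,5,2,0,1,0]) (.word [3,7,8,7,3,1,2,1,5,7,3,2,4,3,7,8,2,3,7,5,6,5,2,3,1])) (.word [0,1,3,5,4,3,7,3,2,4,8,7,3,4,2,3,7,6,5,4,0,1,0])))) (.node (.node (.node (.node (.word [6,0,2,1,0,5,6,7,3,5,4,3,7,5,6,2,3,1,2,0,1,4,8,7,3,2,1,5,4,2,3,7,8,5,6,5,2,0,1,0]) (.word [3,7,8,7,3,1,0,2,1,3,4,3,7,3,4,2,3,1,2,0])) (.node (.word [3,4,3,0,2,1,3,5,6,7,2,3,7,8,4,3,7,5,6,1,2,1]) (.word [6,1,5,4,3,2,1,7,3,8,7,4,5,6,4,5,4,3,2])))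 (.node (.node (.word [0,7,8,7,2,3,1,2,0,2,3,4,5,4,3,6,5,8,4,2,3,7,8,1,2,3,4,5,6]) (.word [6,2,3,4,5,6,8,1,2,3,7,8,4,5,3,2,1,0,3,5,4,6,2,3,7,3,4,5,6,2,3,1,2,1,0])) .none)) (.node (.node (.word [0,1,2,3,2,0,1,4,5,4,7,3,2,4,3,7,8,4,3,7,3,4,5,6]) (.node .none (.word [6,1,0,2,4,3,5,4,6,5,7,2,3,4,5,6,2,3,4,5,1,2]))) (.node (.node (.word [2,1,4,3,2,5,4,8,7,3,7,8,6,4,5,2,3,4,3,1,2,0]) (.word [3,2,1,8,2,3,7,8,3,2,1,0])) (.word [0,1,2,5,7,3,2,8,7,3,4,2,3,7,5,6,1,2,3]))))) (.node (.node (.node (.node (.word [3,7,8,7,3,2,3,4,5,6,8,1,2,3,7,8,4,5,3,0,2,1,4,5,8,7,3,2,4,3,7,8,1,2,3,4,5,6,4,1,0]) (.node (.word [3,2,7,3,4,6,5,4,3,7,2,3,1,2,1,0,4,3,2,5,4,8,5,3,4,1,2,3,7,8,6,5,0,1,0]) (.word [2,1,0,4,5,4,3,2,7,3,4,5,3,4,1,2]))) (.node (.node (.word [1,0,5,4,6,5,7,3,4,2,3,7,8,4,3,7,4,5,6,5,3])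 (.word [6,3,4,3,2,1,5,7,3,2,4,3,7,8,7,3,4,2,3,7,5,1,2,1])) (.word [0,1,5,4,6,5,7,3,7,8,2,3,7,4,5,0,1,0]))) (.node (.node (.node (.word [0,2,5,4,3,2,1,7,8,6,5,4,3,7,8,4,5,6,5,2,0,3,7,8,7,3,1]) (.word [2,3,2,7,3,4,8,6,5,4,3,7,6,1,2,0,1,0])) (.node (.word [3,7,8,7,3,1,0,2,1,0,5,7,3,2,4,3,7,8,2,3,7,5,6,5,3,2,1]) (.word [2,1,5,4,7,3,2,3,7,4,5,6,5,0,1,2,3,2,0]))) .none)) (.node (.node (.node (.node (.word [3,7,8,7,3,2,1,0,3,4,3,2,3,7,8,3,7,5,6,4,5,2,3,1]) (.word [4,8,7,3,2,1,5,4,3,7,8,6,5,2,1,0])) (.node (.word [0,1,2,4,3,5,4,3,6,8,5,2,3,4,1,2,3,7,8,4,2,1]) (.word [4,5,4,3,7,8,7,3,4,5,6,5,1,2,3,0,1,2]))) (.node (.node .none (.word [3,5,4,7,3,8,1,2,3,7,4,5,6,3,1])) .none)) (.node (.node (.node (.word [0,5,4,6,5,7,3,4,2,3,7,8,4,3,7,4,5,6,5,3]) (.word [0,7,8,7,2,3,1,2,3,7,8,7,3,1,0,1,4,5,4,3,2,1,7,8,3,4,2,3,7,1,2,3,4,5,6]))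 (.word [2,1,0,3,7,8,7,2,3,4,3,0,2,1,0,5,6,7,3,5,4,3,7,5,2,3,1,2,0])) (.node .none (.word [3,7,8,7,3,1,2,4,3,7,3,4,2,1,0,3,5,4,6,5,7,8,7,3,4,2,3,1,2])))))) (.node (.node (.node (.node (.node (.node (.word [2,1,5,7,3,2,4,3,7,8,2,3,7,5,6,5,2,3,2,1,5,4,3,2,7,8,4,5,3,4,2,3,7,8,5,6]) (.word [2,1,5,7,3,2,4,3,7,8,2,3,7,5,6,5,2,5,4,7,3,1,2,3,7,4,5,6,3,1])) (.node (.word [3,7,8,7,3,2,4,3,7,3,4,2,0,3,2,5,4,7,8,3,7,4,5,6,1,2,3,0]) (.word [3,7,8,7,3,1,2,1,0,3,7,8,7,2,4,5,4,3,2,1,7,8,2,3,7,6,4,5,4,3,2,1]))) (.node (.node .none (.word [0,1,2,1,0,4,5,7,3,8,4,2,3,7,5,6,4,1,2,3,2,0])) .none)) (.node (.node (.word [0,7,3,2,4,5,8,3,7,4,5,3,4,2,3,7,6,5,1,7,3,2,4,8,3,7,8,3,4,2,3,7,1]) (.node .none (.word [3,4,3,5,4,3,2,1,7,3,2,3,7,4,5,6,4,5,4,3,1,2,1,0]))) (.node (.node .none (.word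 [1,0,7,8,7,2,3,1,3,4,3,5,4,2,3,7,1,2,3,4,5,6,0,1,2])) (.word [0,1,2,3,2,1,0,2,1,4,5,7,3,4,2,3,7,5,6,4,5,3,2,1])))) (.node (.node (.node (.node (.word [3,2,7,3,4,6,5,4,3,7,2,3,1,7,3,2,4,8,3,7,8,4,2,3,7,6,1]) (.word [6,2,1,4,5,4,3,2,8,7,3,4,3,7,8,0,1,2,3,4,5,6,1,2])) (.node (.word [0,7,8,7,2,3,1,2,4,7,3,8,7,8,2,3,7,4,5,6,4,5,3,1]) (.word [3,7,8,7,6,3,1,2,1,5,7,3,2,4,3,7,8,7,3,4,2,3,7,5,1,2]))) (.word [0,1,2,3,2,1,0,3,7,8,7,6,3,1,2,1,5,4,3,2,7,8,4,5,3,4,2,3,7,8,5,6,1])) (.node (.node (.node (.word [1,0,2,5,4,3,2,1,7,8,6,5,4,3,7,8,4,5,6,5,2,0,3,7,8,7,3,1]) (.word [2,1,4,5,4,3,2,8,7,3,4,3,7,8,0,1,2,3,4,5,6,1,2])) .none) (.node (.node (.word [2,4,3,7,3,4,2,1,3,5,4,3,7,8,7,5,6,5,4]) (.word [2,1,0,3,7,8,7,2,3,4,3,0,2,1,0,5,6,7,3,7,8,5,4,3,7,5,3,2,1])) .none)))) (.node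 (.node (.node (.node (.word [2,1,0,3,7,8,7,2,3,2,7,3,4,6,5,4,3,7,2,3,1,7,3,2,4,8,3,7,8,3,4,2,3,7,6,1]) (.word [1,2,4,3,7,3,4,2,0,2,1,0,4,3,5,4,3,8,2,3,7,8,1,2,3,4,5,6,0])) (.node (.word [0,7,8,7,2,3,1,2,3,4,3,0,2,1,3,8,7,3,4,2,3,7,8,5,6,4,5,3]) (.word [6,4,7,3,7,8,2,3,7,4,1,2,3,0,1,2]))) (.node (.node (.node (.word [0,1,2,6,3,2,1,0,2,4,3,7,3,4,2,1,3,5,4,3,7,8,7,5,6,5,4]) (.word [1,2,4,3,7,3,4,2,1,2,3,2,5,4,7,8,3,7,4,5,6,1,2,0,1,0])) (.node .none (.word [5,4,3,7,3,2,1,8,3,7,3,4,5,6,4,2,3,2,1,0]))) (.word [2,1,0,4,3,2,5,4,8,3,7,8,5,6,4,5,1,2,0,1,0]))) (.node (.node (.node (.node (.word [2,4,3,7,3,4,2,1,0,7,8,7,2,3,1,2,0,2,3,4,5,4,3,6,5,8,4,2,3,7,8,1,2,3,4,5,6,1]) (.word [0,1,2,3,2,0,1,2,5,4,7,8,3,7,6,4,5,2,1])) (.word [6,1,0,2,5,4,3,2,1,7,8,6,5,4,3,7,8,4,5,6,5,2,0,4,7,3,4,8,1,2,3,7,8,4,3,7,1]))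 (.node (.node (.word [1,3,2,7,3,4,6,5,4,3,7,2,3,1,2,4,5,6,7,8,3,7,2,3,4,5,6,3,1]) (.word [6,1,2,4,5,4,8,7,3,8,7,2,3,4,5,6,3,1,2,1])) .none)) (.node (.node (.word [2,1,0,3,7,8,7,1,0,4,3,2,1,5,8,3,4,2,3,7,8,2,3,4,5,0,1,0]) (.word [3,4,3,0,7,8,7,2,3,1,2,3,5,4,6,5,6,3,4,1,2,3,0,1,2,1])) (.node (.node (.word [2,1,0,3,7,8,7,2,3,4,3,0,2,1,0,5,6,7,3,5,4,3,7,5,6,2,3,1,2,0,1]) (.word [3,4,3,0,1,2,1,5,7,3,7,8,4,3,7,5,6,2,3,2,1])) (.word [6,2,1,5,4,3,2,7,8,4,3,7,8,4,5,4,2,1]))))))))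

/-- A subtree. -/
def sub129 : WTree :=
  (.node (.node sub125 sub126) (.node sub127 sub128))

/-- A subtree. -/
def sub130 : WTree :=
  (.node (.node (.node (.node (.node (.node (.node (.node .none (.word [0,1,2,3,2,0,1,2,5,6,7,8,5,4,3,7,4,5,2,1])) (.node (.word [0,2,3,4,5,4,3,2,8,7,3,4,2,3,7,8,1,2,3,4,5,6,3,2,0]) (.word [3,4,3,2,1,5,4,7,3,2,3,7,4,5,6,5,0,1,2,3,2,0]))) (.word [3,4,3,0,1,4,5,4,3,2,1,8,7,3,4,2,3,7,8,5,6,4,1,2])) (.node (.node (.node (.word [0,1,2,3,2,1,2,5,4,3,2,1,7,8,6,5,4,3,7,8,4,5,6,5,2,0,3,7,8,7,3,1]) (.word [1,0,2,1,3,7,3,2,4,3,7,8,2,3,7,3,2])) (.node (.word [7,3,2,4,8,3,7,8,3,4,2,3,7,6,1]) (.word [0,1,2,5,4,3,7,3,4,5,2,0,1,0]))) (.node (.node (.word [0,7,8,7,2,3,1,2,1,3,2,5,4,6,5,7,3,4,2,3,7,8,3,7,6,4,1]) (.word [0,1,2,3,2,0,1,7,8,7,2,3,1,2,5,4,3,2,1,7,3,8,7,5,6,4,5,4,3,2,1]))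 (.word [3,7,8,7,6,3,2,1,0,7,3,2,4,3,7,8,2,3,7,2])))) (.node (.node (.node (.node (.word [2,1,0,3,7,8,7,4,3,7,3,4,2,1,3,2,5,4,6,5,7,3,4,2,3,7,8,2,3,7,4,1]) (.word [6,0,2,1,0,3,5,4,6,2,3,7,3,4,5,6,1,2,0,1])) (.node (.word [2,3,4,5,6,8,1,2,3,7,8,4,5,3,0,2,1,5,6,7,3,5,4,3,7,5,6,3,2,1]) (.word [3,7,8,7,3,5,4,3,2,1,7,3,8,7,4,5,6,4,5,4,3,2,1]))) (.node (.node (.word [2,1,0,3,7,8,7,1,0,4,3,2,1,5,8,3,4,2,3,7,8,2,3,4,5,1,0]) (.word [2,1,0,3,7,8,7,2,3,4,3,0,2,5,4,7,8,3,7,6,4,5,2,1])) .none)) (.node (.node (.node (.word [2,1,0,3,7,8,7,2,0,1,5,4,6,5,7,3,4,2,3,7,8,4,3,7,4,5,6,1,0]) (.word [1,3,2,7,3,2,4,3,7,8,5,3,4,2,3,7,6,2,3])) (.node (.word [3,7,8,7,3,1,0,1,2,6,3,2,1,2,1,0,5,4,3,7,3,4,5,6,5,2,3,1,2,0,1]) (.word [0,2,3,2,5,4,3,6,1,2,3,7,4,5,6,3,4,5,2,1]))) (.node (.node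 (.word [2,4,3,7,3,4,2,0,2,1,3,5,6,7,2,3,7,8,4,3,7,5,6,1,2]) (.word [2,4,3,7,3,4,2,1,3,4,2,5,6,7,3,2,8,7,3,4,2,3,7,5,6,1,2,1])) (.word [3,7,8,7,4,3,0,2,1,0,5,7,3,2,4,3,7,8,4,2,3,7,5,6,1,2]))))) (.node (.node (.node (.node (.node (.word [0,1,2,3,2,1,0,2,4,3,7,3,4,2,1,3,2,5,4,6,5,7,3,4,2,3,7,8,3,7,4]) (.word [0,4,5,4,3,7,8,7,6,3,4,5,2,3,1,2,1])) (.node (.word [2,3,2,4,5,6,8,1,2,3,7,8,4,5,6,2,3,0,1,0]) (.word [3,7,8,7,3,1,5,4,3,2,1,7,3,2,7,4,5,6,4,5,4,3,1,2,1,0]))) (.node (.node .none (.word [3,4,3,0,2,3,5,7,3,2,4,3,7,8,6,5,4,2,3,7,2,1])) .none)) (.node (.node (.node .none (.word [6,2,3,4,3,5,4,2,3,7,1,2,3,4,5,6,0,1,2])) (.word [0,3,2,5,4,7,8,3,7,4,5,6,1,2,3,0])) (.node (.node .none (.word [0,2,3,5,6,7,3,8,5,4,3,7,5,2,3,1,2,0])) (.word [2,1,0,8,2,3,7,8,2])))) (.node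 (.node (.node (.node (.word [3,2,5,4,6,5,7,3,4,2,3,7,8,3,7,6,4]) (.word [2,1,0,3,7,8,7,2,3,4,3,0,2,1,0,5,4,3,7,6,3,4,5,2,3,1,2,0,1])) (.node .none (.word [0,1,2,6,3,2,1,0,2,1,5,4,3,2,1,7,3,7,4,5,6,3,4,2,3,0,1,2,0]))) (.node (.node (.word [3,4,3,0,2,4,5,6,8,7,3,8,7,2,3,4,5,1,2,3,0,1]) (.word [6,5,4,7,3,2,1,4,3,7,8,4,3,7,6,5,2,3,2,1,0])) (.word [6,1,0,7,8,7,2,3,1,2,4,5,4,3,7,8,7,6,3,4,5,1,2,3,0,1,2,1]))) (.node (.node (.node (.word [2,1,4,5,8,7,3,2,4,3,7,8,1,2,3,4,5,6,4,0,1,0]) (.word [6,1,5,4,3,2,1,0,8,6,5,4,3,7,8,5,6,3,2,1])) (.word [6,1,3,2,7,3,2,4,3,7,8,5,3,4,2,3,7,6,2,3,1])) (.node (.node (.word [0,1,2,3,2,0,1,0,4,8,7,3,2,1,5,4,3,7,8,6,5,3,2,0,1,0]) (.word [0,1,3,5,4,3,7,8,7,5,6,5,4,2,3,2,1,0])) (.word [0,1,2,3,2,1,0,2,1,5,7,3,2,4,3,7,8,5,4,2,3,7,6,5,2,3,1]))))))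 (.node (.node (.node (.node (.node (.node (.word [0,1,3,5,4,3,7,8,7,5,6,5,4,2,3,2,1,0,2,4,3,7,3,4,2,1,0,3,2,5,4,7,8,3,7,4,5,6,1,2,3,0]) (.word [3,7,8,7,3,1,2,1,5,4,3,2,1,7,3,4,5,6,3,4,2,3,0,1,2,0])) (.word [3,4,3,0,2,5,6,7,3,2,5,4,3,7,8,2,3,7,5,6,1])) (.node (.node (.word [0,1,2,3,2,1,0,4,5,6,7,3,4,2,3,7,8,4,3,7,5,6,4,5,1]) (.word [0,1,3,5,4,3,7,8,7,6,5,4,2,3,2,0,1,0])) (.word [0,7,8,7,2,3,1,2,0,1,5,4,3,2,1,8,6,5,4,3,7,8,5,6,2,3]))) (.node (.node (.word [2,4,5,4,8,7,3,8,7,2,3,4,5,3,1,2,1,3,4,3,5,4,6,7,8,1,2,3,7,4,5,6,2,0,1]) (.node (.word [3,4,3,2,1,5,6,7,3,2,5,4,3,7,8,2,3,7,5,2,3]) (.word [0,7,8,7,2,3,1,2,5,4,3,2,1,0,7,3,2,8,7,4,5,6,4,5,4,1,2,3,2,0]))) (.node (.node (.word [2,3,4,5,6,8,1,2,3,7,8,4,5,3,0,1]) (.word [3,4,3,1,0,2,1,0,3,5,4,6,7,8,2,3,7,4,5,3,2,1]))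 .none))) (.node (.node (.node (.node .none (.word [2,1,0,3,7,8,7,3,2,4,5,4,3,7,6,1,2,3,4,5,2,1,0])) (.node (.word [0,7,8,7,2,3,1,2,5,4,6,7,3,4,1,2,3,7,8,4,3,7,5,6,0,1]) (.word [2,4,3,7,3,4,2,1,0,3,5,4,6,5,3,4,2,3,1,2,1]))) (.node (.node (.word [3,7,8,7,3,1,0,2,5,4,3,2,1,7,8,6,5,4,3,7,8,4,5,6,4,3,2,7,3,4,5,6,4,5,4,2]) (.word [6,1,0,2,1,0,5,7,3,4,7,8,3,7,5,6,5,3,2,1])) (.word [0,7,8,7,2,3,1,2,3,2,5,4,3,2,1,7,5,6,5,3,4,2,3,0,1,2,0]))) (.node (.node (.node (.word [0,1,2,5,6,8,7,3,4,1,2,3,7,8,5,6,4,0,2,1,3,5,6,7,2,3,7,8,4,3,7,5,6,1,2,1]) (.word [3,4,3,2,1,5,6,7,3,5,4,3,7,5,6,3,2,1])) (.node .none (.word [1,0,2,3,5,4,7,3,8,7,4,5,6,5,2,3,1,2,0]))) (.node (.node (.word [4,8,7,3,2,1,5,4,3,7,8,5,6,5,2,0,1,0]) (.word [6,4,5,4,3,2,1,7,8,4,3,7,6,4,5,4,3,2,1])) (.word [2,1,0,8,2,3,7,8,6,2])))))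 (.node (.node (.node (.node (.node (.word [3,4,3,0,1,2,5,6,8,7,3,4,1,2,3,7,8,5,6,4]) (.word [0,3,2,7,3,4,8,6,5,4,3,7,6,1,2,3,0,1])) (.node (.word [3,4,3,0,5,4,6,5,7,3,4,2,3,7,8,4,3,7,6,4,5,3,1]) (.word [0,1,2,7,3,4,6,5,4,3,7,6,3,2,1,0]))) (.node (.node (.word [0,5,4,6,5,7,3,4,2,3,7,8,4,3,7,6,4,5,3,1]) (.word [0,1,2,3,2,1,0,5,4,7,3,2,1,4,3,7,8,4,3,7,6,5,2,3,2,1,0])) .none)) (.node (.node (.node (.word [1,2,1,0,4,3,2,5,4,8,5,3,4,1,2,3,7,8,6,5,0,1,0]) (.word [4,8,7,3,2,1,5,4,3,7,8,6,5,3,2,1,0])) (.node (.word [3,4,3,2,1,5,7,3,2,4,3,7,8,2,3,7,6,5,0,1,2,3,0]) (.word [4,5,4,3,6,7,1,2,3,7,4,5,4,2,0,1]))) (.node (.node (.word [2,1,4,5,4,3,2,8,7,3,4,3,7,8,0,1,2,3,4,5,1,2,1]) (.word [3,7,8,7,3,5,4,3,2,1,7,3,2,7,4,5,6,4,5,4,3,1,2,1,0])) (.word [0,2,5,4,3,2,1,7,8,6,5,4,3,7,8,4,5,6,5,2,0,1]))))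 (.node (.node (.node (.node (.word [2,4,3,7,3,4,2,1,3,2,5,4,6,5,7,3,4,2,3,7,8,2,3,7,6,4,1]) (.word [3,7,8,7,6,3,2,1,4,7,8,3,7,4,2,3,0,1,2,0,1])) (.node (.word [6,1,2,1,5,7,3,2,4,3,7,8,7,3,4,2,3,7,5,6,1,2]) (.word [0,7,8,7,6,2,3,1,2,1]))) (.node (.node (.word [2,1,0,3,7,8,7,2,0,2,3,4,5,4,3,6,5,8,4,2,3,7,8,1,2,3,4,5,6,1]) (.word [0,2,1,0,5,6,7,3,5,4,3,7,5,2,3,1,2,0])) .none)) (.node (.node (.node (.word [1,2,1,0,3,7,8,7,2,0,1,5,4,6,5,7,3,4,2,3,7,8,4,3,7,4,5,6,1,0]) (.word [1,3,2,7,3,4,6,5,4,3,7,2,3,1,7,8,7,6,1,2,3,0,1,2,1])) .none) (.node (.node (.word [2,1,0,3,7,8,7,2,5,4,3,2,1,0,8,6,5,4,2,3,7,8,5,6,3,2]) (.word [3,7,8,7,3,1,0,7,3,2,4,5,8,3,7,4,5,3,4,2,3,7,6,5,1])) .none)))))) (.node (.node (.node (.node (.node (.node (.node (.word [1,0,1,2,5,6,8,7,3,4,1,2,3,7,8,5,6,4,2,3,5,4,6,5,8,1,2,3,7,8,3,4,5,6,0])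 (.word [0,7,8,7,2,3,1,2,3,7,8,7,6,3,1,0,1,2,5,4,3,2,6,7,3,4,5,6,4,1,2,3,2,1])) (.node (.word [1,0,4,5,4,7,3,2,4,3,7,8,4,3,7,3,4,5,6,1]) (.word [0,2,3,2,5,4,3,6,1,2,3,7,4,5,6,3,4,5,2]))) (.node (.node .none (.word [6,1,0,2,3,2,5,4,6,7,8,1,2,3,7,4,5,6,2,3,1,2,0])) (.word [0,2,3,4,5,4,6,5,7,8,1,2,3,7,0,1,2,3,4,5,0]))) (.node (.node (.node (.word [3,7,8,7,3,1,2,1,5,4,3,2,7,8,4,5,3,4,2,3,7,8,5,6]) (.word [3,5,4,6,5,6,3,4,1,2,3,0,1,2])) (.node .none (.word [3,4,7,8,7,3,1,0,2,3,5,7,3,2,4,3,7,8,6,5,4,2,3,7,6,2,1]))) (.node (.word [3,4,3,0,7,8,7,2,3,1,2,3,2,5,4,6,5,7,3,4,2,3,7,8,3,7,6,4,1]) (.word [3,4,3,6,2,1,4,5,8,7,3,2,4,3,7,8,5,6,4,5,4,2,3,2,1])))) (.node (.node (.node (.node (.word [2,1,0,3,7,8,7,2,3,4,3,0,1,2,5,6,8,7,5,3,4,1,2,3,7,8,5,6,4,1]) (.word [3,4,3,6,1,0,1,4,5,4,3,2,1,7,8,3,4,2,3,7,1,2,3,4,5,6]))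 (.node .none (.word [2,4,3,7,3,4,2,1,0,1,2,3,2,1,5,6,7,3,2,8,7,3,4,2,3,7,5,6,2,1]))) (.node (.node (.word [3,4,3,0,1,2,3,2,1,4,5,4,7,3,2,4,3,7,8,4,3,7,3,4,5,6]) (.word [3,7,8,7,6,3,1,2,1,5,4,7,3,2,8,7,4,5,6,5,3,1,2,1,0])) (.word [2,1,0,3,7,8,7,2,3,4,3,0,3,5,6,7,3,2,4,3,7,8,7,3,4,2,3,7,5,6,1]))) (.node (.node (.node (.word [0,7,8,7,2,3,1,2,4,5,6,8,3,7,8,3,4,5,3,1]) (.word [6,3,4,2,5,4,3,2,1,7,6,5,3,4,2,3,0,1,2,0,1])) (.node .none (.word [0,5,6,7,3,2,8,7,5,3,4,2,3,7,5,2,1]))) (.node (.node (.word [2,3,4,5,6,8,1,2,3,7,8,4,5,3,2,1,0,3,5,4,3,2,3,7,1,2,3,4,5,6,4,3,2]) (.word [0,7,8,7,2,3,1,2,5,4,6,7,8,1,2,3,7,4,5,6,2,0,1])) (.word [0,7,8,7,2,3,1,2,3,4,3,5,4,6,7,8,1,2,3,7,4,5,6,2,0,1]))))) (.node (.node (.node (.node (.node (.word [6,1,2,3,4,5,4,3,2,8,7,3,4,1,2,3,7,8,3,4,5,6,3,4,2])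 (.word [3,4,3,0,7,8,7,2,3,1,2,0,1,2,5,4,3,6,5,4,3,7,2,3,4,5,6,1,2,3,1])) (.node .none (.word [2,1,5,4,7,3,2,3,7,6,4,5,0,1,2,3,2,0,1]))) (.node (.node (.word [1,2,4,3,7,3,4,2,0,2,1,3,5,6,7,2,3,7,8,4,3,7,5,6,1,2,1]) (.word [2,1,5,4,3,2,1,7,3,7,4,5,3,4,2,3,0,1,2,0])) .none)) (.node (.node .none (.node .none (.word [6,5,4,3,2,1,7,3,2,4,3,7,5,6,4,5,4,1,2,0,1,0]))) (.node (.node (.word [3,7,8,7,4,3,0,2,1,0,3,5,4,6,2,3,7,3,4,5,6,1,2,0]) (.word [6,2,1,0,3,7,8,7,2,4,5,4,3,2,1,7,8,2,3,7,6,4,5,4,3,2,1])) (.word [6,3,2,5,4,3,2,1,7,5,6,5,3,4,2,3,0,1,2,0])))) (.node (.node (.node (.node (.word [3,7,8,7,3,0,1,2,1,0,4,3,5,6,8,4,5,2,3,4,1,2,3,7,8,3,1,0]) (.word [0,1,2,3,2,0,1,2,1,0,5,6,7,3,5,4,3,7,5,6,2,3,1,2,0,1])) (.node (.word [3,7,8,7,6,3,2,4,3,7,3,4,2,3,2,5,4,6,5,7,3,4,2,3,7,8,3,7,4,1])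 (.word [3,4,3,0,2,1,0,3,5,4,6,7,8,3,7,4,5,3,2,1]))) (.node (.node (.word [1,0,7,8,7,2,3,1,2,4,8,7,3,2,1,5,4,3,7,8,6,5,2,0,1,0]) (.word [0,2,3,7,3,2,4,3,7,8,2,3,7,6,1,2,3,0])) (.word [6,2,1,5,7,3,2,4,3,7,8,2,3,7,5,6,5,2,3,1]))) (.node (.node (.node (.word [3,7,8,7,6,3,1,2,1,0,3,7,8,7,2,0,2,3,4,5,4,3,6,5,8,4,2,3,7,8,1,2,3,4,5,6]) (.word [3,7,8,7,4,3,0,1,2,5,7,3,8,7,8,4,3,7,5,6,0,1,2,3,1])) .none) (.node (.node (.word [3,4,3,0,1,2,5,7,3,8,7,8,4,3,7,5,6,0,1,2,4,3,0,2,1,0,3,5,4,6,7,8,3,7,4,5,3,2,1]) (.word [0,2,1,0,5,6,7,3,5,4,3,7,5,6,2,3,1,2,0,1])) (.word [1,2,4,3,7,3,4,2,3,2,5,6,7,3,2,8,7,3,4,2,3,7,5,6,1,2,1])))))) (.node (.node (.node (.node .none (.node (.node .none (.word [2,4,3,7,3,4,2,1,3,7,8,7,3,0,2,1,0,5,4,3,7,3,4,5,6,5,2,3,1,2,0])) (.word [3,4,3,1,2,1,5,7,3,2,8,7,3,4,2,3,7,5,6,0,1,2,1,0])))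 (.node (.node (.node (.word [3,7,8,7,6,3,1,2,1,0,4,3,2,5,8,7,3,4,3,7,6,5,2,3,4,1,2,3,7,8]) (.word [2,4,3,7,3,4,2,0,3,2,5,4,3,7,3,4,5,6,1,2,3,0,1])) (.node (.word [2,4,3,7,3,4,2,0,1,2,1,4,5,4,3,6,5,7,4,5,2,3,4,1,2,3,7,8,7]) (.word [0,1,2,3,2,0,5,7,3,2,1,4,8,3,7,2,3,4,1,2,3,7,5,6,5]))) (.node (.node (.word [3,4,3,0,1,2,3,2,0,1,4,5,4,7,3,2,4,3,7,8,4,3,7,3,4,5,6]) (.word [0,7,8,7,2,3,1,2,3,4,3,0,1,2,5,4,3,2,6,7,3,4,5,6,4,0,1,2,3,2,1])) (.word [0,5,4,3,2,7,3,8,7,2,3,4,5,4,1])))) (.node (.node (.node (.word [3,4,3,0,1,2,5,4,7,8,3,7,4,5,6,0,1,2,3,1,0,7,3,2,4,3,7,8,2,3,7,2,1]) (.node .none (.word [6,2,1,5,4,3,2,1,7,3,4,5,3,4,2,3,0,1,2,0,1]))) (.node (.node (.word [1,2,1,0,3,4,3,2,3,7,8,3,7,5,6,4,5,2,3,1]) (.word [2,1,0,3,7,8,7,2,0,3,2,5,4,3,7,3,4,5,6,1,2,3,0,1])) (.word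 [3,7,8,7,6,3,0,2,1,0,3,5,4,6,2,3,7,3,4,5,6,1,2,0,1]))) (.node (.node (.node .none (.word [7,8,7,1,2,3,0,1,2])) (.word [2,1,5,7,3,2,4,3,7,8,2,3,7,6,5,2,3])) (.node (.node (.word [0,1,3,5,4,3,7,8,7,5,6,5,4,2,3,2,1,4,5,4,3,7,8,7,3,4,5,6,5,2,3,1,2,1]) (.word [2,1,5,4,7,3,2,8,7,6,4,5,3,1,2,1,0])) (.word [0,7,8,7,2,3,1,2,3,4,3,0,1,4,5,4,3,2,1,7,8,3,4,2,3,7,1,2,3,4,5,6]))))) (.node (.node (.node (.node (.word [3,7,8,7,3,2,4,3,7,3,4,2,1,3,2,5,4,6,5,7,3,4,2,3,7,8,3,7,6,4,1]) (.node (.word [0,2,1,3,4,7,2,3,4,0,1,2,3,7,8,3,7]) (.word [7,8,7,6,1,2,3,0,1,2,1]))) (.node (.node (.word [6,1,2,1,0,4,3,2,5,8,7,3,4,3,7,6,5,2,3,4,1,2,3,7,8]) (.word [2,4,3,7,3,4,2,1,0,2,5,4,7,8,3,7,4,5,6,5,2,1])) (.word [3,4,3,0,1,2,3,2,0,1,0,2,4,5,4,8,7,3,8,7,2,3,4,5,3,1,2,1]))) (.node (.node (.node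 (.word [3,7,8,7,3,2,4,3,7,3,4,2,1,0,1,5,4,6,5,7,3,4,2,3,7,8,4,3,7,4,5,6,1,0]) (.word [2,4,3,7,3,4,2,1,0,2,5,6,7,8,5,4,3,7,4,5,6,2,1])) (.word [3,7,8,7,3,0,1,2,3,2,1,4,5,4,7,3,2,4,3,7,8,4,3,7,3,4,5,6,1])) (.node (.word [5,4,6,7,3,4,1,2,3,7,8,4,3,7,5,6,0,1]) (.word [0,2,4,5,4,7,8,3,7,2,3,4,5,1,2,3,0,1,2])))) (.node (.node (.node (.node (.word [0,7,8,7,2,3,1,4,3,7,3,4,2,1,2,1,0,4,3,2,5,8,7,3,4,3,7,6,5,2,3,4,1,2,3,7,8]) (.word [1,2,1,4,5,8,7,3,2,4,3,7,8,5,6,4,5,4,2,3,2,1])) (.node .none (.word [2,4,5,4,8,7,3,8,7,2,3,4,5,3,1,2,1,0,1,2,6,3,2,1,0]))) (.node (.node .none (.word [3,2,7,3,4,6,5,4,3,7,2,3,1,0,7,8,7,6,2,3,1,2])) (.word [3,7,8,7,4,3,0,2,1,0,5,7,3,2,4,3,7,8,4,2,3,7,5,1,2,1]))) (.node (.node (.node (.word [2,1,0,3,7,8,7,2,0,2,5,4,3,2,1,7,8,6,5,4,3,7,8,4,5,6,5,2,0])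 (.word [3,4,7,8,7,3,1,0,7,3,2,4,5,8,3,7,4,5,3,4,2,3,7,6,5,1])) .none) (.node (.node (.word [2,3,4,5,6,8,1,2,3,7,8,4,5,3,2,4,5,6,8,7,3,8,7,2,3,4,5,1,2,3,0,1]) (.word [3,2,7,3,4,6,5,4,3,7,2,3,1,0,4,5,4,3,7,8,7,3,4,5,6,5,2,3,1,2])) (.word [1,0,2,1,0,5,7,3,2,4,3,7,8,4,2,3,7,5,1,2,1]))))))))

/-- A subtree. -/
def sub131 : WTree :=
  (.node (.node (.node (.node (.node (.node (.node (.node (.word [3,4,3,0,1,2,5,4,7,8,3,7,4,5,6,0,1,2,3,4,3,7,3,4,2,1,3,2,5,4,6,5,7,3,4,2,3,7,8,2,3,7,4,1]) (.word [3,4,7,8,7,6,3,2,1,5,7,3,2,4,3,7,8,7,3,4,2,3,7,5,6,1,2])) (.word [0,7,8,7,2,3,1,2,3,4,3,0,2,1,0,3,5,4,6,2,3,7,3,4,5,2,3,1,2,1,0])) (.node (.node (.word [6,0,1,2,5,6,8,7,3,4,1,2,3,7,8,5,6,4,0,5,7,3,2,4,3,7,8,4,2,3,7,5,6,5,1]) (.word [1,0,2,1,0,5,4,3,7,3,4,5,6,5,2,3,1,2,0,1])) (.word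 [0,1,4,7,8,7,5,6,3,4,5,2,3,1,0]))) (.node (.node (.node .none (.word [3,7,8,7,6,3,0,2,1,0,3,5,4,6,2,3,7,3,4,5,1,2,0,1])) (.word [2,4,3,7,3,4,2,1,0,2,1,3,5,6,7,2,3,7,8,4,3,7,5,6,1,2,1])) (.node (.word [2,1,0,3,7,8,7,1,0,4,3,2,5,8,7,3,4,3,7,6,5,2,3,4,1,2,3,7,8]) (.word [3,7,8,7,3,0,1,2,3,2,1,2,1,0,5,4,3,7,3,4,5,6,5,2,3,1,2,0,1])))) (.node (.node (.node (.node (.word [3,7,8,7,6,3,2,4,3,7,3,4,2,1,3,2,5,4,6,5,7,3,4,2,3,7,8,3,7,6,4,1]) (.word [3,7,8,7,6,3,0,1,2,5,4,3,2,6,7,3,4,5,6,4,1,2,3,2])) (.node (.word [3,7,8,7,3,1,2,4,3,7,3,4,2,0,1,2,4,3,5,4,3,6,8,5,2,3,4,1,2,3,7,8,6,4,2]) (.word [0,7,3,2,4,5,8,3,7,4,5,3,4,2,3,7,6,5,1]))) (.node (.node (.word [0,1,2,4,3,5,4,3,6,8,5,2,3,4,1,2,3,7,8,6,4,2]) (.word [0,1,3,5,4,6,5,4,3,7,8,7,4,2,3,2,0,1,0])) (.word [0,3,5,4,6,5,7,8,7,3,4,2,3,1,2])))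 (.node (.node (.node (.word [3,4,3,0,2,1,0,5,6,7,3,5,4,3,7,5,6,2,3,1,2,0,1,4,8,7,3,2,1,5,4,3,7,8,5,6,5,2,0,1,0]) (.word [1,2,4,3,7,3,4,2,1,3,2,5,6,7,3,2,8,7,3,4,2,3,7,5,6,1,2,1])) (.node .none (.word [2,1,5,6,7,3,5,4,3,7,5,3,2,1]))) (.node (.node .none (.word [3,4,3,6,0,2,3,5,7,3,2,4,3,7,8,6,5,4,2,3,7,6,2,1])) .none)))) (.node (.node (.node (.node (.node (.word [3,4,2,7,3,4,6,5,4,3,7,2,3,1,0,2,1,3,8,7,3,4,2,3,7,8,5,6,4,5,3]) (.word [0,1,2,3,2,1,0,2,1,5,7,3,2,4,3,7,8,7,3,4,2,3,7,5,6,1,2])) (.node (.word [0,1,2,3,2,0,1,0,7,3,2,4,8,3,7,8,4,2,3,7]) (.word [3,4,3,0,2,3,5,7,3,2,4,3,7,8,6,5,4,2,3,7,6,2,1]))) (.node (.node (.word [0,1,2,6,3,2,1,0,2,1,0,4,3,2,5,8,7,3,4,3,7,6,5,2,3,4,1,2,3,7,8]) (.word [0,2,1,3,4,5,6,7,2,3,7,0,1,2,3,4,5,6,3,1])) (.word [3,4,3,6,0,4,5,4,7,3,2,4,3,7,8,4,3,7,3,4,5,6,1])))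 (.node (.node (.node .none (.word [2,4,5,4,8,7,3,8,7,2,3,4,5,3,1,2,1,0,1,2,1,8,3,7,8,6,2,3,2,1])) (.node (.word [4,5,4,3,7,8,4,1,2,3,7,2,3,4,5,6,0]) (.word [2,4,3,7,3,4,2,1,6,5,4,3,2,1,7,3,2,7,4,5,6,4,5,4,3,1,2,0,1,0]))) (.node (.node (.word [0,1,3,5,4,3,7,8,7,5,6,5,4,2,3,2,1,0,4,5,4,3,7,8,7,3,4,5,6,5,1,2,3,0,1,2]) (.word [6,1,2,1,5,4,3,2,1,7,3,4,5,3,4,2,3,0,1,2,0])) (.word [3,4,3,0,1,2,3,1,0,5,4,6,5,7,8,7,3,4,5,6,2,3,4,1,2])))) (.node (.node (.node (.node (.word [2,4,3,7,3,4,2,0,1,2,3,2,1,0,4,8,7,3,2,1,5,4,3,7,8,5,6,5,2,0,1,0]) (.word [3,4,3,1,2,4,5,4,8,7,3,8,7,2,3,4,5,6,3,1,2,1])) (.word [3,4,3,0,1,2,3,2,1,4,5,4,7,3,2,4,3,7,8,4,3,7,3,4,5,6,1])) (.word [2,4,3,7,3,4,2,3,7,8,7,3,2,3,5,4,3,2,1,8,2,3,7,8,5,6,4,5,3,2,1])) (.node (.node (.node (.word [6,2,3,4,5,6,8,1,2,3,7,8,4,5,3,4,5,4,7,3,2,4,3,7,8,4,3,7,3,4,5,6,1])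 (.word [2,1,5,7,3,2,4,3,7,8,2,3,7,5,6,5,2,3,0,1,2,3,2,1,0])) .none) (.node (.word [1,0,7,8,7,2,3,1,2,4,8,7,3,2,1,5,4,2,3,7,8,6,5,3,2,0,1,0]) (.word [3,4,3,2,1,5,7,3,2,4,3,7,8,2,3,7,5,6,5,2,3,1])))))) (.node (.node (.node (.node (.node (.node (.word [2,1,0,3,7,8,7,2,3,5,4,6,5,7,3,4,1,2,3,7,8,4,3,7,4]) (.word [2,1,0,3,7,8,7,2])) (.word [0,5,7,3,2,4,3,7,8,4,2,3,7,5,6,5,1])) (.node (.node (.word [4,5,6,8,3,7,8,3,4,5,3]) (.word [3,4,3,0,2,1,0,3,5,4,6,7,8,2,3,7,4,5,3,2,1])) (.word [0,5,7,3,2,4,3,7,8,4,2,3,7,5,6,5]))) (.node (.node (.node (.word [0,1,2,3,2,1,2,3,4,5,4,3,6,5,8,4,2,3,7,8,1,2,3,4,5,6]) (.word [3,4,3,0,1,4,5,4,3,2,1,7,8,3,4,2,3,7,1,2,3,4,5,6])) (.node (.word [0,7,8,7,2,3,0,4,3,2,5,8,7,3,4,3,7,6,5,2,3,4,1,2,3,7,8]) (.word [0,1,2,7,3,4,6,5,4,3,7,2,1,0])))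 (.node (.node (.word [3,4,3,0,1,2,5,4,7,8,3,7,4,5,6,0,1,2,3,2,3,4,3,0,2,5,6,7,8,5,4,3,7,4,5,2,1]) (.word [3,4,3,0,7,8,7,2,3,1,2,4,5,4,3,7,8,7,6,3,4,5,1,2,3,0,1,2,1])) .none))) (.node (.node (.node (.node (.word [2,1,0,3,7,8,7,2,3,5,4,6,5,7,3,4,1,2,3,7,8,4,3,7,6,4]) (.word [3,7,8,7,6,3,1,0,1,4,5,4,3,2,1,7,8,3,4,2,3,7,1,2,3,4,5,6])) (.node (.word [0,7,8,7,2,3,1,2,3,2,5,4,6,5,7,3,4,2,3,7,8,2,3,7,6,4,1]) (.word [0,7,3,2,4,5,8,3,7,4,5,3,4,2,3,7,6,5,1,6]))) (.node (.node (.word [2,1,0,3,7,8,7,2,0,1,4,5,4,3,2,1,7,4,3,7,5,6,4,5,4,2,3,2,1]) (.word [0,1,2,1,8,3,7,8,6,2,3,2])) (.word [0,7,8,7,2,3,1,2,0,4,5,4,3,7,8,7,6,3,4,5,2,3,1,2,1]))) (.node (.node (.node .none (.word [3,7,8,7,3,1,0,1,4,5,4,3,2,1,7,8,3,4,2,3,7,1,2,3,4,5,6])) (.node (.word [0,1,2,3,2,0,1,2,5,6,7,8,5,4,3,7,4,5,6,2,1])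 (.word [0,2,4,7,8,3,7,6,4,3,1,2,1]))) (.node (.node (.word [3,2,7,3,4,6,5,4,3,7,2,3,1,2,4,5,6,7,8,3,7,2,3,4,5,6,3,1]) (.word [0,1,2,3,2,0,1,0,6,5,4,3,2,1,0,7,3,2,8,7,4,5,6,4,5,4,1,2,3,2,0])) .none)))) (.node (.node (.node (.node (.word [3,7,8,7,6,3,1,2,4,3,7,3,4,2,1,3,2,5,4,6,5,7,3,4,2,3,7,8,3,7,4,1]) (.node (.word [3,2,7,3,4,6,5,4,3,7,2,3,1,2,1,0,7,3,2,4,3,7,8,2,3,7,2,1]) (.word [2,1,5,4,6,7,2,3,7,4,5,6,3,2,1]))) (.node (.node (.word [1,2,1,0,3,7,8,7,1,0,4,3,2,5,8,7,3,4,3,7,6,5,2,3,4,1,2,3,7,8]) (.word [0,4,8,3,7,8,6,4,2,3,1,2])) (.word [3,7,8,7,3,1]))) (.node (.node (.node (.word [1,0,7,8,7,2,3,1,2,0,1,4,5,4,3,2,1,8,7,3,4,2,3,7,8,5,6,4,1,2]) (.word [3,7,8,7,3,1,2,1,5,4,3,7,3,4,5,6,5,3,2,1])) (.node (.word [3,4,3,0,1,2,5,6,8,7,3,4,1,2,3,7,8,5,6,4,0,1,2,3,2,0,1,0])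 (.word [5,6,7,3,4,8,7,3,4,1,2,3,7,4,5,0,1]))) (.node (.node (.word [2,4,3,7,3,4,2,3,7,8,7,3,0,2,1,0,3,5,4,6,2,3,7,3,4,5,6,1,2,0,1]) (.word [6,0,7,8,7,2,3,5,4,3,2,1,7,3,7,4,5,6,3,4,2,3,0,1,2,0])) (.word [3,4,3,0,2,5,4,7,8,3,7,4,5,6,5,2,1])))) (.node (.node (.node (.node (.word [1,2,4,3,7,3,4,2,1,3,2,5,4,6,5,7,3,4,2,3,7,8,3,7,6,4,1]) (.word [1,2,1,0,3,7,8,7,2,5,4,3,2,1,7,3,8,7,5,6,4,5,4,3,2,1])) (.node (.word [3,4,3,2,1,0,3,7,8,7,2,0,1,2,4,3,5,4,3,6,8,5,2,3,4,1,2,3,7,8,6,4,2]) (.word [6,1,5,4,3,2,1,7,3,8,7,5,6,4,5,4,3,2,1]))) (.node (.node (.word [0,7,8,7,2,3,1,4,5,6,7,8,3,7,2,3,4,5,6,3]) (.word [0,3,5,4,6,5,6,3,4,2,3,1,2,1])) (.word [0,3,2,7,3,4,8,6,5,4,3,7,1,2,3,0,1]))) (.node (.node (.node (.word [0,1,2,3,2,1,0,2,4,3,7,3,4,2,1,3,5,4,3,7,8,7,5,6,5,4]) (.word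 [3,7,8,7,4,3,0,1,2,7,3,4,8,6,5,4,3,7,6,0,1,2,3,2,1])) (.word [3,7,8,7,6,3,2,3,4,3,5,4,2,3,7,1,2,3,4,5,6,0,1,2])) (.node (.node (.word [4,5,4,7,8,7,6,3,4,5]) (.word [2,4,3,7,3,4,2,1,3,4,3,2,4,5,4,8,7,3,8,7,2,3,4,5,6,3,1,2])) (.word [6,3,2,7,3,4,6,5,4,3,7,2,3,1,0,2,5,6,7,8,5,4,3,7,4,5,6,2,1]))))))) (.node (.node (.node (.node (.node (.node (.node .none (.word [6,0,2,3,5,7,3,2,4,3,7,8,4,2,3,7,5,6,3,1,2])) (.node (.word [2,4,3,7,5,8,7,3,2,1,4,3,7,8,7,6,3,4,5,3,2,1,0,3,5,4,7,3,8,1,2,3,7,4,5,6,3]) (.word [3,4,3,2,4,3,7,3,4,3,5,4,6,5,8,7,8,1,2,3,4,5,6,2,3,1,2]))) (.node (.node (.word [0,1,3,5,4,3,7,8,7,5,6,5,4,2,3,2,1,0,4,8,7,3,2,1,5,4,3,7,8,6,5,2,0,1,0]) (.word [0,1,3,7,8,7,6,2,3,1,0])) (.word [3,4,7,8,7,6,3,1,0,4,5,4,7,3,2,4,3,7,8,4,3,7,3,4,5,6,1]))) (.node (.node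 (.node (.word [2,1,0,3,7,8,7,2,0,2,5,4,3,2,1,7,8,6,5,4,3,7,8,4,5,6,5,2,0,3,7,8,7,3,1]) (.word [0,1,2,7,3,4,6,5,4,3,7,6,2,1,0])) (.node (.word [0,2,3,2,4,7,3,4,1,2,3,7,8,4,3,7,2,3,0]) (.word [0,2,1,0,5,4,3,7,3,4,5,6,5,2,3,1,2,0]))) (.node (.node (.word [0,1,2,3,2,1,0,4,7,3,8,7,8,2,3,7,4,5,6,4,5,3]) (.word [3,4,3,0,1,2,5,4,3,7,3,4,5,6,3,2,0,1,0])) (.word [2,4,3,7,3,4,2,3,2,5,6,7,3,2,8,7,3,4,2,3,7,5,6,1,2,1])))) (.node (.node (.node (.node .none (.word [2,3,2,1,4,5,2,3,4,5,6,5,2,3,1,0])) (.node (.word [2,1,0,3,7,8,7,2,3,2,1,5,4,7,2,3,7,4,5,6,0,1,2,3]) (.word [3,7,8,7,3,1,0,2,3,5,4,7,3,8,7,4,5,6,5,2,3,1,2,0,1]))) (.node (.node (.word [0,7,8,7,2,3,1,2,4,5,6,7,3,7,8,2,3,7,3,4,5,3,1]) (.word [2,1,0,3,7,8,7,2,3,2,1,5,4,7,2,3,7,4,5,6,0,1,2,3,1])) (.word [0,1,5,4,3,2,1,8,6,5,4,3,7,8,5,2,3])))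 (.node (.node (.word [6,0,1,2,1,4,5,4,3,6,5,7,4,5,2,3,4,1,2,3,7,8,7]) (.word [3,4,3,0,1,2,6,3,2,1,4,5,4,7,3,2,4,3,7,8,4,3,7,3,4,5,6,1])) (.node (.node (.word [0,7,8,7,2,3,1,2,3,4,3,2,1,5,4,3,2,7,3,7,4,5,3,4,2,3,7,8,7]) (.word [2,1,5,4,3,7,3,4,5,6,5,3,2,1])) (.word [3,7,8,7,3,0,2,1,0,3,5,4,6,2,3,7,3,4,5,1,2,0]))))) (.node (.node (.node (.node (.node (.word [0,7,8,7,2,3,1,2,3,4,3,0,1,2,5,6,8,7,3,4,1,2,3,7,8,5,6,4]) (.word [1,0,2,5,4,3,2,1,7,8,6,5,4,3,7,8,6,4,5,2,0,1])) (.node (.word [2,1,0,3,7,8,7,2,3,4,3,0,3,5,6,7,3,2,4,3,7,8,7,3,4,2,3,7,5,1]) (.word [2,4,3,7,3,4,2,0,1,2,3,2,1,2,3,5,4,7,3,8,7,4,5,6,5,2,3,1,2,0,1]))) (.word [3,2,7,3,4,6,5,4,3,7,2,3,1,4,8,7,3,2,1,5,4,3,7,8,5,6,5,2,0,1,0])) (.node (.node (.node (.word [2,4,3,7,3,4,3,5,4,6,5,8,1,2,3,7,8,3,4,5,0,1])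 (.word [0,1,2,5,4,3,2,6,7,3,4,5,4,1,2,3,2,1])) (.node (.word [2,3,4,5,6,8,1,2,3,7,8,4,5,3,0,4,7,3,7,8,2,3,7,4,1,2,3,0,1,2]) (.word [0,4,5,4,3,2,6,4,3,7,3,4,5,4,2,1]))) (.node (.node (.word [3,4,3,1,2,1,5,7,3,2,4,3,7,8,7,3,4,2,3,7,5,6,1,2]) (.word [3,4,3,0,1,2,5,6,8,7,3,4,1,2,3,7,8,5,6,4,0,2,1,0,5,4,3,7,6,3,4,5,2,3,1,2,0,1])) (.word [3,4,2,5,6,7,3,2,8,7,3,4,2,3,7,5,6,1,2,1])))) (.node (.node (.node (.node (.word [3,4,3,2,1,5,7,3,2,4,3,7,8,2,3,7,5,6,5,2,3,0,1,2,5,7,3,8,7,8,4,3,7,5,6,0,1,2,3]) (.word [6,1,2,1,5,4,3,2,7,8,4,3,7,8,4,5,4,2,1])) (.node (.word [2,3,5,4,6,5,8,1,2,3,7,8,3,4,5,0]) (.word [2,1,5,6,7,8,5,4,3,7,4,5,6,2,3,1,2,1,0]))) (.node (.node (.word [4,7,3,4,8,1,2,3,7,8,4,3,7]) (.word [3,7,8,7,3,0,4,5,4,3,7,8,4,2,3,7,2,3,4,5,1])) (.word [3,7,8,7,4,3,0,2,1,0,5,4,3,7,6,3,4,5,2,3,1,2,0,1])))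 (.node (.node (.node (.word [0,1,2,6,3,2,1,0,4,5,6,7,3,4,2,3,7,8,4,3,7,5,6,4,5,1]) (.word [0,1,2,3,5,7,3,2,8,7,3,4,2,3,7,5,6,1,2,3,1])) (.word [1,3,4,2,5,6,7,3,2,8,7,3,4,2,3,7,5,6,1,2])) (.node .none (.word [0,1,2,3,2,1,0,2,4,5,4,8,7,3,8,7,2,3,4,5,3,1,2,1])))))) (.node (.node (.node (.node (.node (.node (.word [3,7,8,7,6,3,2,4,3,7,3,4,2,1,2,3,4,5,4,3,2,8,7,3,4,1,2,3,7,8,3,4,5,6,3,4,2]) (.word [2,3,2,7,3,4,8,6,5,4,3,7,1,2,1,0])) (.node (.word [1,2,4,3,7,3,4,2,0,2,1,3,5,6,7,2,3,7,8,4,3,7,5,1,2]) (.word [3,7,8,7,6,3,0,1,2,5,4,3,2,6,7,3,4,5,6,4,1,2,3,2,1]))) (.node (.node (.word [2,3,5,4,6,5,8,1,2,3,7,8,3,4,5,0,1]) (.word [5,4,3,2,1,0,7,3,2,8,7,3,4,5,6,5,2,3,4,1,2])) (.word [3,7,8,7,3,4,7,3,7,8,2,3,7,4,1,2,3,0,1,2]))) (.node (.node (.node (.word [0,7,8,7,2,3,1,2,0,5,4,3,2,7,3,8,7,2,3,4,5,6,4])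 (.word [0,2,5,4,7,8,3,7,4,5,6,5,2,1])) (.node (.word [0,7,3,2,4,5,8,3,7,4,5,3,4,2,3,7,6,5,1,3,2,5,4,6,5,7,3,4,2,3,7,8,3,7,6,4]) (.word [2,1,5,4,3,7,6,3,4,5,3,2,1]))) (.node (.node (.word [2,4,3,7,3,4,2,1,3,7,8,7,3,2,3,4,5,4,3,2,8,7,3,4,1,2,3,7,8,3,4,5,6,3,4,2]) (.word [3,7,8,7,3,1,0,2,5,4,3,2,1,7,8,6,5,4,3,7,8,6,4,5,2,0,1])) (.word [3,4,3,1,0,2,1,0,5,7,3,2,4,3,7,8,2,3,7,5,6,5,3,2,1])))) (.node (.node (.node (.node (.word [0,1,3,5,4,3,7,8,7,5,6,5,4,2,3,2,1,0,1,2,1,5,4,3,2,7,8,4,5,3,4,2,3,7,8,5,6,1]) (.word [0,1,2,3,2,1,4,5,4,3,7,8,7,3,4,5,6,5,2,3,1,2])) (.word [3,7,8,7,6,3,1,2,4,3,7,3,4,1,5,6,7,8,2,3,7,8,4,3,7,5,0,1,2,1])) (.node (.node (.word [3,5,4,3,7,8,7,5,6,5,4,1]) (.word [0,1,2,5,7,3,2,8,7,3,4,2,3,7,5,6,1,2,3,1])) (.word [3,7,8,7,3,0,2,1,3,4,5,6,7,2,3,7,0,1,2,3,4,5,6,3,1])))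 (.node (.node (.node (.word [0,4,5,4,7,3,2,4,3,7,8,4,3,7,3,4,5,6]) (.word [2,4,5,4,8,7,3,8,7,2,3,4,5,3,1,2,1,3,7,8,7,6,3,1])) .none) .none))) (.node (.node (.node (.node (.node (.word [2,4,5,4,8,7,3,8,7,2,3,4,5,3,1,2,1,0,1,2,3,2,1,4,5,4,7,3,2,4,3,7,8,4,3,7,3,4,5,6]) (.word [3,4,3,0,2,5,4,3,2,1,7,8,6,5,4,3,7,8,6,4,5,2,0,1])) (.word [3,7,8,7,3,2,4,3,7,3,4,2,0,5,6,7,3,2,1,4,5,3,4,2,3,7,8,5,4,1,2,3,7])) (.node (.node (.word [3,4,3,2,1,5,4,3,2,7,8,4,3,7,8,4,5,6,4,2]) (.word [0,3,2,7,3,4,6,5,4,3,7,6,1,2,3,0,1])) .none)) (.node (.node (.node (.word [0,1,2,5,6,8,7,3,4,1,2,3,7,8,5,6,4,0,3,2,5,4,7,8,3,7,4,5,1,2,3,0,1]) (.word [3,7,8,7,3,1,2,4,3,7,3,4,2,1,2,3,2,7,3,4,8,6,5,4,3,7,6,1,2,0,1,0])) (.node (.word [0,5,4,3,2,7,3,8,7,2,3,4,5,4]) (.word [0,1,2,7,3,4,8,6,5,4,3,7,6,1,2,3,2,1])))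 (.node (.node .none (.word [2,3,2,7,8,7,6,3,1,2,0,1,0])) (.word [3,4,3,0,7,8,7,2,3,1,2,4,5,4,3,2,1,7,8,2,3,7,6,4,5,4,3,2,1])))) (.node (.node (.node (.node (.word [0,2,1,3,8,7,3,4,2,3,7,8,5,6,4,5,3]) (.word [0,3,2,5,4,3,7,3,4,5,1,2,3,0,1])) (.node .none (.word [3,7,8,7,6,3,1,0,2,4,5,4,3,7,6,2,3,4,5,4,2,1]))) (.node (.node (.word [0,1,2,3,2,0,1,7,8,7,2,3,0,4,3,2,5,8,7,3,4,3,7,6,5,2,3,4,1,2,3,7,8]) (.word [3,7,8,7,4,3,0,2,5,4,3,2,1,7,8,6,5,4,3,7,8,6,4,5,2,0,1])) (.word [2,1,5,7,3,2,8,7,3,4,2,3,7,5,6,0,1,2,1,0]))) (.node (.node (.node (.word [0,7,8,7,2,3,1,2,4,8,7,3,2,1,5,4,2,3,7,8,5,6,5,2,0,1,0]) (.word [0,1,2,1,0,7,3,2,4,6,5,4,3,7,8,2,3,7,1,2])) (.word [0,1,2,3,2,0,1,0,4,7,3,4,8,7,3,4,2,3,7,4,5,6,4,5,3,1])) (.node (.node .none (.word [0,2,4,3,5,4,6,5,7,3,4,5,6,2,3,4,5,1,2,1]))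 .none)))))))

/-- A subtree. -/
def sub132 : WTree :=
  (.node (.node (.node (.node (.node (.node (.node (.word [2,1,0,3,7,8,7,4,3,7,3,4,2,1,3,2,5,4,6,5,7,3,4,2,3,7,8,3,7,4]) (.node (.word [7,3,2,4,8,3,7,8,4,2,3,7,6]) (.word [3,4,3,6,0,5,4,3,2,1,7,3,4,2,3,7,1,2,3,4,5,6,0,1]))) (.node (.node (.word [0,2,1,0,4,3,5,4,3,8,2,3,7,8,1,2,3,4,5,6,0]) (.word [3,7,8,7,6,3,1,0,2,1,0,3,5,4,6,2,3,7,3,4,5,1,2,0,1])) (.word [4,5,4,7,8,7,3,4,5,6,5,1]))) (.node (.node (.node .none (.word [0,2,1,0,5,7,3,2,4,3,7,8,4,2,3,7,5,1,2])) (.node (.word [7,3,4,8,1,2,3,7,8,3,4,2,3,7,1]) (.word [0,1,2,3,2,0,1,0,2,1,5,4,3,2,1,7,3,4,5,6,3,4,2,3,0,1,2,0]))) (.node (.node .none (.word [0,7,8,7,2,3,1,2,6,0,1,5,7,3,2,1,4,8,3,7,2,3,4,1,2,3,7,5,6,5])) .none))) (.node (.node (.node (.word [0,2,5,4,3,2,1,7,8,6,5,4,3,7,8,4,5,6,5,2,0,3,5,4,3,7,8,7,5,6,5,4])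 (.node (.word [0,7,8,7,2,3,1,2,3,4,3,0,5,7,3,2,4,3,7,8,4,2,3,7,6,5,1]) (.word [3,7,8,7,3,4,5,4,3,2,1,7,8,4,3,7,6,4,5,4,3,2,1]))) (.node (.word [0,1,2,3,2,1,0,2,4,3,7,3,4,2,1,3,2,5,4,7,8,3,7,4,5,6,2,3]) (.word [6,2,1,0,3,7,8,7,1,5,4,3,2,1,7,3,7,4,5,3,4,2,3,0,1,2,0]))) (.node (.node (.node (.word [1,0,1,2,5,6,8,7,3,4,1,2,3,7,8,5,6,4,0,3,2,5,4,3,7,3,4,5,1,2,3,0,1]) (.word [3,7,8,7,6,3,1,0,1,2,5,4,3,2,6,7,3,4,5,6,4,1,2,3,2])) (.node (.word [3,7,8,7,3,0,2,4,5,6,8,7,3,8,7,2,3,4,5,1,2,3,0,1]) (.word [6,0,1,5,7,3,2,1,4,8,3,7,2,3,4,1,2,3,7,5,6,5]))) (.node (.node (.word [0,7,8,7,2,3,1,2,4,8,7,3,2,1,5,4,2,3,7,8,6,5,3,2,0,1,0]) (.word [6,5,4,3,2,1,7,3,2,7,4,5,6,4,5,4,3,1,2,0,1,0])) (.word [0,7,8,7,2,3,1,2,3,5,4,6,5,6,3,4,1,2,3,0,1,2,1]))))) (.node (.node (.node (.node (.node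 (.word [1,3,2,7,3,4,6,5,4,3,7,2,3,1,0,1,2,5,6,8,7,5,3,4,1,2,3,7,8,5,6,4,1]) (.word [3,4,3,5,4,6,7,8,1,2,3,7,4,5,6,2,0,1])) (.node .none (.word [6,2,1,5,4,3,2,1,7,3,4,5,6,3,4,2,3,0,1,2,0]))) (.node (.node (.word [2,4,3,7,3,4,2,0,1,2,6,3,1,0,4,3,5,6,8,4,5,2,3,4,1,2,3,7,8,3,1,0]) (.word [6,0,1,4,5,4,3,2,1,7,8,3,4,2,3,7,1,2,3,4,5,6])) (.word [0,1,2,1,0,5,4,6,5,7,8,7,3,4,5,2,3,4,1,2]))) (.node (.node (.node (.word [0,1,2,3,2,0,1,2,5,4,3,2,1,7,8,6,5,4,3,7,8,4,5,6,5,2,0,3,7,8,7,3,1]) (.word [2,4,3,7,3,4,2,1,0,5,6,7,3,2,8,7,3,4,2,3,7,5,6,2])) (.node (.word [0,1,2,5,7,3,2,8,7,8,3,4,2,3,7,5,6,1,2,3]) (.word [5,4,3,2,1,7,3,2,4,3,7,5,6,4,5,4,1,2,0,1,0]))) (.node (.node (.word [3,7,8,7,3,1,0,2,5,4,3,2,1,7,8,6,5,4,3,7,8,4,5,6,5,2,0,3,7,8,7,3,1]) (.word [3,7,8,7,6,4,3,0,2,5,4,3,2,1,7,8,6,5,4,3,7,8,6,4,5,2,0,1]))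 (.word [3,4,3,2,1,5,7,3,2,4,3,7,8,2,3,7,5,6,5,2,3,0,1,2,3,2,1,0])))) (.node (.node (.node (.node (.word [0,1,2,3,2,1,0,2,4,3,7,3,4,2,1,3,2,5,4,6,5,7,3,4,2,3,7,8,3,7,6,4,1]) (.word [0,3,5,4,6,5,7,8,7,6,3,4,2,3,1,2])) (.node (.word [3,7,8,7,3,2,1,4,5,7,8,3,4,2,3,7,5,6,4,5,1,2,0]) (.word [0,2,4,5,4,3,7,6,2,3,4,5,4,2]))) (.node (.node (.word [2,4,3,7,3,4,2,0,2,1,3,5,6,7,2,3,7,8,4,3,7,5,6,1,2,1]) (.word [2,1,0,3,7,8,7,2,3,4,3,0,2,1,0,3,5,4,6,7,8,3,7,4,5,3,2,1])) (.word [2,1,5,6,7,8,2,3,7,8,4,3,7,5,6,0,1,2]))) (.node (.node (.node (.word [3,4,3,2,1,0,3,4,3,2,3,7,8,3,7,5,6,4,5,2,3,1]) (.word [0,2,1,3,5,6,7,2,3,7,8,4,3,7,5,1,2,1])) (.word [1,0,2,5,4,3,2,1,7,8,6,5,4,3,7,8,4,5,6,5,2,0,4,7,3,4,8,1,2,3,7,8,4,3,7,1])) (.node (.node .none (.word [5,4,3,2,1,7,3,8,7,5,6,4,5,4,3,2,1]))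 (.word [3,4,3,0,4,5,4,7,3,2,4,3,7,8,4,3,7,3,4,5,1])))))) (.node (.node (.node (.node (.node (.node .none (.word [3,7,8,7,3,0,1,2,5,4,3,2,6,7,3,4,5,6,4,1,2,3,2])) (.node (.word [0,1,2,3,2,1,0,4,8,7,3,2,1,5,4,3,7,8,6,5,2,1,0]) (.word [6,1,3,4,3,0,2,1,0,5,4,3,7,3,4,5,6,5,2,3,1,2,0]))) (.node (.node (.word [2,4,3,7,3,4,2,1,3,4,3,0,1,2,5,7,3,2,8,7,8,3,4,2,3,7,5,6,1,2,3]) (.word [3,4,7,8,7,3,2,1,5,4,3,2,1,7,3,4,5,6,3,4,2,3,0,1,2,0])) (.word [3,4,7,8,7,3,1,0,2,1,0,5,7,3,2,4,3,7,8,2,3,7,5,6,5,3,2,1]))) (.node (.node (.node (.word [2,3,2,4,5,6,8,1,2,3,7,8,4,5,6,2,3,1,4,5,4,7,3,2,4,3,7,8,4,3,7,3,4,5,6,1]) (.word [3,4,7,8,7,3,0,1,2,5,4,3,2,6,7,3,4,5,6,4,1,2,3,2,1])) (.node (.word [2,1,0,3,7,8,7,2,3,4,3,2,1,5,7,3,2,4,3,7,8,2,3,7,5,6,5,2,3]) (.word [2,4,3,7,3,4,2,1,0,3,5,4,6,5,6,3,4,2,3,1,2])))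 (.node (.node (.word [3,7,8,7,6,3,0,2,1,3,4,7,2,3,4,0,1,2,3,7,8,3,7]) (.word [3,4,3,0,5,4,3,2,1,7,3,4,2,3,7,1,2,3,4,5,6,0,1])) (.word [0,7,8,7,2,3,1,2,3,4,3,0,3,5,6,7,3,2,4,3,7,8,7,3,4,2,3,7,5,6,1])))) (.node (.node (.node (.node (.word [3,2,7,3,4,6,5,4,3,7,2,3,1,0,2,1,0,4,3,5,4,3,8,2,3,7,8,1,2,3,4,5,6,0,1]) (.word [2,1,5,6,7,3,2,5,4,3,7,8,2,3,7,5,2,3,1])) (.node .none (.word [3,7,8,7,6,3,1,5,4,3,2,1,7,3,2,7,4,5,6,4,5,4,3,1,2,0,1,0]))) (.node (.word [3,4,3,0,7,8,7,2,3,1,2,4,8,7,3,7,8,4,5,6,4,5,3,1]) (.word [3,4,3,6,0,2,4,5,4,7,8,3,7,2,3,4,5,1,2,3,0,1,2]))) (.node (.node (.node (.word [0,1,3,5,4,3,7,8,7,5,6,5,4,2,3,2,1,0,4,8,7,3,2,1,5,4,3,7,8,5,6,5,2,0,1,0]) (.word [6,0,2,1,0,3,5,4,3,2,3,7,1,2,3,4,5,6,4,3,2])) (.word [6,2,1,0,3,7,8,7,1,5,4,3,2,7,3,7,4,5,3,4,2,3,7,8,7,1]))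 (.node (.word [3,7,8,7,2,7,3,4,6,5,4,3,7,2,3,1,4,7,3,8,7,8,2,3,7,4,5,6,4,5,3,1]) (.word [3,7,8,7,3,0,1,2,3,2,0,1,4,5,4,3,7,8,4,2,3,7,2,3,4,5,1]))))) (.node (.node (.node (.node (.node (.word [3,2,7,3,4,6,5,4,3,7,2,3,1,0,2,1,0,4,3,5,4,3,8,2,3,7,8,1,2,3,4,5,6,0]) (.word [3,4,7,8,7,3,1,2,1,4,5,7,3,4,2,3,7,5,6,4,5,3,2,1])) (.node (.word [2,4,3,7,3,4,2,3,2,5,4,6,5,7,3,4,2,3,7,8,3,7,6,4,1]) (.word [6,1,4,5,4,3,2,1,7,8,4,3,7,6,4,5,4,3,2,1]))) (.node (.node (.word [1,2,1,0,3,7,8,7,2,0,2,5,4,3,2,1,7,8,6,5,4,3,7,8,4,5,6,5,2,0]) (.word [2,4,3,7,3,4,2,0,2,3,2,5,6,7,3,4,1,2,3,7,8,4,2,3,7,5,2])) (.word [3,4,3,6,1,0,3,5,6,7,3,2,4,3,7,8,7,3,4,2,3,7,5,6,1]))) (.node (.node (.node (.word [6,1,3,2,5,4,6,5,7,3,4,2,3,7,8,3,7,4,1]) (.word [2,4,3,7,3,4,2,0,3,5,4,6,7,3,4,8,7,3,4,2,3,7,5,6,4,5,1]))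 (.node (.word [6,0,7,8,7,2,3,0,4,3,2,5,8,7,3,4,3,7,6,5,2,3,4,1,2,3,7,8]) (.word [5,4,3,2,1,7,3,2,3,7,4,5,6,4,5,4,3,1,2,1,0]))) (.node (.node (.word [0,1,2,6,3,2,1,4,5,4,7,3,2,4,3,7,8,4,3,7,3,4,5,6,1]) (.word [3,4,7,8,7,3,1,5,4,3,2,1,7,3,2,7,4,5,6,4,5,4,3,1,2,0,1,0])) (.word [2,1,5,4,3,2,7,8,4,3,7,8,4,5,4,2,1])))) (.node (.node (.node (.word [0,7,8,7,2,3,1,2,3,5,4,6,5,7,3,4,1,2,3,7,8,4,3,7,4,1]) (.node (.word [3,4,3,0,2,3,4,5,4,6,5,7,8,1,2,3,7,0,1,2,3,4,5,0]) (.word [3,7,8,7,6,3,1,2,1,0,3,7,8,7,2,4,5,4,3,2,1,7,8,2,3,7,6,4,5,4,3,2,1]))) (.node (.node (.word [3,2,5,4,6,5,7,3,4,2,3,7,8,2,3,7,6,4,1]) (.word [0,2,1,0,5,4,3,7,3,4,5,6,5,2,3,1,2,0,1])) (.word [3,7,8,7,6,3,0,2,1,0,3,5,4,3,2,3,7,1,2,3,4,5,6,4,3,2]))) (.node (.node (.node .none (.word [0,1,2,4,5,4,7,8,3,7,6,2,3,4,5,0,1,0]))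 (.word [2,4,3,7,3,4,2,1,0,3,5,4,6,5,7,8,7,3,4,2,3,1,2])) (.node (.node (.word [2,1,0,3,7,8,7,2,3,2,1,5,4,7,8,2,3,7,4,5,6,0,1,2,3]) (.word [3,7,8,7,6,3,2,1,0,3,7,8,7,2,5,4,3,2,1,7,3,8,7,5,6,4,5,4,3,2,1])) .none)))))) (.node (.node (.node (.node (.node (.node (.node (.word [2,4,3,7,3,4,2,1,2,3,4,5,4,3,2,8,7,3,4,1,2,3,7,8,3,4,5,6,3,4,2]) (.word [1,0,1,2,6,3,5,7,3,2,8,7,3,4,2,3,7,5,6,1,2,3,1])) (.word [3,4,3,0,1,2,5,6,8,7,3,4,1,2,3,7,8,5,6,4,0,2,4,5,4,7,8,3,7,2,3,4,5,1,2,3,0,1,2])) (.node (.node (.word [2,3,4,5,6,8,1,2,3,7,8,4,5,3,0,2,1,5,4,3,2,7,8,4,5,3,4,2,3,7,8,5,6,1]) (.word [1,3,2,7,3,4,6,5,4,3,7,2,3,1,0,7,8,7,6,2,3,1,2])) (.word [3,7,8,7,4,3,0,4,5,4,7,3,2,4,3,7,8,4,3,7,3,4,5,6,1]))) (.node (.node (.node (.word [1,0,7,8,7,2,3,1,2,4,8,7,3,2,1,5,4,2,3,7,8,6,5,2,0,1,0])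 (.word [3,4,3,6,0,2,3,5,7,3,2,4,3,7,8,4,2,3,7,5,6,3,1,2])) (.node (.word [0,1,5,4,6,5,7,3,7,8,2,3,7,4,5,6,1,0]) (.word [0,2,4,3,5,4,6,5,7,2,3,4,5,6,2,3,4,5,1,2]))) (.node (.node (.word [3,7,8,7,3,2,1,4,5,8,7,3,2,4,3,7,8,1,2,3,4,5,6,4,0,1,0]) (.word [3,2,7,3,4,6,5,4,3,7,2,3,1,0,4,5,4,3,7,8,7,3,4,5,6,5,2,3,1,2,1])) .none))) (.node (.node (.node (.word [2,4,3,7,3,4,2,1,3,2,5,4,6,5,7,3,4,2,3,7,8,3,7,4,1]) (.node (.word [2,1,0,3,7,8,7,2,6,1,5,4,3,2,1,0,8,6,5,4,3,7,8,5,6,3,2]) (.word [4,5,4,3,2,1,7,8,2,3,7,6,4,5,4,3,2,1]))) (.node (.node (.word [3,7,8,7,6,3,1,2,1,0,3,7,8,7,1,5,4,3,2,7,8,4,5,3,4,2,3,7,8,5,6,1]) (.word [3,4,3,0,2,1,0,5,4,3,7,6,3,4,5,2,3,1,2,0,1])) .none)) (.node (.node (.node (.word [2,1,0,4,3,2,1,5,8,3,4,2,3,7,8,2,3,4,5,6,1,0]) (.word [1,0,2,1,0,5,7,3,2,4,3,7,8,4,2,3,7,5,6,1,2,1]))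 (.node (.word [0,7,3,2,4,5,8,3,7,4,5,3,4,2,3,7,6,5,1,0,7,8,7,2,3,1,2]) (.word [2,1,5,6,7,5,4,2,3,7,4,5,3,2,1]))) (.node (.node (.word [6,1,2,4,3,7,3,4,2,1,0,2,1,3,5,6,7,2,3,7,8,4,3,7,5,6,1,2,1]) (.word [2,1,5,6,7,5,4,2,3,7,4,5,6,3,2,1])) .none)))) (.node (.node (.node (.node (.node (.word [0,7,8,7,2,3,1,4,3,7,3,4,2,1,3,2,5,4,6,5,7,3,4,2,3,7,8,3,7,6,4]) (.word [3,4,3,0,1,2,1,0,4,5,7,3,8,4,2,3,7,5,6,4,1,2,3,2,0])) (.node (.word [6,1,3,4,3,2,1,5,4,3,2,7,8,4,5,3,4,2,3,7,8,5,6,1]) (.word [6,1,0,2,3,5,7,3,2,4,3,7,8,4,2,3,7,5,3,1,2,1]))) (.node (.node (.word [3,4,3,0,7,8,7,2,3,1,4,5,6,7,8,3,7,2,3,4,5,6,3]) (.word [2,1,0,3,7,8,7,1,0,4,5,4,3,2,7,3,4,5,3,4,1,2,1])) .none)) (.node (.node (.node (.word [2,4,3,7,3,4,2,1,0,1,5,7,3,2,4,8,3,7,8,4,2,3,7,5,6,1,0]) (.word [3,2,1,5,7,2,3,7,8,4,3,7,5,6,2,0,1,0]))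 (.word [0,1,2,3,2,0,1,0,3,2,7,3,2,4,3,7,8,5,3,4,2,3,7,6,2,3])) (.node (.word [7,3,2,4,8,3,7,8,4,2,3,7]) (.word [3,4,7,8,7,3,1,2,1,5,4,7,3,2,8,7,4,5,6,5,3,1,2,1,0])))) (.node (.node (.node (.node (.word [2,1,0,3,7,8,7,1,5,4,3,2,7,3,7,4,5,3,4,2,3,7,8,7,6]) (.word [0,1,2,3,2,0,1,0,2,1,5,7,3,2,4,3,7,8,7,3,4,2,3,7,5,6,1,2])) (.node .none (.word [1,0,2,4,3,5,4,6,5,7,3,4,5,6,2,3,4,5,1,2]))) (.node (.node (.word [1,2,4,3,7,3,4,2,0,3,2,5,4,7,8,3,7,4,5,6,1,2,3,0]) (.word [2,4,3,7,3,4,2,5,4,3,2,1,0,8,6,5,4,3,7,8,5,3,2,1])) (.word [3,4,3,2,1,5,7,3,2,4,3,7,8,2,3,7,5,6,4,3,2,5,4,3,7,6,2,3,4,5,1,2,1]))) (.node (.node (.node (.word [3,7,8,7,3,2,1,0,4,3,2,5,4,8,3,7,8,5,6,4,5,1,2,0,1,0]) (.word [3,7,8,7,4,3,0,1,2,1,7,3,4,7,8,6,5,4,3,7,6,2,3,2,1])) (.word [2,1,0,3,7,8,7,4,3,7,3,4,2,1,0,3,5,4,6,5,7,8,7,3,4,2,3,1,2,1]))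 (.node (.node (.word [4,7,3,4,8,1,2,3,7,8,4,3,7,6,1]) (.word [2,4,3,7,3,4,2,1,0,3,5,4,6,5,3,4,2,3,1,2])) (.word [2,1,0,3,7,8,7,2,3,4,3,0,2,1,0,5,6,7,3,5,4,3,7,5,6,2,3,1,2,0])))))) (.node (.node (.node (.node (.node (.word [0,7,8,7,2,3,1,2,3,4,3,0,1,2,5,6,8,7,3,4,1,2,3,7,8,5,6,4,1]) (.word [2,1,0,3,7,8,7,2,3,4,3,0,1,2,5,4,7,8,3,7,4,5,6,0,1,2,3,2])) (.node (.node (.word [3,4,3,0,2,5,4,3,2,1,7,8,6,5,4,3,7,8,4,5,6,5,2,0,3,7,8,7,3,1]) (.word [6,5,4,3,2,1,7,3,2,8,4,3,7,1,2,3,4,5,6,4,1,0])) .none)) (.node (.node (.word [3,4,3,0,1,2,5,6,8,7,3,4,1,2,3,7,8,5,6,4,0,3,2,5,4,3,7,3,4,5,1,2,3,0,1]) (.word [0,1,2,3,2,0,1,0,2,4,3,7,3,4,2,1,3,2,5,4,7,8,3,7,4,5,6,2,3,1])) (.node (.node (.word [0,7,8,7,2,3,1,2,3,4,3,2,1,5,7,3,2,8,7,3,4,2,3,7,5,6,0,1,2,1,0]) (.word [0,4,5,4,3,7,8,7,3,4,5,6,5,2,3,1,2,1]))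 (.word [0,1,4,8,7,3,7,8,4,5,6,4,5,2,3,1,0])))) (.node (.node (.node (.node .none (.word [2,1,0,3,7,8,7,2,6,1,0,3,2,5,4,7,8,3,7,4,5,6,1,2,3,0,1])) (.node (.word [3,4,3,6,2,1,5,7,3,2,8,7,3,4,2,3,7,5,6,0,1,2,1,0]) (.word [2,1,0,3,7,8,7,2,6,1,3,2,5,4,3,7,3,4,5,6,2,3,1]))) (.node (.node .none (.word [0,1,2,3,2,0,1,0,5,4,3,2,1,0,7,3,2,8,7,4,5,6,4,5,4,1,2,3,2,0])) (.word [0,1,2,6,3,2,1,5,7,3,2,4,3,7,8,4,2,3,7,6,5]))) (.node (.node (.node .none (.word [1,0,3,2,5,4,3,6,7,5,6,2,3,4,3,1,2,1])) (.word [2,1,0,3,4,3,2,7,3,4,5,6,4,5,2,3])) (.node (.word [0,1,3,5,4,3,7,8,7,5,6,5,4,2,3,2,1,2,5,4,7,8,3,7,4,5,6,5,2]) (.word [3,7,8,7,3,0,2,4,3,5,4,6,5,7,3,4,5,6,2,3,4,5,1,2]))))) (.node (.node (.node (.node (.node (.word [3,2,5,4,6,5,7,3,4,2,3,7,8,3,7,4]) (.word [6,1,3,4,3,2,4,5,4,8,7,3,8,7,2,3,4,5,6,3,1,2]))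 (.node (.word [0,1,2,3,2,1,0,4,8,7,3,2,1,5,4,3,7,8,6,5,3,2,0,1,0]) (.word [4,5,4,3,2,1,7,8,4,3,7,6,4,5,4,3,2,1]))) (.node (.node .none (.word [2,1,0,3,7,8,7,2,3,5,4,6,5,6,3,4,1,2,3,0,1,2])) .none)) (.node (.node (.node .none (.word [1,0,7,8,7,2,3,1,2,4,5,4,3,2,1,7,8,2,3,7,6,4,5,4,3,2,1])) (.node .none (.word [2,1,0,3,7,8,7,2,3,2,5,4,3,7,3,4,5,6,2,3,1]))) (.node (.word [6,2,1,0,3,7,8,7,2,5,4,3,2,1,0,8,6,5,4,3,7,8,5,6,3,2,1]) (.word [2,4,3,7,3,4,3,4,5,6,8,1,2,3,7,8,4,5,3,1,2,5,4,7,8,3,7,4,5,6,1,2,3,2])))) (.node (.node (.node (.node .none (.word [3,7,8,7,6,3,0,2,1,0,5,7,3,2,4,3,7,8,4,2,3,7,5,6,1,2])) (.node (.word [0,2,5,6,7,3,2,5,4,3,7,8,2,3,7,5,6,1]) (.word [5,4,3,2,1,7,3,2,7,4,5,6,4,5,4,3,1,2,1,0]))) (.node (.node .none (.word [3,4,3,0,2,5,6,7,8,5,4,3,7,4,5,2,1]))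 (.word [6,1,2,1,5,7,3,2,8,7,3,4,2,3,7,5,6,0,1,2,1,0]))) (.node (.node (.node (.word [3,4,3,2,1,0,3,7,8,7,2,3,2,5,4,6,5,7,3,4,2,3,7,8,2,3,7,6,4,1]) (.word [3,7,8,7,6,3,1,0,2,1,0,5,7,3,2,4,3,7,8,4,2,3,7,5,6,1,2])) (.word [1,0,7,8,7,2,3,1,2,0,4,5,4,3,7,8,7,6,3,4,5,2,3,1,2,1])) (.node (.node (.word [6,1,2,4,3,7,3,4,2,3,2,5,4,6,5,7,3,4,2,3,7,8,3,7,6,4,1]) (.word [0,7,8,7,2,3,1,2,6,1,0,2,4,3,5,4,6,5,7,2,3,4,5,6,2,3,4,5,1,2])) (.word [0,1,2,1,0,7,3,2,4,6,5,4,3,7,8,2,3,7,1,2,1]))))))))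

/-- A subtree. -/
def sub133 : WTree :=
  (.node (.node (.node (.node (.node (.node (.node (.node (.word [3,7,8,7,3,2,1,0,3,7,8,7,2,0,5,4,6,5,7,3,4,2,3,7,8,4,3,7,6,4,5,3]) (.word [1,3,2,7,3,4,6,5,4,3,7,2,3,1,4,8,7,3,2,1,5,4,2,3,7,8,5,6,5,2,0,1,0])) (.node (.word [6,1,3,2,7,3,4,6,5,4,3,7,2,3,1,4,8,7,3,2,1,5,4,3,7,8,5,6,5,3,2,0,1,0]) (.word [2,1,0,3,4,5,2,3,4,5,6,5,3,1]))) (.node (.node (.word [0,1,2,3,2,0,1,0,4,8,7,3,2,1,5,4,3,7,8,5,6,5,2,0,1,0]) (.word [3,7,8,7,3,1,2,1,5,4,7,3,2,8,7,4,5,6,5,3,1,2,1,0])) .none)) (.node (.node .none (.node (.word [2,3,4,5,6,8,1,2,3,7,8,4,5,3,2,1,0,3,5,4,6,2,3,7,3,4,5,6,1,2,0,1]) (.word [3,2,1,5,4,3,2,3,7,4,5,6,3,4,5,2,1,0]))) (.node (.node .none (.word [1,0,2,3,2,5,4,6,7,8,1,2,3,7,4,5,6,2,3,1,2,0])) (.word [2,1,0,8,2,3,7,8,6,2,1]))))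 (.node (.node (.node .none (.node .none (.word [6,2,4,3,7,3,4,3,5,4,6,5,8,7,8,1,2,3,4,5,6,2,3,1,2]))) (.node (.node (.word [1,2,1,0,3,7,8,7,1,5,4,3,2,7,8,4,5,3,4,2,3,7,8,5,6,1]) (.word [3,7,8,7,6,3,2,1,5,7,3,2,4,3,7,8,2,3,7,5,6,5,2,3,1])) (.word [0,1,2,3,2,0,1,0,3,4,3,2,1,5,7,3,2,4,3,7,8,7,3,4,2,3,7,5,6,1,2]))) (.node (.node (.node (.word [3,4,3,0,2,1,3,8,7,3,4,2,3,7,8,5,6,4,5,3]) (.word [2,4,3,5,8,7,3,2,1,4,3,7,8,7,6,3,4,5,3,2,1,0,3,5,4,7,3,1,2,3,7,4,5,6,3])) (.node (.word [0,1,2,6,3,2,1,5,4,3,2,7,3,8,7,2,3,4,5,4,1]) (.word [2,1,5,4,6,7,2,3,7,4,5,3,2,1]))) (.word [3,4,3,2,3,5,4,6,5,8,7,8,1,2,3,4,5,2,3,1,2,1])))) (.node (.node (.node (.node (.node (.word [3,7,8,7,6,3,2,4,3,7,3,4,2,1,3,2,5,4,6,5,7,3,4,2,3,7,8,3,7,4,1]) (.word [3,4,3,0,7,8,7,2,3,1,2,0,4,5,4,3,7,8,7,6,3,4,5,2,3,1,2,1]))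 (.node (.word [2,3,4,5,6,8,1,2,3,7,8,4,5,3,1,2,1,7,3,2,4,7,5,3,4,2,3,7,6,1,2,0,1,0]) (.word [5,4,3,2,1,0,8,6,5,4,3,7,8,5,3,2]))) (.node (.node .none (.word [6,1,2,3,2,5,4,7,8,3,7,4,5,6,1,2,0,1,0])) (.word [3,4,3,1,0,4,5,4,7,3,2,4,3,7,8,4,3,7,3,4,5,6,1]))) (.node (.node (.word [2,4,5,4,8,7,3,8,7,2,3,4,5,3,1,2,1,2,4,3,7,3,4,2,1,3,5,4,6,5,4,3,7,8,7,6,4]) (.word [3,4,3,0,1,2,1,0,7,3,2,4,6,5,4,3,7,8,2,3,7,6,1,2])) (.node (.node (.word [0,7,8,7,2,3,1,2,4,8,7,3,2,1,5,4,3,7,8,6,5,2,0,1,0]) (.word [0,7,8,7,2,3,1,4,5,6,7,8,3,7,2,3,4,5,6,3,1])) .none))) (.node (.node (.node (.node (.word [0,1,2,3,2,0,1,0,2,4,3,7,3,4,2,1,3,2,5,4,6,5,7,3,4,2,3,7,8,2,3,7,6,4,1]) (.word [3,7,8,7,3,2,4,3,7,3,4,2,1,0,3,5,4,6,5,7,8,7,3,4,2,3,1,2])) (.node (.word [0,1,2,6,3,1,0,4,3,5,6,8,4,5,2,3,4,1,2,3,7,8,3,1,0])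 (.word [3,4,3,0,7,8,7,2,3,5,4,3,2,1,7,3,4,5,6,3,4,2,3,0,1,2,0]))) (.node (.node (.word [0,1,2,3,1,4,5,4,3,6,5,7,4,5,2,3,4,1,2,3,7,8,7]) (.word [3,7,8,7,3,2,3,4,5,6,7,3,4,2,3,7,1,2,3,4,5,6,1,0])) (.word [0,1,2,3,2,1,5,6,7,3,2,8,7,3,4,2,3,7,5,6,2]))) (.node (.node (.node (.word [2,1,0,3,7,8,7,3,4,5,6,8,1,2,3,7,8,4,5,2,7,3,4,6,5,4,3,7,1,2,3,0,1]) (.word [0,1,2,3,2,0,1,2,1,0,5,4,3,7,3,4,5,6,5,2,3,1,2,0,1])) (.word [4,8,7,3,2,1,5,4,2,3,7,8,5,6,5,2,1,0])) (.node (.node (.word [0,1,2,3,2,0,1,0,2,4,5,6,7,8,3,7,2,3,4,5,6,3]) (.word [6,1,3,2,5,4,7,8,3,7,4,5,6,2,3,1])) (.word [2,1,0,3,7,8,7,2,3,4,3,0,2,1,0,3,5,4,6,7,8,2,3,7,4,5,3,2,1])))))) (.node (.node (.node (.node (.node (.node (.word [1,3,2,7,3,4,6,5,4,3,7,2,3,1,0,2,1,3,8,7,3,4,2,3,7,8,5,6,4,5,3]) (.word [5,4,3,2,1,0,8,6,5,4,3,7,8,5,6,3,2,1]))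 (.word [6,1,0,5,7,3,2,4,3,7,8,4,2,3,7,5,6,5,1])) (.node (.node .none (.word [1,2,1,0,3,7,8,7,2,4,5,4,3,2,1,7,8,2,3,7,6,4,5,4,3,2,1])) (.word [1,2,4,3,7,3,4,2,1,0,3,5,4,6,5,7,8,7,3,4,2,3,1,2]))) (.node (.node (.node .none (.word [2,1,4,7,8,3,7,6,4,2,3,0,1,2,0])) (.node (.word [0,2,1,3,4,7,2,3,4,0,1,2,3,7,8,3,7,6]) (.word [3,7,8,7,6,3,2,1,5,7,3,2,4,3,7,8,7,3,4,2,3,7,5,1,2]))) (.node (.node (.word [2,1,0,3,7,8,7,1,5,4,3,2,7,8,4,5,3,4,2,3,7,8,5,6,1]) (.word [6,5,4,3,2,1,0,7,3,2,8,7,3,4,5,6,5,2,3,4,1,2])) .none))) (.node (.node (.node (.node (.word [2,1,0,3,7,8,7,2,3,4,3,0,1,2,5,6,8,7,3,4,1,2,3,7,8,5,6,4,1]) (.word [3,7,8,7,3,0,2,4,3,5,4,6,5,7,2,3,4,5,6,2,3,4,5,1,2])) (.node (.word [3,4,7,8,7,6,3,0,2,1,0,5,7,3,2,4,3,7,8,2,3,7,5,6,5,3,2,1]) (.word [3,4,3,2,1,5,4,3,7,6,3,4,5,3,2,1])))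 (.node (.node (.word [6,1,0,5,4,6,5,7,3,4,2,3,7,8,4,3,7,4,5,6,5,3]) (.word [3,4,7,8,7,3,5,4,3,2,1,7,3,2,7,4,5,6,4,5,4,3,1,2,0,1,0])) (.word [0,1,2,5,7,3,8,7,8,4,3,7,5,6,0,1,2,3]))) (.node (.node (.word [3,4,3,0,1,2,5,6,8,7,3,4,1,2,3,7,8,5,6,4,7,3,4,8,1,2,3,7,8,3,4,2,3,7,6,1]) (.node (.word [2,1,0,3,7,8,7,2,5,4,3,2,1,0,8,6,5,4,2,3,7,8,5,6,3,2,1]) (.word [0,2,3,5,6,7,3,8,5,4,3,7,5,6,2,3,1,2,0]))) (.node (.node (.word [1,3,2,7,3,4,6,5,4,3,7,2,3,1,4,8,7,3,2,1,5,4,3,7,8,5,6,5,3,2,0,1,0]) (.word [0,2,5,4,7,8,3,7,6,4,5,2,1])) (.word [4,7,3,8,7,1,2,3,7,4,5,6,4,5,3,1]))))) (.node (.node (.node (.node (.word [2,4,5,4,8,7,3,8,7,2,3,4,5,3,1,2,1,0,1,2,3,2,0,1,4,5,4,7,3,2,4,3,7,8,4,3,7,3,4,5,6,1]) (.node (.word [2,3,5,4,6,5,8,4,1,2,3,7,8,3,4,5,0]) (.word [0,2,1,0,3,5,4,6,2,3,7,3,4,5,1,2,0,1])))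 (.word [2,4,5,4,8,7,3,8,7,2,3,4,5,3,1,2,3,2,5,4,6,5,7,3,4,2,3,7,8,3,7,6,4,1])) (.node (.node (.node .none (.word [3,4,7,8,7,3,0,1,4,5,4,3,2,1,7,8,3,4,2,3,7,1,2,3,4,5,6])) (.node (.word [3,7,8,7,6,3,1,0,1,2,3,2,1,4,5,4,7,3,2,4,3,7,8,4,3,7,3,4,5,6,1]) (.word [3,2,7,3,4,6,5,4,3,7,6,2,3,1]))) (.node (.node (.word [3,4,3,2,1,0,3,7,8,7,2,5,4,3,2,1,0,8,6,5,4,2,3,7,8,5,6,3,2,1]) (.word [1,0,1,2,5,7,3,2,8,7,3,4,2,3,7,5,6,1,2,3,1])) (.word [3,5,4,7,3,8,1,2,3,7,4,5,6,3])))) (.node (.node (.node (.node (.word [1,2,4,3,7,3,4,3,5,4,6,5,8,4,1,2,3,7,8,3,4,5,0,1]) (.word [3,7,8,7,3,1,2,4,3,7,3,4,3,5,4,3,2,1,8,2,3,7,8,5,6,4,5,3,2,1])) (.word [2,4,5,4,8,7,3,8,7,2,3,4,5,3,1,2,0,4,5,4,3,7,8,7,3,4,5,6,5,2,3,1,2,1])) (.node (.node (.word [2,1,4,3,2,5,4,8,7,3,7,8,6,4,5,2,3,4,2,3,1,2,0])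 (.word [0,7,8,7,2,3,1,2,3,4,3,2,1,5,4,3,7,6,3,4,5,3,2,1])) (.word [2,4,5,4,8,7,3,8,7,2,3,4,5,3,1,2,1,0,4,8,3,7,8,6,4,2,3,1,2]))) (.node (.node (.node .none (.word [2,1,0,3,7,8,7,2,3,5,4,6,5,6,3,4,1,2,3,0,1,2,1])) (.word [0,1,2,3,2,0,1,0,2,4,3,7,3,4,2,3,2,5,6,7,3,2,8,7,3,4,2,3,7,5,6,1,2,1])) (.node (.node (.word [0,1,2,3,2,4,5,4,3,2,1,8,7,3,4,2,3,7,8,5,6,4,1,2]) (.word [6,1,3,2,7,3,4,6,5,4,3,7,2,3,1,0,4,5,4,3,7,8,7,3,4,5,6,5,2,3,1,2])) (.word [0,7,8,7,2,3,1,2,4,7,3,8,7,1,2,3,7,4,5,6,4,5,3,1]))))))) (.node (.node (.node (.node (.node (.node (.node (.word [1,0,2,1,3,4,3,7,6,3,4,2,3,1,2,0,1,0,5,4,6,5,7,3,4,2,3,7,8,4,3,7,6,4,5,3]) (.word [3,5,4,6,5,3,4,1,2,3,0,1,2])) (.node .none (.word [6,1,2,4,3,7,3,4,2,1,0,3,5,6,7,3,2,4,3,7,8,7,3,4,2,3,7,5,6,1]))) (.node (.node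 (.word [2,1,0,3,7,8,7,4,3,7,3,4,2,1,0,3,2,5,4,7,8,3,7,4,5,6,1,2,3,0]) (.word [6,1,0,1,2,3,2,1,3,5,6,7,3,2,4,3,7,8,7,3,4,2,3,7,5,6,1])) (.word [2,1,0,3,7,8,7,1,5,4,3,2,7,3,7,4,5,3,4,2,3,7,8,7,1]))) (.node (.node (.node (.word [2,1,0,3,7,8,7,2,3,4,3,0,1,2,5,6,8,7,3,4,1,2,3,7,8,5,4]) (.word [3,7,8,7,3,1,5,4,3,2,1,7,3,2,7,4,5,6,4,5,4,3,1,2,0,2,1,8,3,7,8,6,2,3,2,1])) .none) (.node .none (.word [3,4,3,0,4,5,4,7,3,2,4,3,7,8,4,3,7,3,4,5,6,1])))) (.node (.node (.node (.node (.word [1,0,2,5,4,3,2,1,7,8,6,5,4,3,7,8,4,5,6,5,2,0,3,5,4,3,7,8,7,5,6,5,4]) (.word [1,0,2,3,5,7,3,2,4,3,7,8,6,5,4,2,3,7,6,2,1])) (.node (.word [4,5,4,7,8,7,6,3,4,5,1]) (.word [3,4,3,0,1,2,5,7,3,8,7,8,4,3,7,5,6,0,1,2,3,1]))) (.word [1,2,4,3,7,3,4,2,0,1,2,5,6,8,7,5,3,4,1,2,3,7,8,5,6,4,1])) (.node (.node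 (.node (.word [3,4,3,0,1,2,5,7,3,8,7,8,4,3,7,5,6,0,1,2,3,4,8,7,3,2,1,5,4,2,3,7,8,6,5,3,2,0,1,0]) (.word [1,0,2,1,0,5,7,3,4,7,8,3,7,5,6,5,3,2,1])) (.word [0,1,2,4,3,5,4,3,6,8,5,2,3,4,1,2,3,7,8,4,2])) (.node (.word [2,1,0,3,7,8,7,2,3,4,3,0,5,7,3,2,4,3,7,8,4,2,3,7,6,5,1]) (.word [0,3,2,5,4,6,5,7,8,3,7,2,3,4,2,3,1,2,1]))))) (.node (.node (.node (.node (.node (.word [1,2,4,3,5,8,7,3,2,1,4,3,7,8,7,6,3,4,5,3,2,1,0,2,3,5,4,6,5,8,4,1,2,3,7,8,3,4,5,6,0,1]) (.word [2,1,0,3,7,8,7,6,2])) (.node (.word [2,4,3,7,3,4,2,1,0,1,5,4,6,5,7,3,7,8,2,3,7,4,5,1,0]) (.word [2,4,3,7,3,4,2,1,0,4,5,4,3,7,8,7,3,4,5,6,5,2,3,1,2]))) (.node (.node (.word [3,7,8,7,3,0,1,2,3,2,1,2,3,4,5,4,3,6,5,8,4,2,3,7,8,1,2,3,4,5,6]) (.word [2,4,3,7,3,4,2,1,3,2,5,6,7,3,2,8,7,3,4,2,3,7,5,6,1,2,1])) (.word [2,4,3,7,3,4,2,0,1,2,3,2,1,5,7,3,2,4,3,7,8,4,2,3,7,6,5,1])))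 (.node (.node (.word [0,1,2,6,3,2,1,2,3,4,5,4,3,6,5,8,4,2,3,7,8,1,2,3,4,5,6]) (.node (.word [2,3,4,5,6,8,1,2,3,7,8,4,5,3,0,2,1,4,7,8,3,7,6,4,2,3,0,1,2,0]) (.word [6,5,4,3,2,1,7,3,2,7,4,5,6,4,5,4,3,1,2,1,0]))) (.node (.node (.word [6,3,2,7,3,4,6,5,4,3,7,2,3,1,4,8,7,3,2,1,5,4,3,7,8,5,6,5,3,2,0,1,0]) (.word [0,7,8,7,6,2,3,1,2])) (.word [0,3,5,4,6,5,7,8,7,3,4,2,3,1,2,1])))) (.node (.node (.node (.node (.word [1,2,4,3,7,3,4,2,1,0,3,2,5,4,7,8,3,7,4,5,6,1,2,3,0]) (.word [3,7,3,2,4,8,7,3,4,2,3,7,6,1])) (.node (.word [2,1,5,7,3,2,4,3,7,8,7,3,4,2,3,7,5,6,1,2]) (.word [6,1,0,5,4,3,2,1,7,8,4,3,7,6,5,4,2,3,1,2,1,0]))) (.word [3,2,7,3,4,6,5,4,3,7,2,3,1,2,1,0,4,3,2,5,4,8,3,7,8,5,6,4,5,1,2,1,0])) (.node (.node (.node (.word [3,5,4,6,5,4,3,7,8,7,6,4]) (.word [6,2,3,2,4,5,7,3,8,4,2,3,7,5,6,4,3,1,2,1,0]))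 (.word [3,4,7,8,7,6,3,1,0,2,1,0,5,4,3,7,3,4,5,6,5,2,3,1,2,0,1])) (.node (.word [4,7,3,8,7,8,2,3,7,4,5,6,4,5,3]) (.word [3,7,8,7,3,1,4,7,3,8,7,8,2,3,7,4,5,6,4,5,3,1])))))) (.node (.node (.node (.node (.node (.node (.word [0,1,2,6,3,2,1,0,2,4,3,7,3,4,2,1,2,3,4,5,4,3,2,8,7,3,4,1,2,3,7,8,3,4,5,6,3,4,2]) (.word [3,7,8,7,4,3,2,1,5,4,7,3,2,8,7,4,5,6,5,3,1,2,1,0])) (.node (.word [2,1,0,3,7,8,7,2,3,4,3,2,1,4,5,8,7,3,2,4,3,7,8,5,6,4,5,4,2,3,2,1]) (.word [0,2,3,5,7,3,2,4,3,7,8,4,2,3,7,5,3,1,2,1]))) (.node (.node (.word [2,1,0,3,4,3,2,3,7,8,3,7,5,6,4,5,2,3,1]) (.word [3,4,3,2,1,5,7,3,2,4,3,7,8,5,4,2,3,7,6,5,2,3,1])) (.word [2,4,3,7,3,4,2,1,3,2,5,4,7,8,3,7,4,5,6,2,3,1]))) (.node (.node (.node (.word [0,1,4,5,4,3,2,1,8,7,3,4,2,3,7,8,5,6,4,1,2]) (.word [5,4,6,7,8,1,2,3,7,4,5,2,0]))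 (.node .none (.word [3,7,8,7,3,1,2,1,5,7,3,2,4,3,7,8,7,3,4,2,3,7,5,1,2]))) (.node (.node .none (.word [0,7,8,7,2,3,1,2,0,1,5,7,3,2,1,4,8,3,7,2,3,4,1,2,3,7,5,6,5])) .none))) (.node (.node (.node (.node (.word [2,4,3,7,3,4,2,1,3,2,5,4,6,5,7,3,4,2,3,7,8,3,7,6,4,1]) (.word [0,2,1,0,3,5,4,3,2,3,7,1,2,3,4,5,6,4,3,2])) (.node .none (.word [3,4,3,5,4,3,2,1,7,3,2,7,4,5,6,4,5,4,3,1,2,1,0]))) (.node (.word [3,7,8,7,6,3,0,7,8,7,2,3,0,4,3,2,5,8,7,3,4,3,7,6,5,2,3,4,1,2,3,7,8]) (.word [0,3,2,5,4,3,7,3,4,5,6,1,2,3,0]))) (.node (.node (.node .none (.word [0,1,2,3,2,1,0,2,4,5,4,8,7,3,8,7,2,3,4,5,6,3,1,2])) .none) (.node (.node .none (.word [5,4,6,7,3,4,1,2,3,7,8,4,3,7,5,6,0,1,3,2,5,4,3,7,3,4,5,6,2,3,1])) (.word [1,2,1,0,3,7,8,7,2,4,5,4,3,2,1,7,8,4,2,3,7,6,4,5,4,3,2,1]))))) (.node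 (.node (.node (.node (.node (.word [3,7,8,7,6,3,2,3,4,5,6,8,1,2,3,7,8,4,5,3,0,2,1,5,4,3,2,7,3,7,4,5,3,4,2,3,7,8,7]) (.word [2,1,0,3,7,8,7,2,3,4,3,0,2,1,3,5,6,7,2,3,7,8,4,3,7,5,1,2,1])) (.node (.word [2,4,3,7,3,4,2,0,1,2,6,3,4,3,5,4,3,6,8,5,2,3,4,1,2,3,7,8,4,2]) (.word [0,2,1,3,4,3,7,6,3,4,2,3,1,2,0,1]))) (.node (.node (.word [0,1,2,3,2,1,0,2,4,3,7,3,4,2,1,0,2,1,3,5,6,7,2,3,7,8,4,3,7,5,6,1,2]) (.word [3,2,1,8,2,3,7,8,6,3,2,0,1,0])) (.word [2,4,3,7,3,4,2,0,2,3,2,5,4,3,6,1,2,3,7,4,5,6,3,4,5,2]))) (.node (.node (.node (.word [3,4,3,2,1,0,3,7,8,7,2,0,2,3,4,5,4,3,6,5,8,4,2,3,7,8,1,2,3,4,5,6]) (.word [2,4,3,7,3,4,2,1,2,3,2,7,3,4,8,6,5,4,3,7,6,1,2,0,1,0])) (.word [3,7,8,7,3,1,2,1,4,5,7,8,3,4,2,3,7,5,6,4,5,1,2,0])) (.node (.node (.word [1,0,7,8,7,2,3,1,2,4,7,3,8,7,1,2,3,7,4,5,6,4,5,3])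 (.word [0,5,6,7,3,2,8,7,3,4,2,3,7,5,6,2])) (.word [3,7,8,7,6,3,1,0,2,1,0,3,5,4,6,2,3,7,3,4,5,6,1,2,0,1])))) (.node (.node (.node (.word [3,4,3,0,7,8,7,2,3,1,2,0,1,4,5,6,8,3,7,8,3,4,5,2,3,1,0]) (.word [0,2,5,4,3,2,1,7,8,6,5,4,3,7,8,4,5,6,5,2,0,4,7,3,4,8,1,2,3,7,8,4,3,7,1])) (.node (.word [3,2,7,3,4,6,5,4,3,7,2,3,1,4,7,3,4,8,7,3,4,2,3,7,4,5,6,4,5,3,1]) (.word [1,2,4,3,7,3,4,2,1,3,2,5,4,7,8,3,7,4,5,6,2,3]))) (.node (.node (.node .none (.word [2,1,0,7,2,3,7,8,4,3,7,2,1])) .none) (.node (.node (.word [3,4,7,8,7,3,1,0,2,1,0,3,5,4,6,2,3,7,3,4,5,6,1,2,0]) (.word [2,4,3,7,3,4,2,0,1,2,3,2,4,5,4,3,8,7,3,4,2,3,7,8,5,6,5,1,2,3])) (.word [6,0,2,3,2,4,7,3,4,1,2,3,7,8,4,3,7,1,2,3,0]))))))))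

/-- A subtree. -/
def sub134 : WTree :=
  (.node (.node sub130 sub131) (.node sub132 sub133))

/-- A subtree. -/
def sub135 : WTree :=
  (.node (.node (.node (.node (.node (.node (.node (.node (.word [0,7,3,2,4,5,8,3,7,4,5,3,4,2,3,7,6,5,1,0,2,1,3,8,7,3,4,2,3,7,8,5,6,4,5,3]) (.word [3,7,8,7,6,3,1,0,2,1,0,5,4,3,7,3,4,5,6,5,2,3,1,2,0,1])) (.node (.word [2,1,0,3,7,8,7,2,3,5,4,6,5,3,4,1,2,3,0,1,2,1]) (.word [6,2,3,5,4,6,5,8,7,8,1,2,3,4,5,6,2,3,1,2]))) (.node (.node (.word [6,2,3,2,4,5,6,8,1,2,3,7,8,4,5,6,2,3,1,0,2,1,5,4,3,2,7,8,4,5,3,4,2,3,7,8,5,6,1]) (.word [6,1,0,2,1,3,7,3,2,4,3,7,8,2,3,7,3,2])) (.word [0,2,1,0,5,7,3,2,4,3,7,8,4,2,3,7,5,6,1,2]))) (.node (.node (.node (.word [0,7,8,7,2,3,1,2,4,5,4,7,3,4,8,1,2,3,7,8,4,3,7,4,5,6,0]) (.word [3,4,3,0,1,2,3,2,0,1,2,5,6,7,8,5,4,3,7,4,5,2,1]))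 (.node .none (.word [2,1,0,3,7,8,7,2,3,5,4,7,3,1,2,3,7,4,5,6,3,1]))) (.node (.node (.word [6,2,1,0,4,3,2,5,8,7,3,4,3,7,6,5,2,3,4,1,2,3,7,8]) (.word [0,1,2,6,3,5,4,7,8,3,7,4,5,6,0,1,2,3,2,1])) (.word [6,7,3,2,4,8,7,3,4,2,3,7,1,2,3,0,1,2])))) (.node (.node (.node (.node (.word [0,7,8,7,2,3,1,4,3,7,3,4,2,1,0,2,5,4,3,2,1,7,8,6,5,4,3,7,8,4,5,6,5,2,0]) (.word [1,2,4,3,7,3,4,2,1,2,3,2,7,3,4,8,6,5,4,3,7,6,1,2,0,1,0])) (.node (.word [2,3,2,4,5,6,8,1,2,3,7,8,4,5,2,3,0,1,0]) (.word [5,4,6,7,8,1,2,3,7,4,5,2,0,1]))) (.node (.node (.word [0,1,2,3,2,0,1,0,4,8,7,3,2,1,5,4,3,7,8,6,5,2,0,1,0]) (.word [2,3,2,7,8,7,3,1,2,0,1,0])) (.word [1,0,2,1,0,5,7,3,2,4,3,7,8,2,3,7,5,6,5,3,2,1]))) (.node (.node (.node (.word [0,1,2,3,2,0,1,0,2,1,0,4,3,2,5,8,7,3,4,3,7,6,5,2,3,4,1,2,3,7,8]) (.word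 [3,7,8,7,3,2,1,3,4,3,2,7,3,4,5,6,4,5,1,2,3,0,1])) (.word [3,7,8,7,3,1,2,4,3,7,3,4,1,5,6,7,8,2,3,7,8,4,3,7,5,0,1,2,1])) (.node (.word [0,1,2,3,2,0,1,0,2,1,5,4,3,2,7,8,4,5,3,4,2,3,7,8,5,6]) (.word [6,1,0,3,2,5,4,7,8,3,7,4,5,6,1,2,3,0,1]))))) (.node (.node (.node (.node (.node (.word [0,1,2,3,2,1,0,2,4,3,7,3,4,2,1,3,2,5,4,6,5,7,3,4,2,3,7,8,3,7,6,4]) (.word [3,4,7,8,7,3,1,2,1,5,4,3,7,3,4,5,6,5,3,2,1])) (.node (.word [2,1,0,3,7,8,7,2,3,4,3,2,1,5,7,3,2,8,7,3,4,2,3,7,5,6,0,1,2,1,0]) (.word [2,3,2,7,8,7,3,1,2,1,0]))) (.node (.node .none (.word [2,1,0,3,7,8,7,2,3,4,3,2,1,5,6,7,5,4,2,3,7,4,5,6,3,2,1])) (.word [3,7,8,7,3,1,0,1,2,3,2,1,2,1,0,5,4,3,7,3,4,5,6,5,2,3,1,2,0,1]))) (.node (.node (.node .none (.word [3,4,3,0,7,8,7,2,3,1,2,0,1,2,5,4,3,2,6,7,3,4,5,6,4,1,2,3,2,1]))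 (.node (.word [4,7,3,4,8,7,8,3,4,2,3,7,5,6,4,5,3,1]) (.word [1,5,4,3,2,1,0,7,3,2,8,7,4,5,6,4,5,4,1,2,3,2,0]))) (.node (.node (.word [0,1,2,3,2,1,0,2,4,5,6,7,8,3,7,2,3,4,5,3,1]) (.word [3,7,8,7,6,3,2,1,5,4,7,3,2,8,7,4,5,6,5,3,1,2,1,0])) (.word [6,3,4,3,0,4,5,4,7,3,2,4,3,7,8,4,3,7,3,4,5,1])))) (.node (.node (.node (.node (.word [0,5,4,6,5,7,3,4,2,3,7,8,4,3,7,6,4,5,3]) (.word [3,2,7,3,4,8,6,5,4,3,7,2,3,1])) (.word [1,3,2,7,3,4,6,5,4,3,7,2,3,1,0,2,4,5,6,8,7,3,8,7,2,3,4,5,1,2,3,0,1])) (.node (.node (.word [3,4,3,2,1,0,3,7,8,7,2,3,5,4,6,5,3,4,1,2,3,0,1,2,1]) (.word [1,2,1,4,5,4,3,2,8,7,3,4,3,7,8,0,1,2,3,4,5,6,1,2])) (.word [0,1,3,5,4,3,7,8,7,5,6,5,4,2,3,2,1,0,3,5,4,7,3,1,2,3,7,4,5,6,3,1]))) (.node (.node (.word [0,1,2,3,2,0,1,0,2,1,5,4,3,2,7,8,4,5,3,4,2,3,7,8,5,6,1])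 (.word [3,4,3,2,1,5,4,3,2,7,8,4,5,3,4,2,3,7,8,5,1])) (.node (.node .none (.word [3,7,8,7,3,0,1,2,5,4,3,2,6,7,3,4,5,6,4,1,2,3,2,1])) (.word [0,1,2,3,2,1,4,5,4,3,7,8,4,2,3,7,2,3,4,5,1])))))) (.node (.node (.node (.node (.node (.node (.word [0,7,8,7,2,3,1,2,0,5,4,6,5,7,3,4,2,3,7,8,4,3,7,6,4,5,3]) (.word [0,1,2,3,2,0,1,0,2,1,4,5,7,3,4,2,3,7,5,6,4,5,3,2,1])) (.node .none (.word [0,7,8,7,2,3,1,2,1,0,2,4,3,5,4,6,5,7,2,3,4,5,6,2,3,4,5,1,2]))) (.node (.node (.word [6,3,2,7,3,4,6,5,4,3,7,2,3,1,0,1,2,4,5,6,7,3,2,8,4,3,7,8,2,3,7,4,5,6,3,1,0]) (.word [2,1,0,3,7,8,7,2,3,4,3,0,2,3,5,7,3,2,4,3,7,8,6,5,4,2,3,7,2,1])) (.word [3,7,8,7,3,1,0,1,2,3,2,1,4,5,4,7,3,2,4,3,7,8,4,3,7,3,4,5,6,1]))) (.node (.node (.node (.word [0,1,2,3,2,1,0,2,1,5,4,3,2,7,8,4,3,7,8,4,5,6,4,2]) (.word [0,1,3,7,8,7,6,2,3,0,1,0]))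 (.word [3,4,3,1,2,1,5,4,3,2,7,8,4,5,3,4,2,3,7,8,5,6,1])) (.node (.node (.word [0,7,8,7,2,3,1,2,3,4,3,2,1,5,7,3,2,4,3,7,8,2,3,7,6,5,2,3]) (.word [3,4,3,0,1,2,7,3,4,6,5,4,3,7,6,2,0,1,0])) (.word [3,7,8,7,4,3,2,1,5,7,3,2,4,3,7,8,7,3,4,2,3,7,5,6,1,2])))) (.node (.node (.node (.node (.word [3,4,3,0,1,2,5,7,3,8,7,8,4,3,7,5,6,0,1,2,3,4,7,3,4,8,1,2,3,7,8,4,3,7,1]) (.word [0,1,2,5,4,7,8,3,7,4,5,6,0,1,2,3,2])) (.node .none (.word [0,1,2,3,2,1,5,6,7,3,2,8,7,3,4,2,3,7,5,2,1]))) (.node (.node (.word [6,2,3,4,5,6,8,1,2,3,7,8,4,5,3,0,2,1,5,4,3,2,7,8,4,5,3,4,2,3,7,8,5,6,1]) (.word [0,7,8,7,2,3,1,2,3,7,8,7,3,1,5,4,3,2,1,7,3,8,7,5,6,4,5,4,3,2,1])) .none)) (.node (.node (.word [6,2,1,0,4,3,2,5,8,7,3,4,1,2,3,7,8,2,3,4,5,1,2,3]) (.node (.word [0,1,2,3,2,0,1,0,2,1,0,3,7,8,7,1,5,4,3,2,7,8,4,5,3,4,2,3,7,8,5,6,1])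 (.word [0,1,2,7,3,4,8,6,5,4,3,7,6,0,1,2,3,2,1]))) (.node (.node (.word [1,2,1,5,4,3,2,7,8,4,5,3,4,2,3,7,8,5,6,1]) (.word [3,4,3,0,1,2,5,4,3,2,6,7,3,4,5,6,4,0,1,2,3,2,1])) (.word [0,2,3,2,4,5,7,3,4,2,3,7,5,6,4,1,2,3,2,0]))))) (.node (.node (.node (.node (.node .none (.word [2,1,0,3,4,5,6,2,3,4,5,3])) (.node (.word [3,5,4,6,5,4,3,7,8,7,4,1]) (.word [6,5,4,3,2,1,7,3,8,7,5,6,4,5,4,3,2,1]))) (.node (.node (.word [2,1,0,4,3,2,5,8,7,3,4,3,7,6,5,2,3,4,1,2,3,7,8]) (.word [3,7,8,7,2,7,3,4,6,5,4,3,7,2,3,1,0,2,4,3,5,4,6,5,7,3,4,5,6,2,3,4,5,1,2])) (.word [3,4,3,0,3,5,6,7,3,2,4,3,7,8,7,3,4,2,3,7,5,6,1]))) (.node (.node (.node (.word [1,2,4,3,7,3,4,2,1,0,2,1,3,5,6,7,2,3,7,8,4,3,7,5,6,1,2]) (.word [4,7,3,4,8,7,3,4,2,3,7,4,5,6,4,5,3,1])) (.node .none (.word [1,2,1,0,3,7,8,7,2,0,4,5,4,3,7,8,4,2,3,7,2,3,4,5,1])))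 (.node (.node (.word [0,7,8,7,2,3,1,2,6,1,3,2,5,4,6,5,7,3,4,2,3,7,8,3,7,6,4,1]) (.word [0,1,2,8,7,3,7,8,6,0,1,2,3])) (.word [2,4,5,4,8,7,3,8,7,2,3,4,5,3,1,2,1,4,7,3,4,8,1,2,3,7,8,4,3,7,6,1])))) (.node (.node (.node (.node (.word [3,7,8,7,3,2,1,5,4,3,2,7,8,4,5,3,4,2,3,7,8,5,6]) (.word [3,4,3,0,2,1,0,5,6,7,3,5,4,3,7,5,2,3,1,2,0])) (.node (.word [3,7,8,7,3,0,2,5,4,3,2,1,7,8,6,5,4,3,7,8,4,5,6,5,2,0]) (.word [0,1,2,6,3,2,0,1,0]))) (.node (.node (.word [6,1,3,2,7,3,4,6,5,4,3,7,2,3,1,7,3,2,4,8,3,7,8,4,2,3,7,6]) (.word [3,2,5,6,7,3,2,8,7,3,4,2,3,7,5,1,2,1])) .none)) (.node (.node (.node (.word [0,1,3,5,4,3,7,8,7,5,6,5,4,2,3,2,1,2,5,4,7,8,3,7,4,5,6,5,2,1]) (.word [6,1,2,4,5,4,8,7,3,8,7,2,3,4,5,3,1,2,1])) .none) (.node (.node (.word [3,7,8,7,3,0,2,1,0,3,5,4,6,2,3,7,3,4,5,6,1,2,0])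 (.word [3,4,3,2,1,5,7,3,2,4,3,7,8,2,3,7,5,6,5,2,5,4,7,3,1,2,3,7,4,5,6,3])) (.word [3,4,3,4,5,4,7,3,8,1,2,3,7,3,4,5,2,3,1,2,1]))))))) (.node (.node (.node (.node (.node (.node (.node (.word [1,3,2,7,3,4,6,5,4,3,7,2,3,1,0,1,2,5,6,8,7,5,3,4,1,2,3,7,8,5,6,4]) (.word [0,2,1,3,7,3,2,4,3,7,8,2,3,7,3,2])) (.node (.word [6,5,4,6,7,3,4,1,2,3,7,8,4,3,7,5,6,0,1,4,5,6,8,3,7,8,3,4,5,3]) (.word [3,4,3,2,1,0,3,7,8,7,2,3,5,4,6,5,6,3,4,1,2,3,0,1,2]))) (.node (.node (.word [1,0,7,8,7,2,3,1,2,0,2,3,4,5,4,3,6,5,8,4,2,3,7,8,1,2,3,4,5,6]) (.word [6,1,2,1,0,3,7,8,7,2,0,5,4,3,2,1,7,3,4,2,3,7,1,2,3,4,5,6,0,1])) (.word [2,1,0,3,7,8,7,2,5,4,3,2,1,0,8,6,5,4,3,7,8,5,6,3,2]))) (.node (.node (.node .none (.word [6,0,4,5,4,3,7,8,4,2,3,7,2,3,4,5,1])) (.node (.word [2,1,0,3,7,8,7,2,3,4,3,2,1,5,7,3,2,4,3,7,8,7,3,4,2,3,7,5,6,1,2])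 (.word [3,2,7,3,4,6,5,4,3,7,2,3,1,0,7,8,7,2,3,1,2]))) (.node (.node .none (.word [0,2,3,5,4,7,3,8,7,6,4,5,2,3,1,2,0])) (.word [1,0,2,3,2,4,7,3,8,1,2,3,7,4,3,0,1,2,1,0])))) (.node (.node (.node (.node (.word [1,3,2,7,3,4,6,5,4,3,7,2,3,1,7,3,2,4,8,3,7,8,3,4,2,3,7,6,1]) (.word [3,7,8,7,6,3,1,2,1,5,4,3,2,1,7,3,4,5,6,3,4,2,3,0,1,2,0])) (.node (.word [2,1,0,3,7,8,7,1,5,4,3,2,1,7,3,4,5,3,4,2,3,0,1,2,0]) (.word [2,4,3,7,3,4,2,0,2,1,0,3,5,4,6,2,3,7,3,4,5,6,1,2,0,1]))) (.node (.node (.word [0,1,2,3,2,0,1,0,4,8,7,3,2,1,5,4,3,7,8,5,6,5,3,2,0,1,0]) (.word [0,1,3,5,7,3,2,4,8,7,3,4,2,3,7,5,6,1,0])) .none)) (.node (.node (.node (.word [3,4,3,0,7,8,7,2,3,1,2,0,1,4,5,6,8,3,7,8,3,4,5,2,3,0,1,0]) (.word [3,4,7,8,7,6,3,1,2,1,5,4,3,2,1,7,3,4,5,6,3,4,2,3,0,1,2,0])) (.node .none (.word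 [3,4,3,0,5,6,7,3,2,8,7,3,4,2,3,7,5,2,1]))) (.node (.node .none (.word [2,3,2,7,3,2,8,7,3,4,2,3,7,1,2,0,1])) (.word [0,1,3,5,4,3,7,8,7,5,6,5,4,2,3,2,1,0,3,2,5,4,3,7,3,4,5,6,2,3,1]))))) (.node (.node (.node (.node (.word [3,7,8,7,3,1,2,4,3,7,3,4,2,1,3,2,5,4,6,5,7,3,4,2,3,7,8,3,7,4,1]) (.node (.word [0,1,3,5,4,3,7,8,7,5,6,5,4,2,3,2,1,0,1,0,4,5,4,3,7,8,7,3,4,5,6,5,2,3,1,2,1]) (.word [3,7,8,7,3,1,0,2,4,5,4,3,7,6,2,3,4,5,4,2,1]))) (.node (.node .none (.word [3,4,3,6,1,2,1,5,7,3,2,4,3,7,8,5,4,2,3,7,6,5,2,3,1])) (.word [3,4,7,8,7,3,1,2,1,5,7,3,2,4,3,7,8,7,3,4,2,3,7,5,6,1,2]))) (.node (.node (.node (.word [0,1,2,3,2,1,2,1,3,4,3,7,6,3,4,2,3,1,2,0,1,4,8,7,3,2,1,5,4,2,3,7,8,5,6,5,2,0,1,0]) (.word [3,4,3,2,3,5,4,6,5,8,7,8,1,2,3,4,5,6,2,3,1,2])) (.node (.word [4,5,4,7,8,7,3,4,5,6,5])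 (.word [0,1,2,3,2,1,0,2,1,5,4,3,2,1,7,3,4,5,6,3,4,2,3,0,1,2,0]))) (.node (.word [4,5,4,3,7,8,1,2,3,7,2,3,4,5,6,0]) (.word [0,7,8,7,2,3,1,2,1,0,1,4,5,4,3,2,1,7,8,3,4,2,3,7,1,2,3,4,5,6])))) (.node (.node (.node (.node (.word [0,1,2,5,6,8,7,5,3,4,1,2,3,7,8,5,6,4,1]) (.word [3,7,8,7,3,1,2,4,3,7,3,4,2,1,2,3,2,5,4,7,8,3,7,4,5,6,1,2,0,1,0])) (.node (.word [3,4,2,7,3,4,6,5,4,3,7,2,3,1,0,2,4,5,6,8,7,3,8,7,2,3,4,5,1,2,3,0,1]) (.word [2,1,0,3,4,3,6,5,4,3,7,2,3,4,5,1,2]))) (.node (.word [2,1,5,4,3,2,7,8,4,3,7,8,4,5,6,4,2]) (.word [3,7,8,7,3,1,2,1,5,4,3,7,3,4,5,6,5,3,2]))) (.node (.node (.word [6,3,2,7,3,4,6,5,4,3,7,2,3,1,2,1,0,7,3,2,4,3,7,8,2,3,7,6,2,1]) (.word [2,4,3,7,3,4,2,0,1,2,6,3,5,7,3,2,8,7,3,4,2,3,7,5,6,1,2,3,1])) (.node (.node (.word [6,2,1,0,3,7,8,7,1,5,4,3,2,7,8,4,5,3,4,2,3,7,8,5,6,1])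 (.word [6,1,0,2,1,3,4,3,7,3,4,2,3,1,2,0,1])) (.word [3,7,8,7,3,0,2,1,0,5,4,3,7,3,4,5,6,5,2,3,1,2,0,1])))))) (.node (.node (.node (.node (.node (.node (.word [6,3,2,7,3,4,6,5,4,3,7,2,3,1,0,2,1,3,8,7,3,4,2,3,7,8,5,6,4,5,3]) (.word [3,7,8,7,4,3,0,1,2,5,4,3,2,6,7,3,4,5,6,4,0,1,2,3,2,1])) .none) (.node (.node (.word [4,5,4,7,3,4,8,1,2,3,7,8,4,3,7,4,5,6,0]) (.word [2,3,2,1,4,5,2,3,4,5,6,5,2,3,0,1,0])) (.word [4,5,4,3,7,8,1,2,3,7,2,3,4,5,0]))) (.node (.node (.word [2,4,5,4,8,7,3,8,7,2,3,4,5,3,1,2,1,3,5,4,6,5,4,3,7,8,7,6,4,1]) (.word [1,0,7,8,7,2,3,1,2,4,8,7,3,2,1,5,4,2,3,7,8,5,6,5,2,1,0])) (.node (.word [1,0,7,8,7,2,3,1,4,5,6,7,8,3,7,2,3,4,5,6,3]) (.word [3,4,3,2,1,0,3,7,8,7,2,5,4,3,2,1,7,3,8,7,5,6,4,5,4,3,2,1])))) (.node (.node (.node (.node (.word [5,4,6,7,3,4,1,2,3,7,8,4,3,7,5,6,0,1,2,3,5,4,3,2,1,8,2,3,7,8,4,5,6,4,5,3,2,1])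 (.word [1,0,2,1,0,3,5,4,6,7,8,2,3,7,4,5,6,3,2])) (.node (.word [6,2,1,5,7,3,2,4,3,7,8,2,3,7,5,6,5,2,3,4,5,6,8,3,7,8,3,4,5,3,1]) (.word [2,1,7,3,2,8,4,3,7,8,2,3,7,1,2,3,1,2,0]))) (.node (.node (.word [3,7,8,7,3,2,1,0,4,3,2,5,4,8,5,3,4,1,2,3,7,8,6,5,0,1,0]) (.word [2,3,2,7,3,2,8,7,3,4,2,3,7,6,1,2,0,1])) (.word [0,1,2,3,2,1,0,4,7,3,4,8,7,3,4,2,3,7,4,5,6,4,5,3,1]))) (.node (.node (.node .none (.word [6,0,1,2,5,7,3,2,8,7,3,4,2,3,7,5,6,1,2,3,1])) (.node .none (.word [0,2,4,7,8,3,7,4,3,1,2,1]))) (.node (.node (.word [5,4,6,7,3,4,1,2,3,7,8,4,3,7,5,6,0,1,4,5,6,8,3,7,8,3,4,5,3]) (.word [1,0,7,8,7,2,3,5,4,3,2,1,7,3,7,4,5,6,3,4,2,3,0,1,2,0])) (.word [2,1,0,3,7,8,7,2,0,1,4,5,3,4,2,3,7,3,4,5,4,2,1,0]))))) (.node (.node (.node (.node (.node (.word [0,7,3,2,4,5,8,3,7,4,5,3,4,2,3,7,6,5,1,3,4,3,2,1,0,3,4,3,2,3,7,8,3,7,5,6,4,5,2,3,1])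 (.word [0,1,2,4,5,4,7,8,3,7,2,3,4,5,6,5,1,0])) .none) (.node (.node .none (.word [3,4,3,2,1,5,6,7,8,5,4,3,7,4,5,6,2,3,1,2,1,0])) (.word [3,7,8,7,3,2,4,3,7,3,4,2,1,3,2,5,4,7,8,3,7,4,5,6,2,3,1]))) (.node (.node (.word [3,4,3,0,7,8,7,2,3,1,2,3,5,4,6,5,7,3,4,1,2,3,7,8,4,3,7,4,1]) (.node (.word [0,2,5,6,7,3,2,5,4,3,7,8,2,3,7,5,6]) (.word [2,1,0,3,7,8,7,2,3,2,7,3,4,8,6,5,4,3,7,6,2,3,1]))) (.node (.node (.word [2,1,0,3,7,8,7,2,0,1,2,6,3,4,3,5,4,3,6,8,5,2,3,4,1,2,3,7,8,4,2]) (.word [3,4,3,6,1,2,1,4,5,7,3,4,2,3,7,5,6,4,5,3,2,1])) (.word [3,4,3,0,2,4,5,4,7,8,3,7,2,3,4,5,1,2,3,0,1,2])))) (.node (.node (.word [3,7,8,7,3,1,2,1,0,4,3,2,5,8,7,3,4,3,7,6,5,2,3,4,1,2,3,7,8]) (.node (.node (.word [2,4,3,7,3,4,2,1,3,2,7,3,4,6,5,4,3,7,2,3,1,0,2,5,6,7,8,5,4,3,7,4,5,6,2,1]) (.word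 [3,7,8,7,4,3,0,1,2,5,4,7,8,3,7,4,5,6,0,1,2,3,2,1])) (.word [3,7,8,7,3,1,2,4,3,7,3,4,2,1,3,2,5,4,7,8,3,7,4,5,6,2,3,1]))) (.node (.node (.word [2,4,3,5,8,7,3,2,1,4,3,7,8,7,6,3,4,5,3,2,1,4,5,4,7,3,2,4,3,7,8,4,3,7,3,4,5,6]) (.word [0,7,8,7,2,3,1,4,3,7,3,4,2,1,4,8,7,3,2,1,5,4,3,7,8,5,6,5,3,2,0,1,0])) .none))))))

/-- A subtree. -/
def sub136 : WTree :=
  (.node (.node (.node (.node (.node (.node (.node (.node (.word [3,4,3,2,1,0,3,7,8,7,2,3,2,5,4,6,5,7,3,4,2,3,7,8,3,7,4]) (.word [2,3,2,5,4,7,8,3,7,4,5,6,3,1,2,1,0])) (.word [3,4,3,2,1,5,7,3,2,4,3,7,8,7,3,4,2,3,7,5,6,1,2])) (.node (.node (.word [6,1,3,2,7,3,4,6,5,4,3,7,2,3,1,2,1,0,7,3,2,4,3,7,8,2,3,7,6,2,1]) (.word [3,4,3,2,1,5,4,3,2,7,8,4,3,7,8,4,5,4,2,1])) (.word [3,7,8,7,6,3,0,1,2,1,7,3,2,4,7,5,3,4,2,3,7,6,1,2,0,1,0])))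 (.node (.node (.node (.word [6,2,3,4,5,6,8,1,2,3,7,8,4,5,3,0,2,1,5,4,3,2,7,8,4,5,3,4,2,3,7,8,5,6]) (.word [0,1,2,6,3,1,0,5,4,6,5,7,8,7,3,4,5,6,2,3,4,1,2])) (.node (.word [2,1,0,3,7,8,7,3,4,3,5,4,2,3,7,3,4,5,6,3,4,5,1,2]) (.word [1,0,2,1,0,3,5,4,6,2,3,7,3,4,5,1,2,0,1]))) (.node (.word [2,4,3,7,3,4,2,1,3,5,4,6,5,4,3,7,8,7,6,4]) (.word [3,4,3,0,2,1,0,3,5,4,6,7,8,2,3,7,4,5,6,3,2])))) (.node (.node (.node (.node (.word [0,7,3,2,4,5,8,3,7,4,5,3,4,2,3,7,6,5,1,0,1,2,3,2,1,0,4,7,3,4,8,7,3,4,2,3,7,4,5,6,4,5,3,1]) (.word [0,2,3,5,6,7,3,2,8,7,3,4,2,3,7,5,1,2,0])) (.node (.word [4,7,3,4,8,1,2,3,7,8,4,3,7,1]) (.word [0,2,1,0,5,6,7,3,5,4,3,7,5,6,2,3,1,2,0]))) (.node (.node (.word [6,1,0,7,8,7,2,3,1,2,0,2,3,4,5,4,3,6,5,8,4,2,3,7,8,1,2,3,4,5,6]) (.word [3,7,8,7,3,1,0,2,1,0,3,5,4,6,2,3,7,3,4,5,1,2,0,1]))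 (.word [3,7,8,7,3,2,3,4,3,5,4,2,3,7,1,2,3,4,5,6,0,1,2]))) (.node (.node (.node (.word [3,4,3,0,7,8,7,2,3,1,2,3,2,5,4,6,5,7,3,4,2,3,7,8,2,3,7,4,1]) (.word [3,7,8,7,3,0,2,1,0,3,5,4,6,2,3,7,3,4,5,1,2,0,1])) (.word [3,2,7,3,4,6,5,4,3,7,2,3,1,0,2,4,5,6,8,7,3,8,7,2,3,4,5,1,2,3,0,1])) (.node (.word [2,1,0,3,7,8,7,2,3,4,3,2,1,5,7,3,2,4,3,7,8,2,3,7,6,5,2,3]) (.word [2,4,3,7,3,4,2,0,1,2,3,2,1,5,6,7,3,2,8,7,3,4,2,3,7,5,6,2]))))) (.node (.node (.node (.node (.word [3,4,3,0,1,2,5,6,8,7,5,3,4,1,2,3,7,8,5,6,4]) (.node (.word [1,2,1,0,3,7,8,7,2,3,2,5,4,3,2,1,7,5,6,5,3,4,2,3,0,1,2,0]) (.word [0,1,2,6,3,2,1,0,5,4,3,2,1,0,7,3,2,8,7,4,5,6,4,5,4,1,2,3,2,0]))) (.node (.node .none (.word [3,4,3,0,2,3,5,6,7,3,8,5,4,3,7,5,2,3,1,2,0])) (.word [4,7,3,8,7,8,2,3,7,4,5,6,4,5,3,1]))) (.node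 (.node (.node (.word [3,4,3,2,1,0,3,7,8,7,2,3,5,4,6,5,7,3,4,1,2,3,7,8,4,3,7,4,1]) (.word [2,3,5,4,3,2,1,8,2,3,7,8,4,5,6,4,5,3,2,1])) (.node (.word [0,2,1,3,5,7,8,7,3,4,5,6,2,3,4,5]) (.word [6,1,2,4,3,7,3,4,2,0,2,1,0,3,5,4,6,2,3,7,3,4,5,6,1,2,0,1]))) (.node (.word [2,1,0,3,7,8,7,2,3,2,5,4,6,5,7,3,4,2,3,7,8,2,3,7,4,1]) (.word [6,2,4,3,5,4,3,7,8,1,2,3,7,8,6,0,1,2,3,4,5])))) (.node (.node (.node (.node (.word [6,3,2,7,3,4,6,5,4,3,7,2,3,1,0,2,1,0,4,3,5,4,3,8,2,3,7,8,1,2,3,4,5,6,0,1]) (.word [3,4,3,0,1,2,1,0,7,3,2,4,6,5,4,3,7,8,2,3,7,1,2])) (.word [3,4,3,6,2,1,5,7,3,2,4,3,7,8,7,3,4,2,3,7,5,6,1,2])) (.word [2,1,0,3,7,8,7,2,0,1,2,4,3,5,4,3,6,8,5,2,3,4,1,2,3,7,8,6,4,2])) (.node (.node (.node (.word [3,4,3,2,1,0,3,7,8,7,2,0,2,3,4,5,4,3,6,5,8,4,2,3,7,8,1,2,3,4,5,6,1]) (.word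 [6,1,3,4,3,2,4,5,4,8,7,3,8,7,2,3,4,5,6,3,1,2,1])) (.word [3,4,3,1,0,1,5,7,3,2,4,3,7,8,4,2,3,7,5,6,2,3,1,0])) (.node (.word [0,7,8,7,2,3,1,2,3,4,3,2,1,5,6,7,3,2,5,4,3,7,8,2,3,7,5,2,3]) (.word [2,3,4,5,6,8,1,2,3,7,8,4,5,3,0,2,4,5,6,7,8,3,7,2,3,4,5,6,3,1])))))) (.node (.node (.node (.node (.node (.word [0,7,8,7,2,3,1,2,3,2,7,3,4,6,5,4,3,7,2,3,1,0,2,1,0,4,3,5,4,3,8,2,3,7,8,1,2,3,4,5,6,0]) (.node (.word [3,4,3,2,3,4,5,6,8,1,2,3,7,8,4,5,3,0,4,8,7,3,2,1,5,4,2,3,7,8,6,5,3,2,0,1,0]) (.word [1,2,1,5,7,3,2,4,3,7,8,5,4,2,3,7,6,5,2,3,1]))) (.node (.node (.word [3,4,3,1,2,1,0,3,4,3,2,3,7,8,3,7,5,6,4,5,2,3,1]) (.word [3,4,3,0,1,2,7,3,4,6,5,4,3,7,6,2,1,0])) (.word [3,7,8,7,6,3]))) (.node (.node (.node (.word [2,1,0,3,7,8,7,2,3,4,3,0,1,2,5,6,8,7,5,3,4,1,2,3,7,8,5,4,1]) (.word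 [3,2,5,4,3,2,1,7,6,5,3,4,2,3,0,1,2,0])) (.node .none (.word [1,2,4,3,7,3,4,2,0,2,1,0,3,5,4,6,2,3,7,3,4,5,6,1,2,0,1]))) (.node (.node (.word [6,1,2,3,4,5,6,8,1,2,3,7,8,4,5,3,0,2,1,5,4,3,2,7,8,4,5,3,4,2,3,7,8,5,6,1]) (.word [3,2,5,4,3,7,3,4,5,6,2,3])) .none))) (.node (.node (.node (.node (.word [0,1,2,3,2,0,1,0,2,4,3,7,3,4,2,1,3,2,5,4,6,5,7,3,4,2,3,7,8,3,7,6,4,1]) (.word [3,7,8,7,6,3,0,2,4,3,5,4,6,5,7,3,4,5,6,2,3,4,5,1,2])) (.node .none (.word [7,8,1,2,3,7,8,4,3,7,2,3,1,2,0]))) (.node (.node .none (.word [3,4,3,6,1,0,1,2,5,4,3,2,6,7,3,4,5,6,4,1,2,3,2,1])) (.word [0,1,2,3,2,1,0,2,4,5,6,7,8,3,7,2,3,4,5,6,3,1]))) (.node (.node (.word [3,4,3,0,7,8,7,2,3,1,2,4,8,7,3,7,8,4,5,6,4,5,3]) (.node (.word [6,2,1,5,7,3,2,4,3,7,8,7,3,4,2,3,7,5,6,1,2]) (.word [1,2,4,3,7,3,4,1,5,4,7,3,2,3,7,6,4,5,0,1,2,3,2,0,1])))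 (.node (.node .none (.word [2,4,5,4,8,7,3,8,7,2,3,4,5,6,3,1,2])) (.word [6,1,2,1,5,7,3,2,4,3,7,8,2,3,7,5,6,5,2,3,1]))))) (.node (.node (.node (.node (.node (.word [0,1,2,3,2,1,5,4,6,5,7,3,4,2,3,7,8,4,3,7,6,4,5,3]) (.word [3,7,8,7,6,4,3,2,1,4,5,7,3,4,2,3,7,5,6,4,5,3,2,1])) (.node (.word [0,1,2,3,1,0,4,3,5,6,8,4,5,2,3,4,1,2,3,7,8,3,1,0]) (.word [0,1,2,5,4,3,6,5,4,3,7,2,3,4,5,6,0,1,2,3]))) (.node (.node .none (.word [3,7,8,7,3,0,1,4,5,4,3,2,1,7,8,3,4,2,3,7,1,2,3,4,5,6])) .none)) (.node (.node (.node (.word [3,7,8,7,4,3,2,1,5,4,3,2,7,8,4,5,3,4,2,3,7,8,5,6]) (.word [3,4,7,8,7,6,3,1,0,2,1,0,5,4,3,7,3,4,5,6,5,2,3,1,2,0])) (.node .none (.word [1,0,7,8,7,2,3,1,2,5,4,3,2,1,0,7,3,2,8,7,4,5,6,4,5,4,1,2,3,2,0]))) (.node (.node (.word [3,4,3,0,5,7,3,2,4,3,7,8,4,2,3,7,5,6,5,1])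 (.word [0,5,4,3,2,1,7,8,4,3,7,6,5,4,2,3,1,2,1,0])) (.word [0,1,2,6,3,2,1,0,2,1,5,7,3,2,4,3,7,8,7,3,4,2,3,7,5,6,1,2])))) (.node (.node (.node (.node .none (.word [3,4,3,2,1,0,3,7,8,7,2,0,5,4,3,2,1,7,3,4,2,3,7,1,2,3,4,5,6,0,1])) (.word [2,1,5,4,3,2,7,8,4,3,7,8,4,5,4,2])) (.node (.node (.word [3,7,8,7,6,3,2,1,5,4,3,2,7,8,4,5,3,4,2,3,7,8,5,6,1]) (.word [0,1,2,4,5,6,7,8,5,4,3,7,2,3,4,5,0,1,0])) (.word [0,7,8,7,2,3,1,2,3,5,4,6,5,7,8,7,6,3,4,1,2,3,0,1,2]))) (.node (.node (.node (.word [2,3,5,4,6,5,8,4,1,2,3,7,8,3,4,5,0,1]) (.word [0,3,5,4,6,5,3,4,2,3,1,2,1])) (.word [2,4,5,6,7,8,3,7,2,3,4,5,3,1])) (.node (.word [0,1,5,7,3,2,4,8,3,7,8,4,2,3,7,5,6,1,0]) (.word [2,1,4,5,8,7,3,2,4,3,7,8,5,6,4,5,4,2,3,2]))))))) (.node (.node (.node (.node (.node (.node .none (.node (.word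 [1,2,1,5,7,3,2,4,3,7,8,7,3,4,2,3,7,5,6,1,2]) (.word [1,0,4,5,4,3,7,8,7,3,4,5,6,5,2,3,1,2,1]))) (.node (.node (.word [2,1,0,3,7,8,7,2,1,2,1,0,4,3,2,5,8,7,3,4,3,7,6,5,2,3,4,1,2,3,7,8]) (.word [2,4,3,7,3,4,2,0,3,2,7,3,4,6,5,4,3,7,6,1,2,3,0,1])) (.word [2,1,0,3,7,8,7,2,3,5,4,7,3,1,2,3,7,4,5,6,3]))) (.node (.node (.node (.word [2,3,4,5,6,8,1,2,3,7,8,4,5,3,0]) (.word [3,7,8,7,3,2,1,5,4,3,2,1,7,3,4,5,6,3,4,2,3,0,1,2,0])) (.node (.word [2,1,0,3,7,8,7,2,3,2,5,4,3,2,1,7,5,6,5,3,4,2,3,0,1,2,0]) (.word [0,4,3,7,8,2,3,7,4,3,1,2,1]))) (.node (.node (.word [0,7,8,7,2,3,1,2,4,5,4,3,7,8,1,2,3,7,2,3,4,5,6,0]) (.word [6,1,2,1,0,3,7,8,7,2,4,5,4,3,2,1,7,8,2,3,7,6,4,5,4,3,2,1])) (.word [3,7,8,7,3,1,0,2,1,0,5,4,3,7,3,4,5,6,5,2,3,1,2,0,1])))) (.node (.node (.node (.node (.word [3,5,4,6,5,7,3,4,1,2,3,7,8,4,3,7,6,4])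 (.word [6,0,2,3,5,7,3,2,4,3,7,8,6,5,4,2,3,7,6,2,1])) (.node (.word [3,7,8,7,4,3,0,2,4,5,6,8,7,3,8,7,2,3,4,5,1,2,3,0,1]) (.word [3,4,3,0,1,2,1,7,3,4,7,8,6,5,4,3,7,6,2,3,2,1]))) (.node (.node (.word [0,2,1,0,4,3,5,4,3,8,2,3,7,8,1,2,3,4,5,6,0,1]) (.word [0,2,1,0,3,5,4,6,7,8,3,7,4,5,3,2])) (.word [3,4,7,8,7,3,1,0,2,1,0,5,4,3,7,3,4,5,6,5,2,3,1,2,0,1]))) (.node (.node (.node (.word [6,1,0,1,2,5,6,8,7,3,4,1,2,3,7,8,5,6,4,0,5,7,3,2,4,3,7,8,4,2,3,7,5,6,5,1]) (.word [0,2,3,5,7,3,2,4,3,7,8,6,5,4,2,3,7,6,2,1])) (.node .none (.word [6,2,5,4,3,2,1,0,7,8,5,4,2,3,7,8,4,5,4,3,2,1]))) (.node (.node (.word [7,3,2,4,8,3,7,8,4,2,3,7,6,1]) (.word [3,4,3,1,0,2,3,5,7,3,2,4,3,7,8,6,5,4,2,3,7,6,2,1])) (.word [2,5,4,3,2,1,0,7,8,7,3,4,2,3,7,8,1,2,3,4,5,2]))))) (.node (.node (.node (.node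 (.node (.word [0,1,2,3,2,1,0,2,4,3,7,3,4,2,1,2,3,4,5,4,3,2,8,7,3,4,1,2,3,7,8,3,4,5,6,3,4,2]) (.word [6,1,2,3,5,4,3,2,1,8,2,3,7,8,5,6,4,5,3,2,1])) (.node .none (.word [0,1,2,3,2,1,0,2,1,5,4,7,3,2,8,7,4,5,6,5,3,1,2,1,0]))) (.node (.node (.word [0,7,8,7,2,3,1,2,3,2,5,4,6,5,7,3,4,2,3,7,8,3,7,4,1]) (.word [6,2,1,5,7,3,2,4,3,7,8,5,4,2,3,7,6,5,2,3,1])) (.word [2,1,5,7,3,2,4,3,7,8,2,3,7,5,6,5,2,3]))) (.node (.word [6,2,3,2,4,5,6,8,1,2,3,7,8,4,5,6,2,3,1,4,5,4,7,3,2,4,3,7,8,4,3,7,3,4,5,6,1]) (.node .none (.word [3,7,8,7,4,3,0,1,2,1,0,7,3,2,4,6,5,4,3,7,8,2,3,7,6,1,2])))) (.node (.node (.node (.node (.word [2,4,3,7,3,4,2,1,3,4,3,0,1,5,7,3,2,4,8,3,7,8,4,2,3,7,5,6,1,0]) (.word [6,1,3,4,3,2,4,5,4,8,7,3,8,7,2,3,4,5,3,1,2,1])) (.node .none (.word [2,1,0,3,7,8,7,2,0,1,2,5,4,3,2,6,7,3,4,5,6,4,0,1,2,3,2,1])))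 (.node (.node (.word [1,2,4,3,7,3,4,2,0,2,1,3,5,6,7,2,3,7,8,4,3,7,5,6,1,2]) (.word [2,1,0,3,7,8,7,2,4,5,4,3,2,1,7,8,2,3,7,6,4,5,4,3,2,1])) (.word [3,4,3,2,1,5,6,7,3,2,5,4,3,7,8,2,3,7,5,2,3,1]))) (.node (.node (.node (.word [3,2,7,3,4,6,5,4,3,7,2,3,1,0,1,2,4,5,6,7,3,2,8,4,3,7,8,2,3,7,4,5,6,3,1,0]) (.word [3,4,3,0,2,1,0,5,4,3,7,3,4,5,6,5,2,3,1,2,0,1])) (.word [3,5,4,6,5,7,8,7,3,4,1,2,3,0,1,2])) (.node (.node (.word [3,7,8,7,3,2,4,3,7,3,4,2,0,1,2,4,3,5,4,3,6,8,5,2,3,4,1,2,3,7,8,6,4,2]) (.word [0,1,2,6,3,2,1,5,6,7,3,2,8,7,3,4,2,3,7,5,2,1])) (.word [0,1,2,6,3,2,1,7,8,7,2,3,5,4,3,2,1,7,3,7,4,5,6,3,4,2,3,0,1,2,0])))))) (.node (.node (.node (.node (.node (.node .none (.word [3,2,5,4,3,2,1,7,5,6,5,3,4,2,3,0,1,2,0])) (.node (.word [7,3,4,8,1,2,3,7,8,3,4,2,3,7,6,1]) (.word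 [4,5,4,7,3,8,1,2,3,7,3,4,5,6,2,3,1,2]))) (.node (.node (.word [0,1,2,6,3,1,4,5,4,3,6,5,7,4,5,2,3,4,1,2,3,7,8,7]) (.word [0,7,8,7,2,3,1,2,0,1,2,5,4,3,2,6,7,3,4,5,6,4,1,2,3,2,1])) (.word [3,4,3,2,3,4,5,4,7,8,3,7,6,1,2,3,4,5,4]))) (.node (.node (.node (.word [2,1,0,3,7,8,7,2,3,7,8,7,6,3,1,2,3,4,5,4,3,2,8,7,3,4,1,2,3,7,8,3,4,5,6,3,4,2]) (.word [3,4,3,1,0,2,1,0,5,4,3,7,3,4,5,6,5,2,3,1,2,0,1])) (.node (.word [6,1,2,4,3,7,3,4,2,0,1,2,4,3,5,4,3,6,8,5,2,3,4,1,2,3,7,8,6,4,2]) (.word [4,5,4,6,5,4,1,2,3,7,2,3,4,5,2,0,1]))) (.node (.node .none (.word [6,0,7,8,7,2,3,1,3,4,3,5,4,2,3,7,1,2,3,4,5,6,0,1,2])) (.word [3,7,8,7,3,2,4,3,7,5,4,3,7,8,1,2,3,7,8,6,0,1,2,3,4,5])))) (.node (.node (.node (.node (.word [2,1,0,3,7,8,7,2,3,2,7,3,4,6,5,4,3,7,2,3,1,3,2,7,3,2,4,3,7,8,5,3,4,2,3,7,6,2,3,1])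 (.word [6,1,0,2,3,5,7,3,2,4,3,7,8,6,5,4,2,3,7,2,1])) (.node (.word [4,8,7,3,2,1,5,4,3,7,8,6,5,3,2,0,1,0]) (.word [0,2,1,0,3,5,4,6,2,3,7,3,4,5,6,2,3,1,2,1,0]))) (.node (.node .none (.word [5,4,3,2,1,7,3,2,4,3,7,5,6,4,5,4,3,1,2,1,0])) (.word [0,1,4,5,4,3,7,8,4,3,7,8,2,3,7,4,5,6,5,1,0]))) (.node (.node (.node .none (.word [2,1,0,3,7,8,7,2,6,1,0,3,2,5,4,3,7,3,4,5,6,1,2,3,0,1])) (.word [0,1,2,3,2,1,0,2,1,5,4,3,2,7,8,4,3,7,8,4,5,4,2,1])) (.node (.node (.word [0,1,3,5,4,3,7,8,7,5,6,5,4,2,3,2,1,0,5,6,7,3,4,8,7,3,4,1,2,3,7,4,5,6,0]) (.word [0,2,1,0,5,4,3,7,6,3,4,5,2,3,1,2,0,1])) (.word [6,3,4,3,2,4,5,4,8,7,3,8,7,2,3,4,5,6,3,1,2]))))) (.node (.node (.node (.node (.node (.word [2,4,3,7,3,4,2,1,0,4,5,4,3,7,8,7,3,4,5,6,5,2,3,1,2,0,5,4,6,5,7,3,4,2,3,7,8,4,3,7,6,4,5,3]) (.word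 [2,1,0,3,7,8,7,2,1])) (.node (.word [2,1,0,3,7,8,7,2,3,4,3,2,1,5,4,3,2,7,8,4,5,3,4,2,3,7,8,5,6]) (.word [0,5,4,3,2,1,7,3,4,2,3,7,1,2,3,4,5,6,0,1]))) (.node (.word [6,3,2,7,3,4,6,5,4,3,7,2,3,1,2,1,0,3,4,7,8,3,7,4,2,1]) (.word [2,3,4,5,6,8,1,2,3,7,8,4,5,3,0,2,1,0,3,4,3,2,7,3,4,5,6,4,5,2,3,1]))) (.node (.node (.node (.word [0,1,5,4,6,5,7,3,4,2,3,7,8,4,3,7,4,5,6,0,1,0]) (.word [6,1,0,2,1,0,3,5,4,6,2,3,7,3,4,5,6,1,2,0,1])) (.node (.word [2,1,0,7,3,2,4,3,7,8,2,3,7,6,2,1]) (.word [0,2,4,5,4,6,5,4,3,7,2,3,4,5,2,1]))) (.node (.node (.word [0,2,1,0,4,3,5,4,3,8,2,3,7,8,1,2,3,4,5,0,1]) (.word [2,1,5,6,7,8,2,3,7,8,4,3,7,5,0,1,2,1])) (.word [6,1,0,2,5,4,3,2,1,7,8,6,5,4,3,7,8,6,4,5,2,0,1])))) (.node (.node (.node .none (.node (.word [3,7,8,7,3,2,3,5,4,3,2,1,8,2,3,7,8,5,6,4,5,3,2,1])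 (.word [6,1,0,2,1,0,5,4,3,7,3,4,5,6,5,2,3,1,2,0]))) (.node (.node (.word [2,1,0,3,7,8,7,2,3,2,5,4,6,5,7,3,4,2,3,7,8,3,7,4,1]) (.word [0,1,2,1,0,5,4,6,5,7,8,7,3,4,5,6,2,3,4,1,2])) .none)) (.node (.node (.node (.word [2,3,5,4,6,5,8,1,2,3,7,8,3,4,5,6,0,1]) (.word [2,4,3,7,3,4,2,5,4,3,2,1,0,8,6,5,4,3,7,8,5,6,3,2,1])) (.word [1,3,2,7,3,2,4,3,7,8,5,3,4,2,3,7,6,2,3,1])) (.node (.node (.word [3,7,8,7,3,2,1,0,4,3,2,5,4,8,5,3,4,1,2,3,7,8,6,5,1,0]) (.word [0,1,2,5,4,3,7,3,4,5,6,3,2,1,0])) (.word [2,1,4,5,8,7,3,2,4,3,7,8,5,6,4,5,4,2,3,2,1]))))))))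

/-- A subtree. -/
def sub137 : WTree :=
  (.node (.node (.node (.node (.node (.node (.node (.node .none (.word [3,4,3,2,4,5,4,8,7,3,8,7,2,3,4,5,6,3,1,2,1])) (.node .none (.word [6,3,4,3,5,4,3,2,1,7,3,2,7,4,5,6,4,5,4,3,1,2,1,0]))) (.node (.node .none (.word [1,2,4,5,4,8,7,3,8,7,2,3,4,5,6,3,1,2,1])) (.word [0,7,8,7,2,3,1,2,0,4,5,4,3,7,8,4,2,3,7,2,3,4,5,6]))) (.node (.node (.node .none (.word [3,7,8,7,3,2,1,5,7,3,2,4,3,7,8,7,3,4,2,3,7,5,6,1,2])) (.node (.word [2,1,0,3,7,8,7,2,3,4,3,0,2,5,6,7,3,2,5,4,3,7,8,2,3,7,5,6,1]) (.word [0,1,4,5,3,4,2,3,7,3,4,5,4,2,1,0]))) (.node (.node (.word [0,1,3,5,4,3,7,8,7,5,6,5,4,2,3,2,1,0,5,4,6,7,8,1,2,3,7,4,5,6,2,0]) (.word [0,1,2,3,2,1,2,3,5,4,7,3,8,7,4,5,6,5,2,3,1,2,0,1])) (.word [2,1,5,7,3,2,4,3,7,8,4,2,3,7,5,6,5,2,3])))) (.node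 (.node (.node (.node .none (.word [0,2,1,3,5,7,8,7,2,3,4,5,6,2,3,4,5,1])) (.word [1,2,4,3,7,3,4,2,0,1,2,4,3,5,4,3,6,8,5,2,3,4,1,2,3,7,8,6,4,2])) (.node (.node .none (.word [5,6,7,3,4,8,7,3,4,1,2,3,7,4,5,6,0])) (.word [1,0,3,5,6,7,3,2,4,3,7,8,7,3,4,2,3,7,5,6,1]))) (.node (.node (.node (.word [1,3,2,7,3,4,6,5,4,3,7,2,3,1,2,1,0,3,4,7,8,3,7,4,2,1]) (.word [2,4,3,7,3,4,2,1,3,2,5,4,3,7,3,4,5,6,2,3])) (.node (.word [3,4,3,0,1,2,5,7,3,8,7,8,4,3,7,5,6,0,1,2,3]) (.word [3,7,8,7,6,3,1,2,4,3,7,3,4,2,1,0,3,5,4,6,5,6,3,4,2,3,1,2]))) (.node (.node (.word [4,7,3,4,8,1,2,3,7,8,4,3,7,6]) (.word [3,7,8,7,3,0,2,1,0,5,7,3,2,4,3,7,8,4,2,3,7,5,6,1,2,1])) (.word [1,0,3,2,5,4,6,5,7,8,3,7,6,2,3,4,2,3,1,2,1]))))) (.node (.node (.node (.node (.node (.word [2,4,5,4,8,7,3,8,7,2,3,4,5,3,1,2,1,3,4,3,0,1,2,5,6,8,7,5,3,4,1,2,3,7,8,5,6,4])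 (.word [0,1,2,3,2,0,1,0,6,2,1,5,7,3,2,4,3,7,8,7,3,4,2,3,7,5,6,1,2])) (.node (.word [2,1,0,3,7,8,7,2,6,3,2,5,4,3,2,1,7,5,6,5,3,4,2,3,0,1,2,0]) (.word [0,7,8,7,2,3,1,2,1]))) (.node (.node .none (.word [3,7,8,7,3,0,1,2,3,2,1,0,5,4,3,2,1,0,7,3,2,8,7,4,5,6,4,5,4,1,2,3,2,0])) (.word [2,1,4,5,7,8,3,4,2,3,7,4,5,6,4,5,1,2,0]))) (.node (.node (.node .none (.word [3,2,5,6,7,3,2,8,7,3,4,2,3,7,5,1,2])) .none) (.node (.node .none (.word [2,4,3,7,3,4,2,0,4,5,4,3,7,8,7,3,4,5,6,5,2,3,1,2,1])) (.word [2,4,3,7,3,4,3,4,5,6,8,1,2,3,7,8,4,5,3,2,1,0,3,5,4,3,2,3,7,1,2,3,4,5,6,4,3,2])))) (.node (.node (.node (.node (.word [6,1,0,2,5,4,3,2,1,7,8,6,5,4,3,7,8,4,5,6,5,2,0,3,5,4,3,7,8,7,5,6,5,4]) (.word [2,4,3,7,3,4,1,5,6,7,8,2,3,7,8,4,3,7,5,0,1,2,1])) (.word [3,7,8,7,6,3,0,2,1,3,7,3,2,4,3,7,8,4,2,3,7,3,2,1]))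 (.node (.node (.word [3,4,3,5,4,6,7,3,4,1,2,3,7,8,4,3,7,5,6,0,1]) (.word [3,4,3,2,1,0,3,7,8,7,2,0,1,5,4,3,2,1,8,6,5,4,3,7,8,5,6,2,3])) .none)) (.node (.node (.node .none (.word [3,4,3,0,1,2,3,2,0,1,2,5,4,7,8,3,7,6,4,5,2,1])) .none) (.node (.node (.word [0,1,2,3,2,1,0,2,1,5,4,3,2,7,8,4,5,3,4,2,3,7,8,5,6]) (.word [1,5,4,3,2,1,7,3,2,7,4,5,6,4,5,4,3,1,2,0,1,0])) (.word [0,1,2,3,2,1,5,6,7,3,2,8,7,3,4,2,3,7,5,6,2,1])))))) (.node (.node (.node (.node (.node (.node (.word [2,1,0,3,7,8,7,2,3,2,7,3,4,6,5,4,3,7,2,3,1,0,2,1,0,4,3,5,4,3,8,2,3,7,8,1,2,3,4,5,6,0]) (.word [0,2,4,5,4,6,5,4,3,7,2,3,4,5,6,2])) (.node (.word [0,1,2,6,3,2,1,5,4,3,7,3,2,4,8,7,3,4,2,3,7,5,4,1]) (.word [2,3,5,4,6,5,8,7,8,1,2,3,4,5,6,2,3,1,2]))) (.node (.node (.word [2,1,0,3,7,8,7,1,4,5,4,3,2,8,7,3,4,3,7,8,0,1,2,3,4,5,1,2,1])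 (.word [2,4,3,7,3,4,2,1,0,2,3,2,5,4,6,7,8,1,2,3,7,4,5,6,2,3,1,2,0])) (.word [0,3,2,5,4,7,8,3,7,4,5,1,2,3,0,1]))) (.node (.node (.node (.word [0,1,2,3,2,1,5,4,6,5,7,3,4,2,3,7,8,4,3,7,6,4,5,3,1]) (.word [0,1,2,3,2,0,1,3,5,6,7,3,2,4,3,7,8,7,3,4,2,3,7,5,6,1])) (.node (.word [0,1,2,3,2,1,2,1,3,4,3,7,6,3,4,2,3,1,2,0,1,0,2,5,4,7,8,3,7,4,5,6,5,2,1]) (.word [3,2,5,4,3,7,3,4,5,6,2,3,1]))) (.node (.word [3,4,3,2,4,3,7,3,4,2,0,5,6,7,3,2,1,4,5,3,4,2,3,7,8,5,4,1,2,3,7]) (.word [3,4,7,8,7,6,3,1,2,1,5,7,3,2,4,3,7,8,7,3,4,2,3,7,5,6,1,2])))) (.node (.node (.node (.node .none (.word [0,1,2,1,7,3,2,4,7,5,3,4,2,3,7,6,1,2,0,1,0])) (.node (.word [3,5,4,3,7,8,7,6,5,4,1]) (.word [0,1,2,3,2,5,7,3,2,1,4,8,3,7,2,3,4,1,2,3,7,5,6,5]))) (.node (.node (.word [0,1,2,3,2,1,0,4,5,6,7,3,7,8,2,3,7,3,4,5,3,1])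 (.word [2,1,5,6,7,3,5,4,3,7,5,6,3,2,1])) (.word [4,7,3,4,8,7,3,4,2,3,7,5,6,4,5,3,1]))) (.node (.node (.node (.word [0,1,2,5,6,8,7,3,4,1,2,3,7,8,5,6,4,0,5,7,3,2,4,3,7,8,4,2,3,7,5,6,5,1]) (.word [3,7,8,7,4,3,0,2,1,0,5,4,3,7,3,4,5,6,5,2,3,1,2,0])) (.node (.word [6,0,1,4,5,4,3,2,1,8,7,3,4,5,2,3,4,1,2,3,7,8]) (.word [6,1,0,7,8,7,2,3,1,2,5,4,3,2,1,0,7,3,2,8,7,4,5,6,4,5,4,1,2,3,2,0]))) (.node (.node (.word [0,1,2,6,3,2,4,5,4,3,2,1,8,7,3,4,2,3,7,8,5,6,4,1,2]) (.word [6,1,2,1,5,4,3,2,1,7,3,4,5,6,3,4,2,3,0,1,2,0])) (.word [2,1,0,3,4,5,2,3,4,5,6,5,3]))))) (.node (.node (.node (.node (.node (.word [3,7,8,7,3,2,3,4,5,6,8,1,2,3,7,8,4,5,3,0,2,1,5,4,3,2,7,3,7,4,5,3,4,2,3,7,8,7]) (.word [0,2,5,4,3,2,7,3,4,5,6,4,5,4,2])) (.node (.word [3,2,7,3,4,6,5,4,3,7,2,3,1,2,1,0,3,4,7,8,3,7,6,4,2,1])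 (.word [1,2,1,0,3,7,8,7,2,0,1,2,5,4,3,2,6,7,3,4,5,6,4,0,1,2,3,2,1]))) (.node (.node (.word [0,1,3,5,4,3,7,8,7,5,6,5,4,0,1,5,7,3,2,4,3,7,8,4,2,3,7,5,6,5,1]) (.word [3,4,7,8,7,3,1,0,2,1,0,5,4,3,7,3,4,5,6,5,2,3,1,2,0])) (.word [3,4,3,0,2,1,0,5,7,3,2,4,3,7,8,2,3,7,5,6,5,3,2,1]))) (.node (.node (.node (.word [3,7,8,7,3,1,2,3,4,5,4,3,2,8,7,3,4,1,2,3,7,8,3,4,5,6,3,4,2]) (.word [0,7,8,7,2,3,1,2,0,1,2,5,4,3,6,5,4,3,7,2,3,4,5,6,1,2,3,1])) (.node (.word [0,2,1,3,5,6,7,2,3,7,8,4,3,7,5,6,1,2,1]) (.word [2,3,2,4,5,4,3,7,6,1,2,3,4,5,2,1,0]))) (.node (.node .none (.word [2,1,0,3,4,7,8,3,7,6,4,2,1])) (.word [4,8,7,3,2,1,5,4,2,3,7,8,5,6,5,3,2,1,0])))) (.node (.node (.node (.node (.word [2,4,5,4,8,7,3,8,7,2,3,4,5,3,1,2,1,3,4,3,5,4,6,7,3,4,1,2,3,7,8,4,3,7,5,6,0,1]) (.word [3,2,7,3,4,6,5,4,3,7,2,3,1,0,2,5,6,7,8,5,4,3,7,4,5,6,2,1]))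 (.node (.word [0,7,8,7,2,3,1,2,3,5,4,6,5,3,4,1,2,3,0,1,2]) (.word [4,5,4,3,2,1,7,8,2,3,7,4,5,6,5,4,3,2]))) (.node (.node (.word [2,4,3,5,4,8,7,3,2,4,3,7,8,1,2,3,4,5,4,2,3,2]) (.word [3,4,2,5,6,7,3,2,8,7,3,4,2,3,7,5,1,2,1])) (.word [0,1,2,3,2,1,4,5,4,3,7,8,7,3,4,5,6,5,2,3,1,2,1]))) (.node (.node (.node (.word [3,2,7,3,4,6,5,4,3,7,2,3,1,4,8,7,3,2,1,5,4,3,7,8,6,5,3,2,0,1,0]) (.word [1,0,2,3,5,7,3,2,4,3,7,8,4,2,3,7,5,6,3,1,2])) (.word [0,1,2,1,0,5,4,6,5,7,8,7,3,4,5,2,3,4,1,2,1])) (.node (.node (.word [3,7,8,7,3,1,0,4,5,4,7,3,2,4,3,7,8,4,3,7,3,4,5,6]) (.word [1,2,1,4,5,7,3,4,2,3,7,5,6,4,5,3,2,1])) (.word [3,7,3,2,4,8,7,3,4,2,3,7,1]))))))) (.node (.node (.node (.node (.node (.node (.word [2,4,3,7,3,4,2,0,1,2,3,2,1,5,4,6,5,7,3,4,2,3,7,8,4,3,7,6,4,5,3]) (.node .none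 (.word [0,2,1,3,4,7,2,3,7,4,3,1,2,0,1]))) (.node (.node (.word [2,4,3,7,3,4,2,0,1,2,5,6,8,7,5,3,4,1,2,3,7,8,5,6,4,1]) (.word [3,4,3,0,1,2,5,7,3,2,8,7,3,4,2,3,7,5,6,1,2,3,1])) (.word [3,7,8,7,3,1,0,2,1,3,4,5,6,7,2,3,7,0,1,2,3,4,5,6,3,1]))) (.node (.node (.node (.word [2,1,5,7,3,2,4,3,7,8,2,3,7,5,6,5,2,3,0,1,2,5,7,3,8,7,8,4,3,7,5,6,0,1,2,3]) (.word [3,7,8,7,4,3,0,1,2,7,3,4,8,6,5,4,3,7,6,1,2,3,2,1])) (.node (.word [6,2,3,4,5,6,8,1,2,3,7,8,4,5,3,0,2,1,5,4,3,7,3,4,5,6,5,3,2,1]) (.word [0,2,4,5,4,3,7,6,2,3,4,5,4,2,1]))) (.node (.node (.word [3,7,8,7,6,3,0,2,5,4,3,2,1,7,8,6,5,4,3,7,8,4,5,6,4,3,2,7,3,4,5,6,4,5,4,2]) (.word [2,1,4,5,7,3,4,2,3,7,5,6,4,5,3,2,1])) .none))) (.node (.node (.node (.word [0,1,3,5,4,3,7,8,7,5,6,5,4,2,3,2,1,0,2,1,5,4,3,2,7,8,4,5,3,4,2,3,7,8,5,6,1])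 (.node (.word [3,4,3,0,2,1,0,5,7,3,2,4,3,7,8,4,2,3,7,5,6,1,2]) (.word [0,1,2,7,3,4,6,5,4,3,7,2,0,1,0]))) (.node (.node (.word [1,2,4,3,5,8,7,3,2,1,4,3,7,8,7,6,3,4,5,3,2,1,0,5,4,3,2,1,0,8,6,5,4,3,7,8,5,6,3,2]) (.word [0,1,4,5,3,4,2,3,7,3,4,5,6,4,2,1,0])) .none)) (.node (.node (.node (.word [0,1,3,5,4,3,7,8,7,5,6,5,4,2,3,2,1,0,2,1,0,7,3,2,4,3,7,8,2,3,7,2]) (.word [1,0,2,1,3,4,5,6,7,2,3,7,0,1,2,3,4,5,6,3,1])) (.node .none (.word [6,5,4,3,2,1,0,7,3,2,8,7,4,5,6,4,5,4,1,2,3,2,0]))) (.node (.node (.word [3,7,8,7,6,3,1,2,1,5,4,3,2,7,8,4,5,3,4,2,3,7,8,5,6,1]) (.word [1,0,7,8,7,2,3,1,2,4,5,4,3,6,7,1,2,3,7,4,5,4,2,0,1])) (.word [0,7,8,7,2,3,1,2,6,1,5,4,3,2,1,7,3,8,7,5,6,4,5,4,3,2,1]))))) (.node (.node (.node (.node .none (.node .none (.word [5,4,3,2,1,7,3,8,7,4,5,6,4,5,4,3,2,1])))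 (.node (.node (.word [3,4,3,2,3,4,5,6,8,1,2,3,7,8,4,5,3,5,4,6,5,7,3,4,2,3,7,8,4,3,7,6,4,5,3,1]) (.word [3,7,8,7,6,3,2,1,4,5,7,3,4,2,3,7,5,6,4,5,3,2,1])) (.word [0,1,2,5,6,8,7,3,4,1,2,3,7,8,5,6,4,0,1,2,3,2,1,0]))) (.node (.node (.node (.word [0,7,8,7,2,3,1,2,4,8,7,3,2,1,5,4,2,3,7,8,6,5,2,0,1,0]) (.word [3,7,8,7,3,0,2,1,0,5,7,3,2,4,3,7,8,4,2,3,7,5,6,1,2])) (.node (.word [6,0,2,1,0,5,7,3,2,4,3,7,8,5,4,2,3,7,5,1,2,1]) (.word [3,7,8,7,6,3,1,4,5,4,3,2,1,7,8,4,3,7,6,4,5,4,3,2,1]))) (.node (.node (.word [0,1,2,3,2,1,0,4,8,7,3,2,1,5,4,3,7,8,5,6,5,2,1,0]) (.word [3,7,8,7,3,1,0,2,1,0,3,5,4,6,7,8,2,3,7,4,5,3,2,1])) (.word [6,1,0,2,1,0,5,7,3,2,4,3,7,8,2,3,7,5,6,5,3,2,1])))) (.node (.node (.node (.node (.word [3,2,5,4,6,5,7,3,4,2,3,7,8,3,7,4,1,2,3,4,5,6,8,1,2,3,7,8,4,5,3,0])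 (.word [3,4,3,2,1,5,4,3,7,3,4,5,6,5,3,2])) (.node (.word [2,1,0,3,7,8,7,2,1,2,1,5,4,3,2,7,8,4,5,3,4,2,3,7,8,5,6,1]) (.word [0,1,2,7,3,4,6,5,4,3,7,6,3,2,0,1,0]))) (.node (.node (.word [3,4,3,0,7,8,7,2,3,1,2,4,7,3,8,7,1,2,3,7,4,5,6,4,5,3]) (.word [3,4,3,6,2,1,5,4,3,2,7,8,4,3,7,8,4,5,4,2,1])) (.word [2,1,0,3,7,8,7,2,5,4,3,6,5,4,2,3,7,8,7,5,6,2,3,1,2,0]))) (.node (.node (.node (.word [3,4,3,2,4,3,7,3,4,2,0,1,2,5,7,3,2,8,7,8,3,4,2,3,7,5,6,1,2,3]) (.word [5,4,6,7,8,1,2,3,7,4,5,6,2,0,1])) (.word [2,3,2,4,5,6,8,1,2,3,7,8,4,5,6,2,3,1,0,2,1,5,4,6,7,2,3,7,4,5,6,3,2,1])) (.node (.node (.word [1,2,4,3,7,3,4,2,0,1,2,5,7,3,2,8,7,8,3,4,2,3,7,5,6,1,2,3]) (.word [2,4,3,7,3,4,2,1,0,1,2,1,0,5,4,3,2,7,3,4,5,6,1,2,3,4,5,1,2])) (.word [1,2,1,5,7,3,2,8,7,3,4,2,3,7,5,6,0,1,2,1,0]))))))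 (.node (.node (.node (.node (.node (.node (.word [2,1,0,3,7,8,7,4,3,7,3,4,2,1,3,2,5,4,6,5,7,3,4,2,3,7,8,3,7,6,4]) (.word [3,4,3,1,0,1,4,5,4,3,2,1,7,8,3,4,2,3,7,1,2,3,4,5,6])) (.node (.word [3,7,8,7,3,1,2,4,3,7,3,4,2,0,2,1,3,5,6,7,2,3,7,8,4,3,7,5,6,1,2,1]) (.word [0,1,2,3,2,0,1,0]))) (.node (.node (.word [0,2,5,4,3,2,1,7,8,6,5,4,3,7,8,4,5,6,5,2,0]) (.word [3,5,4,7,3,1,2,3,7,4,5,6,3])) .none)) (.node (.node (.node (.word [3,4,3,0,7,8,7,2,3,1,2,3,2,5,4,6,5,7,3,4,2,3,7,8,3,7,4,1]) (.word [4,5,4,3,7,8,7,6,3,4,5,1,2,3,0,1,2,1])) (.node (.word [0,1,2,3,2,1,0,2,4,3,7,3,4,2,3,2,5,6,7,3,2,8,7,3,4,2,3,7,5,6,1,2,1]) (.word [3,4,3,2,1,5,6,7,3,5,4,3,7,5,3,2,1]))) (.node (.node (.word [0,7,8,7,2,3,1,2,4,8,7,3,2,1,5,4,3,7,8,5,6,5,2,1,0]) (.word [3,4,3,1,2,1,5,7,3,2,4,3,7,8,5,4,2,3,7,6,5,2,3,1]))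 (.word [1,0,7,8,7,2,3,1,2,4,7,3,8,7,1,2,3,7,4,5,6,4,5,3,1])))) (.node (.node (.node (.node (.word [2,1,0,3,4,3,2,7,3,4,5,6,4,5,2,3,1,2,1,0,3,7,8,7,2,1]) (.word [1])) (.node (.word [2,4,5,6,7,8,3,7,2,3,4,5,6,3]) (.word [3,7,8,7,6,3,5,4,3,2,1,7,3,8,7,5,6,4,5,4,3,2,1]))) (.node (.node (.word [2,4,3,7,3,4,2,1,4,8,7,3,2,1,5,4,3,7,8,5,6,5,2,0,1,0]) (.word [6,2,4,5,4,8,7,3,8,7,2,3,4,5,6,3,1,2])) (.word [1,0,1,5,7,3,2,4,3,7,8,4,2,3,7,5,6,2,3,1,0]))) (.node (.node (.node (.word [2,1,5,4,3,2,7,3,7,4,5,3,4,2,3,7,8,7,6]) (.word [3,4,3,2,1,4,5,7,3,4,2,3,7,5,6,4,5,3,2,1])) (.node .none (.word [0,2,1,0,3,5,4,3,2,3,7,1,2,3,4,5,4,3,2,1]))) (.node (.node .none (.word [0,2,3,5,4,7,3,8,7,4,5,6,5,2,3,1,2,0,1])) .none)))) (.node (.node (.node (.node (.node (.word [2,3,5,4,6,5,8,4,1,2,3,7,8,3,4,5,6,0])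 (.word [3,4,7,8,7,6,3,0,1,4,5,4,3,2,1,7,8,3,4,2,3,7,1,2,3,4,5,6])) (.word [0,1,2,1,5,4,3,6,5,8,4,2,3,7,8,5,6,5,4,1,2,1])) (.node (.node (.word [1,2,4,3,5,8,7,3,2,1,4,3,7,8,7,6,3,4,5,3,2,1,4,5,4,7,3,2,4,3,7,8,4,3,7,3,4,5,6]) (.word [2,1,0,3,7,8,7,2,3,4,3,0,1,2,1,7,3,4,7,8,6,5,4,3,7,6,2,3,2,1])) (.word [0,1,2,5,6,8,7,3,4,1,2,3,7,8,5,6,4,0,1,2,1,7,3,4,7,8,6,5,4,3,7,6,2,3,2,1]))) (.node (.node (.node (.word [3,7,8,7,6,3,2,3,4,5,4,3,2,8,7,3,4,1,2,3,7,8,3,4,5,6,3,4,2]) (.word [0,1,2,3,2,1,0,3,7,8,7,6,3,2,1,5,4,7,3,2,8,7,4,5,6,5,3,1,2,1,0])) (.word [6,1,2,4,3,7,3,4,2,1,0,3,5,4,6,5,7,8,7,3,4,2,3,1,2])) (.node (.word [2,1,5,7,3,2,4,3,7,8,2,3,7,5,6,5,1,5,4,7,2,3,7,4,5,6,0,1,2,3]) (.word [2,3,2,4,5,7,3,8,4,2,3,7,5,6,4,1,2,0,1,0])))) (.node (.node (.node (.node (.word [3,4,3,0,1,2,5,4,7,8,3,7,4,5,6,0,1,2,3,2,4,7,3,8,7,1,2,3,7,4,5,6,4,5,3])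 (.word [1,0,7,8,7,2,3,1,2,5,4,3,2,1,7,3,8,7,5,6,4,5,4,3,2,1])) (.word [3,4,3,0,1,2,5,6,8,7,3,4,1,2,3,7,8,5,4,1])) (.node (.node (.word [2,1,0,4,3,2,5,4,8,3,7,8,4,5,6,4,5,1,2,0,1,0]) (.word [2,1,0,3,7,8,7,2,6,1,0,2,4,3,5,4,6,5,7,2,3,4,5,6,2,3,4,5,1,2])) (.word [4,7,3,8,7,8,1,2,3,7,4,5,6,4,5,3,1]))) (.node (.node (.node (.word [6,1,3,2,7,3,4,6,5,4,3,7,2,3,1,2,1,0,3,4,7,8,3,7,4,2,1]) (.word [0,7,8,7,2,3,1,2,0,1,2,5,4,3,2,6,7,3,4,5,6,4,0,1,2,3,2,1])) (.word [0,1,2,3,2,0,1,0,2,4,5,6,7,8,3,7,2,3,4,5,6,3,1])) (.node (.word [2,4,3,7,3,4,2,1,0,2,3,5,7,3,2,4,3,7,8,6,5,4,2,3,7,2,1]) (.word [3,7,8,7,3,2,4,3,7,3,4,3,5,4,3,2,1,8,2,3,7,8,5,6,4,5,3,2,1]))))))))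

/-- A subtree. -/
def sub138 : WTree :=
  (.node (.node (.node (.node (.node (.node (.node (.node (.word [2,4,3,7,3,4,2,6,1,2,3,4,5,4,3,2,8,7,3,4,1,2,3,7,8,3,4,5,6,3,4,2]) (.word [0,3,5,4,6,5,7,8,7,6,3,4,2,3,1,2,1])) (.word [3,4,3,0,1,2,5,6,8,7,3,4,1,2,3,7,8,5,4])) (.node (.node (.word [3,7,8,7,3,0,1,2,3,2,1,0,2,1,5,4,3,2,7,8,4,5,3,4,2,3,7,8,5,6]) (.word [0,1,4,5,4,3,2,1,7,8,3,4,2,3,7,1,2,3,4,5,6])) .none)) (.node (.node (.node (.word [0,7,8,7,2,3,1,2,4,7,3,8,7,8,2,3,7,4,5,6,4,5,3]) (.word [3,2,7,3,4,6,5,4,3,7,2,3,1,7,8,7,6,1,2,3,0,1,2,1])) (.node (.word [3,7,8,7,3,2,1,4,3,2,5,4,8,7,3,7,8,6,4,5,2,3,4,3,1,2,0]) (.word [2,3,4,7,8,3,7,4,2,3,1,2,1,0]))) (.node (.node (.word [6,1,2,1,0,3,7,8,7,1,0,4,3,2,5,8,7,3,4,3,7,6,5,2,3,4,1,2,3,7,8]) (.word [1,2,1,0,3,7,8,7,2,0,5,4,3,2,1,7,3,4,2,3,7,1,2,3,4,5,6,0,1]))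 (.word [3,4,3,1,2,1,4,5,8,7,3,2,4,3,7,8,5,6,4,5,4,2,3,2,1])))) (.node (.node (.node (.node (.word [2,1,0,3,7,8,7,2,3,4,3,0,1,2,5,6,8,7,3,4,1,2,3,7,8,5,6,4]) (.word [0,1,4,5,4,3,2,1,7,4,3,7,5,6,4,5,4,2,3,2,1])) (.node (.word [3,2,1,5,4,7,8,2,3,7,4,5,6,0,1,2,3]) (.word [3,7,8,7,6,3,0,2,4,5,4,3,7,6,2,3,4,5,4,2,1]))) (.node (.node (.word [2,4,3,7,3,4,2,0,1,2,5,6,8,7,3,4,1,2,3,7,8,5,6,4,1]) (.word [3,4,7,8,7,3,0,2,1,0,3,5,4,6,2,3,7,3,4,5,1,2,0,1])) (.word [3,4,3,0,1,5,7,3,2,4,3,7,8,4,2,3,7,5,6,2,3,1,0]))) (.node (.node (.node (.word [2,3,5,4,6,5,8,4,1,2,3,7,8,3,4,5,6,0,1]) (.word [0,3,5,6,7,3,2,4,3,7,8,7,3,4,2,3,7,5,1])) (.node (.word [6,1,3,2,7,3,4,6,5,4,3,7,2,3,1,0,2,4,5,6,8,7,3,8,7,2,3,4,5,1,2,3,0,1]) (.word [6,2,3,4,5,6,7,3,4,2,3,7,1,2,3,4,5,6,1,0]))) (.node (.node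 (.word [6,1,2,1,0,3,7,8,7,2,0,2,3,4,5,4,3,6,5,8,4,2,3,7,8,1,2,3,4,5,6]) (.word [6,5,4,3,2,1,7,3,8,7,4,5,6,4,5,4,3,2,1])) (.word [0,1,4,5,4,3,7,8,4,2,3,7,5,6,4,5,4,2,1,0]))))) (.node (.node (.node (.node (.node .none (.word [3,2,5,4,7,8,3,7,4,5,6,2,3])) (.node .none (.word [0,7,8,7,2,3,5,4,3,2,1,7,3,7,4,5,6,3,4,2,3,0,1,2,0]))) (.node (.node (.word [3,4,3,2,1,0,3,7,8,7,2,0,1,5,4,3,2,1,8,6,5,4,3,7,8,5,2,3]) (.word [3,4,7,8,7,6,3,1,0,2,5,4,3,2,1,7,8,6,5,4,3,7,8,6,4,5,2,0,1])) (.word [3,4,3,0,2,1,0,5,7,3,4,7,8,3,7,5,6,5,3,2]))) (.node (.node (.node .none (.word [2,1,0,3,7,8,7,2,3,4,3,2,1,5,4,6,7,2,3,7,4,5,6,3,2,1])) (.node (.word [0,1,2,3,2,0,1,2,5,4,7,8,3,7,6,4,5,2]) (.word [3,4,3,0,1,5,7,3,2,1,4,8,3,7,2,3,4,1,2,3,7,5,6,5]))) (.node (.word [3,4,3,2,1,0,3,7,8,7,2,3,2,1,5,4,3,2,3,7,3,4,5,6,3,4,5,3,2,1,0])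 (.word [3,5,4,6,5,7,4,3,7,8,2,3,7,6,4,1])))) (.node (.node (.node (.node .none (.word [5,4,3,2,1,0,8,6,5,4,3,7,8,5,3,2,1])) (.node .none (.word [2,1,0,4,3,2,3,7,3,4,5,6,3,4,5,2,3,1]))) (.node (.node (.word [2,1,0,3,7,8,7,2,5,4,3,2,1,0,8,6,5,4,3,7,8,5,6,3,2,1]) (.word [0,1,2,3,2,1,2,1,0,5,4,3,7,3,4,5,6,5,2,3,1,2,0,1])) .none)) (.node (.node (.node (.word [3,4,3,2,1,0,3,7,8,7,2,3,5,4,6,5,7,8,7,3,4,1,2,3,0,1,2]) (.word [0,1,2,6,3,2,1,2,1,0,5,4,3,7,3,4,5,6,5,2,3,1,2,0,1])) (.word [0,1,5,4,6,5,7,3,7,8,2,3,7,4,5,6,0,1,0])) (.node (.node (.word [0,7,8,7,2,3,1,2,3,4,3,0,2,5,6,7,3,2,5,4,3,7,8,2,3,7,5,1]) (.word [3,2,7,3,4,6,5,4,3,7,2,3,1,0,7,8,7,6,2,3,1,2,1])) (.word [0,1,2,6,3,2,1,5,7,3,2,4,3,7,8,4,2,3,7,5,6,5,1])))))) (.node (.node (.node (.node (.node (.word [3,7,8,7,3,2,1,5,7,3,2,4,3,7,8,2,3,7,5,6,5,2,3,0,1,4,5,4,3,2,1,8,7,3,4,2,3,7,8,5,6,4,1,2])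 (.node (.word [6,3,2,7,3,4,6,5,4,3,7,2,3,1,2,4,5,6,7,8,3,7,2,3,4,5,6,3,1]) (.word [5,6,7,3,4,8,7,3,4,1,2,3,7,4,5,6,0,1]))) (.node (.node (.word [2,4,3,7,3,4,1,0,3,7,8,7,2,3,2,5,4,6,5,7,3,4,2,3,7,8,2,3,7,6,4,1]) (.word [5,4,7,3,2,1,4,3,7,8,4,3,7,6,5,2,3,2,1,0])) (.word [1,2,4,3,7,3,4,3,4,5,6,8,1,2,3,7,8,4,5,6,3,0,1]))) (.node (.node (.node (.word [3,5,4,6,5,7,3,4,1,2,3,7,8,4,3,7,4,1]) (.word [0,7,8,7,2,3,1,2,6,1,0,1,2,5,4,3,2,6,7,3,4,5,6,4,1,2,3,2,1])) (.node (.word [3,2,7,3,4,6,5,4,3,7,2,3,1,4,7,3,8,7,8,2,3,7,4,5,6,4,5,3,1]) (.word [3,7,8,7,3,2,4,3,7,3,4,2,1,0,3,5,4,6,5,3,4,2,3,1,2]))) (.node (.word [3,4,3,2,1,0,4,3,2,5,8,7,3,4,1,2,3,7,8,2,3,4,5,1,2,3]) (.word [3,4,3,2,4,3,5,4,3,7,8,1,2,3,7,8,6,0,1,2,3,4,5])))) (.node (.node (.node (.node (.word [6,1,3,2,7,3,4,6,5,4,3,7,2,3,1,7,3,2,4,8,3,7,8,3,4,2,3,7,6,1])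 (.word [3,4,3,2,4,5,4,8,7,3,8,7,2,3,4,5,6,3,1,2])) (.node (.word [3,7,8,7,6,3,0,4,5,4,7,3,2,4,3,7,8,4,3,7,3,4,5,6,1]) (.word [3,7,8,7,6,3,2,4,3,7,3,4,2,1,0,3,5,4,6,5,3,4,2,3,1,2]))) (.node (.node .none (.word [2,1,0,7,2,3,7,8,4,3,7,6,2,1])) (.word [0,1,2,5,6,8,7,3,4,1,2,3,7,8,5,6,4,2,1,5,7,3,2,4,3,7,8,7,3,4,2,3,7,5,1,2]))) (.node (.node (.node .none (.word [3,7,8,7,3,0,2,1,0,5,4,3,7,6,3,4,5,2,3,1,2,0,1])) (.node (.word [2,4,3,7,3,4,3,4,5,6,8,1,2,3,7,8,4,5,6,3,0,1]) (.word [0,1,5,7,3,2,1,4,8,3,7,2,3,4,1,2,3,7,5,6,5]))) (.node (.node (.word [3,4,3,0,1,2,5,6,8,7,5,3,4,1,2,3,7,8,5,4]) (.word [0,1,2,5,4,3,2,6,7,3,4,5,6,4,0,1,2,3,2])) (.word [6,1,0,2,3,5,7,3,2,4,3,7,8,6,5,4,2,3,7,6,2,1]))))) (.node (.node (.node (.node (.node (.word [3,7,8,7,3,2,1,4,5,8,7,3,2,4,3,7,8,1,2,3,4,5,6,4,1,0])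 (.word [0,7,8,7,2,3,1,2,3,5,4,6,5,6,3,4,1,2,3,0,1,2])) (.node (.word [0,1,3,5,4,3,7,8,7,5,6,5,4,2,3,2,1,0,4,8,7,3,2,1,5,4,3,7,8,6,5,3,2,1,0]) (.word [3,7,8,7,6,3,1,5,4,3,2,1,7,3,8,7,4,5,6,4,5,4,3,2,1]))) (.word [2,1,0,3,7,8,7,2,3,2,5,4,6,5,7,3,4,2,3,7,8,2,3,7,6,4,1])) (.node (.node (.node (.word [0,1,2,3,2,1,0,2,1,5,4,3,2,7,8,4,5,3,4,2,3,7,8,5,6,1]) (.word [0,4,8,3,7,8,4,2,3,1,2])) (.word [2,1,0,3,7,8,7,2,0,1,2,4,3,5,4,3,6,8,5,2,3,4,1,2,3,7,8,4,2])) (.node (.node (.word [3,7,8,7,6,3,0,1,2,3,1,0,4,3,5,6,8,4,5,2,3,4,1,2,3,7,8,3,1,0]) (.word [3,4,3,2,1,5,4,7,3,2,8,7,4,5,6,5,3,1,2,1,0])) (.word [3,7,8,7,6,3,2,1,0,4,5,4,3,2,7,3,4,5,6,3,4,1,2])))) (.node (.node (.node (.word [3,4,3,2,3,4,5,6,8,1,2,3,7,8,4,5,3,4,5,4,7,3,2,4,3,7,8,4,3,7,3,4,5,6,1]) (.node (.word [0,1,2,3,2,0,1,0,4,8,7,3,2,1,5,4,3,7,8,6,5,2,1,0])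 (.word [2,1,5,4,3,2,1,7,3,4,5,6,3,4,2,3,0,1,2,0]))) (.node (.word [2,1,0,3,7,8,7,2,3,4,3,0,2,5,6,7,3,2,5,4,3,7,8,2,3,7,5,1]) (.word [0,7,8,7,2,3,1,2,3,4,3,0,7,3,2,4,5,8,3,7,4,5,3,4,2,3,7,6,5,1]))) (.node (.node (.node (.word [1,2,1,0,4,3,2,5,8,7,3,4,3,7,6,5,2,3,4,1,2,3,7,8]) (.word [5,4,3,2,1,0,8,6,5,4,3,7,8,5,6,3,2])) .none) (.node (.node .none (.word [0,1,2,3,2,0,1,5,6,7,3,2,8,7,3,4,2,3,7,5,2,1])) (.word [6,5,4,6,7,3,4,1,2,3,7,8,4,3,7,5,6,0,1,0,3,5,4,6,5,6,3,4,2,3,1,2,1]))))))) (.node (.node (.node (.node (.node (.node (.node .none (.word [2,1,0,3,7,8,7,2,5,4,3,2,1,7,3,8,7,5,6,4,5,4,3,2,1])) (.node (.word [0,2,4,5,6,8,7,3,8,7,2,3,4,5,1,2,3,0,1]) (.word [0,5,4,3,2,1,7,3,4,2,3,7,1,2,3,4,5,0,1]))) (.node (.node (.word [0,7,8,7,2,3,4,5,8,7,3,2,4,3,7,8,1,2,3,4,5,6,4,0,1,0])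 (.word [0,2,5,6,7,8,5,4,3,7,4,5,6,2,1])) (.word [0,1,2,6,3,2,1,4,5,4,3,7,8,7,3,4,5,6,5,2,3,1,2,1]))) (.node (.node (.node (.word [0,7,8,7,2,3,1,2,0,1,4,5,4,3,2,1,8,7,3,4,2,3,7,8,5,6,4,1,2]) (.word [3,7,8,7,3,1,0,1,2,5,4,3,2,6,7,3,4,5,6,4,1,2,3,2])) (.node (.word [0,1,2,3,2,0,1,0,7,3,2,4,8,3,7,8,4,2,3,7,6]) (.word [3,7,8,7,3,1,4,5,4,3,2,1,7,8,4,3,7,6,4,5,4,3,2,1]))) (.node (.node .none (.word [3,7,8,7,3,1,0,2,3,5,7,3,2,4,3,7,8,6,5,4,2,3,7,6,2,1])) (.word [3,4,3,0,1,2,5,4,7,8,3,7,4,5,6,1,2,3,2])))) (.node (.node (.node (.word [0,1,2,6,3,2,1,0,2,4,3,7,3,4,2,1,3,2,5,4,6,5,7,3,4,2,3,7,8,3,7,4,1]) (.node (.word [0,2,1,3,5,7,8,7,2,3,4,5,6,2,3,4,5]) (.word [4,7,3,1,2,3,7,4,0,1,2,3,2,0,1,0]))) (.node (.node (.word [1,2,3,4,5,6,8,1,2,3,7,8,4,5,3,0,2,1,5,4,3,2,7,8,4,5,3,4,2,3,7,8,5,6,1])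 (.word [0,2,1,0,5,7,3,4,7,8,3,7,5,6,5,3,2,1])) (.word [3,4,3,0,1,2,6,3,2,1,0,2,1,5,7,3,2,4,3,7,8,7,3,4,2,3,7,5,6,1,2]))) (.node (.node (.node (.word [0,1,2,3,2,1,0,4,8,7,3,2,1,5,4,3,7,8,5,6,5,2,0,1,0]) (.word [0,7,8,7,2,3,1,2,3,7,8,7,6,3,1,5,4,3,2,1,7,3,8,7,5,6,4,5,4,3,2,1])) (.node (.word [3,4,3,1,0,3,5,6,7,3,2,4,3,7,8,7,3,4,2,3,7,5,6,1]) (.word [6,1,2,1,0,3,7,8,7,2,0,4,5,4,3,7,8,4,2,3,7,2,3,4,5,1]))) (.node .none (.word [3,7,8,7,4,3,2,1,5,6,7,3,5,4,3,7,5,6,3,2,1]))))) (.node (.node (.node (.node (.node .none (.word [2,3,5,4,3,2,1,8,2,3,7,8,5,6,4,5,3,2,1])) (.node (.word [2,1,0,3,7,8,7,2,3,4,3,2,1,5,6,7,3,2,5,4,3,7,8,2,3,7,5,6,2,3]) (.word [3,4,3,0,2,1,0,3,5,4,6,2,3,7,3,4,5,1,2,0]))) (.node (.node (.word [0,1,3,5,4,3,7,8,7,5,6,5,4,2,3,2,1,2,5,6,7,8,5,4,3,7,4,5,6,2,1])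 (.word [6,0,4,5,4,3,7,8,7,3,4,5,6,5,2,3,1,2,1])) (.word [1,3,4,3,0,2,1,0,3,5,4,6,7,8,2,3,7,4,5,6,3,2]))) (.node (.node (.node (.word [2,1,0,3,7,8,7,2,3,4,3,0,1,2,5,6,8,7,3,4,1,2,3,7,8,5,4,1]) (.word [6,1,2,1,5,7,3,2,4,3,7,8,7,3,4,2,3,7,5,1,2])) (.node (.word [3,4,7,8,7,3,1,0,4,5,4,7,3,2,4,3,7,8,4,3,7,3,4,5,6,1]) (.word [0,1,2,5,4,3,7,3,4,5,2,1,0]))) (.node (.word [3,7,8,7,6,2,7,3,4,6,5,4,3,7,2,3,1,2,4,5,6,7,8,3,7,2,3,4,5,6,3,1]) (.word [3,7,8,7,4,3,0,2,1,0,5,4,3,7,3,4,5,6,5,2,3,1,2,0,1])))) (.node (.node (.node .none (.node (.word [0,1,2,5,6,8,7,3,4,1,2,3,7,8,5,4,1]) (.word [3,7,8,7,6,3,5,4,3,2,1,7,3,8,7,4,5,6,4,5,4,3,2,1]))) (.node (.node (.word [3,4,3,2,1,5,4,3,2,7,3,7,4,5,3,4,2,3,7,8,7]) (.word [4,5,4,7,3,8,1,2,3,7,3,4,5,2,3,1,2,1])) (.word [3,7,8,7,6,4,3,0,4,5,4,7,3,2,4,3,7,8,4,3,7,3,4,5,6,1])))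 (.node (.node (.word [3,4,3,0,1,2,3,2,1,5,4,6,5,7,3,4,2,3,7,8,4,3,7,6,4,5,3,1]) (.word [2,1,0,3,4,3,2,7,3,4,5,6,4,5,2,3,1,2,4,5,6,7,8,3,7,2,3,4,5,6,3,1])) (.node (.node (.word [2,1,0,3,7,8,7,3,2,4,5,6,1,2,3,4,5,2,3,0,1,0]) (.word [0,2,3,2,5,4,6,7,8,1,2,3,7,4,5,6,2,3,1,2,0])) (.word [1,2,4,3,7,3,4,2,3,2,5,6,7,3,2,8,7,5,3,4,2,3,7,5,1,2,1])))))) (.node (.node (.node (.node (.node (.node (.word [2,1,0,3,7,8,7,2,0,5,4,6,5,7,3,4,2,3,7,8,4,3,7,6,4,5,3]) (.word [3,4,3,0,1,2,1,0,5,4,6,5,7,8,7,3,4,5,6,2,3,4,1,2,1])) (.node .none (.word [6,1,5,4,3,2,1,7,3,2,7,4,5,6,4,5,4,3,1,2,0,1,0]))) (.node (.node (.word [3,7,8,7,3,1,2,1,0,4,3,2,5,4,8,5,3,4,1,2,3,7,8,6,5,0,1,0]) (.word [3,4,3,2,1,5,4,3,7,6,3,4,5,3,2])) (.word [3,7,8,7,3,0,1,2,6,3,2,1,2,1,0,5,4,3,7,3,4,5,6,5,2,3,1,2,0,1])))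 (.node (.node (.node (.word [2,1,0,3,7,8,7,1,5,4,3,2,7,3,7,4,5,3,4,2,3,7,8,7]) (.word [0,2,5,4,3,2,1,7,8,6,5,4,3,7,8,6,4,5,2,0,1])) (.node (.word [2,1,5,4,3,2,7,8,4,3,7,8,4,5,6,4,2,1]) (.word [3,4,3,0,2,1,0,3,5,4,6,2,3,7,3,4,5,1,2,0,1]))) (.node (.node (.word [4,8,7,3,2,1,5,4,2,3,7,8,6,5,2,0,1,0]) (.word [2,4,3,7,3,4,2,1,6,0,3,5,6,7,3,2,4,3,7,8,7,3,4,2,3,7,5,6,1])) (.word [3,2,1,5,4,7,8,2,3,7,4,5,6,0,1,2,3,1])))) (.node (.node (.node .none (.node (.word [3,7,8,7,3,2,4,3,7,3,4,1,5,6,7,8,2,3,7,8,4,3,7,5,0,1,2,1]) (.word [3,4,3,0,1,2,7,3,4,8,6,5,4,3,7,6,0,1,2,3,2,1]))) (.node (.node (.word [6,0,5,4,6,5,7,3,4,2,3,7,8,4,3,7,6,4,5,3,1]) (.word [3,4,3,6,2,1,4,5,7,3,4,2,3,7,5,6,4,5,3,2,1])) (.word [0,1,3,5,4,3,7,8,7,5,6,5,4,2,3,2,1,0,3,2,5,4,7,8,3,7,4,5,6,2,3,1]))) (.node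 (.node (.word [1,0,2,5,4,3,2,1,7,8,6,5,4,3,7,8,4,5,6,5,2,0]) (.word [0,2,1,0,5,7,3,2,4,3,7,8,2,3,7,5,6,5,3,2,1])) (.node (.node (.word [6,2,1,0,3,7,8,7,1,0,4,3,2,5,8,7,3,4,3,7,6,5,2,3,4,1,2,3,7,8]) (.word [3,4,3,2,1,0,3,7,8,7,2,3,5,4,6,5,6,3,4,1,2,3,0,1,2,1])) .none)))) (.node (.node (.node (.node (.node (.word [0,1,2,3,2,1,0,2,4,3,7,3,4,2,1,3,2,5,4,6,5,7,3,4,2,3,7,8,3,7,4,1]) (.word [2,1,0,3,7,8,7,2,3,4,3,2,1,5,4,3,7,3,4,5,6,5,3,2,1])) (.node (.word [2,4,3,7,3,4,2,6,0,5,6,7,3,2,1,4,5,3,4,2,3,7,8,5,4,1,2,3,7]) (.word [3,2,7,3,4,8,6,5,4,3,7,6,2,3,1]))) (.node (.node (.word [1,0,7,8,7,2,3,1,2,4,8,7,3,2,1,5,4,2,3,7,8,5,6,5,2,0,1,0]) (.word [2,4,3,7,3,4,2,1,2,3,2,5,4,7,8,3,7,4,5,6,1,2,0,1,0])) (.word [3,4,3,2,1,5,4,3,2,7,8,4,3,7,8,4,5,4,2]))) (.node (.node (.node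 (.word [3,7,8,7,6,3,2,1,0,4,3,2,5,8,7,3,4,3,7,6,5,2,3,4,1,2,3,7,8]) (.word [0,2,1,0,3,5,4,6,2,3,7,3,4,5,6,1,2,0,1])) (.node (.word [3,7,8,7,6,3,4,7,3,7,8,2,3,7,4,1,2,3,0,1,2]) (.word [0,4,3,7,8,2,3,7,6,4,3,1,2,1]))) (.node (.node (.word [2,4,3,7,3,4,2,0,3,2,5,4,7,8,3,7,4,5,6,1,2,3,0]) (.word [0,1,2,6,3,2,1,0,2,1,5,4,7,3,2,8,7,4,5,6,5,3,1,2,1,0])) .none))) (.node (.node (.node (.word [2,1,0,3,7,8,7,2,6,1,3,2,5,4,6,5,7,3,4,2,3,7,8,3,7,4,1]) (.node .none (.word [4,5,4,3,2,1,7,8,4,2,3,7,6,4,5,4,3,2,1]))) (.node (.node .none (.word [2,1,4,7,8,2,3,7,6,4,2,3,0,1,2,0,1])) (.word [3,4,3,0,1,2,3,2,1,3,5,6,7,3,2,4,3,7,8,7,3,4,2,3,7,5,6,1]))) (.node (.word [3,4,3,0,7,8,7,2,3,1,2,4,5,6,8,3,7,8,3,4,5,3,1]) (.node (.node (.word [3,4,3,2,4,3,7,3,4,2,0,1,2,5,7,3,2,8,7,3,4,2,3,7,5,6,1,2,3])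 (.word [0,1,2,3,2,1,0])) (.word [4,8,7,3,2,1,5,4,2,3,7,8,6,5,2,1,0]))))))))

/-- A subtree. -/
def sub139 : WTree :=
  (.node (.node sub135 sub136) (.node sub137 sub138))

/-- A subtree. -/
def sub140 : WTree :=
  (.node (.node (.node (.node (.node (.node (.node (.node (.word [3,7,8,7,3,2,4,3,7,3,4,2,1,3,2,5,4,6,5,7,3,4,2,3,7,8,3,7,4]) (.word [6,1,3,4,3,0,2,1,0,5,7,3,2,4,3,7,8,4,2,3,7,5,1,2])) (.node (.word [0,1,2,3,2,0,1,0,4,8,7,3,2,1,5,4,3,7,8,5,6,5,2,1,0]) (.word [6,1,2,3,4,7,8,3,7,4,2,3,1,2,1,0]))) (.node (.node (.word [2,1,0,4,3,2,5,8,7,3,4,1,2,3,7,8,2,3,4,5,1,2,3]) (.word [3,7,8,7,6,4,3,5,4,3,2,1,7,3,2,7,4,5,6,4,5,4,3,1,2,0,1,0])) (.word [0,1,3,5,4,3,7,8,7,5,6,5,4,2,3,2,1,0,3,5,4,7,3,8,1,2,3,7,4,5,6,3,1]))) (.node (.node (.node (.word [6,0,1,4,5,4,3,2,1,8,7,3,4,2,3,7,8,5,6,4,1,2])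 (.word [2,3,2,7,3,4,8,6,5,4,3,7,6,3,1,2,1,0])) (.node (.word [2,4,3,7,3,4,2,0,2,1,3,5,6,7,2,3,7,8,4,3,7,5,1,2]) (.word [6,1,0,1,2,5,4,3,2,6,7,3,4,5,6,4,1,2,3,2,1]))) (.node (.node (.word [6,1,2,1,4,5,4,3,2,8,7,3,4,3,7,8,0,1,2,3,4,5,1,2]) (.word [3,7,8,7,4,3,2,1,5,7,3,2,4,3,7,8,2,3,7,5,6,5,2,3,1])) .none))) (.node (.node (.node (.node (.word [0,1,2,5,6,8,7,5,3,4,1,2,3,7,8,5,6,4]) (.word [0,2,5,4,7,8,3,7,4,5,6,5,2])) (.node (.word [6,1,0,1,2,5,6,8,7,3,4,1,2,3,7,8,5,6,4,0,4,5,4,7,3,2,4,3,7,8,4,3,7,3,4,5,1]) (.word [6,1,0,2,1,0,3,5,4,6,2,3,7,3,4,5,1,2,0,1]))) (.node (.node (.word [2,3,4,5,6,8,1,2,3,7,8,4,5,3,0,4,7,3,4,8,1,2,3,7,8,4,3,7]) (.word [3,2,7,3,2,4,3,7,8,5,3,4,2,3,7,6,2,3])) (.word [6,0,2,1,0,5,7,3,2,4,3,7,8,2,3,7,5,6,5,3,2,1]))) (.node (.node (.word [3,2,7,3,4,6,5,4,3,7,2,3,1,2,1,0,7,3,2,4,3,7,8,2,3,7,6,2,1])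 (.node (.word [1,2,4,3,7,3,4,2,1,3,2,5,4,7,8,3,7,4,5,6,2,3,1]) (.word [0,2,3,5,4,7,3,8,7,4,5,6,5,2,3,1,2,0]))) (.node (.node .none (.word [0,1,2,3,2,1,7,3,2,4,5,8,3,7,4,5,3,4,2,3,7,6,5,1])) (.word [0,1,5,7,3,2,4,3,7,8,4,2,3,7,5,6,2,3,1,0]))))) (.node (.node (.node (.node (.node (.word [6,1,3,2,7,3,4,6,5,4,3,7,2,3,1,0,2,1,3,8,7,3,4,2,3,7,8,5,6,4,5,3]) (.word [2,4,3,7,3,4,2,3,4,2,5,6,7,3,2,8,7,5,3,4,2,3,7,5,1,2,1])) (.word [2,3,4,5,6,8,1,2,3,7,8,4,5,3,0,2,1,5,4,3,7,3,4,5,6,5,3,2,1])) (.node (.node (.word [2,1,5,4,3,2,7,8,4,5,3,4,2,3,7,8,5]) (.word [0,7,8,7,2,3,1,3,4,3,5,4,2,3,7,1,2,3,4,5,6,0,1,2])) (.word [3,4,3,0,1,2,1,0,7,3,2,4,6,5,4,3,7,8,2,3,7,1,2,1]))) (.node (.node (.node (.word [3,4,3,0,5,6,7,3,2,1,4,5,3,4,2,3,7,8,5,4,1,2,3,7]) (.word [5,4,3,2,1,7,3,2,8,4,3,7,1,2,3,4,5,6,4,1,0]))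 (.node .none (.word [0,7,8,7,2,3,1,4,3,7,3,4,2,0,3,5,4,6,5,6,3,4,2,3,1,2,1]))) (.node (.node (.word [0,1,5,7,3,2,4,8,3,7,8,4,2,3,7,5,6,0,1,0]) (.word [2,1,0,4,5,4,3,2,7,3,4,5,6,3,4,1,2,1])) (.word [3,7,8,7,3,1,0,2,1,0,3,5,4,6,2,3,7,3,4,5,6,1,2,0,1])))) (.node (.node (.node (.word [2,4,3,5,8,7,3,2,1,4,3,7,8,7,6,3,4,5,3,2,1,4,5,4,7,3,2,4,3,7,8,4,3,7,3,4,5,6,1]) (.node .none (.word [1,2,1,5,4,3,2,1,7,3,4,5,3,4,2,3,0,1,2,0,1]))) (.node (.node .none (.word [0,1,2,6,3,2,1,3,5,6,7,3,2,4,3,7,8,7,3,4,2,3,7,5,6,1])) .none)) (.node (.node (.node (.word [3,7,8,7,3,1,2,4,3,7,3,4,2,1,0,1,5,7,3,2,4,8,3,7,8,4,2,3,7,5,6,1,0]) (.word [3,7,8,7,3,2,4,3,7,3,4,2,0,2,1,0,3,5,4,6,2,3,7,3,4,5,6,1,2,0,1])) (.word [3,7,8,7,3,1,2,3,5,4,3,2,1,8,2,3,7,8,5,6,4,5,3,2,1])) (.node (.node (.word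 [3,7,8,7,6,3,2,4,3,7,3,4,2,0,5,6,7,3,2,1,4,5,3,4,2,3,7,8,5,4,1,2,3,7]) (.word [0,1,2,1,7,3,4,7,8,6,5,4,3,7,6,2,3,2,1])) (.word [])))))) (.node (.node (.node (.node (.node .none (.word [3,7,8,7,3,2,3,4,5,6,8,1,2,3,7,8,4,5,3,0,2,1,4,7,8,3,7,6,4,2,3,0,1,2,0])) (.node (.node (.word [6,2,3,4,5,6,8,1,2,3,7,8,4,5,3,0,2,1,5,4,3,2,7,8,4,5,3,4,2,3,7,8,5]) (.word [6,0,3,2,7,3,2,4,3,7,8,7,3,4,2,3,7,1,2,3,0])) (.word [3,4,3,2,1,0,3,7,8,7,2,5,4,3,6,5,4,2,3,7,8,7,5,6,2,3,1,2,0]))) (.node (.node (.node .none (.word [6,5,4,3,2,1,0,8,6,5,4,3,7,8,5,6,3,2,1])) (.node (.word [3,7,8,7,4,3,0,2,1,0,5,4,3,7,6,3,4,5,2,3,1,2,0]) (.word [6,1,0,1,5,7,3,2,1,4,8,3,7,2,3,4,1,2,3,7,5,6,5]))) (.node (.word [0,7,8,7,2,3,1,2,3,4,2,5,6,7,3,2,8,7,3,4,2,3,7,5,6,1,2]) (.word [0,1,2,6,3,2,1,4,5,4,3,7,8,4,2,3,7,2,3,4,5,1]))))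 (.node (.node (.node (.node (.word [2,1,0,3,4,3,2,7,3,4,5,6,4,5,2,3,1,7,3,2,4,8,3,7,8,3,4,2,3,7,1]) (.word [2,1,5,7,3,2,4,3,7,8,2,3,7,5,6,4,3,2,5,4,3,7,6,2,3,4,5,1,2,1])) (.node (.word [4,5,6,7,3,4,2,3,7,8,4,3,7,5,6,4,5,1]) (.word [3,5,4,7,3,1,2,3,7,4,5,6,3,1]))) (.node (.node (.word [2,1,0,3,7,8,7,2,6,1,2,1,0,4,3,2,5,8,7,3,4,3,7,6,5,2,3,4,1,2,3,7,8]) (.word [6,1,2,4,3,7,3,4,2,0,2,3,2,5,6,7,3,4,1,2,3,7,8,4,2,3,7,5,2])) (.word [3,7,8,7,3,0,2,1,0,5,4,3,7,6,3,4,5,2,3,1,2,0]))) (.node (.node (.node (.word [0,2,1,5,4,3,2,1,0,7,8,6,5,4,3,7,8,2,3,4,5,6,4]) (.word [0,3,2,5,4,3,6,7,5,2,3,4,3,1,2,1])) (.node .none (.word [2,3,4,5,6,7,3,4,2,3,7,1,2,3,4,5,6,1,0]))) (.node (.node (.word [4,5,6,7,3,7,8,2,3,7,3,4,5,3,1]) (.word [2,1,5,7,3,2,4,3,7,8,2,3,7,5,6,5,2,3,0,3,5,4,6,5,6,3,4,2,3,1,2]))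 (.word [3,4,7,8,7,6,3,1,2,1,5,4,7,3,2,8,7,4,5,6,5,3,1,2,1,0]))))) (.node (.node (.node (.node (.node (.word [0,7,8,7,2,3,1,2,0,2,5,4,3,2,1,7,8,6,5,4,3,7,8,4,5,6,5,2,0,3,7,8,7,3,1]) (.word [3,4,7,8,7,3,1,0,2,1,0,5,7,3,2,4,3,7,8,4,2,3,7,5,6,1,2])) (.node (.word [3,4,3,0,1,2,5,6,8,7,5,3,4,1,2,3,7,8,5,4,1]) (.word [0,2,4,3,5,4,6,5,7,3,4,5,6,2,3,4,5,1,2]))) (.node (.node (.word [3,7,8,7,3,0,7,8,7,2,3,0,4,3,2,5,8,7,3,4,3,7,6,5,2,3,4,1,2,3,7,8]) (.word [3,7,8,7,6,3,1,0,2,4,3,5,4,6,5,7,2,3,4,5,6,2,3,4,5,1,2])) (.word [2,1,0,3,7,8,7,4,3,7,3,4,2,1,0,3,5,4,6,5,3,4,2,3,1,2,1]))) (.node (.node (.word [2,1,5,4,3,2,7,8,4,5,3,4,2,3,7,8,5,6]) (.node .none (.word [1,0,2,4,3,5,4,6,5,7,2,3,4,5,6,2,3,4,5,1,2]))) (.node (.node (.word [0,1,2,3,2,0,1,4,5,4,7,3,2,4,3,7,8,4,3,7,3,4,5,6,1])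 (.word [3,7,8,7,6,3,1,0,2,1,0,5,4,3,7,3,4,5,6,5,2,3,1,2,0])) .none))) (.node (.node (.node (.node (.word [1,2,1,5,7,3,2,4,3,7,8,2,3,7,5,6,5,2,3,0,1,2,5,7,3,8,7,8,4,3,7,5,6,0,1,2,3]) (.word [0,1,2,6,3,5,7,3,2,8,7,3,4,2,3,7,5,6,1,2,3,1])) (.word [0,1,2,6,3,2,1,2,5,4,7,8,3,7,4,5,6,5,2,1])) (.node (.node (.word [3,4,3,6,2,1,5,4,3,2,7,8,4,3,7,8,4,5,6,4,2,1]) (.word [1,0,2,3,5,4,7,3,8,7,4,5,6,5,2,3,1,2,0,1])) (.word [2,1,0,3,7,8,7,2,4,5,4,3,2,1,7,8,4,2,3,7,6,4,5,4,3,2,1]))) (.node (.node (.word [3,7,8,7,3,0,1,2,6,3,2,4,5,4,3,2,1,8,7,3,4,2,3,7,8,5,6,4,1,2]) (.word [1,2,1,5,7,3,2,4,3,7,8,2,3,7,5,6,5,2,3,0,2,1,3,7,3,2,4,3,7,8,2,3,7,3,2])) (.node (.node (.word [4,8,7,3,7,8,4,5,6,4,5,3]) (.word [0,1,2,3,2,1,0,2,4,3,7,3,4,1,5,4,7,3,2,3,7,6,4,5,0,1,2,3,2,0,1])) (.word [3,4,3,2,1,5,4,6,7,2,3,7,4,5,6,3,2])))))))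 (.node (.node (.node (.node (.node (.node (.word [3,7,8,7,6,3,1,2,1,5,7,3,2,4,3,7,8,2,3,7,5,6,5,2,3,0,1,4,5,4,3,2,1,8,7,3,4,2,3,7,8,5,6,4,1,2]) (.word [6,3,2,7,3,4,6,5,4,3,7,2,3,1,2,4,5,6,7,8,3,7,2,3,4,5,6,3])) (.node (.node .none (.word [1,2,1,0,3,7,8,7,1,0,4,5,4,3,2,7,3,4,5,3,4,1,2,1])) (.word [3,4,3,0,7,8,7,2,3,1,2,3,5,4,6,5,7,8,7,6,3,4,1,2,3,0,1,2]))) (.node (.node (.node (.word [6,1,2,4,3,7,3,4,2,1,3,2,5,4,6,5,7,3,4,2,3,7,8,3,7,6,4,1]) (.word [2,1,0,3,7,8,7,2,6,5,4,3,2,1,7,3,8,7,5,6,4,5,4,3,2,1])) (.node (.word [3,4,2,5,6,7,3,2,8,7,3,4,2,3,7,5,6,1,2]) (.word [3,7,8,7,3,1,0,1,5,7,3,2,1,4,8,3,7,2,3,4,1,2,3,7,5,6,5]))) (.node (.node (.word [3,4,3,0,1,2,5,7,3,8,7,8,4,3,7,5,6,0,1,2,4,3,0,2,1,3,8,7,3,4,2,3,7,8,5,6,4,5,3]) (.word [6,1,2,3,5,4,6,5,8,7,8,1,2,3,4,5,6,2,3,1,2]))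 (.word [2,1,4,5,7,8,3,4,2,3,7,5,6,4,5,1,2,0])))) (.node (.node (.node (.node (.word [6,1,0,7,8,7,2,3,0,4,3,2,5,8,7,3,4,3,7,8,1,2,3,4,5,0,1,2,3]) (.word [3,4,3,1,2,3,5,4,6,5,8,7,8,1,2,3,4,5,6,2,3,1,2])) (.node (.word [3,7,8,7,3,1,0,2,1,0,3,5,4,6,2,3,7,3,4,5,6,1,2,0]) (.word [0,1,2,1,5,7,3,7,8,4,3,7,5,6,2,3,2,1]))) (.node (.node (.word [0,1,3,5,4,3,7,8,7,5,6,5,4,2,3,2,1,4,5,4,7,3,2,4,3,7,8,4,3,7,3,4,5,6]) (.word [6,1,0,2,3,5,4,7,3,8,7,6,4,5,2,3,1,2,0])) (.word [3,4,3,2,1,5,7,3,2,4,3,7,8,4,2,3,7,5,6,5,2,3]))) (.node (.node (.node (.word [6,2,3,4,5,6,8,1,2,3,7,8,4,5,3,0,2,1,5,4,3,2,7,3,7,4,5,3,4,2,3,7,8,7]) (.word [2,4,3,7,3,4,2,3,7,8,7,3,1,2,1,4,5,7,3,4,2,3,7,5,6,4,5,3,2,1])) (.node (.word [3,7,8,7,3,0,2,1,3,7,3,2,4,3,7,8,4,2,3,7,3,2,1]) (.word [5,4,3,7,3,2,1,4,2,3,4,0,1,2,3,7,3,4,5,6])))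 (.node (.node (.word [3,4,3,0,7,8,7,2,3,1,2,3,2,5,4,6,5,7,3,4,2,3,7,8,2,3,7,6,4,1]) (.word [0,1,2,3,2,0,1,7,8,7,2,3,1,2,4,5,4,3,2,1,7,8,2,3,7,6,4,5,4,3,2,1])) (.word [2,1,0,8,2,3,7,8,2,1]))))) (.node (.node (.node (.node (.word [0,7,3,2,4,5,8,3,7,4,5,3,4,2,3,7,6,5,1,0,2,1,0,4,3,5,4,3,8,2,3,7,8,1,2,3,4,5,6,0]) (.word [2,4,3,7,3,4,2,1,0,1,2,6,3,2,1,2,5,4,7,8,3,7,4,5,6,5,2,1])) (.node (.node (.word [2,4,3,7,3,4,3,4,5,6,8,1,2,3,7,8,4,5,3,2,4,5,6,8,7,3,8,7,2,3,4,5,1,2,3,0,1]) (.word [3,7,8,7,3,1,2,1,0,3,4,3,2,7,3,4,5,6,4,5,2,3,1])) (.word [2,4,3,7,3,4,2,3,4,2,5,6,7,3,2,8,7,3,4,2,3,7,5,6,1,2,1]))) (.node (.node (.node (.word [3,4,3,0,1,2,5,4,7,8,3,7,4,5,6,0,1,2,3,1,5,4,3,2,7,3,7,4,5,3,4,2,3,7,8,7,1]) (.word [6,1,0,7,8,7,2,3,1,2,5,4,3,2,1,7,3,8,7,5,6,4,5,4,3,2,1]))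 (.node (.word [2,4,3,7,3,4,2,1,3,2,5,6,7,3,2,8,7,3,4,2,3,7,5,6,1,2]) (.word [3,7,8,7,3,0,1,5,7,3,2,1,4,8,3,7,2,3,4,1,2,3,7,5,6,5]))) (.node (.node (.word [2,1,0,3,7,8,7,2,3,5,4,6,5,3,4,1,2,3,0,1,2]) (.word [2,1,5,7,3,2,4,3,7,8,5,4,2,3,7,6,5,2,3,1])) (.word [6,2,1,5,7,3,2,4,3,7,8,2,3,7,5,6,5,2,5,4,7,3,1,2,3,7,4,5,6,3,1])))) (.node (.node (.node (.word [0,1,2,6,3,2,1,2,5,4,3,2,1,7,8,6,5,4,3,7,8,4,5,6,5,2,0,3,7,8,7,3,1]) (.node (.word [0,4,5,4,7,3,2,4,3,7,8,4,3,7,3,4,5,6,1]) (.word [2,1,0,3,4,3,2,7,3,4,5,6,4,5,2,3,1,0,7,8,7,6,2,3,1,2]))) (.word [2,1,0,4,3,2,1,5,8,3,4,2,3,7,8,2,3,4,5,0,1,0])) (.node (.node (.node (.word [6,1,2,3,2,4,5,6,8,1,2,3,7,8,4,5,6,2,3,1,5,4,6,5,7,3,4,2,3,7,8,4,3,7,6,4,5,3,1]) (.word [6,1,3,4,3,0,2,1,0,5,4,3,7,3,4,5,6,5,2,3,1,2,0,1])) (.word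 [2,1,0,3,7,8,7,2,3,4,3,0,5,7,3,2,4,3,7,8,4,2,3,7,5,6,5,1])) (.node (.node (.word [1,2,3,4,5,6,8,1,2,3,7,8,4,5,3,2,1,0,3,5,4,3,2,3,7,1,2,3,4,5,6,4,3,2]) (.word [3,4,3,0,1,2,6,3,5,4,7,8,3,7,4,5,6,0,1,2,3,2,1])) (.word [3,4,3,0,2,1,0,5,7,3,2,4,3,7,8,4,2,3,7,5,1,2])))))) (.node (.node (.node (.node (.node (.node (.word [2,4,3,7,3,4,2,3,7,8,7,6,3,0,1,4,5,4,3,2,1,8,7,3,4,2,3,7,8,5,6,4,1,2]) (.word [3,5,4,3,7,3,8,2,3,7,5,6,5,4,1])) (.node (.word [2,1,0,4,3,2,1,5,8,3,4,2,3,7,8,2,3,4,5,1,0]) (.word [3,7,8,7,3,1,0,2,1,0,5,4,3,7,3,4,5,6,5,2,3,1,2,0]))) (.node (.word [2,4,3,7,3,4,2,0,1,2,6,3,2,1,2,5,4,7,8,3,7,4,5,6,5,2,1]) (.word [6,2,1,5,7,3,2,8,7,3,4,2,3,7,5,6,0,1,2,1,0]))) (.node (.node (.node (.word [0,7,8,7,2,3,1,4,3,7,3,4,2,1,3,2,5,4,6,5,7,3,4,2,3,7,8,3,7,6,4,1]) (.word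 [3,4,3,0,1,2,1,0,5,4,6,5,7,8,7,3,4,5,6,2,3,4,1,2])) (.word [3,7,8,7,3,1,2,3,4,5,6,8,1,2,3,7,8,4,5,3,0,4,7,3,4,8,1,2,3,7,8,4,3,7,1])) (.word [0,7,8,7,2,3,1,2,3,4,3,2,1,5,6,7,3,2,5,4,3,7,8,2,3,7,5,6,2,3]))) (.node (.node (.node (.node (.word [3,4,3,0,1,2,5,4,7,8,3,7,4,5,6,0,1,2,3,2,4,8,7,3,2,1,5,4,2,3,7,8,6,5,3,2,0,1,0]) (.word [0,1,2,3,2,0,1,4,5,4,3,7,8,4,2,3,7,2,3,4,5,1])) (.node .none (.word [0,2,1,3,4,5,4,3,2,1,7,6,3,4,5,3,4,3,2,0]))) (.node (.node (.word [0,5,4,3,2,7,3,8,7,2,3,4,5,6,4]) (.word [0,1,2,5,4,3,2,6,7,3,4,5,6,4,1,2,3,2])) (.word [0,1,2,3,2,0,1,0,2,4,3,7,3,4,2,1,3,2,5,6,7,3,2,8,7,3,4,2,3,7,5,6,1,2,1]))) (.node (.node (.node (.word [2,4,3,7,3,4,2,1,0,2,1,3,5,6,7,2,3,7,8,4,3,7,5,6,1,2]) (.word [6,5,4,3,2,1,7,3,2,4,3,7,5,6,4,5,4,3,1,2,1,0])) (.word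 [2,1,0,7,3,2,4,3,7,8,2,3,7,6,2])) (.node (.node (.word [3,2,7,3,4,6,5,4,3,7,2,3,1,2,4,5,6,7,8,3,7,2,3,4,5,6,3]) (.word [2,1,0,3,7,8,7,2,0,1,2,5,4,3,6,5,4,3,7,2,3,4,5,6,1,2,3,1])) (.word [0,1,2,3,1,4,7,3,4,6,5,4,2,3,7,6,4,1,2,0,1,0]))))) (.node (.node (.node (.node (.node (.word [3,2,7,3,4,6,5,4,3,7,2,3,1,7,3,2,4,8,3,7,8,3,4,2,3,7,6,1]) (.word [0,7,8,7,2,3,1,2,3,4,3,0,2,5,4,7,8,3,7,6,4,5,2,1])) (.node (.word [0,1,2,3,2,1,0,2,4,5,6,7,8,3,7,2,3,4,5,6,3]) (.word [2,1,5,4,3,2,1,7,3,7,4,5,6,3,4,2,3,0,1,2,0]))) (.node (.node (.word [6,2,4,3,5,4,8,7,3,2,4,3,7,8,1,2,3,4,5,4,2,3,2]) (.word [3,4,3,1,2,1,4,5,7,3,4,2,3,7,5,6,4,5,3,2,1])) (.word [3,4,3,1,0,2,1,0,3,5,4,6,2,3,7,3,4,5,6,1,2,0]))) (.node (.node (.node .none (.word [0,2,1,0,3,5,4,6,7,8,2,3,7,4,5,6,3,2])) (.node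 .none (.word [6,2,1,0,3,7,8,7,2,0,4,5,4,3,7,8,4,2,3,7,2,3,4,5,1]))) (.node (.word [2,4,3,7,3,4,2,3,7,8,7,6,3,2,3,5,4,3,2,1,8,2,3,7,8,5,6,4,5,3,2,1]) (.word [3,4,2,5,6,7,3,2,8,7,3,4,2,3,7,5,1,2])))) (.node (.node (.node (.node (.word [0,7,8,7,2,3,1,2,3,5,4,6,5,7,3,4,1,2,3,7,8,4,3,7,6,4]) (.word [6,1,2,1,0,3,7,8,7,2,3,5,4,6,5,6,3,4,1,2,3,0,1,2])) (.word [3,4,3,0,7,8,7,2,3,1,2,3,5,4,6,5,3,4,1,2,3,0,1,2,1])) (.node (.node .none (.word [5,4,3,6,5,4,2,3,7,8,7,5,6,2,3,1,2,0])) (.word [3,4,3,0,2,1,0,3,5,4,6,2,3,7,3,4,5,6,1,2,0]))) (.node (.node (.node (.word [2,1,0,3,7,8,7,2,3,2,7,3,4,6,5,4,3,7,2,3,1,2,4,5,6,7,8,3,7,2,3,4,5,6,3,1]) (.word [2,1,0,3,7,8,7,2,1,0,2,4,3,5,4,6,5,7,2,3,4,5,6,2,3,4,5,1,2])) (.word [0,7,8,7,2,3,1,2,3,4,3,0,2,5,4,7,8,3,7,4,5,6,5,2,1])) (.node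 (.node .none (.word [2,4,3,7,3,4,2,1,0,5,6,7,3,2,8,7,3,4,2,3,7,5,6,2,1])) (.word [0,2,3,2,4,7,3,8,1,2,3,7,4,3,0,1,2,1,0]))))))))

/-- A subtree. -/
def sub141 : WTree :=
  (.node (.node (.node (.node (.node (.node (.node (.node (.word [3,2,7,3,4,6,5,4,3,7,2,3,1,0,1,2,5,6,8,7,5,3,4,1,2,3,7,8,5,6,4]) (.word [6,1,2,3,2,5,4,7,8,3,7,4,5,6,3,1,2,1,0])) (.node (.word [0,1,2,3,2,0,1,5,4,3,2,7,3,8,7,2,3,4,5,4]) (.word [2,1,5,4,3,2,1,7,3,4,5,3,4,2,3,0,1,2,0,1]))) (.node (.node (.word [0,7,8,7,2,3,1,2,6,1,0,4,5,4,7,3,2,4,3,7,8,4,3,7,3,4,5,6,1]) (.word [0,4,5,4,3,7,8,4,2,3,7,2,3,4,5,1])) (.word [3,4,3,6,2,1,5,4,3,2,7,8,4,5,3,4,2,3,7,8,5,1]))) (.node (.node (.node (.word [0,7,8,7,2,3,1,2,6,1,3,2,5,4,6,5,7,3,4,2,3,7,8,3,7,4,1]) (.word [0,2,1,0,3,5,4,6,2,3,7,3,4,5,2,3,1,2,1,0]))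 (.node (.word [0,1,4,5,6,8,3,7,8,3,4,5,2,3,1,0]) (.word [2,1,0,4,5,4,3,2,7,3,4,5,3,4,1,2,1]))) (.node (.node (.word [2,4,3,7,3,4,2,3,2,5,4,6,5,7,3,4,2,3,7,8,3,7,4,1]) (.word [0,1,2,1,0,5,4,3,2,7,3,4,5,6,1,2,3,4,5,1,2])) .none))) (.node (.node (.node (.node (.word [3,7,8,7,4,3,2,1,0,3,4,3,2,3,7,8,3,7,5,6,4,5,2,3,1]) (.word [3,4,7,8,7,6,3,1,0,1,2,5,4,3,2,6,7,3,4,5,6,4,1,2,3,2,1])) (.node .none (.word [1,2,4,3,7,3,4,2,1,0,3,5,4,6,5,3,4,2,3,1,2]))) (.node (.node .none (.word [0,1,2,6,3,2,1,7,8,7,2,3,1,2,5,4,3,2,1,7,3,8,7,5,6,4,5,4,3,2,1])) (.word [2,1,0,3,4,3,2,7,3,4,5,6,4,5,2,3,1,4,7,3,8,7,8,2,3,7,4,5,6,4,5,3,1]))) (.node (.node (.node .none (.word [0,1,3,5,4,6,5,4,3,7,8,7,4,2,3,2,1,0])) .none) (.node (.node (.word [2,1,0,3,7,8,7,4,3,7,3,4,2,1,0,4,5,4,7,3,2,4,3,7,8,4,3,7,3,4,5,6,1])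 (.word [1,2,3,5,4,6,5,8,7,8,1,2,3,4,5,6,2,3,1,2])) (.word [3,4,3,0,1,2,4,5,6,7,8,5,4,3,7,2,3,4,5,6,1,0]))))) (.node (.node (.node (.node (.node (.word [6,1,2,1,5,7,3,2,4,3,7,8,2,3,7,5,6,5,2,3,0,1,4,5,4,3,2,1,8,7,3,4,2,3,7,8,5,6,4,1,2]) (.word [0,1,3,7,8,7,2,3,0,1,0])) (.node (.word [2,1,0,4,3,2,5,4,8,3,7,8,4,5,6,4,5,1,2,1,0]) (.word [1,0,5,4,3,2,1,7,8,4,3,7,6,5,4,2,3,1,2,1,0]))) (.node (.word [6,1,3,2,5,4,6,5,7,3,4,2,3,7,8,3,7,6,4,1]) (.word [2,4,3,7,3,4,2,1,3,7,8,7,3,0,1,2,5,4,3,2,6,7,3,4,5,6,4,1,2,3,2,1]))) (.node (.node (.word [1,0,1,2,5,6,8,7,3,4,1,2,3,7,8,5,6,4,0,5,7,3,2,4,3,7,8,4,2,3,7,5,6,5,1]) (.node (.word [3,4,3,1,0,2,1,0,5,7,3,2,4,3,7,8,4,2,3,7,5,6,1,2]) (.word [3,4,3,0,2,1,0,5,6,7,3,7,8,5,4,3,7,5,3,2,1]))) (.node (.node .none (.word [6,3,4,3,2,1,5,7,3,2,4,3,7,8,7,3,4,2,3,7,5,1,2]))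 (.word [3,4,3,0,3,5,6,7,3,2,4,3,7,8,7,3,4,2,3,7,5,1])))) (.node (.node (.node (.node (.word [3,7,8,7,3,0,1,4,5,4,3,2,1,8,7,3,4,2,3,7,8,5,6,4,1,2]) (.word [2,1,0,3,7,8,7,2,3,4,3,0,2,1,0,5,4,3,7,3,4,5,6,5,2,3,1,2,0])) (.node (.word [0,7,8,7,2,3,1,2,3,4,3,0,3,5,6,7,3,2,4,3,7,8,7,3,4,2,3,7,5,1]) (.word [2,3,4,3,5,4,2,3,7,1,2,3,4,5,0,1,2]))) (.node (.node (.word [6,1,2,4,3,7,3,4,2,3,2,5,4,6,5,7,3,4,2,3,7,8,3,7,4,1]) (.word [3,7,8,7,3,1,0,1,2,5,4,3,2,6,7,3,4,5,6,4,1,2,3,2,1])) .none)) (.node (.node (.node (.word [3,2,5,4,6,5,7,3,4,2,3,7,8,2,3,7,4,1]) (.word [6,5,4,3,2,1,0,8,6,5,4,3,7,8,5,3,2,1])) .none) (.node (.node .none (.word [2,1,0,3,7,8,7,2,0,5,4,3,2,1,7,3,4,2,3,7,1,2,3,4,5,6,0,1])) .none))))) (.node (.node (.node (.node (.node (.node (.word [3,4,3,2,1,0,3,7,8,7,2,3,5,4,6,5,7,3,4,1,2,3,7,8,4,3,7,4])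 (.word [3,7,8,7,3,2,1,0,4,5,4,3,2,7,3,4,5,6,3,4,1,2])) (.node (.word [2,4,3,7,3,4,2,1,3,7,8,7,6,3,2,1,5,4,3,2,1,7,3,4,5,6,3,4,2,3,0,1,2,0]) (.word [2,1,0,3,7,8,7,2,0,3,2,7,3,4,8,6,5,4,3,7,6,1,2,3,0,1]))) (.node (.node (.word [2,1,0,4,3,2,5,4,8,5,3,4,1,2,3,7,8,6,5,1,0]) (.word [0,1,2,1,0,5,4,6,5,7,8,7,3,4,5,6,2,3,4,1,2,1])) (.word [0,7,8,7,2,3,1,2,6,1,5,4,3,2,1,7,3,2,7,4,5,6,4,5,4,3,1,2,0,1,0]))) (.node (.node (.node (.word [3,7,8,7,3,2,1,0,4,3,2,5,8,7,3,4,3,7,6,5,2,3,4,1,2,3,7,8]) (.word [3,4,7,8,7,3,1,2,1,5,4,3,2,1,7,3,4,5,6,3,4,2,3,0,1,2,0])) (.word [3,7,8,7,3,0,2,3,4,5,4,3,6,5,8,4,2,3,7,8,1,2,3,4,5,6])) (.node (.node (.word [0,1,2,6,3,4,3,5,4,3,6,8,5,2,3,4,1,2,3,7,8,4,2]) (.word [2,4,3,7,3,4,2,3,7,8,7,3,0,1,2,5,4,3,2,6,7,3,4,5,6,4,1,2,3,2,1])) (.word [6,0,1,2,5,6,8,7,3,4,1,2,3,7,8,5,6,4,0,1,2,3,2,1,0]))))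 (.node (.node (.node (.node (.word [3,7,8,7,6,3,1,2,4,3,7,3,4,2,1,3,2,5,4,6,5,7,3,4,2,3,7,8,3,7,6,4,1]) (.word [0,1,2,1,8,3,7,8,2,3,2,1])) (.node (.word [2,4,3,7,3,4,2,1,0,2,3,5,7,3,2,4,3,7,8,6,5,4,2,3,7,6,2,1]) (.word [3,4,3,2,4,3,7,3,4,2,1,0,2,1,0,3,5,4,6,7,8,2,3,7,4,5,3,2,1]))) (.node (.node (.word [0,7,8,7,2,3,1,2,3,2,5,4,6,5,7,3,4,2,3,7,8,2,3,7,4,1]) (.word [3,7,8,7,6,3,0,2,1,0,5,4,3,7,3,4,5,6,5,2,3,1,2,0])) (.word [0,7,8,7,2,3,1,2,0,4,5,4,3,7,8,7,3,4,5,6,5,2,3,1,2,1]))) (.node (.node (.node (.word [0,7,8,7,2,3,1,2,4,8,7,3,7,8,4,5,6,4,5,3]) (.word [0,1,2,1,8,3,7,8,6,2,3,2,1])) (.node .none (.word [6,2,4,3,7,3,4,1,5,4,7,3,2,3,7,6,4,5,0,1,2,3,2,0,1]))) (.node (.word [3,7,8,7,3,1,0,1,5,4,6,5,7,3,4,2,3,7,8,4,3,7,4,5,6,1,0]) (.word [3,7,8,7,6,3,1,0,2,1,3,4,3,7,3,4,2,3,1,2,0])))))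 (.node (.node (.node (.node (.word [1,2,3,4,5,4,3,2,8,7,3,4,1,2,3,7,8,3,4,5,6,3,4,2]) (.word [3,7,8,7,3,2,1,0,3,7,8,7,1,0,4,3,2,5,8,7,3,4,3,7,6,5,2,3,4,1,2,3,7,8])) (.node (.word [1,2,4,3,7,3,4,2,3,2,5,4,6,5,7,3,4,2,3,7,8,3,7,4,1]) (.word [3,7,8,7,3,0,2,1,0,3,5,4,3,2,3,7,1,2,3,4,5,6,4,3,2]))) (.node (.node (.node (.word [3,7,8,7,6,3,2,1,0,3,7,8,7,2,0,2,3,4,5,4,3,6,5,8,4,2,3,7,8,1,2,3,4,5,6]) (.word [0,7,8,7,2,3,1,2,3,4,3,0,2,5,6,7,8,5,4,3,7,4,5,2,1])) (.node (.word [3,7,8,7,6,3,0,2,3,4,5,4,3,6,5,8,4,2,3,7,8,1,2,3,4,5,6]) (.word [0,7,8,7,2,3,5,4,3,2,1,7,3,4,5,6,3,4,2,3,0,1,2,0]))) (.node (.node .none (.word [6,1,2,4,5,4,8,7,3,8,7,2,3,4,5,6,3,1,2])) (.word [0,2,1,3,7,3,2,4,3,7,8,4,2,3,7,3,2,1])))) (.node (.node (.node (.node .none (.word [0,3,5,4,6,5,3,4,2,3,1,2]))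 (.word [3,7,8,7,6,2,7,3,4,6,5,4,3,7,2,3,1,0,2,4,5,6,8,7,3,8,7,2,3,4,5,1,2,3,0,1])) (.node (.node .none (.word [0,1,2,4,5,4,7,8,3,7,6,2,3,4,5,1,0])) (.word [0,1,2,5,6,8,7,3,4,1,2,3,7,8,5,6,4,0,1,2,3,2,0,1,0]))) (.node (.node (.node (.word [2,4,3,7,3,4,2,0,1,2,3,1,0,4,3,5,6,8,4,5,2,3,4,1,2,3,7,8,3,1,0]) (.word [6,1,3,4,3,0,2,3,5,7,3,2,4,3,7,8,4,2,3,7,5,6,3,1,2])) .none) (.node (.node (.word [3,7,8,7,6,3,0,2,1,0,5,7,3,2,4,3,7,8,2,3,7,5,6,5,3,2,1]) (.word [2,4,3,7,3,4,2,1,2,3,2,7,8,7,6,3,1,2,1,0])) (.word [4,5,4,3,7,8,1,2,3,7,2,3,4,5,0,1]))))))) (.node (.node (.node (.node (.node (.node (.word [2,3,4,5,6,8,1,2,3,7,8,4,5,3,0,2,1,4,5,8,7,3,2,4,3,7,8,1,2,3,4,5,6,4,1,0]) (.node (.word [2,1,5,4,3,2,7,3,7,4,5,3,4,2,3,7,8,7,1]) (.word [6,1,0,7,8,7,2,3,1,3,4,3,5,4,2,3,7,1,2,3,4,5,6,0,1,2])))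 (.node (.node (.word [2,4,3,7,3,4,2,3,7,8,7,3,0,2,1,0,3,5,4,6,2,3,7,3,4,5,6,1,2,0]) (.word [0,7,8,7,2,3,1,2,3,4,3,0,2,3,5,7,3,2,4,3,7,8,6,5,4,2,3,7,6,2,1])) .none)) (.node (.node (.node (.word [1,2,4,3,7,3,4,3,5,4,6,5,8,1,2,3,7,8,3,4,5,0,1]) (.word [2,3,2,5,4,7,8,3,7,4,5,1,2,1,0])) (.node (.word [3,7,8,7,6,4,3,2,1,5,4,3,2,7,8,4,5,3,4,2,3,7,8,5,6,1]) (.word [3,4,3,0,1,2,5,4,7,8,3,7,4,5,6,0,1,2,3,2,1]))) (.node (.node (.word [0,7,8,7,2,3,1,2,0,1,4,5,6,8,3,7,8,3,4,5,2,3,0,1,0]) (.word [2,1,0,3,7,8,7,2,3,4,3,0,2,3,5,6,7,3,2,5,4,3,7,8,5,4,2,3,7,2,1])) (.word [3,4,3,0,1,2,1,0,5,7,3,4,1,2,3,7,8,2,3,7,5,1,2])))) (.node (.node (.node (.node (.word [1,2,1,0,3,7,8,7,1,5,4,3,2,7,8,4,5,3,4,2,3,7,8,5,6]) (.word [0,2,1,0,5,7,3,2,4,3,7,8,4,2,3,7,5,6,1,2,1])) (.node (.word [2,4,3,7,3,4,2,1,4,8,7,3,2,1,5,4,3,7,8,5,6,5,3,2,0,1,0])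 (.word [3,7,8,7,3,2,1,0,3,7,8,7,2,5,4,3,2,1,7,3,8,7,5,6,4,5,4,3,2,1]))) (.node (.word [2,4,5,4,8,7,3,8,7,2,3,4,5,3,1,2,1,3,5,4,6,5,4,3,7,8,7,6,4]) (.word [3,7,8,7,6,4,3,0,2,1,0,5,4,3,7,3,4,5,6,5,2,3,1,2,0,1]))) (.node (.node (.node (.word [3,4,3,6,0,5,6,7,3,2,1,4,5,3,4,2,3,7,8,5,4,1,2,3,7]) (.word [2,1,0,3,7,8,7,2,3,2,1,5,4,7,8,2,3,7,4,5,6,0,1,2,3,1])) (.node (.word [2,1,0,3,7,8,7,4,3,7,3,4,2,1,0,3,5,4,6,5,3,4,2,3,1,2]) (.word [6,1,5,4,3,2,1,7,3,2,7,4,5,6,4,5,4,3,1,2,1,0]))) (.node (.node (.word [2,4,3,7,3,4,1,0,3,7,8,7,2,5,4,3,2,1,7,3,8,7,5,6,4,5,4,3,2,1]) (.word [3,7,8,7,3,0,2,1,0,5,4,3,7,3,4,5,6,5,2,3,1,2,0])) (.word [0,2,1,0,5,7,3,4,7,8,3,7,5,6,5,3,2]))))) (.node (.node (.node (.node (.node (.word [2,4,3,7,3,4,2,1,0,2,5,4,3,2,1,7,8,6,5,4,3,7,8,4,5,6,5,2,0,3,5,4,3,7,8,7,5,6,5,4])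 (.word [2,1,0,3,7,8,7,2,3,4,3,0,1,2,5,4,3,2,6,7,3,4,5,6,4,1,2,3,2,1])) (.node (.word [0,1,2,3,2,1,0,2,4,3,7,3,4,2,1,0,2,1,3,5,6,7,2,3,7,8,4,3,7,5,6,1,2,1]) (.word [2,1,3,4,3,2,7,3,4,5,6,4,5,1,2,3,0,1]))) (.node (.node .none (.word [6,2,1,5,4,3,2,1,7,3,4,5,3,4,2,3,0,1,2,0])) (.word [0,4,7,8,6,5,4,3,7,8,2,3,7,4,5,1]))) (.node (.node (.node (.word [2,4,3,7,3,4,2,1,0,2,1,3,5,6,7,2,3,7,8,4,3,7,5,1,2]) (.word [3,7,8,7,3,2,1,4,5,7,3,4,2,3,7,5,6,4,5,3,2,1])) (.node .none (.word [3,7,8,7,3,2,1,5,7,3,2,4,3,7,8,7,3,4,2,3,7,5,1,2]))) (.node (.node .none (.word [2,4,3,7,3,4,2,1,0,4,5,4,3,7,8,7,3,4,5,6,5,2,3,1,2,1])) .none))) (.node (.node (.node (.node (.word [6,1,2,4,3,7,3,4,2,1,3,2,5,4,6,5,7,3,4,2,3,7,8,3,7,4,1]) (.word [3,4,3,0,2,1,0,5,6,7,3,5,4,3,7,5,6,2,3,1,2,0,1]))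 (.node (.word [3,4,3,2,1,0,3,7,8,7,3,2,4,5,7,3,8,4,2,3,7,5,6,4,3,1,2,1,0]) (.word [1,2,1,7,3,2,8,4,3,7,8,2,3,7,1,2,3,1,2,0]))) (.node (.node (.word [2,3,4,5,6,8,1,2,3,7,8,4,5,6,3,0,1]) (.word [1,3,2,7,3,4,6,5,4,3,7,2,3,1,0,1,2,1,8,3,7,8,6,2,3,2])) (.word [0,1,4,5,4,3,7,8,4,2,3,7,5,6,4,5,4,2,0,1,0]))) (.node (.node (.word [2,3,4,5,6,8,1,2,3,7,8,4,5,3,0,2,1,5,4,3,2,7,8,4,5,3,4,2,3,7,8,5]) (.word [2,3,5,4,6,5,8,7,8,1,2,3,4,5,2,3,1,2,1])) (.node (.node (.word [2,1,5,4,3,2,7,8,4,5,3,4,2,3,7,8,5,6,1]) (.word [0,2,1,3,4,3,7,6,3,4,2,3,1,2,0])) (.word [5,4,3,2,1,0,8,6,5,4,2,3,7,8,5,3,2,1])))))) (.node (.node (.node (.node (.node .none (.node (.word [3,7,8,7,6,3,1,2,4,3,7,3,4,2,1,0,2,1,3,5,6,7,2,3,7,8,4,3,7,5,6,1,2,1]) (.word [6,0,5,4,3,2,1,7,8,4,3,7,6,5,4,2,3,1,2,1,0])))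 (.node (.node (.word [2,4,5,4,8,7,3,8,7,2,3,4,5,3,1,2,1,4,8,7,3,7,8,4,5,6,4,5,3,1]) (.word [0,7,3,2,4,5,8,3,7,4,5,3,4,2,3,7,6,5,1,0,3,5,4,6,5,6,3,4,2,3,1,2])) .none)) (.node (.node (.node (.word [2,4,3,7,3,4,2,0,1,2,3,2,1,0,4,8,7,3,2,1,5,4,3,7,8,5,6,5,3,2,0,1,0]) (.word [3,7,8,7,3,1,2,1,4,5,7,3,4,2,3,7,5,6,4,5,3,2,1])) (.node (.word [3,4,3,2,1,0,3,7,8,7,1,5,4,3,2,7,8,4,5,3,4,2,3,7,8,5,6,1]) (.word [3,7,8,7,6,3,2,4,3,7,3,4,2,1,0,3,5,4,6,5,6,3,4,2,3,1,2]))) (.node (.word [2,1,4,5,8,7,3,2,4,3,7,8,1,2,3,4,5,4,0,1,0]) (.word [3,4,3,6,0,3,5,6,7,3,2,4,3,7,8,7,3,4,2,3,7,5,6,1])))) (.node (.node (.node (.node (.word [1,2,4,3,7,3,4,2,1,3,2,5,4,6,5,7,3,4,2,3,7,8,3,7,4,1]) (.word [0,2,3,5,7,3,2,4,3,7,8,6,5,4,2,3,7,2,1])) (.word [6,1,2,4,3,7,3,4,2,1,3,2,5,4,7,8,3,7,4,5,6,2,3,1]))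 (.node (.node (.word [6,1,3,2,7,3,4,6,5,4,3,7,2,3,1,4,7,3,4,8,7,3,4,2,3,7,4,5,6,4,5,3,1]) (.word [3,7,8,7,3,0,5,4,3,2,1,7,3,4,2,3,7,1,2,3,4,5,6,0,1])) (.word [1,0,2,1,0,5,7,3,2,4,3,7,8,4,2,3,7,5,6,1,2]))) (.node (.node (.node (.word [3,4,7,8,7,3,1,2,1,5,4,3,2,7,8,4,5,3,4,2,3,7,8,5,6]) (.word [0,2,3,5,6,7,3,2,5,4,3,7,8,5,4,2,3,7,2,1])) (.word [0,1,2,6,3,2,1,0,2,1,4,5,4,7,3,2,8,4,3,7,5,6,4,5,1,2,0,1,0])) (.node .none (.word [2,1,0,3,4,3,5,7,6,2,3,4,5,2,3,1]))))) (.node (.node (.node (.node (.node (.word [2,1,0,3,7,8,7,4,3,7,3,4,2,1,2,3,4,5,4,3,2,8,7,3,4,1,2,3,7,8,3,4,5,6,3,4,2]) (.word [0,7,8,7,2,3,1,4,3,7,3,4,2,1,0,3,5,4,6,5,6,3,4,2,3,1,2])) (.node (.word [3,7,8,7,3,1,2,4,3,7,3,4,2,0,3,2,5,4,7,8,3,7,4,5,6,1,2,3,0]) (.word [3,7,8,7,3,5,4,3,2,1,7,3,2,7,4,5,6,4,5,4,3,1,2,0,1,0])))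 (.node (.node (.word [0,7,8,7,2,3,1,2,4,8,7,3,2,1,5,4,3,7,8,5,6,5,2,0,1,0]) (.word [3,7,8,7,6,3,2,4,3,7,3,4,2,0,2,1,0,3,5,4,6,2,3,7,3,4,5,6,1,2,0,1])) (.word [3,5,4,6,5,7,4,3,7,8,2,3,7,4,1]))) (.node (.node (.node .none (.word [1,2,1,0,3,7,8,7,2,3,5,4,6,5,6,3,4,1,2,3,0,1,2])) (.node (.word [3,4,3,2,1,5,7,3,2,8,7,3,4,2,3,7,5,6,0,1,2,1,0]) (.word [6,1,2,4,3,7,3,4,1,5,4,7,3,2,3,7,6,4,5,0,1,2,3,2,0,1]))) (.node (.node (.word [3,7,8,7,6,3,1,2,4,3,7,3,4,2,0,2,1,3,5,6,7,2,3,7,8,4,3,7,5,6,1,2,1]) (.word [2,4,3,7,3,4,3,5,4,3,2,1,8,2,3,7,8,5,6,4,5,3,2,1])) (.word [6,2,3,5,4,3,2,1,8,2,3,7,8,5,6,4,5,3,2,1])))) (.node (.node (.node (.node .none (.word [3,4,3,0,2,1,3,5,6,7,2,3,7,8,4,3,7,5,1,2,1])) (.node (.word [0,2,1,0,4,3,5,4,3,8,2,3,7,8,1,2,3,4,5,0]) (.word [6,0,7,8,7,2,3,5,4,3,2,1,7,3,4,5,6,3,4,2,3,0,1,2,0])))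 (.node (.node .none (.word [6,1,0,2,1,0,5,4,3,7,3,4,5,6,5,2,3,1,2,0,1])) (.word [0,1,2,3,2,1,7,8,7,2,3,5,4,3,2,1,7,3,7,4,5,6,3,4,2,3,0,1,2,0]))) (.node (.node (.word [2,4,3,7,3,4,2,1,0,1,2,3,2,1,4,5,4,7,3,2,4,3,7,8,4,3,7,3,4,5,6]) (.word [2,4,3,7,3,4,2,0,1,2,5,7,3,2,8,7,3,4,2,3,7,5,6,1,2,3])) (.node (.node (.word [3,7,8,7,4,3,0,1,2,5,7,3,8,7,8,4,3,7,5,6,0,1,2,3]) (.word [2,3,2,5,4,7,8,3,7,4,5,6,3,1,2,0,1,0])) (.word [0,1,5,4,3,2,1,0,8,7,3,4,2,3,7,8,5,6,4,3,2]))))))))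

/-- A subtree. -/
def sub142 : WTree :=
  (.node (.node (.node (.node (.node (.node (.node (.word [0,7,8,7,2,3,1,4,3,7,3,4,2,1,3,2,5,4,6,5,7,3,4,2,3,7,8,3,7,4]) (.node (.word [3,4,3,0,2,1,3,5,7,8,7,2,3,4,5,6,2,3,4,5]) (.word [3,7,8,7,3,0,2,3,5,7,3,2,4,3,7,8,6,5,4,2,3,7,6,2,1]))) (.node (.node (.word [0,1,2,3,2,1,0,4,8,7,3,2,1,5,4,3,7,8,5,6,5,3,2,0,1,0]) (.word [3,4,3,5,4,3,2,1,7,3,2,7,4,5,6,4,5,4,3,1,2,0,1,0])) .none)) (.node (.node .none (.node (.word [2,4,5,4,8,7,3,8,7,2,3,4,5,3,1,2,1,0,1,4,5,6,8,3,7,8,3,4,5,2,3,1,0]) (.word [3,4,7,8,7,6,3,0,2,3,5,7,3,2,4,3,7,8,6,5,4,2,3,7,6,2,1]))) (.node (.node (.word [3,7,8,7,6,3,1,2,4,3,7,3,4,2,3,2,5,4,6,5,7,3,4,2,3,7,8,3,7,6,4,1]) (.word [0,7,8,7,2,3,1,2,3,4,3,0,2,1,0,5,4,3,7,3,4,5,6,5,2,3,1,2,0])) (.word [6,1,0,5,4,3,2,7,3,8,7,2,3,4,5,4,1]))))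 (.node (.node (.node (.node (.word [0,1,2,5,4,3,6,8,7,3,8,7,4,5,3,4,1,2,3,7,8,4]) (.word [0,1,2,1,0,4,3,5,4,7,3,7,6,5,2,3,4,3,1,2,1,0])) (.node (.word [6,1,0,2,1,3,4,7,2,3,4,0,1,2,3,7,8,3,7,1]) (.word [2,1,5,6,7,8,5,4,3,7,4,5,2,3,1,2,1,0]))) (.node (.node (.word [3,7,8,7,3,0,2,1,3,4,7,2,3,4,0,1,2,3,7,8,3,7]) (.word [3,4,3,0,1,2,1,0,4,3,5,4,7,3,7,6,5,2,3,4,3,1,2,1,0])) .none)) (.node (.node (.node (.word [3,4,3,2,1,0,3,7,8,7,2,3,2,5,4,6,5,7,3,4,2,3,7,8,3,7,6,4,1]) (.word [3,4,7,8,7,6,3,0,1,2,5,4,3,2,6,7,3,4,5,6,4,1,2,3,2,1])) (.node (.word [3,4,3,0,2,5,6,7,3,2,5,4,3,7,8,2,3,7,5,1]) (.word [2,5,4,3,2,1,0,7,8,5,4,2,3,7,8,4,5,4,3,2,1]))) (.node (.node (.word [3,4,3,2,1,5,4,3,2,7,8,4,5,3,4,2,3,7,8,5]) (.word [3,7,8,7,6,3,1,0,2,3,5,7,3,2,4,3,7,8,6,5,4,2,3,7,6,2,1]))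 (.word [0,2,3,2,5,6,7,3,4,1,2,3,7,8,4,2,3,7,5,2]))))) (.node (.node (.node (.node (.node .none (.word [6,3,4,3,2,4,5,4,8,7,3,8,7,2,3,4,5,3,1,2,1])) (.word [2,4,3,7,3,4,2,0,1,2,3,2,4,5,4,3,8,7,3,4,2,3,7,8,6,5,1,2,3])) (.node (.node (.word [6,3,2,7,3,4,6,5,4,3,7,2,3,1,7,3,2,4,8,3,7,8,4,2,3,7,6]) (.word [0,1,2,5,4,3,7,3,4,5,6,2,0,1,0])) (.word [2,3,2,4,5,4,7,1,2,3,7,8,0,1,2,3,7,4,5]))) (.node (.node (.node (.word [2,3,4,5,6,8,1,2,3,7,8,4,5,3,0,2,1,5,4,3,2,7,3,7,4,5,3,4,2,3,7,8,7]) (.word [2,4,3,7,3,4,2,1,3,7,8,7,6,3,0,2,1,0,5,4,3,7,3,4,5,6,5,2,3,1,2,0])) (.node .none (.word [2,1,0,3,4,3,2,7,3,4,5,6,4,5,2,3,1]))) (.node (.node (.word [6,5,4,6,7,3,4,1,2,3,7,8,4,3,7,5,6,0,1,2,3,4,5,6,8,1,2,3,7,8,4,5,3,0,1]) (.word [2,1,5,7,3,2,4,3,7,8,7,3,4,2,3,7,5,1,2])) (.word [6,1,2,4,3,7,3,4,1,5,6,7,8,2,3,7,8,4,3,7,5,0,1,2,1]))))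 (.node (.node (.node (.node (.word [0,7,8,7,2,3,1,4,3,7,3,4,2,1,4,8,7,3,2,1,5,4,3,7,8,5,6,5,2,0,1,0]) (.word [3,7,8,7,6,3,0,2,1,0,5,4,3,7,3,4,5,6,5,2,3,1,2,0,1])) (.node (.word [0,7,8,7,2,3,1,2,3,4,3,0,2,1,0,5,4,3,7,6,3,4,5,2,3,1,2,0]) (.word [0,1,2,3,2,0,1,2,4,5,4,3,7,6,2,3,4,5,4,2]))) (.node (.node (.word [0,2,3,4,5,4,3,6,5,8,4,2,3,7,8,1,2,3,4,5,6,1]) (.word [6,1,0,2,1,0,5,7,3,2,4,3,7,8,4,2,3,7,5,1,2])) (.word [0,1,2,5,7,3,2,8,7,3,4,2,3,7,5,6,0,1,2,3]))) (.node (.node (.word [2,1,5,4,3,2,7,3,7,4,5,3,4,2,3,7,8,7]) (.word [6,0,2,5,4,3,2,1,7,8,6,5,4,3,7,8,4,5,6,5,2,0,4,7,3,4,8,1,2,3,7,8,4,3,7])) (.node (.node (.word [2,4,3,7,3,4,2,0,2,1,0,4,3,5,4,3,8,2,3,7,8,1,2,3,4,5,6,0]) (.word [3,2,5,4,3,7,3,4,5,2,3,1])) (.word [0,7,3,2,4,5,8,3,7,4,5,3,4,2,3,7,6,5,1,0,7,8,7,6,2,3,1,2]))))))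 (.node (.node (.node (.node (.node (.word [2,4,3,7,3,4,2,1,3,2,5,4,6,5,7,3,4,2,3,7,8,3,7,6,4]) (.word [3,4,3,0,7,8,7,2,3,1,2,3,5,4,6,5,3,4,1,2,3,0,1,2])) (.node (.node .none (.word [3,4,3,0,2,3,5,4,7,3,8,7,6,4,5,2,3,1,2,0])) (.word [2,3,2,7,3,4,8,6,5,4,3,7,6,1,2,1,0]))) (.node (.node (.node (.word [2,4,3,7,3,4,3,5,4,6,5,8,4,1,2,3,7,8,3,4,5,0,1]) (.word [0,1,3,5,4,3,7,8,7,6,5,4,2,3,2,1,0])) (.node .none (.word [2,4,3,7,3,4,2,1,2,4,5,4,8,7,3,8,7,2,3,4,5,6,3,1,2]))) (.node (.node (.word [2,4,3,7,3,4,2,1,0,1,2,5,6,8,7,3,4,1,2,3,7,8,5,6,4,0,3,2,5,4,3,7,3,4,5,1,2,3,0,1]) (.word [3,7,8,7,3,2,1,0,3,4,3,2,7,3,4,5,6,4,5,2,3,1])) (.word [0,1,5,4,3,2,1,8,6,5,4,3,7,8,5,6,2,3])))) (.node (.node (.node (.node (.word [3,7,8,7,6,3,0,1,4,5,4,3,2,1,8,7,3,4,2,3,7,8,5,6,4,1,2]) (.word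 [3,7,8,7,6,4,3,0,2,1,0,5,4,3,7,3,4,5,6,5,2,3,1,2,0])) (.word [6,1,2,1,5,4,3,2,7,8,4,5,3,4,2,3,7,8,5,1])) (.node (.node .none (.word [3,4,3,2,1,5,4,3,7,3,4,5,6,5,3,2,1])) (.word [0,7,8,7,2,3,1,2,0,1,2,5,4,3,2,6,7,3,4,5,4,0,1,2,3,2,1]))) (.node (.node (.node (.word [2,1,0,3,7,8,7,2,6,1,3,2,5,4,6,5,7,3,4,2,3,7,8,3,7,6,4,1]) (.word [1,2,4,3,7,3,4,2,0,2,3,2,5,6,7,3,4,1,2,3,7,8,4,2,3,7,5,2])) (.node (.word [0,5,7,3,2,4,3,7,8,4,2,3,7,6,5,1]) (.word [0,5,6,7,3,2,8,7,3,4,2,3,7,5,2,1]))) (.node (.node (.word [3,5,4,6,5,4,3,7,8,7,4]) (.word [4,7,3,1,2,3,7,4,0,1,2,3,2,1,0])) (.word [6,0,3,5,6,7,3,2,4,3,7,8,7,3,4,2,3,7,5,6,1]))))) (.node (.node (.node (.node (.node (.word [2,1,0,3,7,8,7,2,3,2,7,3,4,6,5,4,3,7,2,3,1,7,3,2,4,8,3,7,8,4,2,3,7,6,1]) (.word [0,3,2,5,4,6,5,7,8,3,7,6,2,3,4,2,3,1,2,1]))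 (.node (.word [2,1,5,7,3,2,4,3,7,8,2,3,7,5,6,5,2,3,4,5,6,8,3,7,8,3,4,5,3,1]) (.word [6,1,2,1,5,4,7,3,2,8,7,4,5,6,5,3,1,2,1,0]))) (.node (.node (.word [0,2,3,4,5,4,3,6,5,8,4,2,3,7,8,1,2,3,4,5,6]) (.word [0,1,2,8,7,3,7,8,0,1,2,3])) (.word [0,2,5,6,7,3,2,5,4,3,7,8,2,3,7,5,1]))) (.node (.node (.node .none (.word [3,4,3,5,4,3,2,1,0,7,3,2,8,7,3,4,5,6,5,2,3,4,1,2])) (.node (.word [3,4,3,2,1,0,3,7,8,7,2,5,4,3,2,1,0,8,6,5,4,3,7,8,5,6,3,2]) (.word [0,7,8,7,2,3,1,2,6,5,4,3,2,1,0,7,3,2,8,7,4,5,6,4,5,4,1,2,3,2,0]))) (.node (.word [2,4,5,8,7,3,2,1,4,5,3,4,2,3,7,8,3,4,5,1,0]) (.word [1,2,4,3,7,3,4,2,3,2,5,6,7,3,2,8,7,3,4,2,3,7,5,1,2,1])))) (.node (.node (.node (.node (.word [2,4,3,7,3,4,2,1,0,1,5,4,6,5,7,3,4,2,3,7,8,4,3,7,4,5,6,1,0]) (.word [6,1,0,2,3,5,7,3,2,4,3,7,8,4,2,3,7,5,6,3,1,2]))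 (.node .none (.word [1,2,1,0,3,7,8,7,2,0,1,2,5,4,3,2,6,7,3,4,5,6,4,1,2,3,2,1]))) (.node (.node (.word [3,7,8,7,3,1,2,1,5,4,3,2,7,8,4,5,3,4,2,3,7,8,5,6,1]) (.word [2,1,0,3,4,7,8,3,7,4,2,1])) .none)) (.node (.node (.node (.word [0,1,2,5,6,8,7,3,4,1,2,3,7,8,5,6,4,0,3,2,5,4,3,7,3,4,5,1,2,3,0,1]) (.word [2,3,4,5,6,7,8,5,4,3,7,1,2,3,4,5,4,1])) (.word [3,7,8,7,6,4,3,0,2,1,0,5,4,3,7,6,3,4,5,2,3,1,2,0])) (.node (.node .none (.word [6,3,2,7,3,4,6,5,4,3,7,2,3,1,0,7,8,7,6,2,3,1,2])) (.word [3,4,3,0,2,1,0,5,4,3,7,6,3,4,5,2,3,1,2,0]))))))) (.node (.node (.node (.node (.node (.node (.node .none (.word [3,7,8,7,6,3,2,1,5,4,3,7,3,4,5,6,5,3,2,1])) (.node .none (.word [6,2,3,4,3,5,4,2,3,7,1,2,3,4,5,0,1,2]))) (.node (.node (.word [6,0,2,1,5,4,3,2,1,0,7,8,6,5,4,3,7,8,2,3,4,5,6,4])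 (.word [6,1,5,4,3,2,1,0,8,6,5,4,3,7,8,5,6,3,2])) (.word [2,3,4,5,6,8,1,2,3,7,8,4,5,3,0,2,1,4,7,8,3,7,4,2,3,0,1,2,0]))) (.node (.node (.node (.word [1,2,4,3,7,3,4,2,1,0,1,5,7,3,2,4,8,3,7,8,4,2,3,7,5,6,1,0]) (.word [0,1,3,5,4,3,7,8,7,5,6,5,4,0,1,0,2,1,5,4,3,2,1,7,3,4,5,6,3,4,2,3,0,1,2,0])) (.node (.word [4,8,7,3,2,1,5,4,3,7,8,5,6,5,2,1,0]) (.word [3,7,8,7,3,5,4,3,2,1,7,3,8,7,5,6,4,5,4,3,2,1]))) (.word [1,0,2,1,0,5,6,7,3,5,4,3,7,5,6,2,3,1,2,0,1,4,8,7,3,2,1,5,4,3,7,8,5,6,5,2,0,1,0]))) (.node (.node (.node (.node .none (.word [0,3,2,7,3,2,4,3,8,7,3,4,2,3,7,6,1,2,3,0])) (.node (.word [4,8,7,3,7,8,4,5,6,4,5,3,1]) (.word [0,1,2,5,4,3,2,6,7,3,4,5,6,4,0,1,2,3,2,1]))) (.node (.node (.word [0,7,8,7,2,3,1,2,1,0,4,5,4,7,3,2,4,3,7,8,4,3,7,3,4,5,6,1]) (.word [0,7,8,7,2,3,1,2,3,4,3,2,1,5,6,7,8,2,3,7,8,4,3,7,5,0,1,2,1]))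 (.word [1,2,1,5,7,3,2,4,3,7,8,2,3,7,5,6,5,2,3,4,7,3,7,8,2,3,7,4,1,2,3,0,1,2]))) (.node (.node (.node (.word [0,7,8,7,2,3,1,2,0,1,4,5,6,8,3,7,8,3,4,5,2,3,1,0]) (.word [0,3,2,7,3,2,4,3,8,7,3,4,2,3,7,1,2,3,0])) (.node (.word [0,7,8,7,2,3,1,2,3,4,3,0,2,1,0,5,6,7,3,5,4,3,7,5,2,3,1,2,0]) (.word [3,7,8,7,3,1,2,4,3,7,3,4,2,1,0,3,5,4,6,5,6,3,4,2,3,1,2]))) (.node (.node (.word [0,7,8,7,2,3,1,2,6,0,1,2,1,4,5,4,3,6,5,7,4,5,2,3,4,1,2,3,7,8,7]) (.word [2,1,0,3,7,8,7,2,0,3,2,7,3,4,6,5,4,3,7,6,1,2,3,0,1])) (.word [1,0,7,8,7,2,3,1,2,4,5,4,3,7,8,7,6,3,4,5,1,2,3,0,1,2,1]))))) (.node (.node (.node (.node (.node (.word [3,5,4,6,5,7,3,4,1,2,3,7,8,4,3,7,4]) (.word [6,0,2,5,4,3,2,1,7,8,6,5,4,3,7,8,6,4,5,2,0,1])) (.word [7,3,2,4,8,3,7,8,4,2,3,7,1])) (.node (.node (.word [2,4,3,7,3,4,2,1,0,7,8,7,2,3,1,2,4,7,3,8,7,1,2,3,7,4,5,6,4,5,3,1])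 (.word [5,6,7,8,5,4,1,2,3,7,4,5,6,2,0,1])) (.word [6,3,4,3,2,4,3,5,4,3,7,8,1,2,3,7,8,6,0,1,2,3,4,5]))) (.node (.node (.node (.word [2,4,3,7,3,4,2,1,0,1,2,5,7,3,2,8,7,8,3,4,2,3,7,5,6,1,2,3]) (.word [3,4,7,8,7,6,3,1,2,1,4,5,7,3,4,2,3,7,5,6,4,5,3,2,1])) .none) (.node (.node .none (.word [0,5,6,7,3,2,8,7,3,4,2,3,7,5,6,2,1])) (.word [0,3,5,6,7,3,2,4,3,7,8,7,3,4,2,3,7,5,6,1])))) (.node (.node (.node (.word [0,7,8,7,2,3,0,4,3,2,5,8,7,3,4,3,7,8,1,2,3,4,5,0,1,2,3]) (.node (.word [6,1,0,7,8,7,2,3,0,4,3,2,5,8,7,3,4,3,7,6,5,2,3,4,1,2,3,7,8]) (.word [2,4,3,7,3,4,2,0,4,5,4,3,7,8,7,3,4,5,6,5,2,3,1,2]))) (.node (.node (.word [1,2,1,0,3,7,8,7,2,3,5,4,6,5,3,4,1,2,3,0,1,2]) (.word [4,5,4,3,7,8,4,1,2,3,7,2,3,4,5,0,1])) .none)) (.node (.node (.node (.word [2,4,3,7,3,4,2,1,0,7,8,7,2,3,1,2,4,7,3,8,7,1,2,3,7,4,5,6,4,5,3])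 (.word [3,7,8,7,6,3,0,4,5,4,3,7,8,4,2,3,7,2,3,4,5,1])) (.word [3,4,3,0,1,2,5,7,3,2,8,7,3,4,2,3,7,5,6,0,1,2,3])) (.node (.node (.word [3,7,8,7,6,3,1,2,4,3,7,3,4,2,0,1,2,4,3,5,4,3,6,8,5,2,3,4,1,2,3,7,8,6,4,2]) (.word [3,4,7,8,7,3,1,2,1,5,4,3,7,6,3,4,5,3,2,1])) .none))))) (.node (.node (.node (.node (.node (.node (.word [3,4,3,0,1,2,5,4,7,8,3,7,4,5,6,0,1,2,3,2,1,0,2,1,0,4,3,5,4,3,8,2,3,7,8,1,2,3,4,5,6,0,1]) (.word [3,2,5,4,6,5,7,4,3,7,2,3,4,1,2,3,0,1,2])) (.node (.word [0,7,8,7,2,3,1,2,4,7,3,8,7,1,2,3,7,4,5,6,4,5,3]) (.word [6,3,2,7,3,4,6,5,4,3,7,2,3,1,0,7,8,7,6,2,3,1,2,1]))) (.node (.node (.word [1,2,1,0,3,7,8,7,2,0,1,2,4,3,5,4,3,6,8,5,2,3,4,1,2,3,7,8,6,4,2]) (.word [0,1,2,3,2,1,5,4,3,2,1,7,3,4,2,3,7,1,2,3,4,5,0,1])) (.word [2,4,3,7,3,4,2,1,3,2,5,4,7,8,3,7,4,5,6,2,3])))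 (.node (.node (.node (.word [1,0,7,8,7,2,3,1,2,4,5,4,7,3,4,8,1,2,3,7,8,4,3,7,4,5,6,0]) (.word [0,1,3,7,8,7,2,3,1,0])) (.node (.word [3,7,8,7,3,0,2,5,4,3,2,1,7,8,6,5,4,3,7,8,4,5,6,5,2,0,3,5,4,3,7,8,7,5,6,5,4,1]) (.word [2,1,0,3,7,8,7,2,3,4,3,2,1,5,4,3,7,6,3,4,5,3,2,1]))) (.node (.node (.word [6,2,1,5,4,3,2,7,8,4,5,3,4,2,3,7,8,5,6,1]) (.word [3,7,8,7,6,3,0,2,5,4,3,2,1,7,8,6,5,4,3,7,8,6,4,5,2,0,1])) .none))) (.node (.node (.node (.node (.word [0,1,3,5,4,3,7,8,7,5,6,5,4,2,3,2,1,0,4,5,6,7,3,7,8,2,3,7,3,4,5,3,1]) (.word [0,1,2,3,2,0,1,5,6,7,3,2,8,7,3,4,2,3,7,5,6,2,1])) (.node (.word [2,1,0,3,7,8,7,2,3,4,3,0,2,1,0,5,4,3,7,3,4,5,6,5,2,3,1,2,0,1]) (.word [5,4,3,2,1,7,3,8,7,4,5,6,4,5,4,3,2]))) (.node (.node (.word [4,5,6,8,3,7,8,3,4,5,3,1]) (.word [3,7,8,7,6,3,1,2,1,5,4,3,7,6,3,4,5,3,2,1]))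 .none)) (.node (.node (.node (.word [3,7,8,7,3,2,3,4,5,4,3,2,8,7,3,4,1,2,3,7,8,3,4,5,6,3,4,2]) (.word [3,7,8,7,6,3,2,1,5,7,3,2,4,3,7,8,7,3,4,2,3,7,5,6,1,2])) (.word [2,1,0,3,7,8,7,4,3,7,3,4,2,1,0,2,3,5,7,3,2,4,3,7,8,4,2,3,7,5,6,3,1,2])) (.node (.node .none (.word [2,1,0,3,4,3,2,7,3,4,5,6,4,5,2,3,1,0,7,8,7,2,3,1,2])) (.word [3,4,7,8,7,3,0,2,1,0,3,5,4,6,7,8,2,3,7,4,5,3,2,1]))))) (.node (.node (.node (.node .none (.node (.word [0,7,8,7,2,3,1,2,3,4,3,0,5,7,3,2,4,3,7,8,4,2,3,7,5,6,5,1]) (.word [3,4,7,8,7,6,3,1,0,2,3,5,7,3,2,4,3,7,8,6,5,4,2,3,7,6,2,1]))) (.node (.node (.word [6,2,4,3,5,8,7,3,2,1,4,3,7,8,7,6,3,4,5,3,2,1,4,5,4,7,3,2,4,3,7,8,4,3,7,3,4,5,6]) (.word [1,0,2,1,0,3,5,4,6,2,3,7,3,4,5,6,1,2,0,1])) (.word [3,4,3,0,2,1,0,3,5,4,6,2,3,7,3,4,5,2,3,1,2,1,0]))) (.node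 (.node .none (.node (.word [4,7,3,8,7,1,2,3,7,4,5,6,4,5,3]) (.word [2,4,3,7,3,4,2,0,3,5,4,6,5,6,3,4,2,3,1,2,1]))) (.node (.node .none (.word [6,0,2,3,5,7,3,2,4,3,7,8,4,2,3,7,5,3,1,2,1])) (.word [0,1,2,1,5,7,3,7,8,4,3,7,5,6,2,3,2])))) (.node (.node (.node (.node (.word [0,1,2,6,3,2,1,0,2,4,3,7,3,4,2,1,3,2,5,4,6,5,7,3,4,2,3,7,8,3,7,6,4,1]) (.word [0,1,2,3,2,1,7,8,7,2,3,5,4,3,2,1,7,3,4,5,6,3,4,2,3,0,1,2,0])) (.node (.word [0,1,2,3,2,0,1,4,5,4,3,7,8,7,6,3,4,5,2,3,1,2,1]) (.word [5,4,3,6,5,4,2,3,7,8,7,5,2,3,1,2,0]))) (.node (.node (.word [1,3,2,7,3,4,6,5,4,3,7,2,3,1,4,8,7,3,2,1,5,4,3,7,8,5,6,5,2,0,1,0]) (.word [3,7,8,7,4,3,0,7,3,2,4,5,8,3,7,4,5,3,4,2,3,7,6,5,1])) (.word [2,1,0,7,3,2,4,3,7,8,4,2,3,7,2,1]))) (.node (.node (.node (.word [0,7,8,7,2,3,1,2,3,4,3,0,2,4,5,6,8,7,3,8,7,2,3,4,5,1,2,3,0,1])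 (.word [3,4,7,8,7,3,1,0,2,5,4,3,2,1,7,8,6,5,4,3,7,8,6,4,5,2,0,1])) .none) (.node (.word [3,7,8,7,6,3,1,0,4,5,4,7,3,2,4,3,7,8,4,3,7,3,4,5,6,1]) (.word [6,1,0,2,3,2,4,7,3,8,1,2,3,7,4,3,0,1,2,1,0]))))))))

/-- A subtree. -/
def sub143 : WTree :=
  (.node (.node (.node (.node (.node (.node (.node (.node (.word [2,4,3,7,3,4,2,1,3,2,5,4,6,5,7,3,4,2,3,7,8,3,7,4]) (.word [3,4,3,0,2,1,3,5,6,7,2,3,7,8,5,4,3,7,5,1,2,1])) (.word [6,0,4,5,4,7,3,2,4,3,7,8,4,3,7,3,4,5,6,1])) (.node (.node (.word [1,0,2,1,0,4,3,5,4,3,8,2,3,7,8,1,2,3,4,5,6,0,1]) (.word [1,0,2,3,5,4,7,3,8,7,6,4,5,2,3,1,2,0])) (.word [0,1,2,3,2,0,1,5,6,7,3,2,8,7,3,4,2,3,7,5,6,2]))) (.node (.node (.node (.word [2,4,3,7,3,4,2,1,0,3,2,5,4,7,8,3,7,4,5,6,1,2,3,0]) (.word [0,2,3,5,7,3,2,4,3,7,8,4,2,3,7,5,6,3,1,2])) (.word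 [6,2,1,5,4,3,2,7,8,4,3,7,8,4,5,6,4,2,1])) (.node (.node (.word [1,2,1,0,3,7,8,7,2,0,2,3,4,5,4,3,6,5,8,4,2,3,7,8,1,2,3,4,5,6]) (.word [3,4,3,2,1,4,5,4,7,3,2,8,4,3,7,5,6,4,5,1,2,0,1,0])) .none))) (.node (.node (.node (.word [2,3,5,4,6,5,8,1,2,3,7,8,3,4,5,6,0]) (.node (.word [4,7,3,8,7,8,1,2,3,7,4,5,6,4,5,3]) (.word [2,4,3,7,3,4,2,1,0,3,5,4,6,5,6,3,4,2,3,1,2,1]))) (.node .none (.word [3,4,3,0,1,2,5,7,3,2,8,7,3,4,2,3,7,5,6,1,2,3]))) (.node (.node (.node .none (.word [6,1,0,1,4,5,4,3,2,1,7,8,3,4,2,3,7,1,2,3,4,5,6])) (.node (.word [3,4,3,2,1,5,6,7,8,2,3,7,8,4,3,7,5,6,0,1,2]) (.word [0,1,2,5,4,7,8,3,7,4,5,6,0,1,2,3,2,1]))) (.node (.node (.word [6,1,2,3,4,5,6,8,1,2,3,7,8,4,5,3,2,1,0,3,5,4,3,2,3,7,1,2,3,4,5,6,4,3,2]) (.word [3,4,3,2,1,5,4,6,7,2,3,7,4,5,6,3,2,1])) (.word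 [6,1,0,2,1,0,5,7,3,2,4,3,7,8,4,2,3,7,5,6,1,2]))))) (.node (.node (.node (.node .none (.node (.word [3,4,3,2,3,5,4,6,5,8,7,8,1,2,3,4,5,2,3,1,2]) (.word [1,2,1,0,3,7,8,7,2,0,1,2,5,4,3,6,5,4,3,7,2,3,4,5,6,1,2,3,1]))) (.node (.node (.word [0,7,8,7,2,3,4,5,7,8,3,4,2,3,7,4,5,6,4,5,1,2,0]) (.word [6,2,1,5,7,3,2,4,3,7,8,7,3,4,2,3,7,5,1,2])) .none)) (.node (.node (.node (.word [3,7,8,7,3,2,1,4,5,8,7,3,2,4,3,7,8,1,2,3,4,5,4,0,1,0]) (.word [3,7,8,7,6,3,2,1,5,4,3,2,1,7,3,4,5,6,3,4,2,3,0,1,2,0])) (.node .none (.word [2,1,0,3,7,8,7,2,3,4,3,2,1,5,6,7,3,5,4,3,7,5,3,2,1]))) (.node (.node .none (.word [2,1,0,3,7,8,7,1,0,3,4,3,6,5,4,3,7,2,3,4,5,1,2,1])) (.word [3,5,4,3,7,3,8,2,3,7,6,5,4,1])))) (.node (.node (.node (.node (.word [2,4,3,7,3,4,2,1,0,7,8,7,2,3,1,2,0,2,3,4,5,4,3,6,5,8,4,2,3,7,8,1,2,3,4,5,6])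 (.word [0,1,2,6,3,2,1,0,2,4,5,4,8,7,3,8,7,2,3,4,5,3,1,2,1])) (.node .none (.word [1,2,4,3,7,3,4,2,1,0,3,5,6,7,3,2,4,3,7,8,7,3,4,2,3,7,5,6,1]))) (.node (.node (.word [6,2,1,0,3,7,8,7,1,5,4,3,2,7,8,4,5,3,4,2,3,7,8,5,1]) (.word [5,4,3,2,1,7,3,2,7,4,5,6,4,5,4,3,1,2,0,1,0])) (.word [2,1,0,3,7,8,7,1,5,4,3,2,1,7,3,4,5,3,4,2,3,0,1,2,0,1]))) (.node (.node (.node (.word [1,0,7,8,7,2,3,4,5,7,8,3,4,2,3,7,4,5,6,4,5,1,2,0]) (.word [2,1,0,3,7,8,7,2,3,4,3,0,1,2,1,5,7,3,7,8,4,3,7,5,6,2,3,2,1])) (.word [2,4,3,7,3,4,2,1,2,1,0,3,7,8,7,2,5,4,3,2,1,7,3,8,7,5,6,4,5,4,3,2,1])) (.node (.word [2,1,0,3,7,8,7,2,3,4,3,2,1,5,4,3,2,7,8,4,5,3,4,2,3,7,8,5,6,1]) (.word [3,7,8,7,6,4,3,0,2,1,0,5,7,3,2,4,3,7,8,4,2,3,7,5,1,2,1])))))) (.node (.node (.node (.node (.node (.node (.word [1,0,7,8,7,2,3,1,2,0,5,4,6,5,7,3,4,2,3,7,8,4,3,7,6,4,5,3])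 (.word [1,2,4,3,7,3,4,1,5,6,7,8,2,3,7,8,4,3,7,5,0,1,2,1])) (.node (.word [0,1,2,3,2,1,4,5,4,3,7,8,7,6,3,4,5,2,3,1,2,1]) (.word [3,2,5,4,6,5,7,3,4,2,3,7,8,3,7,4,1,6,0,2,1,0,3,5,4,6,2,3,7,3,4,5,6,1,2,0,1]))) (.node (.node (.word [0,1,3,5,4,3,7,8,7,5,6,5,4,2,3,2,1,5,6,7,3,2,8,7,3,4,2,3,7,5,6,2,1]) (.word [3,2,7,3,4,6,5,4,3,7,2,3,1,0,1,2,1,8,3,7,8,6,2,3,2])) (.word [0,7,8,7,2,3,1,2,3,4,3,2,1,5,4,6,7,2,3,7,4,5,6,3,2]))) (.node (.node (.node (.word [6,1,0,7,8,7,2,3,1,2,0,1,4,5,4,3,2,1,8,7,3,4,2,3,7,8,5,6,4,1,2]) (.word [2,4,3,7,3,4,2,6,1,0,2,3,2,5,4,6,7,8,1,2,3,7,4,5,6,2,3,1,2,0])) (.node (.word [6,0,2,1,3,4,7,2,3,4,0,1,2,3,7,8,3,7,1]) (.word [6,1,0,4,3,7,8,2,3,7,4,3,1,2,1]))) (.node (.node (.word [0,1,2,1,0,4,3,5,6,8,4,5,2,3,4,1,2,3,7,8,3,1,0,2,1,5,6,7,3,5,4,3,7,5,6,3,2,1])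 (.word [0,2,3,7,3,2,4,3,7,8,2,3,7,1,2,3,0])) (.word [0,1,4,5,4,3,7,8,4,2,3,7,4,5,6,4,5,4,2,1,0])))) (.node (.node (.node (.word [1,2,1,0,3,7,8,7,1,5,4,3,2,7,3,7,4,5,3,4,2,3,7,8,7,6]) (.node (.word [2,4,3,7,3,4,2,1,0,2,3,5,6,7,3,2,5,4,3,7,8,5,4,2,3,7,2,1]) (.word [6,1,2,1,4,5,7,3,4,2,3,7,5,6,4,5,3,2,1]))) (.node (.node (.word [0,1,3,5,4,3,7,8,7,5,6,5,4,2,3,2,1,4,5,4,3,7,8,7,3,4,5,6,5,2,3,1,2]) (.word [3,7,8,7,3,0,2,1,0,3,5,4,6,7,8,2,3,7,4,5,3,2,1])) (.word [0,1,4,7,8,7,5,6,3,4,5,2,3,0,1,0]))) (.node (.node (.node (.word [3,7,8,7,3,2,4,3,7,3,4,2,1,0,2,5,4,3,2,1,7,8,6,5,4,3,7,8,4,5,6,5,2,0]) (.word [3,7,8,7,6,3,0,2,4,3,5,4,6,5,7,2,3,4,5,6,2,3,4,5,1,2])) (.word [0,7,8,7,2,3,1,2,3,5,4,6,5,3,4,1,2,3,0,1,2,1])) (.node (.node (.word [3,4,3,0,7,8,7,2,3,0,4,3,2,5,8,7,3,4,3,7,6,5,2,3,4,1,2,3,7,8])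 (.word [3,7,8,7,3,1,5,4,3,2,1,7,3,8,7,4,5,6,4,5,4,3,2,1])) (.word [2,3,2,4,5,6,1,2,3,4,5,2,3,1,0]))))) (.node (.node (.node (.node (.node .none (.word [6,0,2,3,4,5,4,7,3,8,7,1,2,3,4,5,2,3,4,1,2])) (.word [0,1,2,5,6,8,7,5,3,4,1,2,3,7,8,5,4,1])) (.node (.node (.word [1,3,2,7,3,4,6,5,4,3,7,2,3,1,7,3,2,4,8,3,7,8,4,2,3,7,6]) (.word [6,1,0,1,2,5,7,3,2,8,7,3,4,2,3,7,5,6,1,2,3,1])) (.word [3,7,8,7,3,0,2,1,0,3,5,4,6,2,3,7,3,4,5,6,1,2,0,1]))) (.node (.node (.node (.word [3,7,8,7,3,1,2,1,0,4,3,2,5,4,8,3,7,8,5,6,4,5,1,2,0,1,0]) (.word [3,4,3,4,5,4,7,3,8,1,2,3,7,3,4,5,6,2,3,1,2])) (.word [6,3,2,7,3,4,6,5,4,3,7,2,3,1,4,7,3,8,7,8,2,3,7,4,5,6,4,5,3,1])) (.node (.node (.word [2,4,3,7,3,4,2,1,3,7,8,7,3,2,1,5,4,3,2,1,7,3,4,5,6,3,4,2,3,0,1,2,0]) (.word [3,4,2,7,3,4,6,5,4,3,7,2,3,1,0,7,8,7,6,2,3,1,2]))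 .none))) (.node (.node (.node (.node (.word [0,7,8,7,2,3,1,2,6,0,1,4,5,4,3,2,1,8,7,3,4,2,3,7,8,5,6,4,1,2]) (.word [6,1,0,2,1,0,5,7,3,2,4,3,7,8,4,2,3,7,5,1,2,1])) (.node (.word [0,1,2,3,2,1,0,2,1,4,5,4,7,3,2,8,4,3,7,5,6,4,5,1,2,0,1,0]) (.word [6,0,4,5,4,3,2,6,4,3,7,3,4,5,4,2,1]))) (.node (.node .none (.word [2,1,0,3,7,8,7,2,6,0,5,4,3,2,1,7,3,4,2,3,7,1,2,3,4,5,6,0,1])) .none)) (.node (.node (.word [0,2,5,4,3,2,1,7,8,6,5,4,3,7,8,4,5,6,4,3,2,7,3,4,5,6,4,5,4,2]) (.word [0,1,2,3,2,1,0,2,4,3,7,3,4,2,1,3,2,5,4,7,8,3,7,4,5,6,2,3,1])) (.node (.node (.word [3,7,8,7,6,2,7,3,4,6,5,4,3,7,2,3,1,4,7,3,8,7,8,2,3,7,4,5,6,4,5,3,1]) (.word [0,1,2,5,7,3,8,7,8,4,3,7,5,6,0,1,2,3,1])) (.word [0,1,4,8,7,3,7,8,4,5,6,4,5,2,3,0,1,0]))))))) (.node (.node (.node (.node (.node (.node (.node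 (.word [3,2,5,4,6,5,7,3,4,2,3,7,8,3,7,4,1,0,1,2,3,2,1,5,4,6,5,7,3,4,2,3,7,8,4,3,7,6,4,5,3]) (.word [3,4,3,2,1,5,7,3,2,4,3,7,8,2,3,7,5,6,5,2,3,2,1,5,4,6,7,2,3,7,4,5,6,3,2])) (.node .none (.word [3,4,3,2,1,5,6,7,8,2,3,7,8,4,3,7,5,0,1,2,1]))) (.node (.node (.word [2,1,0,3,7,8,7,1,0,4,3,2,1,5,8,3,4,2,3,7,8,2,3,4,5,6,1,0]) (.word [2,4,3,7,3,4,2,1,3,7,8,7,6,3,2,1,5,4,3,7,3,4,5,6,5,3,2,1])) (.word [0,4,5,4,7,3,2,4,3,7,8,4,3,7,3,4,5,1]))) (.node (.node (.node (.word [0,1,2,6,3,2,1,0,2,1,5,4,3,2,7,8,4,5,3,4,2,3,7,8,5,6,1]) (.word [0,1,2,1,0,4,3,5,6,4,5,2,3,4,1,2,1,0])) (.node (.word [3,4,3,0,5,7,3,2,4,3,7,8,4,2,3,7,6,5,1]) (.word [0,1,2,6,3,2,1,2,4,5,4,3,7,6,2,3,4,5,4,2,1]))) (.node (.node (.word [2,3,4,5,6,8,1,2,3,7,8,4,5,3,0,4,7,3,4,8,1,2,3,7,8,4,3,7,6]) (.word [2,4,3,7,6,3,4,2,1]))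 .none))) (.node (.node (.node (.node (.word [0,1,2,5,6,8,7,3,4,1,2,3,7,8,5,6,4]) (.word [0,7,8,7,2,3,1,2,3,4,3,2,1,5,4,7,3,2,3,7,6,4,5,0,1,2,3,2,0,1])) (.node (.word [3,7,8,7,6,3,1,0,2,1,0,5,7,3,2,4,3,7,8,2,3,7,5,6,5,3,2,1]) (.word [3,4,3,1,0,2,3,5,4,7,3,8,7,4,5,6,5,2,3,1,2,0,1]))) (.node (.node .none (.word [3,7,8,7,3,1,2,1,0,3,4,7,8,3,7,4,2,1])) (.word [3,4,3,2,4,3,7,3,4,2,1,0,1,4,5,4,3,2,1,7,8,3,4,2,3,7,1,2,3,4,5,6]))) (.node (.node (.node (.word [3,4,3,0,1,2,1,7,3,4,7,8,6,5,4,3,7,6,2,3,2,1,2,4,5,6,7,8,3,7,2,3,4,5,6,3,1]) (.word [2,3,4,5,6,8,1,2,3,7,8,4,5,3,2,1,0,5,6,7,3,5,4,3,7,5,6,2,3,1,2,0])) (.node .none (.word [2,1,0,3,7,8,7,2,0,4,5,4,3,7,8,4,2,3,7,2,3,4,5,1]))) (.node (.node (.word [0,1,2,3,2,0,1,0,2,4,3,7,3,4,2,1,0,2,1,3,5,6,7,2,3,7,8,4,3,7,5,6,1,2,1])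 (.word [3,4,3,5,6,7,8,5,4,1,2,3,7,4,5,2,0,1])) (.word [2,1,5,7,3,2,4,3,7,8,2,3,7,6,5,0,1,2,3,0]))))) (.node (.node (.node (.node (.node (.word [6,1,0,2,1,0,5,7,3,2,4,3,7,8,4,2,3,7,5,0,4,3,2,5,4,8,5,3,4,1,2,3,7,8,6,5,0,1,0]) (.word [3,7,8,7,4,3,2,1,5,6,7,8,5,4,3,7,4,5,6,2,3,1,2,1,0])) (.node (.word [2,4,3,7,3,4,2,1,3,5,4,6,5,4,3,7,8,7,4]) (.word [0,1,3,5,4,6,5,4,3,7,8,7,6,4,2,3,2,1,0]))) (.node (.node (.word [3,5,4,6,5,4,3,7,8,7,6,4,1]) (.word [2,1,5,4,6,7,2,3,7,4,5,6,3,2])) (.word [0,7,8,7,2,3,1,2,3,4,2,5,6,7,3,2,8,7,5,3,4,2,3,7,5,1,2,1]))) (.node (.node (.node (.word [0,1,2,3,2,0,1,0,6,2,1,5,4,3,2,7,8,4,5,3,4,2,3,7,8,5,6,1]) (.word [3,4,3,6,2,1,5,7,3,2,4,3,7,8,5,4,2,3,7,6,5,2,3,1])) (.node (.word [2,1,0,3,7,8,7,2,0,2,5,4,3,2,1,7,8,6,5,4,3,7,8,6,4,5,2,0,1]) (.word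 [0,1,2,5,4,3,6,5,4,3,7,2,3,4,5,6,1,2,3,1]))) (.node (.node (.word [6,1,0,4,5,4,7,3,2,4,3,7,8,4,3,7,3,4,5,6,1]) (.word [0,2,1,3,4,7,2,3,7,6,4,3,1,2,0,1])) (.word [0,1,2,3,2,1,0,3,4,3,2,1,5,7,3,2,4,3,7,8,7,3,4,2,3,7,5,6,1,2])))) (.node (.node (.node (.word [6,3,2,7,3,4,6,5,4,3,7,2,3,1,7,3,2,4,8,3,7,8,4,2,3,7,6,1]) (.node (.word [2,4,5,4,8,7,3,8,7,2,3,4,5,3,1,2,1,4,8,7,3,2,1,5,4,3,7,8,6,5,3,2,0,1,0]) (.word [2,1,0,3,7,8,7,4,3,7,3,4,2,1,0,3,5,4,6,5,6,3,4,2,3,1,2,1]))) (.node (.node .none (.word [3,7,8,7,3,1,0,2,3,5,7,3,2,4,3,7,8,4,2,3,7,5,6,3,1,2])) (.word [1,2,1,5,7,3,2,4,3,7,8,2,3,7,5,6,4,3,2,5,4,3,7,6,2,3,4,5,1,2]))) (.node (.node (.node (.word [2,4,3,7,3,4,1,0,3,7,8,7,2,3,2,5,4,6,5,7,3,4,2,3,7,8,3,7,6,4,1]) (.word [3,2,5,6,7,3,2,8,7,5,3,4,2,3,7,5,1,2,1])) (.word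 [3,4,3,2,1,5,7,3,2,4,3,7,8,2,3,7,5,6,5,2,3])) (.word [2,1,0,3,7,8,7,2,0,1,2,5,4,3,2,6,7,3,4,5,4,0,1,2,3,2,1]))))) (.node (.node (.node (.node (.node (.node (.word [2,4,5,4,8,7,3,8,7,2,3,4,5,3,1,2,1,0,1,2,3,2,0,1,4,5,4,7,3,2,4,3,7,8,4,3,7,3,4,5,6]) (.word [6,1,3,4,3,2,3,5,4,6,5,8,7,8,1,2,3,4,5,6,2,3,1,2])) (.node (.word [2,3,4,5,6,8,1,2,3,7,8,4,5,3,1,2,1,4,7,3,4,6,5,4,2,3,7,6,4,1,2,0,1,0]) (.word [3,7,8,7,6,3,0,2,3,5,7,3,2,4,3,7,8,6,5,4,2,3,7,6,2,1]))) (.node (.node (.word [3,4,3,2,3,4,5,6,8,1,2,3,7,8,4,5,3,2,3,4,5,4,3,6,5,8,4,2,3,7,8,1,2,3,4,5,6]) (.word [3,4,3,0,7,8,7,2,3,1,2,0,1,4,5,4,3,8,7,3,4,2,3,7,8,6,5,1,2,3])) (.word [1,3,4,3,0,2,1,0,5,7,3,2,4,3,7,8,4,2,3,7,5,1,2,1]))) (.node (.node (.node .none (.word [2,3,2,4,5,6,1,2,3,4,5,2,3,0,1,0])) (.word [1,0,2,1,3,4,7,2,3,4,0,1,2,3,7,8,3,7,1]))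 (.node (.node (.word [0,4,5,4,7,3,2,4,3,7,8,4,3,7,3,4,5]) (.word [0,1,3,5,7,3,2,4,8,7,3,4,2,3,7,5,6,0,1,0])) (.word [6,2,1,5,7,3,2,4,3,7,8,2,3,7,6,5,0,1,2,3,0])))) (.node (.node (.node (.node (.word [3,7,8,7,3,2,3,4,5,6,8,1,2,3,7,8,4,5,3,4,5,4,7,3,2,4,3,7,8,4,3,7,3,4,5,6,1]) (.word [6,1,0,2,1,0,5,7,3,2,4,3,7,8,4,2,3,7,5,6,1,2,1])) (.node (.word [1,0,2,4,3,5,4,6,5,8,7,3,4,2,3,7,8,5,6,4,5,3,4,3,2]) (.word [2,3,4,7,8,3,7,6,4,2,3,1,2,1,0]))) (.node (.node (.word [2,1,4,5,4,3,2,8,7,3,4,3,7,8,0,1,2,3,4,5,1,2]) (.word [6,1,2,1,0,3,7,8,7,1,0,4,5,4,3,2,7,3,4,5,3,4,1,2,1])) (.word [0,1,2,1,0,7,3,2,4,6,5,4,3,7,8,2,3,7,6,1,2]))) (.node (.node (.node .none (.word [0,1,2,1,0,4,3,5,6,4,5,2,3,4,3,1,2,1,0])) .none) (.node (.node (.word [0,1,2,3,2,0,1,0,2,1,4,5,7,8,3,4,2,3,7,5,6,4,5,1,2,0])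 (.word [6,2,4,5,4,8,7,3,8,7,2,3,4,5,6,3,1,2,1])) (.word [6,1]))))) (.node (.node (.node (.node (.node (.word [6,3,2,7,3,4,6,5,4,3,7,2,3,1,0,2,1,0,4,3,5,4,3,8,2,3,7,8,1,2,3,4,5,6,0]) (.word [0,7,8,7,2,3,1,2,4,5,4,3,2,1,7,8,2,3,7,6,4,5,4,3,2,1])) (.node (.word [0,7,8,7,2,3,1,2,4,8,7,3,2,1,5,4,2,3,7,8,5,6,5,2,1,0]) (.word [2,1,0,3,7,8,7,2,0,1,2,5,4,3,2,6,7,3,4,5,6,4,1,2,3,2,1]))) (.node (.node .none (.word [3,2,1,5,4,7,2,3,7,4,5,6,0,1,2,3,1])) (.word [0,1,2,6,3,2,1,0,2,4,3,7,3,4,2,1,0,2,5,4,7,8,3,7,4,5,6,5,2,1]))) (.node (.node (.node (.word [2,3,4,5,6,8,1,2,3,7,8,4,5,3,4,5,4,7,3,2,4,3,7,8,4,3,7,3,4,5,6,1]) (.word [3,2,1,8,2,3,7,8,3,2,0,1,0])) (.node (.word [2,4,3,7,3,4,2,1,3,2,7,3,4,8,6,5,4,3,7,6,2,3,1]) (.word [1,0,1,5,7,3,2,1,4,8,3,7,2,3,4,1,2,3,7,5,6,5]))) (.node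 (.node (.word [3,7,8,7,3,1,2,4,3,7,3,4,2,1,0,2,1,3,5,6,7,2,3,7,8,4,3,7,5,6,1,2,1]) (.word [1,2,1,3,4,3,2,7,3,4,5,6,4,5,1,2,3,0,1])) (.word [0,7,8,7,2,3,1,2,3,4,3,0,2,3,5,6,7,3,2,5,4,3,7,8,5,4,2,3,7,2,1])))) (.node (.node (.node (.word [0,1,2,5,6,8,7,3,4,1,2,3,7,8,5,6,4,1]) (.node (.word [2,1,0,4,3,2,5,4,8,3,7,8,5,6,4,5,1,2,1,0]) (.word [2,4,3,7,3,4,3,5,4,6,5,8,7,8,1,2,3,4,5,6,2,3,1,2]))) (.node (.node (.word [3,2,7,3,4,6,5,4,3,7,2,3,1,4,8,7,3,2,1,5,4,3,7,8,5,6,5,3,2,0,1,0]) (.word [4,7,3,1,2,3,7,6,4,0,1,2,3,2,1,0])) (.word [2,4,3,7,3,4,2,3,2,5,6,7,3,2,8,7,5,3,4,2,3,7,5,1,2,1]))) (.node (.node (.node .none (.word [0,1,2,1,0,5,7,3,4,1,2,3,7,8,2,3,7,5,1,2])) (.word [0,2,1,3,5,6,7,2,3,7,8,4,3,7,5,1,2])) (.node (.node (.word [4,8,7,3,2,1,5,4,2,3,7,8,6,5,3,2,0,1,0])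 (.word [6,2,1,4,5,7,3,4,2,3,7,5,6,4,5,3,2,1])) (.word [0,2,1,3,7,3,2,4,3,7,8,4,2,3,7,6,3,2,1]))))))))

/-- A subtree. -/
def sub144 : WTree :=
  (.node (.node sub140 sub141) (.node sub142 sub143))

/-- Points. -/
def levY1pts0 : List ℕ := [0,1,3,4,6,7,8,9,10,11,12,13,14,15,16,17,18,19,21,22,24,27,28,30,31,32,33,34,36,37,39,40,41,42,43,45,46,47,48,49,51,52,53,54,55,56,58,60,61,62,63,64,65,66,67,69,70,72,73,74,75,78,80,81,82,83,84,86,87,88,89,90,91,92,94,95,96,98,99,100,101,102,103,104,105,106,107,108,109,110,112,113,114,115,116,117,118,120,121,122,123,124,125,126,127,128,129,130,131,132,134,135,136,137,138,139,140,141,143,144,145,146,147,148,149,150,153,155,156,157,158,159,161,163,164,166,167,168,169,170,171,172,173,174,175,176,177,178,179,180,181,183,184,185,186,187,188,190,191,192,193,194,195,196,197,198,199,201,202,203,204,206,207,208,209,210,211,212,213,214,215,216,217,218,219,220,222,223,225,226,227,228,229,230,231,232,234,236,237,238]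

/-- Points. -/
def levY1pts1 : List ℕ := [239,240,241,242,243,244,245,247,248,250,252,253,254,255,256,257,258,259,264,265,267,268,269,271,272,274,275,277,278,279,280,281,282,283,284,285,286,287,289,290,292,293,294,295,296,297,298,299,300,301,303,304,305,306,307,308,309,310,311,312,313,314,315,316,317,318,320,323,324,326,327,328,329,331,332,334,335,336,337,339,340,341,342,343,344,345,346,347,348,349,350,351,353,354,355,357,358,360,361,362,363,365,367,368,369,370,373,376,377,378,380,381,382,383,384,385,386,387,388,389,390,391,393,394,396,397,398,401,402,403,404,405,406,407,409,410,411,412,413,414,415,416,417,418,419,420,421,422,423,425,427,430,431,435,436,437,439,442,443,444,445,448,449,450,451,454,455,456,457,458,459,460,461,462,463,464,465,466,467,469,470,471,472,473,474,475,476,477,478,479,481,482,483,484,485,487,488,489,490,491]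

/-- Points. -/
def levY1pts2 : List ℕ := [492,493,495,496,497,498,499,500,501,502,503,504,505,506,507,508,509,513,514,515,516,518,519,520,521,522,523,524,525,526,527,528,529,532,533,534,535,536,537,538,539,540,541,542,543,544,545,546,547,548,549,550,553,554,555,556,557,559,560,561,563,564,565,566,567,569,570,571,573,574,575,576,579,582,583,584,586,587,588,589,591,594,595,596,597,598,599,601,602,604,605,606,607,608,609,610,611,612,613,614,615,616,618,619,621,622,623,624,626,627,628,629,631,632,633,634,635,636,637,638,641,642,643,644,646,647,648,649,650,652,653,654,657,658,659,660,661,662,663,664,665,666,667,668,669,670,672,673,674,675,676,677,678,682,683,684,686,687,688,689,690,691,692,693,695,696,698,699,700,701,702,703,704,705,706,708,709,710,711,712,713,714,715,716,717,718,719,720,721,722,723,724,725,726,727,729,730,731,733,734]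

/-- Points. -/
def levY1pts3 : List ℕ := [736,737,738,739,740,741,742,743,744,745,746,749,750,752,753,757,759,760,761,762,764,766,767,768,769,770,771,772,773,775,776,777,778,779,781,783,786,787,789,790,791,792,793,794,795,796,799,801,802,803,805,806,807,808,809,810,811,812,813,814,815,816,817,818,819,820,821,822,823,824,826,827,829,831,832,833,835,836,838,839,840,841,842,844,845,846,848,849,850,851,852,853,854,856,858,861,862,863,864,865,866,867,868,870,871,872,873,874,876,877,878,879,880,881,882,883,885,886,888,889,891,892,893,894,895,896,897,898,900,901,902,903,904,905,907,909,910,911,912,914,915,916,917,918,919,920,921,922,923,924,926,927,928,929,930,931,933,934,935,936,938,939,940,941,942,943,944,945,946,947,950,952,953,956,957,959,960,962,963,965,967,968,969,970,972,973,974,975,976,977,978,979,980,981,982,983,984,985,987,989]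

/-- Points. -/
def levY1pts4 : List ℕ := [990,991,992,993,994,995,997,998,1000,1001,1002,1003,1004,1006,1007,1008,1010,1012,1013,1014,1015,1016,1017,1019,1020,1021,1022,1023,1024,1025,1026,1027,1028,1030,1031,1033,1034,1035,1036,1037,1038,1039,1040,1041,1042,1043,1044,1046,1048,1049,1050,1051,1052,1053,1056,1058,1059,1060,1061,1062,1063,1065,1066,1067,1069,1070,1071,1072,1075,1076,1077,1078,1079,1080,1081,1082,1083,1084,1086,1087,1088,1089,1090,1091,1093,1095,1096,1097,1098,1099,1100,1102,1103,1104,1105,1107,1108,1110,1111,1112,1114,1115,1116,1117,1118,1119,1120,1121,1122,1123,1124,1125,1126,1127,1128,1129,1130,1131,1132,1133,1134,1135,1136,1138,1139,1141,1142,1143,1144,1145,1146,1147,1148,1149,1150,1151,1152,1153,1154,1155,1156,1157,1158,1159,1160,1161,1162,1165,1167,1168,1169,1171,1172,1173,1174,1175,1176,1177,1178,1179,1180,1181,1182,1183,1184,1186,1187,1188,1189,1191,1192,1194,1195,1196,1197,1198,1199,1200,1201,1204,1205,1206,1207,1208,1209,1210,1211,1212,1213,1215,1217,1220,1221,1222,1223,1224,1225,1226,1227,1230]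

/-- Points. -/
def levY1pts5 : List ℕ := [1232,1233,1234,1235,1237,1239,1240,1242,1243,1244,1245,1246,1247,1248,1249,1250,1251,1252,1253,1254,1256,1257,1258,1259,1260,1261,1262,1263,1264,1267,1268,1269,1270,1271,1272,1273,1275,1276,1278,1279,1280,1282,1283,1284,1285,1286,1287,1289,1290,1291,1292,1293,1294,1295,1296,1297,1299,1300,1301,1302,1303,1304,1305,1306,1307,1308,1309,1311,1312,1313,1314,1315,1316,1317,1318,1322,1323,1325,1326,1327,1329,1330,1331,1332,1333,1334,1335,1336,1337,1338,1339,1341,1343,1344,1345,1346,1348,1350,1352,1353,1354,1355,1357,1358,1360,1361,1363,1364,1365,1366,1368,1370,1372,1373,1374,1375,1376,1378,1380,1381,1382,1383,1386,1387,1388,1389,1390,1391,1392,1393,1394,1396,1397,1399,1400,1401,1402,1403,1405,1406,1407,1408,1409,1410,1411,1412,1413,1414,1415,1416,1417,1420,1421,1422,1423,1427,1430,1431,1434,1435,1437,1438,1441,1444,1445,1446,1447,1448,1449,1450,1452,1453,1454,1455,1458,1459,1462,1463,1464,1465,1467,1469,1472,1473,1474,1475,1476,1478,1479,1481,1484,1485,1486,1487,1488,1489,1491,1493,1494,1495]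

/-- Points. -/
def levY1pts6 : List ℕ := [1496,1497,1498,1499,1500,1501,1502,1503,1504,1507,1508,1509,1510,1511,1512,1513,1514,1516,1518,1519,1520,1521,1523,1524,1525,1526,1528,1529,1530,1531,1532,1535,1536,1537,1539,1540,1541,1542,1544,1545,1546,1547,1548,1551,1552,1553,1554,1555,1556,1557,1558,1559,1560,1561,1562,1564,1565,1566,1567,1568,1569,1570,1571,1572,1573,1574,1575,1577,1578,1579,1580,1581,1582,1583,1584,1585,1586,1587,1588,1591,1592,1593,1594,1597,1598,1599,1600,1601,1603,1604,1605,1606,1607,1608,1609,1610,1611,1612,1613,1614,1616,1617,1619,1620,1621,1623,1624,1625,1627,1628,1629,1630,1631,1633,1635,1636,1637,1638,1639,1640,1642,1643,1647,1648,1649,1650,1651,1652,1653,1655,1656,1657,1659,1660,1661,1662,1663,1665,1667,1668,1669,1670,1672,1673,1674,1675,1677,1678,1679,1680,1682,1683,1684,1687,1688,1689,1690,1691,1693,1695,1696,1698,1699,1701,1702,1703,1704,1705,1706,1707,1708,1709,1710,1711,1712,1713,1714,1715,1716,1717,1718,1720,1721,1722,1723,1725,1726,1727,1728,1729,1730,1732,1734,1735,1736,1742,1743,1744,1745,1746]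

/-- Points. -/
def levY1pts7 : List ℕ := [1749,1750,1753,1754,1755,1757,1759,1760,1763,1764,1765,1766,1768,1769,1770,1771,1772,1773,1774,1776,1777,1778,1779,1780,1781,1782,1783,1786,1787,1789,1790,1791,1792,1793,1794,1797,1799,1800,1801,1802,1804,1805,1806,1808,1809,1810,1811,1816,1817,1818,1819,1820,1821,1822,1824,1825,1827,1828,1829,1830,1831,1832,1835,1836,1837,1839,1840,1841,1842,1844,1845,1846,1848,1849,1850,1851,1852,1853,1855,1856,1857,1858,1859,1860,1861,1862,1863,1864,1865,1866,1867,1868,1869,1871,1872,1873,1874,1875,1876,1877,1878,1879,1880,1881,1882,1885,1886,1887,1889,1890,1892,1893,1894,1895,1896,1897,1898,1899,1900,1901,1902,1904,1905,1906,1907,1908,1909,1910,1911,1912,1913,1914,1915,1918,1919,1920,1921,1922,1923,1924,1925,1926,1927,1928,1929,1931,1932,1933,1935,1936,1937,1938,1939,1940,1941,1943,1944,1945,1946,1947,1948,1949,1950,1951,1952,1953,1954,1955,1956,1957,1958,1959,1961,1963,1964,1965,1966,1967,1969,1970,1971,1972,1974,1975,1976,1977,1979,1982,1983,1984,1985,1986,1987,1988,1989,1990,1991,1992,1993,1994]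

/-- Points. -/
def levY1pts8 : List ℕ := [1997,1998,1999,2000,2001,2002,2003,2004,2005,2006,2008,2009,2010,2011,2012,2013,2014,2016,2017,2019,2020,2021,2023,2024,2025,2026,2027,2029,2030,2031,2032,2034,2035,2036,2037,2038,2039,2040,2041,2043,2044,2045,2046,2047,2048,2049,2050,2051,2053,2056,2057,2058,2059,2060,2061,2062,2063,2065,2066,2068,2070,2071,2072,2074,2076,2077,2078,2079,2081,2082,2084,2085,2086,2088,2090,2091,2092,2094,2095,2096,2097,2099,2101,2103,2104,2105,2106,2108,2109,2110,2111,2112,2113,2114,2115,2116,2117,2118,2119,2122,2123,2124,2125,2126,2128,2130,2134,2135,2136,2137,2138,2139,2141,2142,2143,2144,2145,2146,2147,2148,2149,2150,2151,2152,2153,2156,2157,2159,2160,2161,2163,2164,2165,2166,2168,2169,2170,2171,2173,2174,2175,2177,2178,2179,2180,2181,2183,2184,2185,2186,2187,2188,2189,2193,2194,2195,2196,2199,2200,2201,2202,2203,2204,2206,2207,2209,2210,2211,2213,2214,2215,2216,2217,2218,2219,2220,2221,2222,2224,2225,2227,2228,2229,2230,2231,2232,2233,2234,2235,2236,2238,2239,2241,2242,2244,2245,2246,2247,2248,2249]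

/-- Points. -/
def levY1pts9 : List ℕ := [2250,2251,2252,2253,2254,2255,2256,2257,2258,2260,2261,2262,2264,2265,2266,2267,2268,2270,2272,2273,2274,2275,2276,2277,2279,2281,2282,2283,2284,2286,2287,2288,2290,2291,2292,2293,2294,2295,2296,2298,2299,2300,2304,2305,2306,2307,2309,2310,2312,2313,2314,2315,2316,2317,2319,2320,2321,2322,2323,2324,2325,2326,2327,2328,2329,2330,2331,2332,2333,2334,2335,2337,2339,2340,2341,2342,2343,2345,2346,2347,2348,2349,2350,2351,2354,2355,2356,2357,2359,2360,2361,2362,2363,2365,2366,2367,2369,2370,2371,2372,2373,2374,2375,2377,2378,2380,2381,2383,2384,2385,2387,2388,2389,2390,2391,2394,2395,2396,2397,2399,2400,2401,2402,2405,2406,2407,2408,2409,2410,2411,2412,2413,2414,2415,2416,2418,2419,2421,2422,2424,2425,2426,2427,2428,2429,2430,2431,2432,2433,2434,2436,2437,2438,2439,2440,2441,2442,2443,2444,2445,2446,2447,2448,2449,2450,2451,2452,2453,2454,2455,2457,2459,2461,2462,2463,2466,2467,2469,2470,2471,2472,2474,2475,2476,2477,2479,2481,2482,2483,2484,2485,2486,2487,2488,2489,2490,2491,2492,2494,2495]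

/-- Points. -/
def levY1pts10 : List ℕ := [2496,2498,2499,2500,2501,2502,2505,2506,2507,2508,2509,2510,2511,2514,2515,2516,2517,2518,2519,2520,2521,2522,2524,2526,2527,2528,2529,2530,2533,2534,2535,2536,2537,2538,2539,2540,2541,2542,2544,2546,2547,2548,2549,2550,2551,2552,2553,2554,2558,2559,2560,2561,2563,2564,2565,2566,2567,2568,2569,2570,2571,2572,2573,2574,2575,2576,2577,2578,2579,2580,2581,2582,2583,2584,2585,2586,2587,2588,2589,2590,2591,2592,2593,2594,2595,2596,2597,2598,2599,2600,2601,2602,2603,2604,2605,2606,2607,2608,2609,2610,2613,2614,2615,2616,2617,2618,2619,2620,2621,2622,2623,2624,2625,2626,2627,2628,2629,2630,2631,2632,2633,2634,2636,2637,2638,2639,2641,2642,2643,2644,2645,2646,2647,2648,2649,2651,2652,2653,2654,2655,2656,2657,2658,2659,2660,2661,2662,2663,2665,2666,2668,2671,2672,2673,2674,2675,2676,2677,2678,2679,2680,2682,2683,2685,2686,2687,2688,2689,2690,2691,2693,2695,2696,2697,2698,2699,2700,2701,2702,2704,2705,2706,2707,2709,2710,2711,2712,2713,2714,2716,2717,2719,2720,2721,2722,2723,2724,2725,2727,2728]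

/-- Points. -/
def levY1pts11 : List ℕ := [2729,2730,2731,2732,2733,2734,2735,2737,2738,2739,2740,2741,2742,2743,2744,2745,2746,2747,2749,2751,2752,2753,2754,2755,2756,2757,2758,2759,2763,2764,2765,2766,2767,2770,2772,2773,2774,2775,2776,2777,2778,2779,2780,2781,2783,2785,2786,2787,2788,2789,2790,2791,2792,2793,2794,2795,2798,2799,2800,2801,2802,2803,2804,2805,2806,2807,2808,2809,2810,2811,2812,2813,2815,2816,2817,2818,2819,2820,2821,2822,2823,2827,2829,2830,2831,2832,2833,2835,2836,2837,2838,2840,2841,2842,2843,2844,2845,2847,2848,2849,2850,2854,2855,2857,2858,2859,2860,2862,2863,2864,2866,2869,2870,2871,2872,2873,2874,2876,2877,2878,2879,2880,2881,2882,2883,2884,2885,2886,2887,2888,2890,2891,2892,2894,2895,2898,2899,2901,2903,2904,2906,2907,2910,2911,2912,2913,2914,2915,2916,2917,2918,2921,2922,2923,2924,2925,2926,2927,2929,2932,2935,2936,2937,2938,2939,2941,2942,2943,2944,2946,2947,2948,2949,2950,2951,2952,2954,2955,2956,2957,2959,2960,2961,2962,2963,2964,2965,2966,2967,2968,2969,2970,2971,2972,2975,2976,2977,2978,2979,2980]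

/-- Points. -/
def levY1pts12 : List ℕ := [2981,2983,2984,2985,2986,2988,2989,2990,2991,2992,2993,2994,2995,2996,2997,2999,3000,3001,3004,3005,3006,3007,3008,3009,3010,3011,3013,3014,3015,3016,3019,3021,3022,3024,3025,3026,3027,3028,3029,3030,3031,3032,3033,3035,3037,3041,3042,3043,3044,3045,3046,3047,3048,3050,3051,3053,3054,3055,3056,3058,3059,3060,3062,3064,3065,3066,3067,3068,3069,3070,3071,3073,3074,3075,3076,3077,3078,3079,3080,3083,3084,3086,3088,3089,3090,3092,3093,3095,3096,3097,3098,3099,3100,3101,3102,3103,3104,3105,3109,3110,3112,3113,3115,3117,3119,3120,3123,3124,3125,3127,3128,3129,3130,3131,3132,3133,3134,3135,3137,3138,3140,3141,3142,3144,3145,3146,3147,3149,3150,3151,3152,3153,3154,3156,3157,3158,3160,3161,3162,3163,3164,3165,3166,3167,3168,3169,3170,3171,3173,3174,3175,3176,3177,3178,3181,3182,3186,3187,3188,3190,3191,3192,3193,3195,3197,3198,3199,3200,3201,3202,3203,3204,3206,3207,3209,3210,3211,3212,3213,3214,3215,3216,3217,3218,3219,3220,3221,3222,3223,3225,3226,3227,3228,3229,3230,3231,3232,3233,3234,3235]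

/-- Points. -/
def levY1pts13 : List ℕ := [3236,3237,3238,3240,3241,3242,3243,3244,3245,3246,3247,3248,3249,3250,3251,3252,3253,3254,3255,3256,3257,3260,3261,3262,3263,3264,3266,3267,3268,3270,3271,3272,3275,3276,3277,3278,3279,3280,3281,3282,3283,3284,3285,3286,3287,3288,3289,3290,3291,3292,3293,3294,3295,3296,3297,3298,3300,3301,3302,3303,3304,3306,3308,3309,3311,3312,3314,3318,3319,3321,3322,3323,3325,3327,3329,3330,3331,3333,3334,3335,3336,3337,3339,3340,3341,3342,3344,3345,3346,3347,3348,3349,3350,3351,3352,3353,3354,3355,3357,3359,3362,3363,3364,3365,3366,3367,3368,3369,3370,3372,3373,3374,3375,3376,3378,3380,3381,3383,3384,3385,3386,3387,3388,3389,3390,3392,3393,3395,3396,3398,3399,3401,3402,3403,3405,3407,3408,3409,3410,3411,3412,3413,3416,3418,3419,3420,3421,3422,3423,3424,3425,3426,3427,3428,3429,3430,3431,3433,3434,3435,3436,3438,3440,3441,3443,3446,3447,3448,3449,3450,3451,3452,3453,3455,3456,3458,3459,3460,3461,3462,3463,3464,3466,3469,3470,3471,3472,3473,3474,3475,3477,3478,3479,3480,3481,3483,3484,3485,3487,3488]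

/-- Points. -/
def levY1pts14 : List ℕ := [3489,3490,3491,3492,3493,3495,3496,3497,3498,3499,3500,3501,3502,3505,3508,3509]

/-- A level. -/
def levY1 : Level :=
  ⟨1987, (.node (.node sub129 sub134) (.node sub139 sub144)), levY1pts0 ++ levY1pts1 ++ levY1pts2 ++ levY1pts3 ++ levY1pts4 ++ levY1pts5 ++ levY1pts6 ++ levY1pts7 ++ levY1pts8 ++ levY1pts9 ++ levY1pts10 ++ levY1pts11 ++ levY1pts12 ++ levY1pts13 ++ levY1pts14⟩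

/-- A subtree. -/
def sub145 : WTree :=
  (.node (.node (.node (.node (.node .none (.node .none (.word [0,1,5,7,3,2,4,8,3,7,8,3,4,2,3,7,5,2,4,3,6,5,4,7,3,2,7,6,8,1,2,3,7,8,5,4,2,3,2,0]))) (.node .none (.word [3,4,3,0,2,3,4,3,5,4,3,6,7,1,2,3,4,5,4,3,1,2,1,5,4,7,3,4,8,7,3,4,2,3,7,5,6,4,5,1,0]))) (.node .none (.node (.node (.word [1,0,5,4,3,2,1,7,3,2,4,3,7,1,2,3,4,5,0,6,2,5,4,3,2,1,0,7,8,5,4,2,3,7,8,4,5,6,4,3,2]) (.node .none (.word [3,2,5,4,3,7,3,4,5,2,3,0,1,2,3,2,4,6,5,4,3,7,3,8,1,2,3,7,3,4,5,1,2,3,4,5,6,7,3,4,2,3,7,1,2,3,4,5,6,1,0]))) (.node (.node (.word [3,4,3,0,1,2,5,6,8,7,3,4,5,1,2,3,7,8,4,0,2,1,0,5,6,7,3,5,4,3,7,5,6,2,3,1,2,0,1,0,2,4,7,8,3,7,4,3,1,2,1]) (.word [3,4,3,0,1,2,1,3,5,4,6,7,8,2,3,7,4,5,1,2,3,5,4,6,8,7,5,3,4,1,2,3,7,8,3,1,2,0])) .none)))) (.node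 (.node (.node (.node (.node (.word [0,1,2,1,6,5,4,7,3,8,7,4,5,4,5,6,8,1,2,3,7,8,4,5,6,2,3,1,0,2,3,4,5,6,7,3,4,2,3,7,1,2,3,4,5,0,1,0]) (.word [0,1,0,5,4,3,2,1,7,3,2,4,3,7,6,5,4,3,2,0,1,2,4,7,3,4,8,0,1,2,3,7,8,4,3,7,6,2,3])) (.node .none (.word [3,5,4,6,7,3,4,8,7,3,2,4,3,7,5,6,4,5,0,3,7,8,7,6,3,1,0,5,4,6,5,7,3,4,2,3,7,8,4,3,7,6,4,5,3]))) .none) (.node (.node .none (.word [2,1,0,4,3,2,5,8,7,3,4,2,3,7,8,6,5,2,3,4,1,3,5,4,7,3,8,7,6,4,5,3,0,1,2,1,2,5,4,3,2,6,4,3,7,8,3,7,4,5,4,3,2,1,0])) (.node (.node .none (.node .none (.word [3,4,3,0,1,0,2,6,7,3,4,5,6,4,3,7,1,4,3,5,4,3,8,2,3,7,8,6,5,4,3,2,0,1]))) .none))) (.word [2,4,3,7,3,4,2,1,2,1,6,5,7,3,2,4,8,7,3,4,2,3,7,5,0,1,2,0,1,6,3,4,3,2,1,5,7,3,2,4,3,7,8,4,2,3,7,5,6,5,2,3,1]))) (.node (.node (.node (.node (.node .none (.word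 [2,3,6,7,3,2,8,7,3,4,2,3,7,3,1,2,1,2,3,2,0,1,0,2,3,4,5,6,7,3,4,2,3,7,1,2,3,4,5,0,1,0])) (.node (.node .none (.word [3,4,3,1,3,2,5,4,3,7,3,4,5,2,3,0,2,1,0,4,3,2,8,7,8,3,7,2,3,4,1,2,3,7,8,2])) .none)) (.node (.node (.node .none (.node .none (.word [0,2,4,5,4,7,3,2,1,7,6,3,4,5,4,3,2,7,3,4,6,5,4,3,7,2,3,1,2,3,4,7,8,3,7,4,2,3,1,2,1,0]))) .none) .none)) (.node (.node (.node (.node (.node .none (.word [1,0,5,4,3,2,1,7,3,2,4,3,7,1,2,3,4,5,0,2,1,0,3,4,3,2,7,3,4,5,6,4,5,2,3,1,0,5,6,7,3,2,8,7,3,4,2,3,7,5,2,1])) (.node .none (.word [1,0,2,1,0,3,2,4,3,5,4,3,7,1,2,3,4,5,1,2,1,3,7,8,7,3,0,2,3,2,5,4,3,6,1,2,3,7,4,5,6,3,4,5,2,1]))) .none) .none) (.node (.node (.node .none (.node .none (.word [2,3,2,4,5,4,3,2,1,8,7,3,4,2,3,7,8,4,5,3,4,2,1,2,4,3,7,3,4,3,5,4,6,5,8,1,2,3,7,8,3,4,5,6,0,1])))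 .none) (.node .none (.node .none (.word [0,1,2,1,3,2,4,5,6,7,3,4,8,7,1,2,3,4,5,0,6,0,2,1,0,5,4,3,2,1,8,7,3,2,5,4,3,7,8,2,3,4,5,0,1,2,0])))))) (.node (.node (.node (.node (.word [2,1,0,3,2,1,5,4,3,2,7,3,8,7,4,5,4,2,0,6,3,4,7,8,7,3,1,2,1,0,3,7,8,7,5,4,3,2,1,0,7,8,5,4,2,3,7,8,4,5,6,4,3,2]) (.node (.node .none (.word [2,4,3,7,3,4,2,1,2,3,2,8,7,3,8,1,2,4,5,4,3,6,7,0,1,2,3,7,4,5,6,4,2,1])) .none)) (.word [3,4,3,1,0,5,4,3,2,1,7,3,2,4,3,7,1,2,3,4,5,0,6,2,5,4,3,2,1,0,7,8,5,4,2,3,7,8,4,5,6,4,3,2])) (.node (.node .none (.node (.word [0,1,2,4,3,7,8,7,3,4,3,5,6,8,7,3,2,4,5,1,2,3,7,8,4,2,1,5,7,3,2,8,7,8,3,4,2,3,7,5,6,2,3,2,0]) (.word [2,4,3,7,3,4,1,3,2,4,8,7,3,7,4,1,2,3,7,8,0,1,2,3,1]))) (.node .none (.node (.node .none (.word [3,4,7,8,7,3,0,1,2,4,7,3,4,8,7,5,3,4,2,3,7,8,2,3,7,1,0]))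 .none)))) (.node (.node (.word [0,5,4,3,8,7,3,2,1,4,8,5,6,4,5,3,2,3,4,3,0,1,2,5,4,7,8,3,7,4,5,6,0,1,2,3,2,0,1,2,5,6,8,7,3,4,1,2,3,7,8,5,4]) (.node (.node .none (.node (.word [2,1,3,6,5,4,3,2,7,8,3,7,8,4,5,4,1,0,3,7,8,7,2,0,1,2,5,4,3,6,5,4,3,7,2,3,4,5,6,0,1,2,3]) (.word [2,4,3,7,3,5,4,6,5,4,3,7,2,3,4,5,2,1,2,5,7,3,8,7,8,4,3,7,5,0,1,2,3,1]))) .none)) (.node (.node (.node (.word [1,0,5,4,3,2,1,7,3,2,4,3,7,1,2,3,4,5,0,6,3,7,8,7,3,2,5,4,3,2,1,0,7,8,5,4,2,3,7,8,4,5,6,4,3,2]) (.word [0,3,2,1,0,5,6,7,3,2,8,7,3,4,2,3,7,5,1,3,4,5,6,8,1,2,3,7,8,4,5,3,0,2,1,0,3,4,3,2,7,3,4,5,6,4,5,2,3])) .none) (.node .none (.node .none (.word [0,1,0,2,1,3,7,8,3,2,4,5,3,4,2,3,7,2,3,2,1,2,4,5,4,6,5,4,3,7,2,3,4,5,2,1,2,5,7,3,8,7,8,4,3,7,5,0,1,2,3,1]))))))))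

/-- A subtree. -/
def sub146 : WTree :=
  (.node (.node (.node (.node (.node (.node (.word [1,5,4,7,3,2,8,7,3,4,5,6,8,7,4,0,3,4,3,0,1,2,5,4,7,8,3,7,4,5,6,0,1,2,3,2,4,8,7,3,2,1,5,4,2,3,7,8,6,5,2,1,0]) (.word [0,2,1,3,2,5,6,5,4,7,8,3,7,4,5,3,2,0,1,3,4,3,0,5,6,7,3,2,8,7,5,3,4,2,3,7,5,2,1])) (.node (.node .none (.node .none (.word [0,1,0,2,3,8,7,3,2,8,1,2,3,0,1,2,4,3,8,7,2,3,4,1,2,3,7,8,0,1,2]))) (.node .none (.word [2,1,4,3,2,5,4,3,2,1,7,8,3,7,4,5,4,3,2,0,6,3,4,3,5,4,3,2,1,7,3,2,8,4,3,7,1,2,3,4,5,6,4,1,0])))) (.node (.node (.node (.node .none (.word [2,4,3,7,3,4,2,1,2,3,2,8,7,3,8,0,4,3,2,5,7,3,7,4,5,6,5,3,4,1,2,0,1,0])) (.word [0,1,5,7,3,2,4,8,3,7,8,3,4,2,3,7,5,1,0,1,2,4,3,7,3,4,2,0,1,2,1,0,4,3,5,4,7,8,3,7,6,5,2,3,4,1,2,0,1,0])) .none) (.node (.node .none (.word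 [1,2,1,3,4,3,2,6,5,7,6,3,4,5,2,3,1,2,1,7,3,2,4,3,7,8,5,4,2,3,7,6,2,3,2])) .none))) (.node (.node (.node (.node .none (.node (.word [1,0,2,1,3,4,7,3,2,7,4,3,1,2,0,2,4,3,5,4,3,2,1,2,3,7,8,2,3,7,4,5,4,3,2,0]) (.word [0,1,6,5,7,3,2,4,3,7,8,4,2,3,7,5,3,1,0,3,4,3,0,1,2,5,4,7,8,3,7,4,5,6,0,1,2,3,4,3,7,3,4,2,1]))) (.word [3,4,3,2,1,0,6,5,7,3,4,8,7,3,2,8,7,6,5,1,2,3,4,3,2,4,3,7,3,4,2,1,0,1,2,1,5,7,3,7,8,4,3,7,5,6,2,3,2])) (.node (.node .none (.word [3,4,3,1,5,7,3,2,4,3,7,8,7,3,4,2,3,7,6,5,3,1,2,1,0,5,6,7,3,2,7,5,3,4,2,3,7,5,2,3,1,2,0])) (.node (.node (.word [2,1,0,3,2,1,4,3,6,5,6,4,5,3,2,1,3,2,7,8,7,0,2,3,2,4,5,6,8,1,2,3,7,8,4,5,6,2,3,2,5,4,7,8,3,7,4,5,6,1,2,3,2]) (.word [2,3,2,6,5,7,3,4,8,7,3,7,5,1,2,1,0,3,4,3,6,2,1,0,4,3,2,5,4,8,3,7,8,5,6,4,5,3,1,2,0,1,0])) .none)))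 (.node (.node (.node .none (.word [0,1,0,3,2,5,4,3,8,7,3,8,6,5,4,1,0,5,4,6,7,3,4,1,2,3,7,8,4,3,7,5,6,0,1,2,1,0,3,4,3,2,7,3,4,5,6,4,5,2,3])) .none) (.node (.word [3,4,3,0,1,0,2,1,3,5,4,6,5,8,7,3,8,4,5,2,3,4,0,1,4,3,7,3,4,2,0,3,2,5,4,3,6,7,5,2,3,4,3,1,2,1]) (.word [0,1,5,7,3,2,4,8,3,7,8,3,4,2,3,7,5,1,2,3,4,3,5,4,3,6,7,1,2,3,4,5,4,3,1,2,0,6,1,2,1,7,3,2,8,4,3,7,8,2,3,7,1,2,3,1,2,0]))))) (.node (.node (.node (.node (.node .none (.node .none (.word [3,4,3,0,2,4,6,5,4,7,3,2,1,7,6,3,4,5,4,2,3,2,4,5,7,3,7,8,4,2,3,7,5,4,3,1,2,1,0]))) .none) (.node (.node .none (.node .none (.word [2,1,3,2,4,8,7,3,8,5,4,3,2,7,3,7,4,5,6,5,4,3,2,8,7,3,8,0,4,3,2,5,7,3,7,4,5,6,5,3,4,1,2,0,1,0]))) (.word [0,1,0,2,1,3,7,8,3,2,4,5,3,4,2,3,7,2,3,4,3,6,7,3,5,4,3,2,1,3,7,8,2,3,7,6,4,5,4,3,2]))) (.node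 (.node .none (.node (.node .none (.word [2,3,4,6,5,8,7,3,2,4,3,7,8,0,1,2,3,4,5,1,0,2,1,0,3,7,8,7,2,0,3,2,7,3,4,8,6,5,4,3,7,1,2,3,0,1])) .none)) (.node .none (.node (.node .none (.word [2,1,3,2,4,8,7,3,7,4,1,2,3,7,8,0,1,2,3,1])) .none)))) (.node (.node (.node (.node (.node .none (.word [0,1,2,4,3,7,8,7,3,4,2,1,0,1,2,4,3,6,7,3,5,4,3,2,1,3,7,8,2,3,7,6,4,5,4,3,2])) (.word [2,1,0,4,3,2,5,8,7,3,4,2,3,7,8,6,5,2,3,4,3,2,4,8,7,3,8,5,4,3,2,7,3,7,4,5,6,5,4,2,1])) (.word [3,4,3,1,7,3,2,4,3,8,7,3,8,4,2,3,7,0,1,2,5,6,8,7,3,4,1,2,3,7,8,5,6,4,0,3,2,5,4,3,7,3,4,5,6,1,2,3,0])) .none) (.node (.node (.node .none (.node (.word [0,1,0,3,2,5,4,6,5,4,3,7,8,7,4,2,3,2,0,1,0,2,1,0,3,4,3,5,7,6,2,3,4,5,2,3,1]) (.word [3,4,7,8,7,3,2,1,5,7,3,2,4,3,7,8,2,3,7,5,6,4,3,2,1,7,6,5,3,4,2,3,0,1,2,0])))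 (.node (.node .none (.word [1,2,3,2,4,5,7,3,8,4,2,3,7,5,4,3,1,2,0,1,0,1,2,4,3,6,7,3,5,4,3,7,8,2,3,7,8,6,4,5,4,3,1,2])) .none)) .none)))) (.node (.node (.node (.node (.node (.node .none (.node .none (.word [1,3,5,4,3,2,6,5,4,3,0,1,2,3,2,7,3,4,6,5,4,3,7,2,3,1,0,4,3,7,8,2,3,7,6,4,3,1,2,1]))) (.word [0,1,2,1,3,6,7,8,7,2,3,2,1,2,4,3,7,3,4,2,0,1,2,3,2,5,4,7,3,4,8,7,3,4,2,3,7,5,6,4,5,0,1,0])) .none) (.node (.node .none (.word [3,4,3,1,2,3,5,8,7,3,2,4,5,6,8,0,1,2,3,4,5,0,2,1,0,5,7,3,2,4,3,7,8,2,3,7,6,5,3,2,1])) (.node .none (.word [1,3,5,6,5,4,3,2,5,4,3,0,1,4,5,4,8,7,3,8,7,2,3,4,5,3,1,2,1,3,4,3,0,1,2,5,4,7,8,3,7,4,5,6,0,1,2,3,2])))) (.node (.node (.node (.node (.node .none (.word [3,2,5,4,3,7,3,4,5,2,3,1,2,3,2,8,7,3,8,0,4,3,2,5,7,3,7,4,5,6,5,3,4,1,2,0,1,0])) .none) .none)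 (.node (.node .none (.node .none (.word [0,1,0,2,6,7,3,4,5,6,4,3,7,1,4,3,5,4,3,8,2,3,7,8,6,5,4,3,2,0,1]))) .none)) (.node .none (.node (.word [1,2,4,3,6,7,3,5,4,3,7,8,2,3,7,8,6,4,5,4,3,1,2,1,2,4,3,7,3,4,2,0,1,2,1,0,4,3,5,4,7,8,3,7,6,5,2,3,4,1,2,0,1,0]) (.word [2,4,3,7,3,4,3,2,4,5,8,7,3,2,4,3,7,8,6,5,4,2,3,2,1,2,3,2,0,1,0,5,4,3,2,1,7,3,8,7,4,5,6,4,5,4,3,2]))))) (.node (.node (.node (.node (.node (.word [1,3,2,7,3,4,5,6,8,4,3,7,2,3,2,4,3,7,3,4,2,1,0,1,2,4,5,4,8,7,3,8,7,6,2,3,4,5,3,2,1,0]) (.node .none (.word [0,1,2,4,3,7,8,7,3,4,2,1,0,1,2,4,3,7,3,4,2,3,2,1,5,7,2,3,7,8,4,3,7,5,3,2,0,1,0]))) .none) (.node .none (.node (.node .none (.word [2,5,4,6,7,3,8,7,4,5,2,4,5,3,7,8,4,2,3,7,5,6,4,5,1,3,2,4,8,7,3,7,4,1,2,3,7,8,0,1,2,3,1])) .none))) (.node (.node .none (.node (.node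 .none (.word [2,4,3,7,3,4,2,1,0,5,4,3,2,7,3,2,1,4,8,7,3,4,5,4,2,3,4,5,4,7,8,3,7,6,1,2,3,4,5,4,1])) .none)) (.node .none (.node (.node .none (.word [2,3,2,1,0,4,6,5,4,3,7,6,2,3,4,5,2,1,0,2,1,0,3,4,3,2,7,3,4,5,6,4,5,2,3,1,2,1,4,7,8,2,3,7,6,4,2,3,0,1,2,0,1])) (.word [0,1,2,4,3,7,8,7,3,4,2,5,6,5,4,3,2,7,3,8,7,4,5,4,3,2,0,1,0,2,1,5,7,3,2,4,3,7,8,2,3,7,6,5,2,3,1]))))) (.node (.node (.node (.node (.node .none (.word [3,2,5,4,3,7,3,4,5,2,3,2,4,5,4,6,5,4,3,7,2,3,4,5,2,1,2,5,7,3,8,7,8,4,3,7,5,0,1,2,3,1])) .none) (.node (.node (.word [0,1,2,1,4,3,2,5,4,6,5,3,4,7,3,2,4,7,8,5,3,4,2,3,7,1,2,3,2,0]) (.word [4,7,8,7,3,4,5,6,4,5,3,0,2,1,3,4,3,7,6,3,4,2,3,1,2,0,1,3,5,4,3,7,8,7,6,5,4,1])) .none)) (.word [1,7,3,2,4,3,8,7,3,8,4,2,3,7,0,1,2,5,6,8,7,3,4,1,2,3,7,8,5,6,4,0,3,2,5,4,3,7,3,4,5,6,1,2,3,0]))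 (.node (.word [1,2,1,6,5,7,3,2,4,8,7,3,4,2,3,7,5,0,1,2,0,3,4,3,6,2,1,5,7,3,2,4,3,7,8,2,3,7,5,6,5,2,3,1]) (.word [1,2,3,2,4,5,7,3,8,4,2,3,7,5,4,3,1,2,0,1,0,3,2,5,4,3,7,3,4,5,2,3]))))))

/-- A subtree. -/
def sub147 : WTree :=
  (.node (.node (.node (.node .none (.node (.node (.node (.word [1,5,4,3,2,7,3,2,4,8,7,3,4,5,4,0,3,2,7,3,4,6,5,4,3,7,2,3,1,2,4,5,6,7,8,3,7,2,3,4,5,3,1]) (.word [0,2,1,5,4,3,7,3,2,6,4,5,3,0,1,2,0,3,7,8,7,3,2,1,0,3,4,3,2,7,3,4,5,6,4,5,2,3,1,4,7,3,4,8,1,2,3,7,8,4,3,7])) .none) (.node (.node (.node .none (.word [3,2,1,0,6,5,4,7,3,2,7,4,5,1,2,3,2,4,3,5,8,7,3,2,1,4,3,7,8,7,6,3,4,5,3,2,1,0,7,3,2,4,8,3,7,8,4,2,3,7,1])) .none) .none))) (.node (.node .none (.node (.node (.word [1,2,4,3,6,7,3,5,4,3,7,8,2,3,7,8,6,4,5,4,3,1,2,0,1,2,5,4,3,2,1,6,7,3,4,5,4,2,3,2,3,4,3,0,1,2,7,3,4,6,5,4,3,7,2,1,0])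 (.node (.word [2,4,3,7,3,4,2,1,0,2,1,0,3,2,4,7,3,8,7,4,1,2,3,6,7,8,7,3,1,0,1,5,4,3,2,1,0,8,7,3,4,2,3,7,8,5,6,4,3,2]) (.word [1,0,2,1,3,4,6,7,3,2,7,4,3,0,5,6,7,3,5,4,3,7,5,6,2,3,1,2,0,1,5,4,3,2,1,0,8,6,5,4,3,7,8,5,3,2,1]))) .none)) (.node (.node (.word [2,4,3,7,3,4,2,1,2,1,0,3,4,7,3,2,1,8,7,4,0,1,3,5,4,3,7,3,2,4,3,4,1,2,3,7,3,4,5,2,3,1,0]) (.node (.node .none (.word [3,4,3,0,1,2,1,3,2,5,4,3,7,3,2,6,4,5,3,0,1,2,0,6,0,3,5,6,7,3,2,4,3,7,8,7,3,4,2,3,7,5,1])) (.word [3,2,5,4,3,7,3,4,5,2,3,1,2,4,3,6,7,3,5,4,3,7,8,2,3,7,8,6,4,5,4,3,1,2]))) .none))) (.node (.node (.node (.node (.node (.word [2,1,3,2,6,5,4,3,2,1,8,7,8,5,6,4,5,3,2,1,2,4,3,7,3,4,2,3,7,8,7,3,5,4,3,2,1,7,3,2,7,4,5,6,4,5,4,3,1,2,0,1,0]) (.word [0,1,5,7,3,2,4,8,3,7,8,3,4,2,3,7,5,0,2,3,8,7,3,2,8,1,2,3,0,1,2,4,3,8,7,2,3,4,1,2,3,7,8,0,1,2]))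 .none) (.node (.node .none (.node .none (.word [4,5,4,3,2,7,8,3,7,2,3,4,5,2,1,3,4,3,7,6,3,4,2,3,1,2,0,1,0,4,5,4,7,3,2,4,3,7,8,4,3,7,3,4,5]))) .none)) (.node (.node (.node .none (.node .none (.word [0,1,2,7,3,4,5,6,4,3,7,2,1,0,2,3,4,5,6,8,1,2,3,7,8,4,5,3,0,4,7,8,1,2,3,7,4,3,0,1,2,1]))) .none) (.node (.node .none (.node (.word [2,1,3,2,4,8,7,3,8,5,4,3,2,7,3,7,4,5,6,5,4,2,1,0,2,1,0,3,2,4,7,3,8,7,3,5,4,6,5,0,1,2,3,4,5,6,1,2,1,0]) (.word [1,2,3,2,4,5,7,3,8,4,2,3,7,5,4,3,1,2,0,1,2,1,0,3,2,4,7,3,8,7,3,5,4,6,5,0,1,2,3,4,5,6,1,2,1,0]))) .none))) (.node (.node (.node (.node .none (.word [0,3,2,1,6,5,4,7,3,8,7,4,5,2,3,4,5,4,3,7,8,7,3,4,5,6,5,2,3,1,2,0,2,1,3,7,3,2,4,3,7,8,4,2,3,7,3,2,1])) (.word [0,1,2,4,3,7,8,7,3,5,4,3,7,3,2,4,3,5,4,1,0,3,7,8,7,6,3,2,3,2,4,5,4,3,7,6,1,2,3,4,5,2,1,0]))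 .none) (.node (.node (.node (.node .none (.word [2,4,3,7,3,4,2,1,2,3,7,3,2,4,8,7,3,4,2,3,7,3,4,3,2,5,6,8,3,7,8,4,5,3,4,0,1,2,0,1,0])) .none) (.node .none (.word [0,1,0,2,1,3,7,8,3,2,4,5,3,4,2,3,7,2,3,2,1,0,1,0,2,3,8,7,3,2,8,1,2,3,0,1,2,4,3,8,7,2,3,4,1,2,3,7,8,0,1,2]))) .none)))) (.node (.node (.node .none (.node (.node (.node (.node (.word [1,0,2,3,2,1,0,5,4,6,7,3,2,3,7,4,5,1,2,3,4,2,7,3,4,6,5,4,3,7,2,3,1,0,2,1,0,3,5,4,6,7,8,2,3,7,4,5,6,3,2]) (.word [2,4,3,7,3,4,2,0,2,1,3,2,5,7,8,7,3,2,4,5,6,3,4,5,0,7,8,7,2,3,1,2,0,3,5,6,7,3,2,4,3,7,8,7,3,4,2,3,7,5,1])) .none) .none) (.node (.node (.node .none (.word [1,4,5,8,7,3,2,1,4,3,7,8,6,5,2,3,5,4,3,7,3,2,4,8,3,4,1,2,3,7,6,5,4,0,1,0])) .none) .none))) (.node (.node .none (.node (.node .none (.word [2,4,3,7,3,4,3,2,6,5,7,3,4,8,7,3,7,5,1,2,1,0,2,1,0,4,3,2,5,4,8,3,7,8,5,6,4,5,3,1,2,1,0]))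 .none)) (.node (.node (.word [1,2,4,7,3,8,7,4,3,0,1,2,1,3,6,7,8,7,4,3,0,1,2,4,5,4,8,7,3,8,7,6,2,3,4,5,3,2,1,0]) (.node (.node .none (.word [1,2,1,3,4,7,3,2,8,7,3,4,0,1,3,2,5,4,6,5,7,3,4,2,3,7,8,3,7,4,1,2,1,0,3,4,7,8,3,7,4,2,1])) .none)) (.node .none (.word [3,4,3,0,1,2,5,4,3,2,1,6,7,3,4,5,4,2,3,2,3,4,3,0,1,2,7,3,4,6,5,4,3,7,2,1,0]))))) (.node (.node (.node (.node (.node .none (.word [3,2,7,3,4,8,7,3,2,1,0,8,4,3,7,3,5,7,3,2,3,4,1,2,3,7,5,3,4,3,2,1,0])) .none) (.node (.node (.word [0,1,0,2,1,3,7,8,3,2,4,5,3,4,2,3,7,2,3,2,1,0,1,2,4,3,6,5,4,7,3,2,7,6,8,1,2,3,7,8,5,4,2,3,2,0]) (.node .none (.word [3,4,3,0,1,2,1,3,4,5,4,3,6,5,8,4,2,3,7,8,5,4,1,4,3,5,4,3,6,5,7,6,0,1,2,3,4,5,2,3,1,2,0]))) .none)) (.node (.node (.node (.word [2,1,0,4,3,2,5,8,7,3,4,2,3,7,8,6,5,2,3,4,1,2,1,2,3,2,4,5,7,3,8,4,2,3,7,5,4,3,1,2,0,1,0])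 (.word [0,1,5,7,3,2,4,8,3,7,8,3,4,2,3,7,5,1,0,2,1,0,4,3,2,5,8,7,3,4,2,3,7,8,6,5,2,3,4,1,2])) .none) (.node .none (.node (.node .none (.word [3,4,3,2,4,5,4,8,7,3,4,8,7,2,3,4,5,1,2,3,4,7,8,7,6,3,1,2,3,4,5,4,7,8,3,7,6,1,2,3,4,5,4])) .none)))) (.node (.node (.node (.word [3,4,3,1,0,5,4,3,2,1,7,3,2,4,3,7,1,2,3,4,5,0,6,3,7,8,7,3,2,5,4,3,2,1,0,7,8,5,4,2,3,7,8,4,5,6,4,3,2]) (.word [0,2,3,4,3,5,4,3,6,7,1,2,3,4,5,4,3,1,2,1,5,4,7,3,4,8,7,3,4,2,3,7,5,6,4,5,1,0])) (.node .none (.node (.node .none (.word [0,1,2,4,3,7,8,7,3,4,2,1,0,5,4,3,6,7,8,7,4,5,4,0,1,2,5,8,3,7,8,4,5,6,2,3,4,5,1,0])) .none))) (.word [6,5,4,3,2,1,7,3,2,4,3,8,7,1,2,3,4,5,4,1,0,6,0,7,3,2,4,5,8,3,7,4,5,3,4,2,3,7,6,5,1,0,1,2,3,2,1,0])))))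

/-- A subtree. -/
def sub148 : WTree :=
  (.node (.node (.node (.node .none (.node (.node (.node (.node .none (.word [0,1,5,7,3,2,4,8,3,7,8,3,4,2,3,7,5,1,0,1,2,3,2,4,5,7,3,8,4,2,3,7,5,4,3,1,2,0,1,0])) .none) (.node (.node (.word [0,1,2,4,3,7,8,7,3,4,1,3,4,3,2,5,6,7,3,7,4,5,3,4,0,1,2,1,0,2,1,0,3,7,8,7,2,0,4,5,4,3,7,8,4,2,3,7,2,3,4,5,6]) (.word [3,4,3,2,5,4,6,7,3,8,7,4,5,2,4,5,3,7,8,4,2,3,7,5,6,4,5,2])) .none)) (.node (.node (.node (.word [2,1,3,2,4,8,7,3,7,4,1,2,3,7,8,0,1,2,3,2,4,3,7,3,4,2,0,1,2,1,0,4,3,5,4,7,8,3,7,6,5,2,3,4,1,2,0,1,0]) (.word [1,2,3,5,4,6,5,7,3,2,4,3,7,5,4,1,2,3,4,3,0,1,2,6,3,2,1,2,1,0,5,7,3,2,4,3,7,8,2,3,7,5,6,5,3,2,1])) .none) (.node .none (.word [3,4,2,7,3,4,8,7,3,2,1,0,8,4,3,7,4,2,5,4,3,2,1,0,8,7,3,4,2,3,7,8,5,4,3,2]))))) (.node (.node (.node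 .none (.node (.node (.word [1,2,1,3,4,3,2,5,7,6,3,4,5,2,3,0,2,1,5,6,7,8,2,3,7,8,4,3,7,5,0,1,2]) (.word [3,4,3,0,1,3,2,6,5,7,3,2,4,8,7,3,4,2,3,7,5,1,0,3,4,7,8,7,3,2,4,3,5,4,6,5,8,7,3,4,1,2,3,7,8,4,5,3,4,3,2])) .none)) (.node (.word [2,3,7,3,2,8,7,3,4,2,3,7,3,1,2,0,1,6,2,3,4,5,6,7,3,4,2,3,7,1,2,3,4,5,0,1,0]) (.node (.node (.word [1,0,2,1,0,3,2,4,7,3,8,7,4,1,2,3,6,7,8,7,3,1,0,1,5,4,3,2,1,0,8,7,3,4,2,3,7,8,5,6,4,3,2]) (.word [1,2,4,3,7,3,4,2,3,2,1,5,7,2,3,7,8,4,3,7,5,3,2,0,1,0])) .none))) .none)) (.node (.node (.node (.node .none (.node (.node .none (.word [3,2,5,4,3,7,3,4,5,2,3,0,2,6,5,4,7,3,2,1,8,7,6,4,5,3,2,1,7,3,2,4,6,5,4,3,7,8,2,3,7,6,2,1,0])) (.word [2,4,3,7,3,4,2,1,2,3,4,5,4,6,5,4,7,8,3,7,1,2,3,4,5,1,0,2,1,0,3,5,4,6,7,8,2,3,7,4,5,6,3,2,1]))) .none) (.node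 (.node .none (.node (.node .none (.word [2,4,3,7,3,4,2,0,4,5,4,3,2,1,7,3,2,4,3,7,6,5,4,3,2,7,8,7,0,1,0,2,3,4,5,4,3,2,8,7,3,4,2,3,7,8,1,2,3,4,5,3,2,0])) .none)) (.node (.node (.node .none (.word [3,2,5,4,3,7,3,4,5,2,3,0,2,4,6,5,4,7,3,2,1,7,6,3,4,5,4,0,2,1,3,4,7,2,3,7,4,2,3,1,2,0,1])) .none) .none))) (.node (.node (.node .none (.node (.node .none (.word [3,2,7,3,4,8,7,3,2,1,0,8,4,3,7,4,2,5,4,3,2,1,0,8,7,3,4,2,3,7,8,5,4,3,2])) .none)) (.node (.node .none (.node (.word [0,1,2,4,3,7,8,7,3,4,5,4,3,2,1,6,7,3,4,5,4,2,3,2,3,4,3,0,1,2,7,3,4,6,5,4,3,7,2,1,0]) (.word [1,0,2,1,0,3,2,4,7,3,8,7,4,1,2,3,7,8,7,3,0,1,5,4,3,2,1,0,8,7,3,4,2,3,7,8,5,4,3,2,1]))) .none)) (.node (.node (.node (.word [3,4,3,0,1,6,5,4,7,3,2,8,7,3,4,7,5,6,4,5,1,0,3,7,8,7,3,2,3,4,5,6,7,3,4,2,3,7,1,2,3,4,5,0,1,0])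 (.node (.word [0,1,2,3,2,1,0,4,6,7,3,2,1,3,7,4,0,1,2,5,6,8,7,3,4,1,2,3,7,8,5,6,4,3,5,4,7,3,1,2,3,7,4,5,6,3]) (.word [0,1,2,3,6,5,4,3,7,3,4,5,2,1,0,3,4,7,8,7,3,0,1,2,7,3,4,6,5,4,3,7,6,2,1,0]))) (.node .none (.word [3,2,5,4,3,7,3,4,5,2,3,2,1,3,2,4,8,7,3,7,4,1,2,3,7,8,0,1,2,3,1]))) (.node (.word [2,1,5,7,3,2,4,8,7,3,4,2,3,7,5,0,1,2,0,3,4,2,5,4,6,5,7,3,4,2,3,7,8,3,7,4,1,0,5,7,3,2,4,3,7,8,4,2,3,7,6,5,1]) (.word [2,1,3,2,4,8,7,3,7,4,1,2,3,7,8,0,1,2,3,1,0,4,5,4,3,2,1,7,3,2,4,3,7,6,5,8,7,3,2,1,6,5,4,3,7,8,2,3,4,5,4,1,0])))))) (.node (.node (.node (.node .none (.node (.node .none (.word [0,1,5,7,3,2,4,8,3,7,8,3,4,2,3,7,5,1,0,1,2,4,3,7,3,5,4,3,2,1,0,1,2,3,7,6,4,5,3,4,1,2,1])) (.node (.node .none (.word [1,2,3,2,4,5,7,3,8,4,2,3,7,5,4,3,1,2,0,1,0])) .none))) (.node .none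 (.node (.node .none (.node .none (.word [1,2,3,4,5,4,6,5,4,7,8,3,7,1,2,3,4,5,6,3,4,3,0,2,1,0,5,7,3,4,7,8,3,7,5,6,5,3,2,1]))) .none))) (.node (.node (.node (.word [2,3,4,6,5,8,7,3,2,4,3,7,8,0,1,2,3,4,5,1,0,3,2,7,3,4,6,5,4,3,7,2,3,1,0,3,2,7,3,2,4,3,8,7,3,4,2,3,7,1,2,3,4,8,3,7,8,4,2,3,1,2]) (.node (.node .none (.word [3,4,3,0,1,2,1,3,2,5,4,3,7,3,2,6,4,5,3,0,1,2,0,6,1,0,3,5,6,7,3,2,4,3,7,8,7,3,4,2,3,7,5,1])) .none)) (.node (.node .none (.node .none (.word [0,1,2,4,3,7,8,7,3,4,2,1,0,3,2,7,3,4,8,7,3,2,1,0,8,4,3,7,4,2,5,4,3,2,1,0,8,7,3,4,2,3,7,8,5,4,3,2]))) .none)) (.node (.word [3,4,3,2,3,6,7,3,2,8,7,3,4,2,3,7,3,1,2,5,4,3,2,1,7,3,4,2,3,7,4,5,6,5,4,3,2,1]) (.word [3,5,4,6,5,4,8,7,3,7,8,4,3,4,3,0,1,2,1,7,3,4,7,8,6,5,4,3,7,6,2,3,2,1,2,1,5,4,7,3,2,8,7,6,4,5,3,1,2,1,0]))))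 (.node (.node .none (.word [1,0,5,4,3,2,7,3,2,1,4,8,7,3,4,5,4,0,7,8,7,2,3,1,2,6,5,4,3,2,1,7,3,2,7,4,5,6,4,5,4,3,1,2,1,0])) (.node (.node (.node .none (.node .none (.word [3,4,3,1,0,5,4,3,2,7,3,2,1,4,8,7,3,4,5,4,2,3,4,5,4,7,8,3,7,6,1,2,3,4,5,4,1]))) (.node (.node .none (.node .none (.word [3,7,8,7,3,0,1,2,4,7,3,4,8,7,5,3,4,2,3,7,8,2,3,7,1,0]))) .none)) (.node .none (.node (.node .none (.word [0,1,6,5,4,3,2,7,3,4,5,8,7,6,5,4,2,1,0,3,4,3,0,1,2,5,4,7,8,3,7,4,5,6,0,1,2,3,2,0,2,4,7,8,3,7,4,3,1,2,1])) .none))))))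

/-- A subtree. -/
def sub149 : WTree :=
  (.node (.node sub145 sub146) (.node sub147 sub148))

/-- A subtree. -/
def sub150 : WTree :=
  (.node (.node (.node (.node (.node (.node (.node .none (.node .none (.word [3,2,5,4,3,7,3,4,5,2,3,1,4,5,8,7,3,2,1,4,3,7,8,6,5,2,3,5,4,3,7,3,2,4,8,3,4,1,2,3,7,6,5,4,0,1,0]))) .none) (.node .none (.node (.node .none (.word [1,2,3,2,8,7,3,8,0,4,3,2,5,7,3,7,4,5,6,5,3,4,1,2,0,1,0])) .none))) (.node .none (.node (.node (.node .none (.word [2,4,3,7,3,4,2,0,2,1,3,2,4,3,7,3,4,3,1,5,4,3,2,1,7,8,6,5,4,3,7,8,4,5,6,5,2,0,3,2,5,4,3,7,3,4,5,6,2,3])) .none) .none))) (.node (.node (.word [0,1,3,2,5,4,3,6,5,7,8,7,4,1,0,3,2,7,3,4,6,5,4,3,7,2,3,1,0,3,2,7,3,2,4,3,8,7,3,4,2,3,7,1,2,3,7,8,7,6,2,3,1,2]) (.node (.node .none (.word [1,7,3,2,4,8,7,3,8,4,2,3,7,3,2,5,4,6,5,7,3,4,2,3,7,8,3,7,4,1,0,2,1,0,3,5,4,6,7,8,3,7,4,5,3,2]))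 (.node .none (.word [2,4,3,7,3,4,2,0,1,0,3,2,5,4,6,5,4,3,7,8,7,4,2,3,2,0,1,0,2,1,0,3,4,3,5,7,6,2,3,4,5,2,3,1])))) .none)) (.node (.node (.node (.node (.node (.node .none (.word [1,2,1,3,2,7,8,7,0,3,2,5,4,6,5,7,3,4,2,3,7,8,3,7,4,1,0,2,3,5,4,7,3,8,7,4,5,6,5,2,3,1,2,0])) (.word [5,4,3,7,3,4,8,7,3,4,2,3,7,4,5,4,1,2,6,3,2,1,4,5,4,7,3,2,4,3,7,8,4,3,7,3,4,5])) (.word [5,6,7,3,2,4,8,7,3,4,2,3,7,5,0,2,3,2,4,5,6,8,1,2,3,7,8,4,5,6,2,3,1,0,2,1,0,3,4,3,5,7,6,2,3,4,5,2,3,1])) (.node (.word [5,4,3,7,3,4,8,7,3,4,2,3,7,4,5,4,1,2,3,2,0,1,4,5,4,7,3,2,4,3,7,8,4,3,7,3,4,5]) (.node (.node .none (.word [3,4,3,0,1,2,3,6,5,4,3,7,3,4,5,2,1,0,3,4,7,8,7,3,0,1,2,7,3,4,6,5,4,3,7,6,2,1,0])) .none))) (.node (.node (.node .none (.word [3,4,3,2,1,3,6,5,4,3,2,7,8,3,7,8,4,5,4,1,0,3,7,8,7,2,0,1,2,5,4,3,6,5,4,3,7,2,3,4,5,6,0,1,2,3]))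 .none) (.node .none (.node (.node .none (.word [2,3,2,6,8,7,3,8,0,4,3,5,6,8,4,5,2,3,4,1,2,3,7,8,3,2,5,4,3,7,3,4,5,6,2,1,0])) .none)))) (.node (.node .none (.node (.node (.word [0,1,0,2,1,3,7,8,3,2,4,5,3,4,2,3,7,2,3,4,3,7,3,5,4,3,2,1,0,1,2,3,7,6,4,5,3,4,1,2,1]) (.word [2,4,3,7,3,4,2,0,1,2,1,4,5,4,3,6,5,7,8,4,2,3,7,8,5,4,1,2,0,1,2,3,2,1,0,2,1,4,5,8,7,3,2,4,8,7,5,6,3,4,5,4,1,2,1,0])) .none)) (.node (.node (.word [2,1,3,2,4,8,7,3,8,5,4,3,2,7,3,7,4,5,6,5,4,2,1,2,1,0,4,3,2,5,8,7,3,4,2,3,7,8,6,5,2,3,4,1,2]) (.word [1,0,2,5,4,7,3,2,1,8,7,6,4,5,3,4,2,7,3,4,6,5,4,3,7,2,3,1,0,1,5,7,3,2,4,8,3,7,8,4,2,3,7,5,6,0,1,0])) (.node (.word [2,4,3,7,3,4,2,0,1,6,5,4,3,2,1,7,3,2,4,3,7,6,5,4,3,2,1,5,4,3,7,3,2,1,8,3,7,3,4,5,6,4,2,3,2,1,0]) (.word [6,5,4,3,7,3,2,1,0,4,3,2,4,1,2,3,7,3,4,5,3,7,8,7,6,3,2,5,4,3,2,1,0,7,8,5,4,2,3,7,8,4,5,4,3,2,1]))))))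 (.node (.node (.node (.node .none (.node .none (.word [1,3,5,4,3,7,3,2,8,7,3,7,6,5,4,0,1,2,3,2,1,2,5,4,3,2,1,7,8,6,5,4,3,7,8,4,5,6,5,2,0,3,5,4,3,7,8,7,6,5,4,1]))) (.node (.node .none (.word [2,1,7,3,2,8,7,3,4,5,6,4,2,3,7,0,1,2,1,0,3,4,7,8,7,3,2,4,3,7,3,4,2,3,5,4,6,5,7,4,3,7,8,2,3,7,4,1])) (.node .none (.node (.node .none (.word [4,5,4,3,2,1,6,7,3,8,7,4,5,4,3,2,3,4,3,6,5,4,3,2,1,7,3,2,8,4,3,7,1,2,3,4,5,4,0,1,0])) (.word [0,2,3,4,3,5,4,3,6,7,1,2,3,4,5,4,3,1,2,0,6,1,2,1,7,3,2,8,4,3,7,8,2,3,7,1,2,3,1,2,0]))))) (.node .none (.node (.node (.node (.node (.word [2,3,4,6,5,4,8,7,3,2,4,5,8,7,0,1,2,3,4,5,2,6,0,5,4,3,2,1,7,3,4,2,3,7,1,2,3,4,5,0,1]) (.word [0,2,1,3,2,5,7,3,4,5,8,3,7,6,5,3,2,1,2,5,4,7,8,3,7,4,5,6,0,1,2,3,2,0,4,3,7,8,2,3,7,4,3,1,2,1])) .none) (.node (.node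 .none (.word [1,2,4,5,4,3,7,3,4,6,2,3,4,5,4,1,2,3,2,1,0,3,7,8,7,3,2,5,4,3,2,1,0,7,8,5,4,2,3,7,8,4,5,4,3,2,1])) .none)) (.word [3,4,3,5,4,3,7,3,4,8,7,3,4,2,3,7,4,5,4,1,2,3,2,0,1,4,5,4,7,3,2,4,3,7,8,4,3,7,3,4,5])))) (.node (.node (.node .none (.node (.node (.node .none (.word [0,4,5,4,3,2,1,7,3,2,4,3,7,6,5,8,7,3,2,1,6,5,4,3,7,8,2,3,4,5,4,1,0])) (.node .none (.word [2,4,5,4,3,2,6,7,3,4,5,4,2,0,3,7,8,7,6,3,0,2,4,5,4,3,7,6,2,3,4,5,4,2]))) .none)) (.node (.node (.word [3,4,3,4,7,8,7,3,4,5,6,4,5,3,1,2,4,3,7,3,4,2,3,7,8,7,3,1,0,5,4,6,5,7,3,4,2,3,7,8,4,3,7,6,4,5,3,1]) (.node .none (.word [1,5,7,3,2,4,3,7,8,7,3,4,2,3,7,6,5,3,1,2,1,0,5,6,7,3,2,7,5,3,4,2,3,7,5,2,3,1,2,0]))) .none)) (.node (.node (.node (.word [3,4,3,1,3,2,7,3,4,5,6,8,4,3,7,2,3,2,4,3,7,3,4,2,1,0,1,2,4,5,4,8,7,3,8,7,6,2,3,4,5,3,2,1,0])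 (.word [1,3,2,5,4,3,2,6,7,5,3,4,3,0,1,2,0,1,2,3,2,0,4,7,8,7,3,4,5,6,4,5,2,3,0,1,0])) (.node .none (.word [0,6,5,4,3,2,7,3,2,1,4,8,7,3,4,5,4,2,1,0,3,7,8,7,2,0,2,3,2,4,5,7,3,4,2,3,7,5,6,4,1,2,3,2,0]))) (.node (.node .none (.node .none (.word [1,2,4,3,7,3,5,4,3,2,1,0,1,2,3,7,6,4,5,3,4,1,3,2,8,7,3,8,1,2,4,5,4,3,6,7,0,1,2,3,7,4,5,6,4,2,1]))) (.word [1,2,4,3,7,3,5,4,3,2,1,0,1,2,3,7,6,4,5,3,4,1,2,1]))))))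

/-- A subtree. -/
def sub151 : WTree :=
  (.node (.node (.node (.node (.node (.node .none (.word [0,1,0,2,1,4,5,4,6,5,7,3,4,2,3,7,1,2,3,4,5,3,7,8,7,3,0,2,1,0,3,5,4,3,2,3,7,1,2,3,4,5,4,3,2,1])) (.node (.node .none (.word [3,4,3,2,3,2,6,5,7,3,4,8,7,3,7,5,1,2,1,0,2,1,0,4,3,2,5,4,8,3,7,8,5,6,4,5,3,1,2,1,0])) .none)) (.node (.node (.node (.node .none (.word [1,2,4,3,6,7,3,5,4,3,7,8,2,3,7,8,6,4,5,4,3,1,2])) (.node .none (.word [3,4,3,0,1,2,7,3,4,5,6,4,3,7,2,1,0,2,3,4,5,6,8,1,2,3,7,8,4,5,3,0,4,7,8,1,2,3,7,4,3,0,1,2,1]))) (.node (.node .none (.word [3,7,8,7,3,2,1,5,7,3,2,4,3,7,8,2,3,7,5,6,4,3,2,1,7,6,5,3,4,2,3,0,1,2,0])) .none)) (.node .none (.node (.node .none (.word [2,1,0,4,3,2,5,8,7,3,4,2,3,7,8,6,5,2,3,4,1,2,0,1,5,7,3,2,4,8,3,7,8,3,4,2,3,7,5,1,0])) .none)))) (.node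 (.node (.node (.word [3,4,3,0,1,2,1,6,5,4,7,3,8,7,4,5,4,5,6,8,1,2,3,7,8,4,5,6,2,3,1,0,2,3,4,5,6,7,3,4,2,3,7,1,2,3,4,5,0,1,0]) (.word [3,2,5,4,3,7,3,4,5,2,3])) (.node .none (.word [0,1,2,4,3,6,5,4,7,3,2,7,6,8,1,2,3,7,8,5,4,2,3,2,0,1,2,4,3,6,7,3,5,4,3,7,8,2,3,7,8,6,4,5,4,3,1,2]))) (.node .none (.node (.node (.node .none (.word [0,1,5,7,3,2,4,8,3,7,8,3,4,2,3,7,5,1,0,1,2,4,3,7,3,4,2,3,2,1,7,3,4,3,7,8,5,4,3,7,3,2,0,1,0])) .none) (.word [1,5,4,3,7,3,4,8,7,3,4,2,3,7,4,5,4,0,3,2,7,3,4,6,5,4,3,7,2,3,1,4,5,6,8,3,7,8,3,4,5,3]))))) (.node (.node (.node (.node (.word [2,1,4,3,2,5,6,5,4,3,7,8,2,3,7,0,1,2,3,4,5,3,4,3,6,2,1,0,3,7,8,7,5,4,3,2,1,0,7,8,5,4,2,3,7,8,4,5,6,4,3,2]) (.node .none (.word [3,2,5,4,3,7,3,4,5,2,3,1,2,3,2,8,7,3,8,1,2,4,5,4,3,6,7,0,1,2,3,7,4,5,6,4,2,1])))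 (.node (.node (.node (.word [2,1,3,2,4,8,7,3,7,4,1,2,3,7,8,0,1,2,3,1,0,3,2,1,5,4,6,5,4,3,7,2,3,4,3,0,3,7,8,7,1,0,3,4,5,6,2,3,4,5,3,1]) (.word [0,1,5,6,5,4,3,2,7,3,8,7,4,5,4,3,2,0,1,0,2,1,5,7,3,2,4,3,7,8,2,3,7,6,5,2,3,1])) .none) .none)) (.node (.node (.node (.node .none (.word [0,1,0,2,1,3,7,8,3,2,4,5,3,4,2,3,7,2,3,4,3,5,8,7,3,2,1,4,3,7,8,7,6,3,4,5,3,2,1,0,3,5,4,3,7,3,8,2,3,7,6,5,4,1])) .none) .none) (.node .none (.word [3,4,3,0,1,2,7,3,4,5,6,4,3,7,2,1,0,2,3,2,4,5,4,3,7,6,1,2,3,4,5,3,2,1,0])))) (.node .none (.node .none (.node (.node (.word [6,5,4,3,2,7,3,2,4,8,7,3,4,5,4,0,2,1,3,2,7,8,7,0,3,7,8,7,6,3,0,2,3,2,4,5,7,3,4,2,3,7,5,6,4,1,2,3,2,0]) (.word [2,4,3,7,3,4,2,0,1,0,3,2,7,8,7,3,1,0,2,1,0,4,3,2,5,8,7,3,4,2,3,7,8,5,6,5,2,3,4,1,2])) .none))))) (.node (.node (.node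 (.node (.node (.node .none (.node .none (.word [3,4,3,4,6,7,3,8,7,3,2,4,3,7,5,6,4,5,2,3,0,1,2,5,6,8,7,3,4,1,2,3,7,8,5,6,4,0,5,7,3,2,4,3,7,8,4,2,3,7,6,5]))) (.node (.node .none (.word [1,5,8,7,3,2,4,3,5,4,8,7,2,3,4,5,1,2,6,0,1,2,4,5,6,7,3,2,8,4,3,7,8,2,3,7,4,5,6,3,1,0])) .none)) (.node (.node (.node .none (.word [3,4,3,1,5,8,7,3,2,4,3,5,4,8,7,2,3,4,5,1,2,6,0,1,2,3,4,5,6,7,3,2,8,4,3,7,8,2,3,7,4,5,6,3,1,0])) .none) .none)) (.node (.node .none (.node (.node .none (.word [0,1,2,4,3,7,8,7,3,4,2,1,0,2,4,5,4,3,2,6,7,3,4,5,4,2,0,3,7,8,7,6,3,0,2,4,5,4,3,7,6,2,3,4,5,4,2])) .none)) (.node .none (.node (.node .none (.word [0,2,1,3,2,1,7,3,2,8,7,3,4,8,2,3,7,1,2,0,1,2,3,2,0,1,0,2,1,4,5,8,7,3,2,4,8,7,5,6,3,4,5,4,1,2,1,0])) (.word [0,1,2,4,3,7,8,7,3,4,5,4,3,6,5,4,7,3,2,3,4,5,1,2,3,0,1,2,6,3,2,1,4,3,7,8,2,3,7,4,3,1,2,1])))))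 (.node (.node (.node .none (.word [5,4,3,2,6,5,4,3,7,8,7,5,3,1,2,1,2,5,4,7,8,3,7,4,5,6,0,1,2,3,2,4,5,4,7,8,7,6,3,4,5])) (.node .none (.word [1,7,3,4,8,7,3,2,1,8,4,3,7,4,5,4,3,2,1,0,8,6,5,4,3,7,8,5,6,3,2,1,0,4,5,4,7,3,2,4,3,7,8,4,3,7,3,4,5,6]))) (.node .none (.node .none (.node .none (.word [0,1,2,3,6,2,1,2,5,4,3,2,1,7,8,6,5,4,3,7,8,4,5,6,5,2,0,4,5,4,3,7,8,4,1,2,3,7,2,3,4,5,0,1])))))) (.node (.node (.node (.node (.node (.node (.word [0,1,2,4,3,6,5,4,7,3,2,7,6,8,1,2,3,7,8,5,4,2,3,2,0,1,2,4,3,7,3,5,4,3,2,1,0,1,2,3,7,6,4,5,3,4,1,2,1]) (.word [0,1,2,3,2,4,6,5,4,3,7,3,8,1,2,3,7,3,4,5,3,4,3,0,2,1,3,5,6,7,5,4,2,3,7,4,5,0,1,2,0,1])) (.node .none (.word [0,1,5,7,3,2,4,8,3,7,8,3,4,2,3,7,5,1,0,1,2,4,3,6,7,3,5,4,3,7,8,2,3,7,8,6,4,5,4,3,1,2]))) .none) (.node (.node .none (.node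 .none (.word [3,4,3,1,2,8,7,3,2,8,0,1,4,3,5,8,7,3,2,1,4,3,7,8,7,6,3,4,5,3,2,1,0,4,5,4,7,8,7,3,4,5,6,5,1]))) (.word [1,4,5,7,3,2,4,3,7,8,4,2,3,7,3,4,5,0,2,1,5,4,3,2,7,4,3,7,8,4,3,7,5,4,2,1]))) (.word [0,1,6,5,4,7,3,2,8,7,3,4,7,5,6,4,5,1,0,3,7,8,7,3,2,3,4,5,6,7,3,4,2,3,7,1,2,3,4,5,0,1,0])) (.node (.node .none (.word [2,4,3,7,3,4,6,5,7,3,2,4,3,7,8,2,3,7,6,5,0,2,1,4,3,2,5,4,8,7,3,7,8,4,5,6,5,2,3,4,3,1,2,0])) (.node (.node (.node .none (.node .none (.word [1,2,1,0,3,4,6,7,3,2,1,8,7,4,3,2,7,3,4,6,5,4,3,7,2,3,1,0,2,4,7,8,3,7,4,3,1,2,1]))) .none) .none)))))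

/-- A subtree. -/
def sub152 : WTree :=
  (.node (.node (.node (.node (.node (.node (.word [2,1,4,3,2,5,6,5,4,3,7,8,2,3,7,0,1,2,3,4,5,6,3,4,3,1,2,1,0,3,7,8,7,5,4,3,2,1,0,7,8,5,4,2,3,7,8,4,5,6,4,3,2]) (.node .none (.word [0,2,1,3,2,5,7,8,7,3,2,4,5,6,3,4,5,0,7,8,7,2,3,1,2,0,3,5,6,7,3,2,4,3,7,8,7,3,4,2,3,7,5,1]))) (.node (.node .none (.node (.word [1,2,1,4,3,6,5,4,3,7,2,3,4,5,4,0,1,2,3,4,3,0,1,2,5,4,3,7,3,4,5,6,2,0,1,0]) (.word [3,4,3,0,2,1,0,3,2,4,7,3,8,7,3,5,4,6,5,0,1,2,3,4,5,6,1,2,1,0]))) (.node (.node .none (.word [0,1,2,4,3,7,8,7,3,4,2,1,0])) .none))) (.node (.word [2,1,3,2,4,8,7,3,7,4,1,2,3,7,8,0,1,2,3,1,0,1,2,4,3,6,5,4,7,3,2,7,6,8,1,2,3,7,8,5,4,2,3,2,0]) (.node (.node (.word [1,2,4,3,6,7,3,5,4,3,2,1,3,7,8,2,3,7,6,4,5,4,3,2,1,2,4,3,6,7,3,5,4,3,7,8,2,3,7,8,6,4,5,4,3,1,2])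 (.node .none (.word [3,2,5,6,5,7,3,2,4,8,7,3,4,2,3,7,5,4,5,6,8,7,3,2,5,4,3,7,8,5,6,4,5,2,3,2]))) (.node (.node .none (.word [2,5,4,6,7,3,8,7,4,5,2,4,5,3,7,8,4,2,3,7,5,6,4,5,2])) (.word [0,1,0,2,1,3,7,8,3,2,4,5,3,4,2,3,7,2,3,2,1,5,4,3,7,3,4,8,7,3,4,2,3,7,4,5,4,0,6,1,0,4,5,4,7,3,2,4,3,7,8,4,3,7,3,4,5]))))) (.node (.node .none (.node (.node (.node (.word [3,4,3,0,1,0,2,1,4,5,4,6,5,7,3,4,2,3,7,1,2,3,4,5,3,7,8,7,3,0,2,1,0,3,5,4,3,2,3,7,1,2,3,4,5,4,3,2,1]) (.word [0,4,5,4,3,2,1,7,3,2,4,3,7,6,5,4,3,2,7,8,7,0,6,1,0,2,3,4,5,4,3,2,8,7,3,4,2,3,7,8,1,2,3,4,5,3,2,0])) (.word [0,1,0,2,1,3,6,5,4,7,3,8,7,4,5,4,5,6,8,1,2,3,7,8,4,5,6,2,3,5,4,3,2,1,0,8,7,3,4,2,3,7,8,5,4,3,2,1])) (.node (.node .none (.word [3,4,3,0,1,2,1,3,4,6,5,7,3,2,4,8,3,7,6,8,1,2,3,7,8,4,5,6,2,3,4,5,6,8,3,7,8,3,4,5,2,3,1,0]))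 (.word [0,1,2,4,3,7,8,7,3,4,1,3,2,5,4,3,7,3,2,6,4,5,3,0,1,2,0,6,1,0,3,5,6,7,3,2,4,3,7,8,7,3,4,2,3,7,5,1])))) (.node (.node (.node (.word [0,1,2,4,3,7,8,7,3,4,2,1,0,1,2,5,7,3,2,4,3,7,8,2,3,7,6,5,0,3,4,3,6,1,0,2,3,5,4,7,3,8,7,4,5,6,5,2,3,1,2,0]) (.node (.word [2,3,5,4,7,3,8,7,6,4,5,3,0,1,2,0,3,5,4,6,5,1,2,3,7,2,3,4,3,0,1,2,1]) (.word [0,1,3,2,6,5,7,3,2,4,8,7,3,4,2,3,7,5,3,5,4,3,7,8,7,5,6,5,4,2,3,2,1,0,2,1,5,4,3,2,1,7,3,4,5,3,4,2,3,0,1,2,0]))) .none) .none))) (.node (.node .none (.node (.node (.node .none (.node .none (.word [2,3,2,1,0,4,6,5,4,3,7,6,2,3,4,5,2,1,0,2,4,3,7,3,4,2,1,2,3,2,5,4,7,8,3,7,4,5,6,3,1,2,0,1,0]))) (.node .none (.word [2,4,3,7,3,4,2,0,1,2,1,3,2,5,4,3,7,3,2,6,4,5,3,0,1,2,0,6,1,0,3,5,6,7,3,2,4,3,7,8,7,3,4,2,3,7,5,1]))) (.word [1,2,1,3,2,4,3,2,6,7,3,8,7,5,6,4,5,2,3,0,2,3,4,5,6,8,1,2,3,7,8,4,5,3,0,2,4,3,7,6,3,4,2,1])))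 (.node (.node (.node (.node .none (.word [0,2,3,4,3,5,4,3,6,7,1,2,3,4,5,4,3,1,2,1,2,3,2,0,5,4,7,3,4,8,7,3,4,2,3,7,5,6,4,5,0,1,0])) .none) (.node (.node (.node (.word [2,1,0,4,3,2,5,8,7,3,4,2,3,7,8,6,5,2,3,4,1,2,1,2,4,3,7,3,4,2,3,2,1,5,7,2,3,7,8,4,3,7,5,3,2,0,1,0]) (.word [1,2,3,2,4,5,7,3,8,4,2,3,7,5,4,3,1,2,0,1,2,6,5,4,7,3,2,1,8,7,6,4,5,3,2,1,7,3,2,4,6,5,4,3,7,8,2,3,7,6,2,1,0])) .none) .none)) (.node (.node (.node .none (.node .none (.word [3,2,5,4,3,7,3,4,5,2,3,1,2,3,2,4,5,7,3,8,4,2,3,7,5,4,3,1,2,0,1,0]))) .none) .none)))) (.node (.node (.node (.node (.node .none (.node (.node (.word [0,1,2,4,3,7,8,7,3,4,7,3,4,5,6,4,3,7,2,1,0,2,3,2,4,5,4,3,7,6,1,2,3,4,5,3,2,1,0]) (.word [2,1,0,3,2,1,4,7,3,2,8,7,3,7,4,5,4,6,7,3,4,1,2,3,7,8,4,3,7,5,6,0,1,0,2,3,5,6,7,3,8,5,4,3,7,5,2,3,1,2,0]))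 .none)) (.node (.word [5,4,3,2,6,5,4,3,7,8,7,5,3,1,2,0,3,7,8,7,3,1,2,1,3,4,3,2,7,3,4,5,6,4,5,1,2,3,0]) (.word [1,3,2,5,4,3,2,6,7,5,3,4,3,0,1,2,0,1,2,5,6,8,7,3,4,1,2,3,7,8,5,6,4,2,3,4,7,8,3,7,4,2,3,1,2,1,0]))) (.node .none (.node (.node (.node .none (.word [5,4,3,7,3,4,8,7,3,4,2,3,7,4,5,4,0,6,1,0,4,5,4,7,3,2,4,3,7,8,4,3,7,3,4,5])) .none) .none))) (.node (.node (.node (.node .none (.node .none (.word [2,6,5,4,3,2,7,3,4,5,6,4,5,4,2,0,3,7,8,7,3,1,0,2,1,3,4,7,2,3,7,6,4,2,3,1,2,0,1]))) .none) (.node .none (.word [2,1,3,2,4,8,7,3,8,5,4,3,2,7,3,7,4,5,6,5,4,2,1,2,1,0,3,2,1,7,8,7,0,1,2,1,0,4,3,2,5,7,8,3,7,4,5,6,5,3,4,1,2,1,0]))) .none)) (.node (.node (.node .none (.node .none (.node (.node .none (.word [2,1,3,2,4,8,7,3,7,4,1,2,3,7,8,0,1,2,3,2,4,3,7,3,4,2,3,2,1,5,7,2,3,7,8,4,3,7,5,3,2,0,1,0]))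 .none))) (.node (.node (.node .none (.node .none (.word [1,2,4,3,6,7,3,5,4,3,2,1,3,7,8,2,3,7,6,4,5,4,3,2,1,2,3,2,4,5,7,3,8,4,2,3,7,5,4,3,1,2,0,1,0]))) (.node (.node .none (.word [0,2,1,0,3,2,4,7,3,8,7,3,5,4,6,5,0,1,2,3,4,5,6,1,2,1,0])) .none)) (.node (.node (.node .none (.word [3,4,3,0,1,0,2,1,3,7,8,3,2,4,5,3,4,2,3,7,2,3,2,1])) .none) (.word [0,1,2,4,3,6,5,4,7,3,2,7,6,8,1,2,3,7,8,5,4,2,3,2,0])))) (.node (.node (.node (.node (.node .none (.word [3,4,3,0,2,4,6,5,4,7,3,2,1,7,6,3,4,5,4,2,3,2,4,5,7,3,8,4,2,3,7,5,4,3,1,2,1,0])) .none) .none) (.node (.node (.node .none (.word [3,2,5,4,3,7,3,4,5,2,3,1,2,3,7,3,2,4,8,7,3,4,2,3,7,3,4,3,2,5,6,8,3,7,8,4,5,3,4,0,1,2,0,1,0])) .none) .none)) (.node (.node (.node .none (.word [3,4,3,5,4,3,7,3,4,8,7,3,4,2,3,7,4,5,4,1,2,6,3,2,1,4,5,4,7,3,2,4,3,7,8,4,3,7,3,4,5]))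 .none) .none)))))

/-- A subtree. -/
def sub153 : WTree :=
  (.node (.node (.node (.node (.node (.word [2,4,3,7,3,4,2,4,5,4,3,2,1,6,7,3,8,7,4,5,4,3,4,3,5,8,7,3,2,1,4,3,7,8,7,6,3,4,5,3,2,4,5,3,4,2,3,7,3,4,5,4,2,0,1,0]) (.node (.node .none (.word [3,7,8,7,3,0,1,3,5,4,7,3,2,4,3,7,8,3,4,1,2,3,7,4,5,3,1,0])) .none)) .none) (.node (.node (.node .none (.node (.node .none (.word [2,4,5,4,8,7,3,4,8,7,2,3,4,5,1,2,3,4,7,8,7,3,2,3,4,5,4,7,8,3,7,6,1,2,3,4,5,4])) .none)) (.word [3,4,3,0,1,2,1,3,6,7,8,7,2,3,2,1,2,4,3,7,3,4,2,0,1,2,3,2,5,4,7,3,4,8,7,3,4,2,3,7,5,6,4,5,0,1,0])) (.node (.node .none (.word [2,4,3,7,3,4,2,5,4,3,6,7,8,7,4,5,4,0,1,2,5,8,3,7,8,4,5,6,2,3,4,5,1,0])) .none))) (.node (.node (.node .none (.node (.node (.node .none (.word [1,0,5,4,3,2,7,3,2,1,4,8,7,3,4,5,4,2,3,4,5,4,7,8,3,7,6,1,2,3,4,5,4,1]))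 .none) .none)) (.node (.node (.node .none (.node .none (.word [0,1,2,4,3,7,8,7,3,4,2,1,0,1,2,3,2,8,7,3,8,0,4,3,2,5,7,3,7,4,5,6,5,3,4,1,2,0,1,0]))) .none) .none)) (.node (.node (.node (.node .none (.word [0,2,1,5,7,3,2,4,3,7,8,2,3,7,6,5,3,2,0,3,4,3,2,3,4,5,6,8,1,2,3,7,8,4,5,3,0,2,4,3,7,3,4,2,1])) .none) (.node .none (.node (.node .none (.word [3,4,3,2,1,0,4,3,2,5,8,7,3,4,2,3,7,8,6,5,2,3,4,1,2])) .none))) (.node (.node (.node (.node .none (.word [0,1,2,1,3,2,5,4,3,7,3,2,6,4,5,3,0,1,2,0,6,0,3,5,6,7,3,2,4,3,7,8,7,3,4,2,3,7,5,1])) .none) .none) (.node (.node (.node .none (.word [2,5,6,5,4,7,3,8,7,4,5,2,0,2,4,3,5,8,7,3,2,1,4,3,7,8,7,6,3,4,5,3,2,4,5,4,3,7,8,4,2,3,7,5,6,4,5,4,2,1,0])) .none) .none))))) (.node (.node (.node .none (.node (.node .none (.word [1,0,2,1,5,4,3,7,3,2,6,4,5,3,0,1,2,0,3,4,3,6,5,4,3,7,3,2,1,8,3,7,3,4,5,6,4,2,3,2,1,0]))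 (.node (.node (.node .none (.word [3,4,3,2,3,4,6,5,8,7,3,2,4,3,7,8,0,1,2,3,4,5,1,0,2,1,0,3,7,8,7,2,0,3,2,7,3,4,8,6,5,4,3,7,1,2,3,0,1])) .none) .none))) (.node .none (.node .none (.node .none (.node .none (.word [2,1,0,3,2,1,5,4,3,2,7,3,8,7,4,5,4,2,1,2,3,2,0,1,2,4,5,4,7,8,3,7,2,3,4,5,1,2,3,0,1,2])))))) (.node (.node (.node (.node (.node .none (.node .none (.word [3,2,5,4,3,7,3,4,5,2,3,0,1,6,5,7,3,2,4,3,7,8,4,2,3,7,5,3,2,1,0,4,3,5,6,8,5,4,2,3,7,8,5,6,4,2,3,2]))) (.node (.node .none (.word [1,0,3,2,1,5,4,3,7,3,4,5,2,3,7,8,7,2,3,1,2,0,1,5,4,3,2,1,0,8,7,3,4,2,3,7,8,5,4,3,2,1])) .none)) .none) (.node (.node .none (.word [2,4,3,7,3,4,2,5,4,3,7,3,4,8,7,3,4,2,3,7,4,5,4,1,2,3,2,0,1,4,5,4,7,3,2,4,3,7,8,4,3,7,3,4,5])) .none)) (.node (.node (.node (.node .none (.node .none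 (.word [0,4,5,4,3,2,1,7,3,2,4,3,7,6,8,7,3,2,4,3,7,8,1,2,3,4,5,4,1,0]))) .none) (.node (.node (.node .none (.word [2,4,5,4,8,7,3,4,8,7,2,3,4,5,1,2,3,4,7,8,7,3,1,2,3,4,5,4,7,8,3,7,6,1,2,3,4,5,4])) .none) .none)) (.node (.node .none (.node .none (.word [0,1,2,4,3,7,8,7,3,4,2,1,0,1,2,3,2,8,7,3,8,1,2,4,5,4,3,6,7,0,1,2,3,7,4,5,6,4,2,1]))) (.node .none (.word [3,2,5,4,3,7,3,4,5,2,3,2,1,4,3,2,5,4,3,7,8,7,5,6,3,6,5,8,4,1,2,3,7,8,6,5,4,0,1,2])))))))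

/-- A subtree. -/
def sub154 : WTree :=
  (.node (.node sub150 sub151) (.node sub152 sub153))

/-- A subtree. -/
def sub155 : WTree :=
  (.node (.node (.node (.node (.node (.node (.word [4,5,4,3,2,1,6,7,3,8,7,4,5,4,3,4,3,5,8,7,3,2,1,4,3,7,8,7,6,3,4,5,3,2,4,5,3,4,2,3,7,3,4,5,4,2,0,1,0]) (.node .none (.word [0,1,2,4,3,7,8,7,3,4,2,1,0,2,5,4,6,7,3,8,7,4,5,2,4,5,3,7,8,4,2,3,7,5,6,4,5,2]))) (.word [2,4,5,4,3,2,6,7,3,4,5,4,2,1,0,2,3,2,3,5,4,3,7,8,7,5,6,5,4,1,0,3,2,7,3,2,4,3,7,8,5,3,4,2,3,7,6,2,3])) (.node (.node .none (.node (.node .none (.word [0,2,6,5,4,7,3,2,1,8,7,6,4,5,3,2,1,7,3,2,4,6,5,4,3,7,8,2,3,7,6,2,1,0])) .none)) (.node (.node (.node (.word [1,2,3,2,4,5,7,3,8,4,2,3,7,5,4,3,1,2,0,2,4,3,6,5,4,7,3,2,7,6,8,1,2,3,7,8,5,4,2,3,2,0]) (.word [1,2,8,7,3,2,8,0,1,4,5,4,8,7,3,8,7,2,3,4,5,3,1,2,1,0,4,8,3,7,8,4,2,3,1,2]))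 .none) (.node .none (.word [5,4,3,6,7,8,7,4,5,4,0,1,2,5,8,3,7,8,4,5,6,2,3,4,5,1,0]))))) (.node (.node (.word [0,1,2,3,2,4,5,6,5,7,8,7,3,4,5,3,1,0,2,4,3,7,3,4,2,1,0,4,5,4,3,7,8,7,3,4,5,6,5,2,3,1,2,7,3,2,4,8,3,7,8,4,2,3,7]) (.node .none (.node (.node .none (.word [3,4,3,0,2,1,0,3,2,4,7,3,8,7,4,1,3,4,5,6,8,1,2,3,7,8,4,5,3,0,2,1,0,3,4,5,2,3,4,5,6,5,3])) .none))) (.node (.node (.word [0,1,2,1,3,4,5,4,6,5,4,7,3,2,3,7,1,2,3,4,5,3,4,3,0,7,3,2,4,5,8,3,7,4,5,3,4,2,3,7,6,5,1,0,1,3,7,8,7,2,3,0,1,0]) (.node (.node .none (.word [1,2,4,3,6,7,3,5,4,3,7,8,2,3,7,8,6,4,5,4,3,1,2,1,2,3,2,4,5,7,3,8,4,2,3,7,5,4,3,1,2,0,1,0])) .none)) .none))) (.node (.node (.node (.node (.node .none (.node .none (.word [2,4,3,7,3,4,2,0,1,5,7,3,2,4,8,3,7,8,3,4,2,3,7,5,1,0]))) .none) (.node (.word [1,0,2,4,5,4,7,3,2,1,7,6,3,4,5,4,3,4,3,0,1,2,1,7,3,4,7,8,6,5,4,3,7,6,2,3,2,1,4,8,7,3,2,1,5,4,3,7,8,6,5,3,2,1,0])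 (.word [2,3,2,4,5,8,7,3,2,4,3,7,8,6,5,4,2,3,2,1,2,3,2,0,1,0,5,4,3,2,1,7,3,8,7,4,5,6,4,5,4,3,2]))) (.node (.node .none (.node (.node .none (.word [1,2,1,3,4,7,3,2,8,7,3,4,0,1,2,1,0,3,4,3,2,7,3,4,5,6,4,5,2,3,1,5,4,7,3,2,1,4,3,7,8,4,3,7,6,5,2,3,2,1,0])) .none)) (.node (.node (.word [0,1,2,4,5,4,3,7,3,2,4,3,5,4,1,0,3,7,8,7,6,3,2,3,2,4,5,4,3,7,6,1,2,3,4,5,2,1,0]) (.node .none (.word [0,1,2,3,2,4,6,7,8,7,3,4,5,6,4,5,3,2,1,4,5,7,3,4,2,3,7,5,6,4,3,1,2,1,0]))) (.node (.node .none (.word [3,4,3,2,4,5,4,6,5,4,3,7,2,3,4,5,2,1,2,5,7,3,8,7,8,4,3,7,5,0,1,2,3,1])) .none)))) (.node (.node (.node (.node .none (.node (.word [3,4,3,0,2,5,4,3,2,1,7,8,6,5,4,3,7,8,4,5,6,5,2,1,4,5,4,3,7,8,4,2,3,7,5,6,4,5,4,2,1,0]) (.word [2,3,4,6,5,8,7,3,2,4,3,7,8,0,1,2,3,4,5,2,6,3,2,4,5,4,3,7,8,4,2,3,7,4,5,6,4,5,4,2,1,0])))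 (.word [1,2,1,5,7,3,2,4,5,8,7,3,4,2,3,7,5,0,1,2,0,1,6,0,7,8,7,2,3,1,5,4,3,2,1,0,7,8,5,4,2,3,7,8,4,5,6,4,3,2])) (.word [2,4,3,7,3,4,2,1,3,5,4,3,2,6,5,4,3,0,1,4,5,8,7,3,2,1,8,7,3,4,5,6,5,0,1,2,3])) (.node (.node (.node (.word [0,1,0,2,1,3,7,8,7,2,3,4,3,7,3,4,2,1,3,2,5,4,3,7,3,4,5,2,3,1]) (.node .none (.word [2,4,3,7,3,4,2,0,4,5,4,3,2,1,7,3,2,4,3,7,6,8,7,3,2,4,3,7,8,1,2,3,4,5,4,1,0]))) (.word [2,1,3,2,4,8,7,3,7,4,1,2,3,7,8,0,1,2,3,2,4,3,7,3,5,4,3,2,1,0,1,2,3,7,6,4,5,3,4,1,2,1])) .none)))) (.node (.node (.node (.node (.word [0,1,2,1,3,6,5,4,7,3,8,7,4,5,2,3,2,1,6,2,1,0,3,4,3,2,7,3,4,5,6,4,5,2,3,1,0,2,1,3,7,3,2,4,3,7,8,2,3,7,6,3,2]) (.node .none (.node (.node .none (.word [3,2,5,4,3,7,3,4,5,2,3,0,1,0,2,1,3,7,8,3,2,4,5,3,4,2,3,7,2,3,2,1])) .none))) (.node (.node (.node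 (.word [2,1,3,2,4,8,7,3,8,5,4,3,2,7,3,7,4,5,6,5,4,2,1,3,7,8,7,3,0,1,3,5,4,7,3,2,4,3,7,8,3,4,1,2,3,7,4,5,3,1,0]) (.word [2,1,0,3,2,1,4,3,6,5,6,4,5,3,2,1,3,2,7,8,7,0,2,3,4,5,6,8,1,2,3,7,8,4,5,3,1,2,1,5,7,3,7,8,4,3,7,5,6,2,3,2])) .none) (.node (.node .none (.node .none (.word [2,5,6,5,4,7,3,8,7,4,5,2,1,0,2,3,2,1,0,3,4,2,1,5,7,3,2,4,3,7,8,2,3,7,5,6,2,0,1,0]))) .none))) (.node (.node (.node .none (.node (.node .none (.word [2,4,3,7,3,4,2,5,4,3,7,3,4,8,7,3,4,2,3,7,4,5,4,0,6,1,0,4,5,4,7,3,2,4,3,7,8,4,3,7,3,4,5])) .none)) (.node (.node (.node .none (.word [3,4,3,0,1,2,4,5,4,6,5,7,3,2,4,8,7,3,4,5,4,1,2,1,0,5,4,7,3,8,7,3,4,5,6,2,3,4,5,4,2])) .none) .none)) (.node (.node (.node (.node .none (.word [1,2,3,4,5,4,6,5,4,7,8,3,7,1,2,3,4,5,1,0,2,1,0,3,5,4,6,7,8,2,3,7,4,5,6,3,2,1]))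 .none) .none) .none))) (.node (.node (.node .none (.node .none (.word [1,2,3,5,8,7,3,2,4,5,6,8,0,1,2,3,4,5,0,2,1,0,5,7,3,2,4,3,7,8,2,3,7,6,5,3,2,1]))) (.node (.node (.node (.node .none (.word [3,4,3,0,1,2,1,3,2,4,7,3,8,7,4,3,2,5,4,3,2,1,7,3,2,4,3,7,4,5,6,4,5,4,1,2,1,0])) .none) .none) (.node (.node (.node .none (.word [3,4,3,0,1,0,3,2,7,8,7,3,1,0,2,1,0,4,3,2,5,8,7,3,4,2,3,7,8,5,6,5,2,3,4,1,2])) (.node .none (.word [2,4,3,7,3,4,2,0,1,6,5,7,3,2,4,3,7,8,4,2,3,7,5,3,2,1,0,4,3,5,6,8,5,4,2,3,7,8,5,6,4,2,3,2]))) (.node (.word [3,4,2,6,5,4,7,3,8,7,4,5,2,3,1,2,4,3,7,3,4,3,4,5,6,8,1,2,3,7,8,4,5,3,0,7,3,2,4,8,3,7,8,4,2,3,7,6,1]) (.word [1,3,2,6,5,4,7,3,8,7,4,5,2,3,1,2,4,3,7,3,4,2,0,1,3,5,4,3,7,8,7,5,6,5,4,2,3,2,1,0,2,1,5,4,6,7,2,3,7,4,5,6,3,2]))))) (.node (.node (.node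 (.node (.node .none (.word [0,1,0,6,5,4,7,3,2,8,7,3,7,5,6,4,5,1,0,3,4,7,8,7,3,2,1,4,7,8,3,7,4,2,3,0,1,2,0,1])) .none) (.node .none (.word [1,2,4,3,6,7,3,5,4,3,2,1,3,7,8,2,3,7,6,4,5,4,3,2]))) .none) (.node (.node .none (.node (.node .none (.word [2,1,0,4,3,2,5,8,7,3,4,2,3,7,8,6,5,2,3,4,1,2])) .none)) .none)))))

/-- A subtree. -/
def sub156 : WTree :=
  (.node (.node (.node (.node (.node (.node .none (.word [2,4,3,7,3,4,2,1,3,2,5,4,3,2,6,7,5,3,4,3,0,1,2,0,1,2,3,2,0,4,7,8,7,3,4,5,6,4,5,2,3,0,1,0])) (.node .none (.word [2,3,4,6,5,8,7,3,2,4,3,7,8,0,1,2,3,4,5,1,7,8,7,2,3,1,2,0,2,4,5,4,6,5,4,3,7,2,3,4,5,6,2]))) (.node .none (.node (.node (.node .none (.word [1,0,2,4,5,4,7,3,2,1,7,6,3,4,5,4,2,1,3,2,7,8,7,1,2,3,2,1,0,3,4,3,2,1,5,7,3,2,4,3,7,8,7,3,4,2,3,7,5,1,2])) .none)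 .none))) (.node (.node (.node (.node .none (.word [2,4,3,7,3,4,2,0,1,0,6,5,4,7,3,2,8,7,3,7,5,6,4,5,1,2,7,3,2,1,8,7,3,4,2,3,7,8,1,2,3,7,3])) (.node .none (.word [0,1,2,3,5,6,5,8,7,3,2,4,5,1,2,3,7,8,4,2,3,4,5,6,8,1,2,3,7,8,4,5,3,0,2,1,0,7,3,2,4,3,7,8,4,2,3,7,2,1]))) (.node (.node (.node .none (.word [3,4,3,0,1,2,1,3,2,5,4,7,3,4,5,8,7,6,5,1,2,0,1,2,3,2,1,0,5,4,3,2,1,0,8,6,5,4,3,7,8,5,3,2,1])) (.node .none (.word [2,1,6,5,4,3,2,7,3,4,5,6,3,4,3,0,1,4,5,4,8,7,3,8,7,2,3,4,5,3,1,2,1,0,5,6,7,3,2,8,7,3,4,2,3,7,5,2,1]))) .none)) (.node (.node (.node .none (.word [0,1,2,5,4,3,2,1,6,7,3,4,5,4,2,3,2,3,7,8,7,6,3,0,1,4,5,3,4,2,3,7,3,4,5,4,2,1,0])) .none) (.word [5,4,3,2,1,0,6,8,7,3,2,1,8,7,3,4,5,7,3,4,2,6,0,1,2,3,2,0,1,4,5,4,3,7,8,4,2,3,7,2,3,4,5,1])))) (.node (.node (.node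 (.node .none (.node (.node .none (.word [1,5,8,7,3,2,4,3,5,4,8,7,2,3,4,5,1,2,6,0,1,2,3,4,5,6,7,3,2,8,4,3,7,8,2,3,7,4,5,6,3,1,0])) .none)) (.node .none (.node (.node .none (.word [1,2,4,3,6,7,3,5,4,3,7,8,2,3,7,8,6,4,5,4,3,1,2,0,1,2,4,3,7,8,7,3,4,2,1,0])) .none))) (.node (.node (.node (.node .none (.word [1,2,3,4,5,4,8,7,3,2,4,5,8,7,0,1,2,3,4,5,2,3,7,8,7,3,0,1,2,3,2,1,4,5,4,3,2,6,4,3,7,3,4,5,4,2,1])) .none) .none) (.node (.node .none (.word [0,1,2,1,3,4,6,5,7,3,2,4,8,3,7,5,4,2,3,2,1,2,3,2,4,5,7,3,8,4,2,3,7,5,6,4,3,1,2,1,0])) (.node .none (.word [3,4,3,5,4,3,7,3,4,8,7,3,4,2,3,7,4,5,4,0,6,1,0,4,5,4,7,3,2,4,3,7,8,4,3,7,3,4,5]))))) (.node (.node (.node (.node .none (.word [3,5,6,5,4,7,3,4,8,7,3,2,4,3,7,5,6,4,5,0,1,2,4,3,7,3,4,2,0,1,2,5,6,8,7,5,3,4,1,2,3,7,8,5,4,1]))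 .none) (.node (.node (.node (.word [3,4,3,0,1,0,2,1,3,7,8,7,2,3,4,3,7,3,4,2,1,3,2,5,4,3,7,3,4,5,2,3,1]) (.word [3,4,2,7,3,4,8,7,3,2,1,0,8,4,3,7,4,2,3,5,4,3,7,3,2,4,8,7,3,4,2,3,7,5,6,5,4,1,0])) (.node .none (.word [0,1,0,2,1,3,7,8,3,2,4,5,3,4,2,3,7,2,3,2,1,2,1,0,4,3,2,5,8,7,3,4,2,3,7,8,6,5,2,3,4,1,2]))) .none)) (.node (.node .none (.node .none (.word [3,2,5,4,3,7,3,4,5,2,3,0,1,0,3,2,7,8,7,3,1,0,2,1,0,4,3,2,5,8,7,3,4,2,3,7,8,5,6,5,2,3,4,1,2]))) .none)))) (.node (.node (.node (.node (.node (.node .none (.word [1,3,5,4,3,2,6,5,4,3,0,1,2,0,7,3,2,4,5,8,3,7,4,5,3,4,2,3,7,6,5,1,4,8,7,3,2,1,5,4,3,7,8,6,5,2,1,0])) .none) (.node (.node .none (.node .none (.word [3,4,3,6,7,3,2,4,8,7,3,8,4,2,3,7,0,1,2,5,6,8,7,3,4,1,2,3,7,8,5,6,4,2,1,0,3,4,3,2,7,3,4,5,6,4,5,2,3]))) .none))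 (.node (.node (.node (.node .none (.word [1,0,2,1,0,3,2,4,7,3,8,7,4,1,2,3,7,8,7,4,3,0,1,5,4,6,5,7,3,7,8,2,3,7,4,5,6,0,1,0])) .none) (.node (.node .none (.word [0,1,0,2,1,3,7,8,3,2,4,5,3,4,2,3,7,2,3,2,1])) .none)) (.node .none (.word [5,4,3,7,3,4,8,7,3,4,2,3,7,4,5,4,1,2,3,2,1,4,5,4,7,3,2,4,3,7,8,4,3,7,3,4,5])))) (.node (.node (.node (.word [0,1,2,4,3,6,5,4,7,3,2,7,6,8,1,2,3,7,8,5,4,2,3,2,0,1,2,4,3,7,3,4,2,0,1,2,1,0,4,3,5,4,7,8,3,7,6,5,2,3,4,1,2,0,1,0]) (.word [3,4,3,2,1,3,2,4,3,7,8,7,5,6,4,5,3,0,5,4,6,7,3,4,1,2,3,7,8,4,3,7,5,6,0,1,2,3,4,5,6,7,3,4,2,3,7,1,2,3,4,5,0,1,0])) .none) (.node (.node (.node .none (.node .none (.word [1,0,2,1,0,3,2,4,7,3,8,7,4,1,2,3,7,8,7,3,0,1,2,3,2,0,4,5,4,3,7,8,4,2,3,7,4,5,6,4,5,4,2,1,0]))) (.word [1,3,5,4,3,2,6,5,4,3,0,1,4,5,8,7,3,2,1,8,7,3,4,5,6,5,0,1,2,3]))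 .none))) (.node (.node (.node .none (.node .none (.node .none (.word [1,2,4,3,7,3,5,4,3,2,1,0,1,2,3,7,6,4,5,3,4,1,2,1,2,1,3,2,4,8,7,3,7,4,1,2,3,7,8,0,1,2,3,1])))) (.node (.node (.node .none (.node .none (.word [3,4,3,1,2,3,4,5,4,6,5,4,7,8,3,7,1,2,3,4,5,6,3,4,3,0,2,1,0,5,7,3,4,7,8,3,7,5,6,5,3,2,1]))) (.node .none (.word [1,2,3,2,4,5,7,3,8,4,2,3,7,5,4,3,1,2,0,1,0,1,2,4,3,6,7,3,5,4,3,2,1,3,7,8,2,3,7,6,4,5,4,3,2]))) .none)) (.node (.node .none (.node .none (.node .none (.word [2,1,5,4,3,2,1,8,7,3,2,4,3,7,8,2,3,4,5,4,3,1,2,0,3,7,8,7,3,1,2,4,3,7,3,4,2,1,3,5,4,3,7,8,7,5,6,5,4])))) (.node (.node .none (.word [1,2,1,0,3,4,6,7,3,2,1,8,7,4,2,3,2,4,5,4,3,7,6,1,2,3,4,5,3,2,0,1,0])) .none)))))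

/-- A subtree. -/
def sub157 : WTree :=
  (.node (.node (.node (.node (.node .none (.node (.node .none (.node (.word [1,0,2,1,0,3,2,4,3,5,4,3,7,1,2,3,4,5,1,7,8,7,3,0,1,2,3,4,3,0,7,8,7,2,3,1,2,0,5,4,3,2,7,3,8,7,2,3,4,5,4,1]) (.word [1,2,3,2,4,5,4,6,5,7,3,4,7,1,2,3,4,5,4,1,0,2,4,3,7,3,4,3,4,5,6,8,1,2,3,7,8,4,5,3,2,1,3,4,3,7,6,3,4,2,3,1,2,0,1]))) .none)) (.node (.node .none (.node (.node .none (.word [0,1,2,4,3,6,5,4,7,3,2,7,6,8,1,2,3,7,8,5,4,2,3,2,0,2,1,0,4,3,2,5,8,7,3,4,2,3,7,8,6,5,2,3,4,1,2])) .none)) .none)) (.node (.node (.node (.node .none (.node .none (.word [0,1,6,5,7,3,2,4,3,7,8,4,2,3,7,5,3,2,1,0,4,3,5,6,8,5,4,2,3,7,8,5,6,4,2,3,2]))) (.node (.node .none (.word [2,3,5,4,7,3,8,7,6,4,5,3,0,1,2,1,5,4,6,5,4,3,7,8,2,3,7,4,5,3,2,1,0])) .none)) (.node .none (.node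 (.node .none (.word [0,1,2,4,3,7,8,7,3,4,2,1,0,1,2,4,3,7,3,4,2,3,2,1,7,3,4,3,7,8,5,4,3,7,3,2,0,1,0])) .none))) (.node (.node (.node .none (.word [3,2,5,4,3,7,3,4,5,2,3,0,2,1,0,3,2,4,7,3,8,7,4,1,3,4,5,6,8,1,2,3,7,8,4,5,3,0,2,1,0,3,4,5,2,3,4,5,6,5,3])) (.word [0,2,3,2,1,4,6,5,7,3,2,4,3,7,5,4,2,3,2,7,8,7,2,3,1,2,4,5,4,3,7,8,4,1,2,3,7,2,3,4,5,6,0])) .none))) (.node (.node (.node (.node (.node .none (.node .none (.word [0,1,2,4,5,4,6,5,7,3,2,4,8,7,3,4,5,4,1,2,1,0,5,4,7,3,8,7,3,4,5,6,2,3,4,5,4,2]))) (.node .none (.word [1,2,3,6,5,4,7,3,2,8,7,6,4,5,3,0,1,2,0,4,5,4,3,2,1,7,8,2,3,7,4,5,6,5,4,3,2,1]))) (.node .none (.word [0,1,2,5,4,3,2,1,6,7,3,4,5,4,2,3,2,3,4,3,0,1,2,7,3,4,6,5,4,3,7,2,1,0]))) (.node .none (.node (.node .none (.word [2,6,5,7,3,2,4,3,7,8,2,3,7,6,5,0,2,1,0,3,4,3,2,7,3,4,5,6,4,5,2,3,1,4,7,3,1,2,3,7,6,4,0,1,2,3,2,1,0]))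 (.node (.node (.word [3,4,5,6,5,4,7,3,4,8,7,3,2,4,3,7,5,6,4,5,0,1,2,4,3,7,3,4,2,0,1,2,5,6,8,7,5,3,4,1,2,3,7,8,5,4,1]) (.word [4,5,4,3,2,1,6,7,3,8,7,4,5,4,3,2,3,4,7,8,7,3,2,1,5,4,3,2,7,8,4,3,7,8,4,5,4,2])) .none)))) (.node (.node (.node (.node (.node (.word [0,1,3,2,5,4,6,5,4,8,7,3,7,8,4,2,1,0,4,3,5,6,8,4,5,2,3,4,1,2,3,7,8,3,2,5,4,3,2,6,7,3,4,5,4,0,1,2,3,2,1]) (.word [0,1,2,4,3,6,5,4,7,3,2,7,6,8,1,2,3,7,8,5,4,2,3,2,1,2,4,3,7,8,7,3,4,2,1,0])) .none) (.word [1,2,8,7,3,2,8,0,1,4,3,7,3,4,2,1,0,4,5,4,3,7,8,7,3,4,5,6,5,2,4,3,2,7,3,4,5,6,4,5,1,2,3,0])) (.node (.word [0,1,0,2,1,3,7,8,3,2,4,5,3,4,2,3,7,2,3,2,1,0,1,2,4,3,7,8,7,3,4,2,1,0]) (.node (.node .none (.word [2,1,0,4,3,2,5,8,7,3,4,2,3,7,8,6,5,2,3,4,1,2,0,1,0,2,1,3,7,8,3,2,4,5,3,4,2,3,7,2,3,2,1])) .none))) (.node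 .none (.node .none (.word [0,2,1,0,3,2,4,3,6,5,4,7,3,7,1,2,3,4,5,1,7,8,7,3,0,1,2,3,7,8,7,6,3,1,3,4,3,0,2,1,0,5,4,3,7,3,4,5,6,5,2,3,1,2,0])))))) (.node (.node (.node (.node .none (.node (.node (.node .none (.word [0,1,0,3,2,7,8,7,3,1,0,2,1,0,4,3,2,5,8,7,3,4,2,3,7,8,5,6,5,2,3,4,1,2])) .none) .none)) (.node (.node (.node .none (.word [1,0,2,1,0,3,2,4,6,7,3,2,8,7,4,1,2,0,1,5,4,3,2,7,8,3,7,4,5,6,5,4,3,2,1,0])) .none) .none)) (.node (.node .none (.node (.node .none (.node .none (.word [0,1,2,1,3,4,5,4,3,6,5,8,4,2,3,7,8,5,4,1,4,3,5,4,3,6,5,7,6,0,1,2,3,4,5,2,3,1,2,0]))) .none)) (.node (.node (.node (.node .none (.word [2,4,3,7,3,4,2,0,1,2,5,4,3,6,5,4,7,3,2,3,4,5,1,2,3,0,1,2,6,3,2,1,4,3,7,8,2,3,7,4,3,1,2,1])) (.node .none (.word [2,1,0,4,3,2,5,8,7,3,4,2,3,7,8,6,5,2,3,4,1,2,0,1,0,3,2,7,8,7,3,1,2,3,7,3,2,4,3,7,8,2,3,7,1,2,3,0,1])))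 .none) (.node (.node (.word [2,1,3,2,4,8,7,3,7,4,1,2,3,7,8,0,1,2,3,1,0,1,2,1,3,2,4,7,3,8,7,4,3,2,5,4,3,2,1,7,3,2,4,3,7,4,5,6,4,5,4,1,2,1,0]) (.word [3,4,3,0,1,0,6,5,4,7,3,2,8,7,3,7,5,6,4,5,1,2,7,3,2,1,8,7,3,4,2,3,7,8,1,2,3,7,3])) .none)))) (.node (.node (.node (.node .none (.word [0,2,4,6,5,4,7,3,2,1,7,6,3,4,5,4,0,2,1,3,4,7,2,3,7,4,2,3,1,2,0,1])) (.node (.word [2,1,3,2,4,3,7,8,7,5,6,4,5,3,0,5,4,6,7,3,4,1,2,3,7,8,4,3,7,5,6,0,1,2,3,4,5,6,7,3,4,2,3,7,1,2,3,4,5,0,1,0]) (.word [2,3,5,4,3,6,7,3,4,5,1,2,3,4,3,2,1,0,3,7,8,7,2,1,3,2,7,3,2,4,3,7,8,5,3,4,2,3,7,6,2,3]))) (.node (.node (.node (.node (.word [2,4,3,7,3,4,2,0,1,0,2,1,3,5,4,6,5,8,7,3,8,4,5,2,3,4,0,1,4,3,7,3,4,2,0,3,2,5,4,3,6,7,5,2,3,4,3,1,2,1]) (.word [3,2,5,4,3,7,3,4,5,2,3,2,6,8,7,3,2,8,0,1,2,5,4,3,7,3,2,1,4,3,7,8,4,2,3,7,4,5,6,5,1,0]))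 .none) .none) .none)) (.node (.node .none (.node .none (.node .none (.word [0,1,2,4,3,7,8,7,3,4,2,1,0,1,2,4,3,6,7,3,5,4,3,7,8,2,3,7,8,6,4,5,4,3,1,2])))) (.node (.word [1,2,4,3,6,7,3,5,4,3,2,1,3,7,8,2,3,7,6,4,5,4,3,2,1,2,4,3,6,7,3,5,4,3,2,1,3,7,8,2,3,7,6,4,5,4,3,2]) (.word [0,2,3,2,1,4,6,5,7,3,2,4,3,7,5,4,2,3,2,0,6,1,0,2,3,2,4,5,7,3,4,2,3,7,5,6,4,1,2,3,2,0]))))))

/-- A subtree. -/
def sub158 : WTree :=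
  (.node (.node (.node (.node (.node (.node .none (.node (.node .none (.word [1,3,7,8,7,3,2,1,0,3,4,3,2,7,3,4,5,6,4,5,2,3,1,2,1,5,7,3,2,4,3,7,8,2,3,7,6,5,2,3])) .none)) .none) (.node (.node .none (.node (.node .none (.word [6,5,7,3,2,8,7,3,4,5,2,3,7,6,5,2,0,5,4,6,7,3,4,1,2,3,7,8,4,3,7,5,6,0,1,2,1,0,4,3,2,5,4,8,3,7,8,4,5,6,4,5,1,2,1,0])) .none)) (.node (.node (.node (.word [1,2,4,3,6,7,3,5,4,3,7,8,2,3,7,8,6,4,5,4,3,1,2,0,2,4,6,5,4,7,3,2,1,7,6,3,4,5,4,0,2,1,3,4,7,2,3,7,4,2,3,1,2,0,1]) (.word [3,4,3,0,1,2,3,5,6,8,7,3,2,4,5,1,2,3,7,8,4,2,1,5,7,3,2,8,7,8,3,4,2,3,7,5,6,2,3,2,0])) .none) (.node .none (.word [1,3,5,4,3,2,7,3,8,7,6,5,4,3,4,5,6,8,1,2,3,7,8,4,5,3,0,2,1,4,5,7,8,3,4,2,3,7,4,5,6,4,5,1,2,0]))))) (.node (.node (.node .none (.node .none (.word [3,4,3,0,1,2,7,3,4,5,6,4,3,7,2,1,2,1,3,4,3,7,6,3,4,2,3,1,2,0,1,0,2,4,7,8,3,7,4,3,1,2,1])))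 .none) (.node (.node (.node .none (.node .none (.word [3,4,3,0,2,1,5,4,3,7,3,2,6,4,5,3,0,1,2,0,3,7,8,7,3,1,0,2,3,5,4,3,2,1,7,8,7,3,6,5,4,3,7,8,2,3,4,5,1,2]))) (.node (.node (.word [0,1,2,5,6,8,7,3,4,5,1,2,3,7,8,4,0,2,1,0,5,6,7,3,5,4,3,7,5,6,2,3,1,2,0,1,0,2,4,7,8,3,7,4,3,1,2,1]) (.word [0,1,5,7,3,2,4,8,3,7,8,3,4,2,3,7,5,1,0,1,2,3,2,8,7,3,8,0,4,3,2,5,7,3,7,4,5,6,5,3,4,1,2,0,1,0])) .none)) (.word [0,1,2,4,3,7,8,7,3,4,2,1,0,2,1,5,4,3,2,1,6,5,4,3,7,2,3,4,5,0,1,3,2,0,1,5,6,7,3,2,8,7,5,3,4,2,3,7,5,2,1])))) (.node (.node (.node (.node (.node .none (.node .none (.word [3,4,3,1,2,4,3,7,3,4,2,3,2,1,5,7,2,3,7,8,4,3,7,5,3,2,0,1,0]))) .none) (.node (.node .none (.word [0,1,2,7,3,4,5,6,4,3,7,2,1,0,2,3,2,4,5,4,3,7,6,1,2,3,4,5,3,2,1,0])) .none)) (.node (.node (.node .none (.word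 [0,1,2,1,3,2,4,5,6,7,3,4,8,7,1,2,3,4,5,1,2,6,3,2,1,2,1,0,5,4,3,2,1,8,7,3,2,5,4,3,7,8,2,3,4,5,0,1,2,0])) .none) .none)) (.node (.node (.word [2,4,3,7,3,4,2,5,4,3,2,6,5,4,3,7,8,7,5,3,1,2,0,3,7,8,7,3,1,2,1,3,4,3,2,7,3,4,5,6,4,5,1,2,3,0]) (.node .none (.node .none (.word [2,4,3,7,3,4,2,0,1,2,5,6,8,7,3,4,5,1,2,3,7,8,4,2,4,3,7,3,4,2,1,0,2,1,0,3,5,4,6,2,3,7,3,4,5,1,2,0])))) (.node (.node (.word [3,4,3,1,2,5,7,3,2,4,3,7,8,2,3,7,6,5,0,3,4,3,6,1,0,2,3,5,4,7,3,8,7,4,5,6,5,2,3,1,2,0]) (.word [0,1,2,4,3,7,8,7,3,4,2,1,0,1,3,2,5,4,3,7,3,4,5,2,3,0,2,1,0,4,3,2,8,7,8,3,7,2,3,4,1,2,3,7,8,2])) .none)))) (.node (.node (.node (.node .none (.node (.node (.word [1,2,4,3,7,3,4,2,0,1,2,1,0,4,3,5,4,7,8,3,7,6,5,2,3,4,1,2,0,1,0]) (.word [1,0,2,1,3,2,4,6,7,3,2,7,4,3,1,2,0,4,5,4,6,5,4,1,2,3,7,2,3,4,5,6,2,0]))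 (.node .none (.word [1,2,4,3,5,8,7,3,2,1,4,3,7,8,7,6,3,4,5,3,2,1,0,3,5,4,3,7,3,8,2,3,7,6,5,4,1])))) .none) (.node (.node (.node (.node .none (.word [0,1,0,6,5,4,7,3,2,8,7,3,7,5,6,4,5,1,2,7,3,2,1,8,7,3,4,2,3,7,8,1,2,3,7,3])) (.node .none (.word [0,1,2,1,3,2,4,7,3,8,7,4,3,2,5,4,3,2,1,7,3,2,4,3,7,4,5,6,4,5,4,1,2,1,0]))) (.node (.node (.node .none (.word [0,1,2,1,3,2,5,4,3,7,3,2,6,4,5,3,0,1,2,0,6,1,0,3,5,6,7,3,2,4,3,7,8,7,3,4,2,3,7,5,1])) (.node (.word [3,4,3,1,0,2,1,0,3,2,4,7,3,8,7,4,1,2,3,6,7,8,7,3,1,0,1,5,4,3,2,1,0,8,7,3,4,2,3,7,8,5,6,4,3,2]) (.word [0,1,0,2,1,3,7,8,3,2,4,5,3,4,2,3,7,2,3,2,1,2,6,8,7,3,2,8,0,1,2,5,4,3,7,3,2,1,4,3,7,8,4,2,3,7,4,5,6,5,1,0]))) (.word [3,4,3,2,1,4,3,5,4,3,7,2,3,4,5,4,0,1,2,3,7,8,7,3,2,1,0,4,5,4,3,2,7,3,4,5,3,4,1,2]))) (.node (.node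 (.node .none (.node .none (.word [3,4,3,4,5,4,3,2,1,6,7,3,8,7,4,5,4,3,2,3,4,3,6,5,4,3,2,1,7,3,2,8,4,3,7,1,2,3,4,5,4,0,1,0]))) (.node .none (.word [0,1,2,1,3,2,4,7,3,8,7,4,2,4,5,6,8,1,2,3,7,8,4,5,6,2,3,1,2,1,0,5,4,3,2,1,8,7,3,2,5,4,3,7,8,2,3,4,5,0,1,2,0]))) .none))) (.node (.node (.node (.node .none (.node (.node .none (.word [0,1,2,5,4,3,6,5,4,7,3,2,3,4,5,1,2,3,0,1,2,6,3,2,1,4,3,7,8,2,3,7,4,3,1,2,1])) .none)) .none) (.node (.node (.node .none (.node .none (.word [0,1,0,2,1,3,6,5,4,7,3,8,7,4,5,2,3,2,6,5,4,3,2,1,7,3,8,7,4,5,6,4,5,4,3,2]))) (.node .none (.word [0,1,5,7,3,2,4,8,3,7,8,3,4,2,3,7,5,2,5,4,3,2,1,6,7,3,4,5,4,2,3,2,3,4,3,0,1,2,7,3,4,6,5,4,3,7,2,1,0]))) (.node .none (.node (.node (.word [0,2,1,3,2,4,3,7,3,4,3,1,2,1,3,5,4,3,7,8,7,5,6,5,4,2,3,2,1,2,1,0,5,7,3,4,7,8,3,7,5,6,5,3,2])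 (.word [0,1,2,4,3,7,8,7,3,5,4,6,5,7,3,2,4,8,7,3,4,5,4,1,2,1,0,5,4,7,3,8,7,3,4,5,6,2,3,4,5,4,2])) .none)))) (.node (.node (.word [3,4,3,1,4,6,7,3,2,8,7,3,4,7,5,6,4,5,3,2,1,5,7,3,2,4,3,7,8,2,3,7,5,6,5,2,3,0,2,3,2,5,4,6,7,8,1,2,3,7,4,5,6,2,3,1,2,0]) (.node (.word [3,2,5,4,3,7,3,4,5,2,3,1,2,3,4,5,4,6,5,4,7,8,3,7,1,2,3,4,5,1,0,2,1,0,3,5,4,6,7,8,2,3,7,4,5,6,3,2,1]) (.node (.node (.word [1,2,4,3,6,7,3,5,4,3,7,8,2,3,7,8,6,4,5,4,3,1,2,0,1,0,2,1,3,7,8,7,2,3,4,3,7,3,4,2,1,3,2,5,4,3,7,3,4,5,2,3,1]) (.word [3,2,5,4,3,7,3,4,5,2,3,1,0,5,4,3,2,7,3,2,1,4,8,7,3,4,5,4,2,3,4,5,4,7,8,3,7,6,1,2,3,4,5,4,1])) .none))) (.node .none (.node .none (.node (.node .none (.word [4,5,6,5,7,8,7,3,4,5,3,1,2,4,3,7,3,4,2,3,7,8,7,3,1,0,2,1,3,4,5,4,3,2,8,7,3,4,2,3,7,8,1,2,3,4,5,1,2])) .none)))))))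

/-- A subtree. -/
def sub159 : WTree :=
  (.node (.node sub155 sub156) (.node sub157 sub158))

/-- A subtree. -/
def sub160 : WTree :=
  (.node (.node (.node (.node (.word [0,6,5,4,3,2,7,3,2,1,4,8,7,3,4,5,4,2,1,0,3,7,8,7,2,6,1,0,2,3,2,4,5,7,3,4,2,3,7,5,6,4,1,2,3,2,0]) (.node (.node (.node (.node .none (.word [1,2,3,2,8,7,3,8,1,2,4,5,4,3,6,7,0,1,2,3,7,4,5,6,4,2,1])) .none) .none) (.node (.node .none (.node .none (.word [3,4,3,1,0,2,1,3,4,6,7,3,2,7,4,3,0,5,6,7,3,5,4,3,7,5,6,2,3,1,2,0,1,5,4,3,2,1,0,8,6,5,4,3,7,8,5,3,2,1]))) .none))) (.node (.node (.node (.node .none (.word [3,4,7,8,7,3,0,1,3,5,4,7,3,2,4,3,7,8,3,4,1,2,3,7,4,5,3,1,0])) .none) (.word [1,3,2,6,5,4,3,7,3,4,5,2,3,1,6,2,4,3,7,3,4,2,0,1,2,5,4,3,2,6,7,3,4,5,6,4,1,2,3,2])) .none)) (.node (.node .none (.node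 .none (.word [0,1,2,4,3,7,8,7,3,4,2,1,2,1,5,7,3,2,4,3,7,8,2,3,7,6,5,3,2,0,3,4,3,2,3,4,5,6,8,1,2,3,7,8,4,5,3,0,2,4,3,7,3,4,2,1]))) (.node (.node (.node (.node (.node .none (.word [3,2,5,4,3,7,3,4,5,2,3,1,2,4,3,7,3,4,2,3,2,1,5,7,2,3,7,8,4,3,7,5,3,2,0,1,0])) .none) .none) (.node .none (.node (.node .none (.word [3,2,7,3,4,8,7,3,2,1,0,8,4,3,7,4,2,3,5,4,3,7,3,2,4,8,7,3,4,2,3,7,5,6,5,4,1,0])) .none))) (.node (.node (.node .none (.word [3,4,3,0,1,2,3,2,4,6,5,4,3,7,3,8,1,2,3,7,3,4,5,1,2,3,4,5,6,7,3,4,2,3,7,1,2,3,4,5,6,1,0])) (.word [3,4,3,2,1,5,4,3,2,1,6,5,4,3,7,2,3,4,5,0,1,3,2,0,1,5,6,7,3,2,8,7,5,3,4,2,3,7,5,2,1])) .none)))) (.node (.node (.node (.node (.node (.word [0,2,1,3,2,6,5,7,3,4,5,8,3,7,6,5,3,2,0,3,4,3,0,1,2,5,4,7,8,3,7,4,5,6,0,1,2,3,1,5,6,7,5,4,2,3,7,4,5,3,2,1])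 (.node .none (.word [1,2,4,3,6,7,3,5,4,3,7,8,2,3,7,8,6,4,5,4,3,1,2,0,1,2,4,3,6,5,4,7,3,2,7,6,8,1,2,3,7,8,5,4,2,3,2,0]))) .none) (.node (.node (.node (.word [2,1,0,4,3,2,5,8,7,3,4,2,3,7,8,6,5,2,3,4,1,2,3,7,8,7,3,0,1,3,5,4,7,3,2,4,3,7,8,3,4,1,2,3,7,4,5,3,1,0]) (.word [3,2,5,4,3,7,3,4,5,2,3,2,1,0,4,3,2,5,8,7,3,4,2,3,7,8,6,5,2,3,4,1,2])) (.word [0,1,2,5,4,3,6,5,4,7,3,2,3,4,5,1,2,3,0,1,2,1,0,4,3,2,5,7,8,3,7,6,4,5,3,4,3,1,2,1,0])) .none)) (.node (.node (.word [2,4,3,7,3,4,2,1,0,5,4,3,2,1,7,3,2,4,3,7,1,2,3,4,5,0,6,2,5,4,3,2,1,0,7,8,5,4,2,3,7,8,4,5,6,4,3,2]) (.node (.node (.node .none (.word [0,1,5,7,3,2,4,8,3,7,8,3,4,2,3,7,5,1,0])) (.node .none (.word [0,2,4,6,5,4,7,3,2,1,7,6,3,4,5,4,2,3,2,4,5,7,3,7,8,4,2,3,7,5,4,3,1,2,1,0]))) (.node (.node .none (.word [3,4,3,1,0,3,2,1,5,4,3,7,3,4,5,2,3,7,8,7,2,3,1,2,0,1,5,4,3,2,1,0,8,7,3,4,2,3,7,8,5,4,3,2,1]))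 .none))) (.node .none (.node (.word [1,4,5,4,3,2,7,8,3,7,2,3,4,5,1,2,3,6,2,1,0,2,4,3,7,3,4,2,0,2,1,5,4,3,2,1,0,7,8,6,5,4,3,7,8,2,3,4,5,4,1]) (.word [1,3,2,5,4,3,7,3,4,5,2,3,0,2,1,0,4,3,2,8,7,8,3,7,2,3,4,1,2,3,7,8,2]))))) (.node (.node (.node (.node (.word [0,1,2,4,3,6,5,4,7,3,2,7,6,8,1,2,3,7,8,5,4,2,3,2,1,2,4,3,6,5,4,7,3,2,7,6,8,1,2,3,7,8,5,4,2,3,2,0]) (.word [0,1,2,1,0,3,4,7,3,2,1,8,3,7,4,2,3,2,0,1,6,3,4,3,0,2,1,3,4,5,4,3,2,3,7,6,3,4,5,3,4,2,3,1,2,0])) .none) (.node (.node .none (.node (.node .none (.word [0,1,0,3,2,7,8,7,3,1,2,3,7,3,2,4,3,7,8,2,3,7,1,2,3,0,1])) .none)) (.node (.node (.node .none (.word [3,4,3,0,1,2,3,2,4,5,6,7,8,7,3,4,5,3,2,1,0,5,6,7,3,2,4,3,7,8,3,4,2,3,7,5,3,2])) .none) (.word [3,4,3,1,2,1,0,3,4,6,7,3,2,1,8,7,4,2,3,2,4,5,4,3,7,6,1,2,3,4,5,3,2,0,1,0]))))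 (.node (.node .none (.node .none (.word [3,4,3,1,2,3,5,4,3,6,7,3,4,5,1,2,1,3,7,8,7,3,2,4,3,7,3,4,2,0,1,4,5,4,3,2,1,7,8,3,4,2,3,7,1,2,3,4,5,6]))) (.node (.node (.node .none (.word [3,4,3,0,1,2,1,0,6,5,7,3,2,4,3,7,8,2,3,7,5,1,2,3,4,2,7,3,4,6,5,4,3,7,2,3,1,0,2,5,6,7,3,2,5,4,3,7,8,2,3,7,5,6,1])) .none) (.node .none (.node (.node .none (.word [3,4,3,1,2,3,2,4,5,7,3,8,4,2,3,7,5,4,3,1,2,0,1,0])) .none)))))))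

/-- A subtree. -/
def sub161 : WTree :=
  (.node (.node (.node (.node (.node .none (.node .none (.word [1,2,3,4,5,4,6,7,3,4,8,7,1,2,3,4,5,4,6,2,4,3,7,3,4,2,1,0,3,5,6,7,3,2,4,3,7,8,7,3,4,2,3,7,5,1]))) (.word [2,1,3,2,4,8,7,3,8,5,4,3,2,7,3,7,4,5,6,5,4,2,1,3,2,5,4,3,7,3,4,5,2,3])) (.node (.node (.node (.node (.node .none (.word [2,6,7,3,2,8,7,3,4,2,3,7,0,1,2,3,2,5,4,6,5,7,3,4,2,3,7,8,3,7,4,1,2,1,0,3,4,5,6,2,3,4,5,3])) .none) (.word [0,1,0,2,1,3,7,8,3,2,4,5,3,4,2,3,7,2,3,2,1,0,1,5,7,3,2,4,8,3,7,8,3,4,2,3,7,5,1,0])) (.node .none (.node .none (.word [0,1,2,3,5,6,8,7,3,2,4,5,1,2,3,7,8,4,2,1,5,7,3,2,8,7,8,3,4,2,3,7,5,6,2,3,2,0])))) .none)) (.node (.node (.node (.node (.node (.word [8,7,3,2,1,4,3,2,5,6,7,3,4,3,7,8,5,2,3,4,0,1,2,1,6,0,1,3,5,4,3,7,8,7,5,6,5,4,2,3,2,1,0,2,1,0,3,4,3,2,3,7,8,3,7,5,6,4,5,2,3,1])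 (.node .none (.word [0,1,2,1,3,6,7,8,7,2,3,4,3,5,8,7,3,2,1,4,3,7,8,7,6,3,4,5,3,2,1,0,2,1,0,3,4,3,5,7,6,2,3,4,5,2,3,1]))) .none) (.node (.node (.node .none (.word [0,1,0,2,5,4,3,7,3,4,5,1,0,4,3,5,6,8,4,5,2,3,4,1,2,3,7,8,3,2,5,4,3,7,3,4,5,2,0,1,0])) (.word [0,3,2,1,5,4,6,5,4,3,7,2,3,4,3,0,3,7,8,7,1,0,3,4,5,6,2,3,4,5,3,1])) .none)) (.node (.node (.node .none (.node .none (.word [1,2,3,4,5,4,6,7,3,4,8,7,1,2,3,4,5,4,2,4,3,7,3,4,2,0,2,1,0,3,5,4,6,2,3,7,3,4,5,2,3,1,2,1,0]))) (.node .none (.word [2,4,3,7,3,4,2,0,1,2,5,4,3,2,1,6,7,3,4,5,4,2,3,7,8,7,3,0,1,2,3,7,8,7,6,3,1,0,2,3,2,4,7,3,4,1,2,3,7,8,4,3,7,1,2,3,0]))) (.node (.node (.node .none (.word [1,2,3,6,5,7,3,4,5,8,7,3,7,6,5,0,1,2,0,4,5,4,3,2,1,7,8,4,3,7,4,5,6,5,4,3,2,1])) (.node .none (.word [2,4,3,7,3,4,2,0,1,2,3,6,5,4,3,7,3,4,5,2,1,0,3,4,7,8,7,3,0,1,2,7,3,4,6,5,4,3,7,6,2,1,0])))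 (.node (.word [0,1,0,2,1,3,4,5,4,6,5,4,7,2,3,7,1,2,3,4,5,3,4,3,6,0,1,2,3,2,0,1,7,3,2,4,5,8,3,7,4,5,3,4,2,3,7,6,5,1]) (.word [6,5,7,3,2,8,7,3,4,5,2,3,7,6,5,2,0,2,1,0,3,7,8,7,2,3,4,3,0,1,2,5,4,3,7,3,4,5,6,3,2,1,0]))))) (.node (.node (.node (.node .none (.word [2,3,6,5,4,7,3,2,8,7,6,4,5,3,0,1,2,0,3,4,3,2,4,3,5,4,6,5,8,7,3,4,1,2,3,7,8,4,5,3,4,3,2])) (.node .none (.word [0,1,2,1,3,5,4,6,7,8,2,3,7,4,5,1,2,3,5,4,6,8,7,5,3,4,1,2,3,7,8,3,1,2,0]))) (.node .none (.node (.node .none (.word [0,2,4,6,5,4,7,3,2,1,7,6,3,4,5,4,2,3,2,4,5,7,3,8,4,2,3,7,5,4,3,1,2,1,0])) .none))) (.node (.node .none (.node (.node .none (.word [1,2,4,6,7,3,8,7,4,3,0,1,2,1,3,2,7,3,4,5,6,4,3,7,2,3,2,4,5,4,8,7,3,8,7,2,3,4,5,3,1,2,1,3,5,4,6,5,4,3,7,8,7,4])) .none)) (.node (.word [2,4,3,7,3,4,2,3,5,6,5,4,7,3,4,8,7,3,2,4,3,7,5,6,4,5,0,1,2,4,3,7,3,4,2,0,1,2,5,6,8,7,5,3,4,1,2,3,7,8,5,4,1])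 (.node (.node .none (.word [0,4,5,4,3,2,1,7,3,2,4,3,7,6,5,4,3,2,7,8,7,0,1,0,2,3,4,5,4,3,2,8,7,3,4,2,3,7,8,1,2,3,4,5,3,2,0])) .none)))))) (.node (.node (.node (.node (.node (.node .none (.node .none (.word [0,1,2,4,3,6,5,4,7,3,2,7,6,8,1,2,3,7,8,5,4,2,3,2,1,5,7,3,2,4,8,3,7,8,3,4,2,3,7,5,1,0]))) .none) (.word [4,8,7,3,2,1,4,3,5,4,7,8,3,7,8,6,3,4,5,2,1,0,3,4,3,0,1,2,5,4,3,6,8,7,3,8,7,4,5,3,4,1,2,3,7,8,4])) (.node (.word [0,1,2,4,3,7,8,7,3,4,2,1,0,2,1,3,2,4,8,7,3,8,5,4,3,2,7,3,7,4,5,6,5,4,2,1]) (.node .none (.node .none (.word [2,4,3,7,3,4,2,0,1,0,2,1,3,7,8,3,2,4,5,3,4,2,3,7,2,3,2,1]))))) (.node .none (.node .none (.word [0,1,6,5,4,3,2,1,7,3,2,4,3,7,6,5,4,3,2,1,5,4,3,7,3,2,1,8,3,7,3,4,5,6,4,2,3,2,1,0])))) (.node (.node .none (.node (.node .none (.node (.node .none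 (.word [0,1,5,7,3,2,4,8,3,7,8,3,4,2,3,7,5,1,0,2,1,3,2,4,8,7,3,7,4,1,2,3,7,8,0,1,2,3,1])) .none)) (.node (.node (.node .none (.word [1,2,1,3,2,6,7,8,7,0,1,3,2,7,3,4,5,6,4,3,7,2,4,3,1,0,5,4,3,2,1,7,3,4,2,3,7,1,2,3,4,5,6,0,1])) .none) .none))) (.node (.node (.node (.node .none (.word [2,1,3,2,4,8,7,3,8,5,4,3,2,7,3,7,4,5,6,5,4,2,1])) .none) (.node .none (.word [2,4,3,7,3,4,2,1,3,2,5,4,3,7,3,4,5,2,3,0,2,1,0,4,3,2,8,7,8,3,7,2,3,4,1,2,3,7,8,2]))) (.node (.node (.node .none (.node .none (.word [2,4,3,7,3,4,3,2,1,0,4,6,5,4,3,7,6,2,3,4,5,2,1,0,2,4,3,7,3,4,2,1,2,3,2,5,4,7,8,3,7,4,5,6,3,1,2,0,1,0]))) .none) .none)))))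

/-- A subtree. -/
def sub162 : WTree :=
  (.node (.node (.node (.node (.node (.node (.node .none (.node .none (.word [3,4,3,1,0,2,1,0,3,2,4,7,3,8,7,4,1,2,3,7,8,7,3,0,1,5,4,3,2,1,0,8,7,3,4,2,3,7,8,5,4,3,2,1]))) .none) .none) (.node (.node (.node (.node (.word [1,2,4,3,7,3,5,4,3,2,1,0,1,2,3,7,6,4,5,3,4,1,2,1,2,1,3,2,4,8,7,3,8,5,4,3,2,7,3,7,4,5,6,5,4,2,1]) (.word [2,4,3,7,3,4,2,0,1,2,1,3,2,4,7,3,8,7,4,3,2,5,4,3,2,1,7,3,2,4,3,7,4,5,6,4,5,4,1,2,1,0])) .none) (.node (.node (.word [0,1,2,4,3,7,8,7,3,4,2,1,0,1,2,3,6,5,4,7,3,2,8,7,6,4,5,3,0,1,2,0,4,5,4,3,2,1,7,8,2,3,7,4,5,6,5,4,3,2,1]) (.word [0,1,0,2,1,3,4,5,4,6,5,4,7,2,3,7,1,2,3,4,5,3,4,3,0,1,2,3,2,0,1,2,3,5,4,7,3,8,7,4,5,6,5,2,3,1,2,0,1])) .none)) (.node (.node (.node .none (.word [1,3,2,5,6,5,7,3,2,8,7,3,4,2,3,7,5,1,2,3,4,3,6,0,2,1,0,5,7,3,2,4,3,7,8,4,2,3,7,5,6,1,2,1]))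 (.word [3,4,3,0,2,5,4,7,3,2,1,8,7,6,4,5,2,3,4,5,6,8,1,2,3,7,8,4,5,3,0,2,1,0,7,2,3,7,8,4,3,7,2,1])) .none))) (.node (.node (.node (.node .none (.word [2,3,2,6,5,7,3,4,8,7,3,7,5,1,2,1,0,2,1,0,4,3,2,5,4,8,3,7,8,5,6,4,5,3,1,2,1,0])) .none) (.node (.node (.node .none (.word [2,4,3,7,3,4,2,3,2,7,3,4,8,7,3,2,1,0,8,4,3,7,4,2,3,5,4,3,7,3,2,4,8,7,3,4,2,3,7,5,6,5,4,1,0])) .none) (.node (.node .none (.word [3,4,3,4,7,8,7,3,4,5,6,4,5,3,0,2,1,3,4,3,7,6,3,4,2,3,1,2,0,1,3,5,4,3,7,8,7,6,5,4,1])) .none))) (.node .none (.node (.node .none (.word [3,4,2,7,3,4,8,7,3,2,1,0,8,4,3,7,3,5,7,3,2,3,4,1,2,3,7,5,3,4,3,2,1,0])) (.node (.node .none (.word [2,6,8,7,3,2,8,0,1,2,5,4,3,7,3,2,1,4,3,7,8,4,2,3,7,4,5,6,5,1,0])) .none))))) (.node (.node (.node (.node .none (.node (.node .none (.word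 [0,1,0,2,3,2,4,5,6,5,7,8,7,3,4,5,3,1,0,2,4,3,7,3,4,2,1,0,1,2,5,4,7,8,3,7,4,5,6,1,2,3,2,1])) (.word [0,1,6,5,7,3,2,4,3,7,8,4,2,3,7,5,3,1,0,2,4,3,7,3,4,2,0,1,3,5,4,3,7,8,7,6,5,4,2,3,2,1,0]))) (.node .none (.node (.node (.word [1,2,4,3,6,7,3,5,4,3,7,8,2,3,7,8,6,4,5,4,3,1,2,1,2,4,3,6,7,3,5,4,3,7,8,2,3,7,8,6,4,5,4,3,1,2]) (.word [2,1,3,2,4,8,7,3,8,5,4,3,2,7,3,7,4,5,6,5,4,2,1,2,1,3,2,4,8,7,3,7,4,1,2,3,7,8,0,1,2,3,1])) .none))) (.node (.node (.word [3,4,3,2,3,6,5,8,7,3,4,5,6,8,0,1,2,3,4,5,2,4,3,7,3,4,2,1,0,2,1,0,3,5,4,6,2,3,7,3,4,5,1,2,0,1]) (.node (.node .none (.word [2,3,6,5,4,7,3,2,7,6,4,5,1,2,3,4,2,7,3,4,6,5,4,3,7,2,3,1,0,1,2,1,5,7,3,7,8,4,3,7,5,6,2,3,2,1])) .none)) (.node (.node (.node .none (.word [])) (.node .none (.word [1,2,1,4,3,6,5,4,3,7,2,3,4,5,4,0,1,2,3,7,8,7,6,3,1,0,1,2,5,4,3,7,3,4,5,6,3,2,1,0])))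 .none))) (.node (.node (.node (.node (.word [2,6,7,8,7,3,0,1,4,5,4,8,7,3,8,7,2,3,4,5,3,1,2,1,6,0,5,4,3,2,1,7,3,4,2,3,7,1,2,3,4,5,0,1]) (.node .none (.word [2,4,3,7,3,4,2,3,7,8,7,3,0,1,2,4,7,3,4,8,7,5,3,4,2,3,7,8,2,3,7,1,0]))) (.node (.node .none (.word [3,4,3,0,1,6,5,7,3,2,4,3,7,8,4,2,3,7,5,3,2,1,0,4,3,5,6,8,5,4,2,3,7,8,5,6,4,2,3,2])) (.word [0,2,5,4,7,3,2,1,8,7,6,4,5,2,3,4,5,6,8,1,2,3,7,8,4,5,3,0,2,1,0,7,2,3,7,8,4,3,7,2,1]))) (.node (.node .none (.node .none (.word [3,2,5,4,3,7,3,4,5,2,3,1,2,4,3,7,3,4,2,3,2,1,7,3,4,3,7,8,5,4,3,7,3,2,0,1,0]))) .none)) (.node .none (.node .none (.node (.node .none (.word [0,1,2,4,5,4,6,5,4,7,3,2,4,8,7,3,4,5,4,1,0,2,1,0,3,7,8,7,2,0,3,2,5,4,7,8,3,7,4,5,1,2,3,0,1])) .none)))))) (.node (.node (.node (.node .none (.word [4,7,8,7,3,4,5,6,4,5,3,1,2,4,3,7,3,4,2,3,7,8,7,3,1,0,5,4,6,5,7,3,4,2,3,7,8,4,3,7,6,4,5,3,1]))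 (.node (.node (.node .none (.node (.word [3,4,3,0,2,1,3,2,5,7,8,7,3,2,4,5,6,3,4,5,0,7,8,7,2,3,1,2,0,3,5,6,7,3,2,4,3,7,8,7,3,4,2,3,7,5,1]) (.word [2,4,5,4,6,5,4,3,7,2,3,4,5,2,1,2,5,7,3,8,7,8,4,3,7,5,0,1,2,3,1]))) .none) (.node (.node .none (.node .none (.word [1,2,4,3,6,7,3,5,4,3,7,8,2,3,7,8,6,4,5,4,3,1,2,0,1,5,7,3,2,4,8,3,7,8,3,4,2,3,7,5,1,0]))) (.word [3,4,3,1,2,1,3,4,7,3,2,8,7,3,4,1,2,5,6,8,7,3,4,1,2,3,7,8,5,6,4,2,3,4,5,4,7,8,3,7,6,1,2,3,4,5,4])))) (.node .none (.node (.node (.node .none (.node .none (.word [0,1,2,4,3,7,8,7,3,4,2,1,0,1,2,3,2,4,5,7,3,8,4,2,3,7,5,4,3,1,2,0,1,0]))) (.word [2,1,3,2,4,8,7,3,7,4,1,2,3,7,8,0,1,2,3,1,0,1,2,4,5,4,6,5,7,3,2,4,8,7,3,4,5,4,1,2,1,0,5,4,7,3,8,7,3,4,5,6,2,3,4,5,4,2])) (.node .none (.node (.node .none (.word [2,4,5,4,8,7,3,4,8,7,2,3,4,5,1,2,3,4,7,8,7,6,3,1,2,3,4,5,4,7,8,3,7,6,1,2,3,4,5,4]))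 .none))))) (.node (.node (.node (.node .none (.node (.node .none (.word [1,0,2,1,6,5,4,3,7,3,2,6,4,5,3,0,1,2,0,2,4,5,4,8,7,3,8,7,2,3,4,5,3,1,2,1,6,0,4,5,4,3,7,8,7,3,4,5,6,5,2,3,1,2,1])) .none)) (.node .none (.node (.node (.word [2,4,3,7,3,4,1,5,4,3,2,1,6,5,4,3,7,2,3,4,5,0,1,3,2,0,1,5,6,7,3,2,8,7,5,3,4,2,3,7,5,2,1]) (.word [0,1,2,1,3,4,6,5,7,3,2,4,8,3,7,6,8,1,2,3,7,8,4,5,6,2,3,4,5,6,8,3,7,8,3,4,5,2,3,1,0])) .none))) .none) (.node (.node (.node .none (.node (.node (.word [1,2,4,3,6,7,3,5,4,3,7,8,2,3,7,8,6,4,5,4,3,1,2,1,2,4,3,6,7,3,5,4,3,2,1,3,7,8,2,3,7,6,4,5,4,3,2]) (.word [0,1,2,1,3,2,5,4,7,3,4,5,8,7,6,5,1,2,0,1,2,3,2,1,0,5,4,3,2,1,0,8,6,5,4,3,7,8,5,3,2,1])) .none)) .none) .none))))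

/-- A subtree. -/
def sub163 : WTree :=
  (.node (.node (.node (.node (.node .none (.node (.node .none (.word [2,1,5,4,3,2,1,6,5,4,3,7,2,3,4,5,0,1,3,2,0,1,5,6,7,3,2,8,7,5,3,4,2,3,7,5,2,1])) (.word [2,4,3,7,3,4,2,1,0,5,4,3,2,1,8,7,3,2,8,3,4,5,3,4,5,6,7,3,5,4,3,7,5,6,2,3,1,2,0,1,4,5,4,3,7,8,1,2,3,7,2,3,4,5,0,1]))) .none) (.node (.node (.node (.node .none (.node .none (.word [2,4,3,7,3,4,2,0,1,2,1,3,4,6,5,7,3,2,4,8,3,7,6,8,1,2,3,7,8,4,5,6,2,3,4,5,6,8,3,7,8,3,4,5,2,3,1,0]))) .none) (.node (.node .none (.node .none (.word [0,2,1,3,2,4,3,5,4,3,6,7,3,2,3,4,5,3,7,6,3,4,2,3,1,2,0,1,2,3,4,7,8,3,7,4,2,3,1,2,1,0]))) .none)) (.node (.node (.node .none (.node .none (.word [3,4,3,0,2,4,5,4,7,3,2,1,7,6,3,4,5,4,3,2,7,3,4,6,5,4,3,7,2,3,1,2,3,4,7,8,3,7,4,2,3,1,2,1,0]))) (.node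 .none (.word [3,4,3,0,3,2,1,0,5,6,7,3,2,8,7,3,4,2,3,7,5,1,3,4,5,6,8,1,2,3,7,8,4,5,3,0,2,1,0,3,4,3,2,7,3,4,5,6,4,5,2,3]))) (.word [2,4,3,7,3,4,2,4,7,8,7,3,4,5,6,4,5,3,1,2,4,3,7,3,4,2,3,7,8,7,3,1,0,5,4,6,5,7,3,4,2,3,7,8,4,3,7,6,4,5,3,1])))) (.node (.node (.node (.node (.node (.node .none (.word [0,1,0,4,5,4,3,2,1,8,7,3,4,2,3,7,8,5,4,0,3,7,8,7,4,3,7,3,4,2,1,0,1,5,4,6,5,7,3,7,8,2,3,7,4,5,1,0])) (.node (.word [0,1,2,3,2,4,6,5,4,3,7,3,8,1,2,3,7,3,4,5,1,2,3,4,5,6,7,3,4,2,3,7,1,2,3,4,5,6,1,0]) (.word [0,1,2,1,3,2,4,6,7,3,8,7,4,3,2,3,4,3,0,1,2,5,4,7,8,3,7,4,5,6,0,1,2,3,1,5,4,7,3,2,8,7,4,5,6,5,3,1,2,1,0]))) .none) (.word [3,2,5,4,3,7,3,4,5,2,3,0,1,2,4,3,6,5,4,7,3,2,7,6,8,1,2,3,7,8,5,4,2,3,2,0])) (.node .none (.node (.node (.node (.word [1,2,3,2,4,5,7,3,8,4,2,3,7,5,4,3,1,2,0,1,0,2,1,0,4,3,2,5,8,7,3,4,2,3,7,8,6,5,2,3,4,1,2])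 (.word [1,2,1,3,6,5,4,3,2,7,8,3,7,8,4,5,4,2,1,0,1,2,3,2,1,0,2,1,4,5,8,7,3,2,4,3,7,8,5,6,4,5,4,2,3,2,1])) (.word [0,1,2,1,0,6,5,7,3,2,4,3,7,8,2,3,7,5,1,2,3,4,2,7,3,4,6,5,4,3,7,2,3,1,0,2,5,6,7,3,2,5,4,3,7,8,2,3,7,5,6,1])) .none))) (.node (.node .none (.node (.word [2,1,3,2,4,8,7,3,7,4,1,2,3,7,8,0,1,2,3,2,4,3,5,8,7,3,2,1,4,3,7,8,7,6,3,4,5,3,2,1,0,3,5,4,3,7,3,8,2,3,7,6,5,4,1]) (.word [3,4,3,0,1,0,5,4,3,2,1,7,3,2,4,3,7,6,5,4,3,2,0,1,2,4,7,3,4,8,0,1,2,3,7,8,4,3,7,6,2,3]))) (.node .none (.node .none (.node (.word [2,1,4,3,5,4,3,7,2,3,4,5,4,0,1,2,3,7,8,7,3,2,1,0,4,5,4,3,2,7,3,4,5,3,4,1,2]) (.word [0,2,1,5,4,3,7,3,2,6,4,5,3,0,1,2,0,3,7,8,7,3,6,1,0,2,3,5,4,3,2,1,7,8,7,3,6,5,4,3,7,8,2,3,4,5,1,2]))))))) (.node (.node (.node (.node (.node .none (.node (.node .none (.word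 [3,4,3,1,2,3,2,8,7,3,8,0,4,3,2,5,7,3,7,4,5,6,5,3,4,1,2,0,1,0])) .none)) .none) (.node (.node (.node .none (.word [0,1,2,4,3,7,8,7,3,4,2,1,0,1,2,3,4,5,4,3,2,1,7,3,2,3,4,5,3,0,1,2,0,6,0,5,4,3,2,1,7,3,4,2,3,7,1,2,3,4,5,6,0])) .none) (.node (.node (.node .none (.word [1,2,1,3,2,4,3,2,6,7,3,8,7,5,6,4,5,2,3,0,1,2,4,3,7,3,4,1,0,4,3,2,5,4,8,3,7,8,5,6,4,5,1,2,0,1,0])) .none) (.node (.word [3,2,5,4,3,7,3,4,5,2,3,0,1,0,2,1,3,5,4,6,5,8,7,3,8,4,5,2,3,4,0,1,4,3,7,3,4,2,0,3,2,5,4,3,6,7,5,2,3,4,3,1,2,1]) (.word [3,2,5,4,3,7,3,4,5,2,3,0,2,1,3,2,5,7,8,7,3,2,4,5,6,3,4,5,0,7,8,7,2,3,1,2,0,3,5,6,7,3,2,4,3,7,8,7,3,4,2,3,7,5,1]))))) (.node (.node (.node (.node (.node .none (.word [0,1,2,4,3,7,8,7,3,4,2,1,2,1,0,3,2,4,7,3,8,7,3,5,4,6,5,0,1,2,3,4,5,6,1,2,1,0])) (.word [3,4,3,2,3,4,6,5,8,7,3,2,4,3,7,8,0,1,2,3,4,5,1,7,8,7,2,3,1,2,0,2,4,5,4,6,5,4,3,7,2,3,4,5,6,2]))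 (.word [0,2,5,4,3,2,1,7,8,6,5,4,3,7,8,4,5,6,5,2,1,4,5,4,3,7,8,4,2,3,7,5,6,4,5,4,2,1,0])) (.word [0,1,2,3,6,5,7,3,4,8,7,3,2,7,5,1,2,3,0,7,3,2,4,5,8,3,7,4,5,3,4,2,3,7,6,5,1,3,7,8,7,6,3,1])) (.node (.node (.node .none (.node .none (.word [2,1,0,4,3,2,5,8,7,3,4,2,3,7,8,6,5,2,3,4,1,2,1,2,3,2,8,7,3,8,0,4,3,2,5,7,3,7,4,5,6,5,3,4,1,2,0,1,0]))) .none) .none))) (.node (.node (.node (.node .none (.node (.node .none (.word [1,2,4,3,6,7,3,5,4,3,2,1,3,7,8,2,3,7,6,4,5,4,3,2,0,1,5,7,3,2,4,8,3,7,8,3,4,2,3,7,5,1,0])) .none)) (.node .none (.node (.node .none (.word [2,4,3,7,3,4,2,0,1,0,2,6,7,3,4,5,6,4,3,7,1,4,3,5,4,3,8,2,3,7,8,6,5,4,3,2,0,1])) .none))) (.node (.node (.node .none (.word [1,2,3,2,4,5,7,3,8,4,2,3,7,5,4,3,1,2,0,1,0,2,1,3,2,4,8,7,3,8,5,4,3,2,7,3,7,4,5,6,5,4,2,1])) .none)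 .none)) (.node (.node .none (.node (.word [1,2,5,7,3,2,4,3,7,8,2,3,7,6,5,0,3,4,3,6,1,0,2,3,5,4,7,3,8,7,4,5,6,5,2,3,1,2,0]) (.node (.node (.word [2,1,5,7,3,2,4,3,7,8,7,3,4,2,3,7,5,1,2,3,7,8,7,4,3,0,1,2,5,4,7,8,3,7,4,5,6,0,1,2,3,2,7,8,7,6,1,2,3,0,1,2]) (.word [4,5,4,3,2,1,6,7,3,8,7,4,5,4,3,2,3,4,7,8,7,6,3,2,1,5,4,3,2,7,8,4,3,7,8,4,5,4,2])) (.word [3,4,3,0,1,5,7,3,2,4,8,3,7,8,3,4,2,3,7,5,1,0])))) (.node (.node (.node .none (.node .none (.word [2,4,3,7,3,4,2,0,1,2,4,5,4,6,5,7,3,2,4,8,7,3,4,5,4,1,2,1,0,5,4,7,3,8,7,3,4,5,6,2,3,4,5,4,2]))) (.word [2,6,5,7,3,2,4,3,7,8,2,3,7,6,5,0,2,1,4,3,2,5,4,8,7,3,7,8,4,5,6,5,2,3,4,3,1,2,0])) .none)))))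

/-- A subtree. -/
def sub164 : WTree :=
  (.node (.node sub160 sub161) (.node sub162 sub163))

/-- Points. -/
def levY2pts0 : List ℕ := [1,3,6,8,14,17,19,32,36,42,43,48,51,56,58,65,66,74,83,89,92,96,101,103,109,112,114,116,125,132,134,135,139,145,147,148,155,167,178,180,181,186,188,192,193,196,198,210,212,220,225,226,236,237,240,244,245,248,257,278,279,283,285,289,290,298,303,304,308,309,323,324,326,332,334,351,353,354,357,358,361,367,376,378,381,383,384,385,390,396,397,417,419,422,431,448,456,457,461,463,466,467,469,472,475,476,482,490,491,492,498,501,504,520,521,522,528,534,536,546,563,565,584,586,587,588,601,602,607,609,612,613,616,626,628,631,632,647,652,658,659,664,670,672,688,702,709,717,718,727,729,737,738,739,749,761,767,768,777,779,783,786,790,801,805,807,808,817,821,823,826,840,842,844,854,858,861,879,882,883,891,893,895,919,920,921,927,933,938,939,945,947,950,957,968,970,979,980,984,994]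

/-- Points. -/
def levY2pts1 : List ℕ := [997,1004,1007,1022,1049,1056,1058,1060,1071,1076,1091,1095,1096,1097,1117,1119,1121,1124,1126,1128,1129,1131,1134,1147,1156,1160,1169,1171,1173,1175,1183,1186,1197,1204,1215,1221,1222,1224,1225,1251,1256,1260,1264,1267,1270,1285,1286,1290,1294,1295,1296,1308,1309,1323,1325,1346,1348,1350,1352,1364,1373,1378,1388,1392,1415,1416,1444,1445,1449,1455,1472,1479,1493,1514,1532,1537,1542,1555,1568,1573,1575,1578,1580,1609,1613,1629,1639,1643,1649,1660,1702,1707,1712,1714,1721,1725,1728,1732,1743,1757,1764,1769,1772,1778,1790,1800,1821,1849,1858,1862,1867,1901,1909,1913,1919,1921,1926,1932,1933,1938,1946,1947,1951,1961,1963,1969,1976,2000,2010,2014,2031,2032,2082,2095,2106,2123,2128,2136,2143,2147,2149,2152,2161,2166,2168,2179,2183,2184,2186,2188,2196,2201,2217,2218,2225,2229,2257,2258,2261,2276,2286,2325,2330,2346,2347,2350,2354,2374,2375,2377,2385,2387,2397,2406,2409,2422,2430,2433,2434,2436,2439,2441,2444,2445,2452,2454,2462,2463,2471,2475,2476,2479,2481,2483,2486,2491,2506,2542,2573,2582]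

/-- Points. -/
def levY2pts2 : List ℕ := [2586,2591,2599,2601,2604,2608,2615,2621,2622,2623,2629,2636,2638,2641,2652,2663,2668,2679,2680,2689,2693,2695,2698,2700,2701,2713,2714,2721,2727,2728,2732,2739,2742,2744,2747,2753,2756,2765,2770,2772,2792,2795,2801,2818,2822,2833,2844,2850,2855,2857,2870,2871,2872,2879,2881,2885,2886,2887,2888,2892,2899,2915,2917,2923,2926,2932,2941,2943,2950,2954,2962,2970,2977,2978,2981,2984,2992,2996,3000,3005,3015,3031,3047,3051,3059,3069,3074,3079,3096,3098,3099,3105,3109,3112,3115,3117,3119,3128,3130,3134,3141,3144,3151,3152,3158,3169,3175,3198,3210,3216,3223,3236,3238,3243,3246,3254,3257,3261,3270,3277,3279,3280,3285,3287,3289,3293,3295,3297,3302,3304,3308,3322,3323,3327,3333,3334,3336,3353,3364,3368,3378,3380,3386,3396,3401,3407,3411,3413,3416,3420,3421,3431,3433,3436,3440,3452,3459,3462,3473,3479,3484,3488,3489,3492,3495,3499,3505]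

/-- A level. -/
def levY2 : Level :=
  ⟨2471, (.node (.node sub149 sub154) (.node sub159 sub164)), levY2pts0 ++ levY2pts1 ++ levY2pts2⟩

/-- A subtree. -/
def sub165 : WTree :=
  (.node (.node (.node .none (.node .none (.node (.word [1,3,2,1,0,8,7,3,2,1,4,7,3,7,8,4,2,3,1,2,1,2,1,0,3,2,1,4,3,5,6,4,5,3,2,7,8,7,3,0,1,4,3,7,3,4,2,1,0,4,5,4,3,7,8,7,3,4,5,6,5,2,3,1,2,3,4,2,5,6,7,3,2,8,7,5,3,4,2,3,7,5,1,2,1]) (.word [3,4,3,0,1,0,2,3,5,4,3,2,1,6,7,3,4,5,4,2,3,2,4,7,8,1,2,3,7,6,4,3,0,1,2,1,3,2,6,7,3,2,4,3,5,8,7,3,4,2,3,7,2,3,1,0,7,8,7,2,3,1,2,3,2,5,4,3,2,5,4,3,7,6,2,3,4,5,1,2])))) (.node (.node (.node (.node (.node .none (.word [1,2,5,7,3,2,4,3,7,8,2,3,7,6,5,1,0,2,3,2,1,0,2,4,3,7,3,4,2,0,1,2,3,2,0,1,5,6,7,3,2,8,7,3,4,2,3,7,5,2,1])) (.node .none (.word [3,4,3,0,1,0,2,3,5,4,3,2,1,6,7,3,4,5,4,2,3,2,4,7,8,1,2,3,7,6,4,3,0,1,2,1,0,1,2,7,3,4,5,6,4,3,7,2,1,0,2,3,2,4,5,6,7,3,4,2,3,7,1,2,3,4,5,2,3,1,0])))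 .none) (.node (.node .none (.word [0,2,3,2,1,7,3,2,4,3,8,7,3,4,2,3,7,0,1,2,4,5,3,4,2,3,7,3,4,5,4,2,0,1,0,3,6,5,4,7,3,2,1,3,7,4,5,3,2,4,3,5,8,7,3,2,1,4,3,7,8,7,6,3,4,5,3,2,3,5,4,6,5,4,3,7,8,7,6,4,2,3,2,0,1,0])) (.node (.node .none (.node .none (.word [3,4,3,2,3,4,5,4,6,5,4,7,8,3,7,1,2,3,4,5,6,2,3,2,5,4,7,8,3,7,4,5,6,3,1,2,0,1,0,2,4,3,7,3,4,2,3,7,8,7,3,2,1,5,7,3,2,4,3,7,8,2,3,7,5,6,4,3,2,1,7,6,5,3,4,2,3,0,1,2,0]))) .none))) (.word [3,2,5,4,3,7,3,4,5,2,3,0,1,2,4,3,7,8,7,3,4,2,1,0,1,3,2,6,7,3,2,4,3,5,8,7,3,4,2,3,7,2,3,1,6,0,1,2,5,6,8,7,3,4,1,2,3,7,8,5,6,4,5,4,3,2,1,7,3,8,7,4,5,6,4,5,4,3,2]))) (.node (.node (.node (.node (.node .none (.word [0,1,2,3,4,5,6,5,4,7,3,8,7,2,3,4,5,1,0,2,1,4,7,8,2,3,7,6,4,2,3,0,1,2,0,1,3,4,3,2,1,5,7,3,2,4,3,7,8,2,3,7,6,5,2,3,0,1,2,1,4,5,4,3,6,5,4,2,3,7,8,3,7,5,4,1,2,1]))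 (.node (.node .none (.word [0,1,0,2,3,5,4,3,2,1,6,7,3,4,5,4,2,3,2,4,7,8,1,2,3,7,6,4,3,0,1,2,1,5,6,7,3,2,4,8,7,3,4,2,3,7,5,0,3,4,3,0,1,2,1,7,3,4,7,8,6,5,4,3,7,6,2,3,2,1,0,3,5,4,6,5,3,4,2,3,1,2,1])) .none)) .none) (.node (.node (.node (.node .none (.node .none (.word [2,1,4,3,2,5,6,8,7,3,2,4,3,7,8,5,2,3,4,0,1,2,3,2,5,4,3,7,3,4,5,2,3,2,3,4,5,4,6,5,4,7,8,3,7,1,2,3,4,5,1,6,2,3,4,5,6,8,1,2,3,7,8,4,5,3,1,5,4,3,2,1,0,8,7,3,4,2,3,7,8,5,4,3,2,1]))) .none) .none) (.node (.node (.node .none (.node .none (.word [3,4,3,1,3,2,5,4,3,2,6,7,5,3,4,3,0,1,2,0,1,0,2,3,2,4,7,8,7,3,4,5,6,4,5,2,3,0,2,6,5,4,3,7,3,4,6,8,7,3,4,1,2,3,7,8,5,6,5,4,7,3,4,8,1,2,3,7,8,4,3,7,4,5,6,0]))) .none) (.node .none (.node .none (.word [1,2,3,2,1,0,4,6,5,4,3,7,6,2,3,4,5,2,1,0,2,1,3,2,7,8,7,1,2,3,2,1,0,3,4,3,0,1,2,5,6,8,7,3,4,1,2,3,7,8,5,6,4,0,1,2,1,7,3,4,7,8,6,5,4,3,7,6,2,3,2,1]))))))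 (.node (.node (.node (.word [2,4,3,7,3,4,2,1,0,6,5,4,3,8,7,3,2,1,8,5,6,4,5,3,2,0,2,6,5,4,7,3,2,1,8,7,6,4,5,3,2,1,7,3,2,4,6,5,4,3,7,8,2,3,7,6,2,1,0,2,1,5,4,3,2,7,8,4,5,3,4,2,3,7,8,5,6,1]) (.word [0,1,0,2,1,4,3,5,6,5,4,7,3,7,5,2,3,4,0,8,3,7,8,2,3,2,1,0,2,1,0,3,2,4,3,6,5,4,3,7,1,2,3,4,5,1,2,1,6,2,4,3,5,8,7,3,2,1,4,3,7,8,7,6,3,4,5,3,2,1,0,3,2,5,4,7,8,3,7,4,5,6,2,3,1])) .none) (.node (.word [0,2,1,0,3,2,4,7,3,8,7,4,1,2,0,3,5,4,8,7,3,2,1,8,6,5,4,3,2,3,7,8,7,3,2,1,0,3,4,3,2,7,3,4,5,6,4,5,2,3,1,2,4,3,7,3,4,2,3,2,5,6,7,3,2,8,7,3,4,2,3,7,5,6,1,2,1]) (.node (.node (.node .none (.word [3,4,3,1,0,3,2,1,7,3,2,8,7,3,4,2,3,7,3,2,1,3,7,8,7,2,3,0,1,0,2,5,6,5,4,7,3,8,7,4,5,2,1,0,2,3,5,6,8,7,3,4,1,2,3,7,8,5,6,4,2,1,4,5,4,3,2,8,7,3,4,3,7,8,0,1,2,3,4,5,6,1,2])) .none) .none)))))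

/-- A subtree. -/
def sub166 : WTree :=
  (.node (.node (.node (.node (.node (.node (.word [0,1,7,3,2,8,7,3,2,4,3,5,7,8,4,3,7,4,2,1,0,3,7,8,7,4,3,1,2,3,5,4,3,6,7,3,4,5,1,2,3,4,3,0,1,2,1,7,3,4,7,8,6,5,4,3,7,6,2,3,2,1,3,4,3,5,4,3,2,1,7,3,2,7,4,5,6,4,5,4,3,1,2,0,1,0]) (.word [0,1,0,2,3,5,4,3,2,1,6,7,3,4,5,4,2,3,2,4,7,8,1,2,3,7,6,4,3,0,1,2,1,3,4,5,6,5,4,3,2,5,4,3,0,1,4,5,4,8,7,3,8,7,2,3,4,5,3,1,2,1,0,2,5,6,7,3,2,5,4,3,7,8,2,3,7,5,6])) (.node .none (.node .none (.word [4,5,4,3,2,1,6,7,3,8,7,4,5,4,3,2,3,7,8,7,4,3,2,1,5,4,3,2,7,8,4,3,7,8,3,2,6,7,3,4,5,4,2,1,0,2,3,2,1,7,8,7,2,3,1,5,4,3,2,1,0,7,8,7,3,4,2,3,7,8,1,2,3,4,5,2])))) (.node (.node (.node (.node .none (.word [3,4,3,2,3,4,5,4,6,7,3,2,8,7,3,1,2,3,4,5,3,7,6,3,4,2,5,4,3,7,3,4,8,7,3,4,2,3,7,4,5,4,0,3,4,7,8,7,6,3,1,2,1,5,7,3,2,4,3,7,8,2,3,7,6,5,0,1,2,3,0]))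 (.word [1,2,1,4,3,5,4,6,7,3,2,1,0,1,2,3,4,5,3,7,3,4,1,3,2,5,6,5,4,3,7,8,7,3,4,5,4,0,2,1,3,5,4,3,2,7,8,3,7,8,4,5,4,2,0,1,2,6,3,5,6,8,7,3,4,1,2,3,7,8,5,6,4,0,1,2,5,4,3,2,6,7,3,4,5,6,4,0,1,2,3,2])) .none) .none)) (.node (.node (.node (.node .none (.word [1,2,3,5,6,5,7,3,8,7,4,3,7,5,0,1,2,0,3,4,3,6,5,4,3,2,1,7,3,8,7,4,5,6,4,5,4,3,2,1,3,4,3,1,2,4,3,6,7,3,5,4,3,7,8,2,3,7,8,6,4,5,4,3,1,2,0,1,0,2,1,3,7,8,3,2,4,5,3,4,2,3,7,2,3,2,1])) (.word [3,4,2,1,0,5,6,5,4,3,7,8,1,2,3,7,8,5,4,1,0,3,4,5,6,2,3,4,5,3,1,2,1,3,2,4,8,7,3,8,4,0,1,3,2,7,3,4,5,6,4,3,7,2,3,5,4,6,7,3,4,1,2,3,7,8,4,3,7,5,6,0,1,2,1,0,3,7,8,7,2])) (.node (.node .none (.word [3,4,3,1,2,3,2,1,6,5,4,7,3,8,7,4,5,2,1,0,1,2,4,3,7,3,4,2,0,1,3,5,4,3,7,8,7,5,6,5,4,2,3,1,6,7,3,4,5,6,8,4,3,7,4,5,6,8,1,2,3,7,8,4,5,6,2,3,1,0,2,1,4,7,8,3,7,6,4,2,3,0,1,2,0,1]))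 (.word [0,2,3,6,5,4,3,2,1,8,7,3,2,4,3,7,8,2,3,4,5,4,3,2,0,3,7,8,7,3,1,5,4,3,2,1,7,3,2,7,4,5,6,4,5,4,3,1,2,0,1,0,3,7,8,7,6,3,0,1,2,4,3,5,4,3,6,8,5,2,3,4,1,2,3,7,8,6,4,2]))) (.node (.node (.node .none (.word [0,1,4,5,4,3,2,1,8,7,3,4,2,3,7,8,6,7,3,4,2,3,7,1,2,3,4,5,4,1,2,5,6,8,7,3,4,5,1,2,3,7,8,4,0,2,1,3,4,5,7,3,4,2,3,7,5,6,4,5,0,1,2,0])) .none) (.word [1,2,1,0,3,4,3,2,7,3,2,1,5,6,4,5,3,0,2,1,0,3,5,4,6,7,8,3,7,4,5,3,2,0,1,2,1,4,3,2,5,4,6,5,3,4,0,1,2,1,0,3,6,7,8,7,3,2,3,4,5,6,8,1,2,3,7,8,4,5,3,0,2,4,5,6,7,8,3,7,2,3,4,5,6,3])))) (.node (.node (.node .none (.node (.node .none (.node .none (.word [3,4,3,0,1,3,5,4,7,3,2,1,4,3,8,7,3,4,2,3,7,4,5,3,1,0,3,7,8,7,3,5,6,5,7,3,2,4,8,7,3,4,2,3,7,5,3,5,4,8,7,3,2,1,8,6,5,4,3,2,3,2,7,3,4,6,5,4,3,7,2,3,1,0,2,1,0,3,5,4,6,7,8,2,3,7,4,5,3,2,1])))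 .none)) .none) (.node (.node (.node (.node (.node .none (.word [2,4,3,7,3,4,2,0,1,4,5,4,3,2,8,7,3,4,5,6,1,2,3,7,8,5,6,7,3,4,2,3,7,1,2,3,4,5,4,1,0,4,5,4,3,2,1,7,3,4,8,2,3,7,1,2,3,4,5,3,7,8,7,6,3,2,1,5,4,3,2,7,8,4,3,7,8,4,5,4,2])) .none) (.word [1,3,2,1,0,8,7,3,2,1,4,7,3,7,8,4,2,3,1,2,1,0,2,1,5,4,3,7,3,2,6,4,5,3,0,1,2,0,3,4,3,2,4,5,4,8,7,3,8,7,2,3,4,5,3,1,2,1,5,4,3,6,5,4,2,3,7,8,7,5,6,2,3,1,2,0])) .none) (.node (.node (.node .none (.word [2,3,5,7,3,2,4,3,8,7,3,4,2,3,7,6,5,0,1,2,3,5,4,3,7,8,7,6,5,4,2,3,2,6,5,4,3,2,7,3,4,5,8,7,6,5,4,2,1,0,2,4,3,7,3,4,1,0,3,7,8,7,2,4,5,4,3,2,1,7,8,4,3,7,6,4,5,4,3,2,1])) (.node (.node .none (.word [3,2,5,4,3,7,3,4,5,2,3,2,1,3,2,4,8,7,3,8,4,1,2,5,7,3,2,8,7,8,3,4,2,3,7,5,0,1,5,4,3,7,3,4,5,2,3,2,1,0,4,3,2,5,8,7,3,4,2,3,7,8,6,5,2,3,4,1,2,3,2,5,4,3,7,3,4,5,2,3]))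 .none)) .none)))) (.node (.node (.node (.node (.node (.node .none (.node .none (.word [3,2,1,0,5,4,3,2,1,8,7,3,4,3,7,8,5,2,3,4,0,3,2,7,8,7,1,2,6,3,2,1,7,8,7,2,3,1,2,0,5,4,6,5,7,3,4,2,3,7,8,4,3,7,4,5,6,5,3]))) (.word [3,4,3,1,2,1,3,2,4,3,6,5,6,4,5,3,0,2,7,8,7,3,0,1,2,0,2,6,5,4,7,3,2,1,8,7,6,4,5,3,2,1,7,3,2,4,6,5,4,3,7,8,2,3,7,6,2,1,0,2,1,0,4,5,4,3,2,7,3,4,5,6,3,4,1,2])) .none) (.node (.node .none (.word [3,4,3,2,1,3,4,5,4,6,8,7,3,2,8,7,3,4,5,3,7,6,3,4,2,1,0,3,2,1,7,3,2,4,3,7,8,7,3,4,2,3,7,2,3,1,2,3,2,0,1,2,1,3,4,5,4,3,2,1,8,7,3,4,3,7,8,7,2,3,4,5,4,1,2,0])) (.node .none (.word [0,1,0,2,1,3,4,5,7,3,2,4,8,3,7,5,4,2,3,2,1,3,2,5,4,3,7,3,4,5,2,3,0,2,1,3,2,5,4,6,7,8,3,7,4,5,3,2,0,3,4,3,0,7,3,2,4,5,8,3,7,4,5,3,4,2,3,7,6,5,1,0,2,1,3,7,3,2,4,3,7,8,4,2,3,7,3,2,1])))) (.node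 (.node (.node (.node (.node .none (.word [0,1,2,4,3,7,8,7,3,4,2,1,0,3,2,1,5,4,3,2,8,7,3,2,1,4,3,7,8,5,2,3,4,0,1,2,0,2,1,3,4,3,7,6,3,4,2,3,1,2,0,1,0,5,4,6,5,7,3,4,2,3,7,8,4,3,7,4,5,6,5,3])) .none) .none) (.node (.node .none (.node .none (.word [4,6,5,4,3,2,7,8,3,7,2,3,4,5,1,2,3,2,1,5,4,3,2,7,3,8,7,2,3,4,5,6,4,3,2,5,4,3,7,3,4,5,2,3,2,1,3,2,4,8,7,3,8,4,1,2,5,7,3,2,8,7,8,3,4,2,3,7,5,0,1,2,3]))) .none)) (.node .none (.node .none (.word [0,1,5,7,3,2,4,3,8,7,3,8,4,2,3,7,5,1,0,1,3,2,6,5,4,3,7,3,4,5,2,3,1,0,6,5,7,3,4,8,7,3,2,1,4,3,7,6,4,5,6,3,4,3,5,4,6,7,3,4,1,2,3,7,8,4,3,7,5,6,0,1,0,1,2,5,4,3,2,6,7,3,4,5,6,4,1,2,3,2,1]))))) (.node (.node (.node (.node (.node .none (.node .none (.word [3,4,3,1,0,2,3,4,5,6,8,7,3,2,8,3,4,5,3,4,1,7,3,4,6,5,4,3,7,6,2,0,1,0,3,2,5,4,3,7,3,4,5,2,3,0,1,2,1,3,2,5,4,7,3,4,5,8,7,6,5,1,2,0,1,2,3,2,1,0,5,4,3,2,1,0,8,6,5,4,3,7,8,5,3,2,1])))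 .none) (.node .none (.node (.node .none (.word [2,4,3,7,3,4,2,0,1,0,2,3,5,7,3,4,8,7,3,2,7,5,1,2,3,2,4,3,7,3,4,2,1,4,6,5,4,3,2,8,7,3,4,5,6,8,7,0,1,2,3,4,5,1,2,0,3,2,7,3,4,6,5,4,3,7,2,3,1,0,2,1,3,4,7,2,3,4,0,1,2,3,7,8,3,7,1])) .none))) (.node (.node .none (.node (.node .none (.word [2,4,3,7,3,4,2,0,3,2,1,5,4,6,5,4,3,7,2,3,4,3,1,2,0,2,6,5,4,7,3,2,1,8,7,6,4,5,3,2,1,7,3,2,4,6,5,4,3,7,8,2,3,7,6,2,1,0,2,3,2,1,4,5,2,3,4,5,6,5,2,3,1,0])) .none)) (.node .none (.node (.node .none (.word [2,4,3,7,3,4,2,1,2,3,4,5,8,7,3,2,4,3,7,8,0,1,2,3,4,5,1,0,3,7,8,7,3,2,1,4,7,8,3,7,4,2,3,0,1,2,0,1,0,1,5,7,3,2,4,8,3,7,8,3,4,2,3,7,5,1,0,1,2,4,3,6,7,3,5,4,3,2,1,3,7,8,2,3,7,6,4,5,4,3,2])) (.word [0,1,7,3,2,8,7,3,2,4,3,5,7,8,4,3,7,4,2,1,0,3,7,8,7,4,3,1,2,3,5,6,5,7,3,8,7,4,3,7,5,0,1,2,0,1,6,3,4,3,0,2,1,0,3,5,4,6,7,8,2,3,7,4,5,6,3,2,1])))))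 (.node (.node (.node .none (.node (.node (.word [2,4,3,7,3,4,2,0,1,5,4,3,2,6,5,4,8,7,3,8,5,2,1,0,4,5,4,7,8,7,6,3,4,5,1,2,4,3,6,7,3,5,4,3,2,1,3,7,8,2,3,7,6,4,5,4,3,5,4,6,7,3,8,7,4,5,2,4,5,3,7,8,4,2,3,7,5,6,4,5,2]) (.word [3,5,6,5,4,7,3,4,8,7,3,2,4,3,7,5,6,4,5,0,3,7,8,7,6,3,2,1,0,4,3,2,5,8,7,3,4,3,7,8,1,2,3,4,5,0,1,2,3])) .none)) (.word [3,4,3,1,2,4,6,5,4,7,3,2,1,0,7,6,3,4,5,4,2,1,8,3,7,8,2,3,2,1,2,4,3,7,3,4,2,0,1,2,4,3,7,8,7,3,4,1,3,5,6,5,4,7,8,2,3,7,4,5,1,2,3,6,7,8,7,3,5,4,6,7,3,4,1,2,3,7,8,4,3,7,5,6,0,1,2,1,0,4,5,4,3,2,7,3,4,5,3,4,1,2])) (.node (.word [3,2,5,4,3,7,3,4,5,2,3,0,1,2,4,3,7,8,7,6,5,4,7,3,2,7,6,8,1,2,3,7,8,5,4,2,3,2,0,1,2,3,4,5,4,6,7,3,4,8,7,1,2,3,4,5,4,6,2,1,0,3,7,8,7,3,4,5,6,7,3,4,2,3,7,1,2,3,4,5,6,1,0]) (.word [2,1,4,3,2,5,6,5,8,7,3,2,4,3,7,8,5,2,3,4,0,1,2,0,1,3,7,8,7,2,3,0,1,0,1,5,6,7,3,2,4,3,5,4,7,3,8,5,4,2,3,7,1,0,2,3,2,1,0,3,4,3,6,5,4,3,2,1,7,3,2,7,4,5,6,4,5,4,3,1,2,0,1,0]))))))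

/-- A subtree. -/
def sub167 : WTree :=
  (.node (.node (.node (.node .none (.node (.word [0,1,2,1,6,5,4,3,2,1,0,5,6,4,5,3,7,8,3,7,4,2,3,0,1,2,0,2,1,5,7,3,2,4,3,7,8,7,3,4,2,3,7,5,1,2,1,6,3,4,3,0,1,2,5,4,7,8,3,7,4,5,6,0,1,2,3,2,0,1,2,5,4,3,7,3,4,5,6,2,1,0]) (.node (.node (.node .none (.word [2,4,3,7,3,4,2,1,3,2,5,6,7,3,2,8,7,3,4,2,3,7,5,1,2,0,1,0,2,3,4,5,4,7,8,3,7,2,3,4,5,6,7,3,2,4,8,3,7,8,3,4,2,3,7,5,0,3,2,7,8,7,3,1,2,3,7,3,2,4,3,7,8,2,3,7,1,2,3,0,1])) .none) .none))) (.node (.node .none (.node (.node .none (.node (.word [1,3,2,1,0,8,7,3,2,1,4,7,3,7,8,4,2,3,5,4,3,2,6,5,4,3,2,7,5,6,4,5,3,4,2,0,1,6,2,4,3,5,8,7,3,2,1,4,3,7,8,7,6,3,4,5,3,2,1,0,5,4,3,2,1,7,3,8,7,5,6,4,5,4,3,2,1]) (.word [1,2,5,7,3,2,4,3,5,7,8,2,3,7,6,5,1,0,2,3,1,0,5,4,3,2,7,3,4,5,6,1,2,3,4,5,1,2,1,3,2,5,7,3,2,8,7,3,4,5,2,3,7,6,5,1,2,3,4,7,8,7,3,1,0,1,2,4,5,4,8,7,3,8,7,2,3,4,5,6,5,3,2,1,0])))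 .none)) (.node (.node (.word [0,1,2,1,3,2,5,4,3,7,3,2,6,4,5,3,0,1,2,0,2,4,3,7,3,4,2,4,5,4,3,2,1,7,8,4,3,7,6,4,5,4,3,2,1,3,4,3,0,1,2,6,7,3,4,5,6,4,3,7,2,1,0,3,4,3,2,4,3,7,3,4,2,0,1,3,5,7,3,2,8,7,3,4,2,3,7,5,6,3,2,1,0]) (.node (.node .none (.word [3,2,5,4,3,7,3,4,5,2,3,2,1,3,2,4,8,7,3,8,4,1,2,5,7,3,2,8,7,8,3,4,2,3,7,5,0,1,2,4,3])) .none)) .none))) (.node (.node (.node (.node (.node (.word [2,4,3,7,3,4,2,3,2,5,4,3,7,3,4,5,2,3,1,3,2,6,7,3,2,4,3,5,8,7,3,4,2,3,7,2,3,1,6,0,1,2,5,6,8,7,3,4,1,2,3,7,8,5,6,4,5,4,3,2,1,7,3,8,7,4,5,6,4,5,4,3,2]) (.word [2,4,3,7,3,4,2,1,2,3,2,1,6,5,4,7,3,8,7,4,5,2,1,0,1,2,4,3,7,3,4,2,0,1,3,5,4,3,7,8,7,5,6,5,4,2,3,1,6,7,3,4,5,6,8,4,3,7,4,5,6,8,1,2,3,7,8,4,5,6,2,3,1,0,2,1,4,7,8,3,7,6,4,2,3,0,1,2,0,1])) .none) (.node (.node .none (.node .none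 (.word [0,1,3,5,4,7,3,2,1,4,3,8,7,3,4,2,3,7,4,5,3,1,0,3,7,8,7,3,5,6,5,7,3,2,4,8,7,3,4,2,3,7,5,3,5,4,8,7,3,2,1,8,6,5,4,3,2,3,2,7,3,4,6,5,4,3,7,2,3,1,0,2,1,0,3,5,4,6,7,8,2,3,7,4,5,3,2,1]))) .none)) (.node (.node (.node .none (.node .none (.word [2,1,3,4,5,4,6,8,7,3,2,8,7,3,4,5,3,7,6,3,4,2,1,2,1,4,3,6,5,4,3,7,2,3,4,5,4,0,1,2,3,6,7,8,7,3,2,1,0,3,4,3,2,7,3,4,5,6,4,5,2,3,1,6,0,1,2,5,7,3,2,8,7,3,4,2,3,7,5,6,1,2,3,1]))) .none) (.node (.node .none (.node .none (.word [3,4,2,5,4,3,7,3,4,5,2,3,0,5,4,3,8,7,3,2,1,8,5,6,4,5,3,4,3,5,8,7,3,2,1,4,3,7,8,7,6,3,4,5,3,2,1,2,1,0,4,3,5,4,3,8,2,3,7,8,1,2,3,4,5,0]))) .none))) (.node (.node (.node (.node .none (.word [0,1,2,4,3,7,8,7,3,4,2,1,2,3,2,4,5,8,7,3,2,1,8,6,7,2,3,7,4,5,6,3,4,2,1,0,2,1,3,2,4,8,7,3,8,5,4,3,2,7,3,7,4,5,6,5,4,3,2,8,7,3,8,1,2,4,5,4,3,6,7,0,1,2,3,7,4,5,6,4,2,1]))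 (.word [0,1,0,5,4,3,2,1,7,3,2,4,3,7,6,5,4,3,2,6,1,0,2,1,3,7,3,2,4,3,7,8,2,3,7,3,2,1,3,2,5,6,7,3,2,4,5,8,7,3,4,2,3,7,5,1,2,0,1,3,5,4,3,7,8,7,5,6,5,4,2,3,2,1,2,3,5,4,7,3,8,7,4,5,6,5,2,3,1,2,0])) .none) (.node (.node (.node (.node .none (.word [2,3,4,5,4,6,7,3,2,8,7,3,1,2,3,4,5,3,7,6,3,4,2,5,4,3,7,3,4,8,7,3,4,2,3,7,4,5,4,0,3,4,7,8,7,6,3,1,2,1,5,7,3,2,4,3,7,8,2,3,7,6,5,0,1,2,3,0])) .none) (.node .none (.word [2,3,4,5,4,6,7,3,2,8,7,3,1,2,3,4,5,3,7,6,3,4,3,2,7,3,2,4,3,5,4,2,3,8,7,3,1,2,0,5,4,3,8,7,3,2,4,3,5,4,1,2,3,7,8,5,4,2,3,7,8,7,6,3,1,2,1,4,5,6,7,3,4,2,3,7,1,2,3,4,5,4,0]))) .none)))) (.node (.node (.node .none (.node (.node (.node (.node (.word [3,4,3,1,2,4,6,5,4,7,3,2,1,0,7,6,3,4,5,4,2,1,8,3,7,8,2,3,2,1,2,4,3,7,3,4,1,3,2,4,8,7,3,8,5,4,3,2,7,3,7,4,5,6,5,4,2,1,3,7,8,7,3,0,1,2,4,7,3,4,8,7,5,3,4,2,3,7,8,2,3,7,1,0])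 (.word [2,4,3,7,3,4,2,3,2,5,4,3,7,3,4,5,2,3,1,0,3,2,1,5,4,7,3,8,7,4,5,2,3,0,2,4,3,7,3,4,2,1,0,3,2,5,4,7,8,3,7,4,5,1,2,3,0,1])) .none) .none) (.node (.node (.node .none (.word [3,2,5,4,3,7,3,4,5,2,3,0,2,1,3,2,4,3,2,5,4,6,8,7,3,7,8,4,5,2,3,4,1,2,3,4,3,0,1,2,5,7,3,8,7,8,4,3,7,5,6,0,1,2,4,3,0,4,5,4,7,3,2,4,3,7,8,4,3,7,3,4,5,6])) .none) .none))) (.node (.node .none (.node (.node .none (.word [0,1,0,2,3,5,4,3,2,1,6,7,3,4,5,4,2,3,2,4,7,8,1,2,3,7,6,4,3,0,1,2,1,0,1,2,7,3,4,5,6,4,3,7,2,1,0,2,3,2,4,5,6,7,3,4,2,3,7,1,2,3,4,5,2,3,1,0])) .none)) (.node (.node (.word [0,1,2,1,3,5,4,6,7,8,2,3,7,4,5,1,2,1,3,7,8,7,3,5,4,3,2,1,0,8,6,5,4,3,7,8,5,3,2,1,2,4,5,4,3,7,3,4,6,2,3,4,5,4,1,2,3,2,1,0,3,7,8,7,3,1,5,4,3,2,1,7,3,2,4,3,7,5,6,4,5,4,1,2,0,1,0]) (.node (.node .none (.word [1,3,2,5,4,3,2,6,7,5,3,4,3,0,1,2,0,1,0,2,3,2,4,7,8,7,3,4,5,6,4,5,2,3,0,2,6,5,4,3,7,3,4,6,8,7,3,4,1,2,3,7,8,5,6,5,4,7,3,4,8,1,2,3,7,8,4,3,7,4,5,6,0]))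 .none)) (.node .none (.word [2,4,3,7,3,4,2,0,1,2,4,5,4,3,7,3,2,4,3,5,4,1,0,3,6,7,8,7,3,2,3,2,4,5,4,3,7,6,1,2,3,4,5,2,1,0,3,4,3,0,1,2,1,3,4,6,5,7,3,2,4,8,3,7,5,4,2,3,2,1,2,3,2,4,5,7,3,8,4,2,3,7,5,6,4,3,1,2,1,0]))))) (.node (.node .none (.node (.node (.node .none (.word [3,4,3,1,2,4,6,5,4,7,3,2,1,0,7,6,3,4,5,4,2,1,8,3,7,8,2,3,2,1,2,4,3,7,3,4,2,3,4,3,6,5,8,7,3,2,4,3,5,4,8,7,2,3,4,5,1,2,0,1,0,2,3,2,1,0,2,4,3,7,3,4,2,1,0,2,3,5,6,7,3,2,8,7,3,4,2,3,7,5,1,2,0])) .none) .none)) .none)))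

/-- A subtree. -/
def sub168 : WTree :=
  (.node (.node (.node (.node .none (.node .none (.node (.node (.node .none (.word [2,4,3,7,3,4,1,5,4,3,2,1,8,7,3,2,4,3,7,8,2,3,4,5,4,3,1,2,0,6,3,4,3,2,3,2,4,5,6,8,1,2,3,7,8,4,5,6,2,3,1,4,5,4,7,3,2,4,3,7,8,4,3,7,3,4,5,6])) .none) (.node .none (.word [3,4,2,5,4,3,7,3,4,5,2,3,2,1,0,4,3,2,5,8,7,3,4,2,3,7,8,6,5,2,3,4,1,2,3,2,5,4,3,7,3,4,5,2,3]))))) (.node (.node (.node .none (.word [3,4,3,1,2,3,5,6,5,7,3,8,7,4,3,7,5,0,1,2,0,3,4,3,6,5,4,3,2,1,7,3,8,7,4,5,6,4,5,4,3,2,1,3,4,3,1,2,4,3,6,7,3,5,4,3,7,8,2,3,7,8,6,4,5,4,3,1,2,0,1,0,2,1,3,7,8,3,2,4,5,3,4,2,3,7,2,3,2,1])) (.node (.word [2,4,3,7,3,4,2,0,1,2,3,4,5,6,5,4,7,3,8,7,2,3,4,5,1,0,2,1,4,7,8,2,3,7,6,4,2,3,0,1,2,0,1,3,4,3,2,1,5,7,3,2,4,3,7,8,2,3,7,6,5,2,3,0,1,2,1,4,5,4,3,6,5,4,2,3,7,8,3,7,5,4,1,2,1])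 (.node (.node (.word [2,5,4,6,5,7,3,2,4,8,7,3,5,4,2,5,4,7,8,3,7,6,4,5,2,3,4,3,1,2,3,5,4,7,3,8,7,6,4,5,3,0,1,2,0,3,4,3,2,7,8,7,3,0,1,4,3,7,3,4,2,0,1,2,3,2,1,4,5,4,3,7,8,7,3,4,5,6,5,2,3,1,2]) (.word [0,1,0,2,3,5,7,3,4,8,7,3,2,7,5,1,2,3,2,4,3,7,3,4,2,1,3,2,5,4,3,7,3,4,5,2,3,0,1,3,2,6,5,7,3,2,4,8,7,3,4,2,3,7,5,1,0,3,4,7,8,7,3,2,4,3,5,4,6,5,8,7,3,4,1,2,3,7,8,4,5,3,4,3,2])) .none))) .none)) (.node (.node (.node (.node .none (.node (.node .none (.word [0,1,0,2,6,5,4,3,7,3,4,5,2,1,0,3,4,3,2,1,0,4,5,4,3,2,7,3,4,5,6,3,4,1,5,4,6,7,3,8,7,4,5,2,0,3,4,3,0,1,2,5,4,7,8,3,7,4,5,6,0,1,2,3,1,5,4,7,3,2,8,3,7,4,5,6,5,3,1,2,1,0])) .none)) .none) (.node (.node .none (.node (.node .none (.word [0,1,2,4,3,7,8,7,3,4,2,1,0,1,2,3,6,5,4,7,3,2,7,6,4,5,1,2,3,2,7,3,4,6,5,4,3,7,2,3,1,0,1,2,1,0,5,4,6,5,7,8,7,3,4,5,6,2,3,4,1,2,1]))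 .none)) .none)) (.node (.node (.node .none (.node (.node .none (.word [3,2,5,4,3,7,3,4,5,2,3,2,1,0,4,3,2,5,8,7,3,4,2,3,7,8,6,5,2,3,4,1,2,3,2,5,4,3,7,3,4,5,2,3])) .none)) .none) (.node (.node (.node (.word [0,1,0,2,3,5,4,3,2,1,6,7,3,4,5,4,2,3,2,4,7,8,1,2,3,7,6,4,3,0,1,2,1,3,2,5,4,3,7,3,4,5,2,3,1,2,1,0,3,4,6,7,3,2,1,8,7,4,2,3,2,4,5,4,3,7,6,1,2,3,4,5,3,2,0,1,0]) (.node (.word [3,4,3]) (.word [2,1,4,3,2,5,6,8,7,3,2,4,3,7,8,5,2,3,4,0,1,2,3,2,6,5,4,3,7,3,4,5,2,3,1,2,4,3,7,3,4,2,3,7,8,7,3,0,1,2,6,3,2,1,7,8,7,2,3,1,2,0,1,4,5,4,3,2,1,7,4,3,7,5,6,4,5,4,2,3,2,1]))) .none) (.node .none (.word [0,1,4,5,4,3,2,8,7,3,4,5,6,1,2,3,7,8,5,6,7,3,4,2,3,7,1,2,3,4,5,4,6,5,4,3,2,1,7,3,2,4,3,7,1,2,3,4,5,0,3,7,8,7,6,3,5,4,3,2,1,7,3,2,4,3,7,5,6,4,5,4,1,2,0,1,0])))))) (.node (.node (.node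 (.node .none (.node (.node .none (.word [0,1,0,2,6,5,7,3,2,8,7,3,4,2,3,7,5,1,2,4,3,0,1,2,3,2,0,1,2,5,4,7,8,3,7,4,5,6,5,2,3,4,3,1,2,1,4,3,6,5,4,3,7,2,3,4,5,4,0,1,2,3,7,8,7,6,3,1,0,1,2,5,4,3,7,3,4,5,6,3,2,1,0])) (.node (.node .none (.word [2,1,3,2,6,5,4,3,2,1,8,7,8,5,6,4,5,3,2,1,3,2,7,3,4,5,6,4,3,7,2,3,0,7,8,7,2,3,1,3,2,4,5,6,8,1,2,3,7,8,4,5,6,2,3,1,0,4,7,3,8,7,8,2,3,7,4,5,6,4,5,3,1])) .none))) (.node .none (.node (.node .none (.node .none (.word [5,4,3,2,1,0,6,8,7,3,2,1,8,7,3,4,5,3,4,2,3,7,8,7,3,2,4,3,5,4,3,7,8,1,2,3,7,8,6,0,1,2,3,4,5,3,2,5,4,3,7,3,4,5,2,3,2,1,3,2,4,8,7,3,8,4,1,2,5,7,3,2,8,7,8,3,4,2,3,7,5,0,1,2,3]))) .none))) (.node (.node (.word [1,0,6,5,4,3,8,7,3,2,1,8,5,6,4,5,3,2,0,2,6,5,4,7,3,2,1,8,7,6,4,5,3,2,1,7,3,2,4,6,5,4,3,7,8,2,3,7,6,2,1,0,2,1,5,4,3,2,7,8,4,5,3,4,2,3,7,8,5,6,1])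 (.node (.node .none (.node .none (.word [0,1,7,3,2,8,7,3,2,4,3,5,7,8,4,3,7,4,2,1,0,3,7,8,7,4,3,1,6,5,8,7,3,2,4,3,5,4,8,7,2,3,4,5,1,2,3,4,3,0,1,2,5,4,7,8,3,7,4,5,6,0,1,2,3,2,4,8,7,3,2,1,5,4,3,7,8,6,5,3,2,0,1,0]))) .none)) (.node .none (.word [2,5,4,6,5,7,3,2,4,8,7,3,5,4,2,5,4,7,8,3,7,6,4,5,2,1,2,3,2,7,3,2,4,3,5,4,2,3,8,7,3,1,2,0,1,0,1,2,3,5,4,6,5,8,7,3,2,8,1,2,3,4,5,3,4,3,7,3,4,2,0,1,2,3,2,0,1,0,2,1,5,4,7,3,2,8,7,4,5,6,5,3,1,2,1,0])))) (.node .none (.node (.node (.node .none (.node .none (.word [0,1,2,1,3,5,4,6,5,8,7,3,8,4,5,2,3,4,0,1,4,3,7,3,4,2,1,0,1,4,5,4,3,7,8,4,2,3,7,5,6,4,5,4,3,2,1,0,3,4,3]))) .none) (.node .none (.node (.node .none (.word [1,4,7,3,8,7,3,2,4,3,7,5,6,4,5,2,3,2,1,3,2,7,8,7,0,3,4,7,8,7,3,1,0,2,5,4,3,2,1,7,8,6,5,4,3,7,8,4,5,6,5,2,0,2,3,4,5,6,8,1,2,3,7,8,4,5,6,3,0]))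 .none))))))

/-- A subtree. -/
def sub169 : WTree :=
  (.node (.node sub165 sub166) (.node sub167 sub168))

/-- A subtree. -/
def sub170 : WTree :=
  (.node (.node (.node (.node (.node (.node (.node .none (.node .none (.word [2,1,3,4,5,4,6,8,7,3,2,8,7,3,4,5,3,7,6,3,4,2,1,0,1,2,4,3,7,8,7,3,4,2,1,3,2,7,3,4,8,7,3,2,1,4,3,7,4,2,3,2,7,3,2,4,5,8,3,7,4,5,3,4,2,3,7,6,5,1,2,1,0,4,3,2,1,5,8,3,4,2,3,7,8,2,3,4,5,1,0]))) .none) (.node .none (.node (.node .none (.word [1,0,2,1,3,2,4,7,3,2,7,4,3,1,2,0,4,5,4,3,6,7,1,2,3,7,4,5,6,4,2,0,1,4,5,4,3,2,7,8,3,7,2,3,4,5,0,2,1,3,2,7,8,7,0,3,4,3,2,1,0,3,7,8,7,1,5,4,3,2,1,7,3,4,5,3,4,2,3,0,1,2,0,1])) .none))) (.node .none (.node (.node (.node .none (.word [2,1,4,3,2,5,6,8,7,3,2,4,3,7,8,5,2,3,4,0,1,2,3,4,3,0,1,2,3,2,1,0,4,6,7,3,2,1,3,7,4,2,4,5,4,8,7,3,8,7,2,3,4,5,3,1,2,1,6,0,1,5,7,3,2,1,4,8,3,7,2,3,4,1,2,3,7,5,6,5]))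 .none) .none))) (.node (.node (.word [0,6,5,4,3,2,1,7,3,2,4,3,7,1,2,3,4,5,0,6,0,2,1,0,3,5,4,3,2,3,7,1,2,3,4,5,4,3,2,1,0,1,5,7,3,2,4,8,3,7,8,3,4,2,3,7,5,1,2,1,0,3,2,4,7,3,8,7,3,5,4,6,5,0,1,2,3,4,5,6,1,2,1,0]) (.node .none (.node .none (.word [1,2,3,2,4,5,4,6,5,8,7,3,4,2,3,7,8,5,4,1,2,5,6,7,3,2,4,3,5,4,7,3,8,5,4,2,3,7,1,2,3,2,0,1,2,1,0,5,6,7,3,5,4,3,7,5,6,2,3,1,2,0,1,2,4,5,6,7,8,3,7,2,3,4,5,6,3])))) .none)) (.node (.node (.node (.node (.node (.node .none (.word [1,2,4,3,7,3,4,2,3,4,3,1,2,5,7,3,2,4,3,5,7,8,2,3,7,6,5,1,0,2,3,2,1,2,1,3,4,3,7,6,3,4,2,3,1,2,0,1,0,5,6,7,3,2,8,7,3,4,2,3,7,5,2,1,2,4,3,7,3,4,2,1])) .none) (.word [0,1,2,3,2,4,6,5,4,3,7,3,8,1,2,3,7,3,4,5,1,2,3,4,5,6,7,3,4,2,3,7,1,2,3,4,5,6,2,4,3,7,8,7,3,4,2,1,3,2,1,5,4,6,5,4,3,7,2,3,4,3,0,3,7,8,7,1,0,3,4,5,6,2,3,4,5,3,1]))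 (.node .none (.node (.node .none (.word [2,4,3,7,3,4,2,1,5,4,3,2,7,3,2,4,8,7,3,4,5,4,0,1,6,2,3,4,5,6,7,8,5,4,3,7,1,2,3,4,5,4,2,4,7,3,8,7,4,3,0,1,2,1,3,7,8,7,4,3,2,1,5,7,3,2,8,7,3,4,2,3,7,5,0,1,2,1,0])) .none))) (.node .none (.node .none (.node (.node .none (.word [2,4,3,7,3,4,2,1,2,4,6,5,4,7,3,2,1,0,7,6,3,4,5,4,2,1,8,3,7,8,2,3,2,1,0,1,2,4,3,7,8,7,3,4,2,1,2,1,3,2,4,3,7,3,4,3,1,5,4,3,2,1,7,8,6,5,4,3,7,8,4,5,6,5,2,0,3,2,5,4,3,7,3,4,5,6,2,3])) .none)))) (.node (.node .none (.word [2,4,3,7,3,4,2,3,2,5,4,3,7,3,4,5,2,3,0,1,0,2,1,3,4,5,7,3,2,4,8,3,7,5,4,2,3,2,1,0,1,2,4,3,7,8,7,3,4,2,1,0,1,3,5,4,3,2,6,5,4,3,0,1,4,5,8,7,3,2,1,8,7,3,4,5,6,5,0,1,2,3])) (.node .none (.word [1,2,3,2,1,0,6,7,3,4,5,6,8,4,3,7,2,1,0,3,4,7,8,7,3,2,4,5,4,8,7,3,8,7,2,3,4,5,3,1,2,1,0,1,2,3,2,4,5,4,3,2,1,8,7,3,4,2,3,7,8,5,6,4,1,2])))))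 (.node (.node (.node (.node .none (.node .none (.word [3,4,3,0,1,2,4,3,7,8,7,3,4,2,1,2,3,2,4,5,8,7,3,2,1,8,6,7,2,3,7,4,5,6,3,4,2,1,0,2,1,3,2,4,8,7,3,8,5,4,3,2,7,3,7,4,5,6,5,4,3,2,8,7,3,8,1,2,4,5,4,3,6,7,0,1,2,3,7,4,5,6,4,2,1]))) (.node .none (.node .none (.node .none (.word [1,3,5,4,6,5,4,7,3,2,1,7,8,3,7,4,0,1,2,3,2,4,5,6,5,7,8,7,3,4,5,3,1,0,6,1,2,4,3,5,8,7,3,2,1,4,3,7,8,7,6,3,4,5,3,2,1,3,5,4,6,5,7,8,7,6,3,4,2,3,1,2]))))) (.node .none (.node (.node (.node (.node (.word [0,2,1,5,4,6,5,4,7,3,2,4,3,8,7,5,4,1,2,0,3,5,4,8,7,3,2,1,8,6,5,4,3,4,5,6,7,8,3,7,2,3,4,5,3,2,4,3,6,7,3,5,4,3,7,8,2,3,7,8,6,4,5,4,3,1,2,3,7,8,7,3,0,1,2,4,7,3,4,8,7,5,3,4,2,3,7,8,2,3,7,1,0]) (.word [1,3,6,5,4,3,2,7,3,8,7,6,5,4,2,0,1,2,3,5,4,3,6,7,8,7,3,4,1,2,3,7,8,5,3,4,1,0,3,4,3,2,7,3,4,5,6,4,5,2,3,1,2,1,0,3,7,8,7,2,0,3,2,5,4,3,7,3,4,5,6,1,2,3,0,1]))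 .none) (.node (.node .none (.word [4,5,8,7,3,2,1,4,3,7,8,6,5,2,1,0,3,4,3,6,1,0,2,1,0,5,7,3,2,4,3,7,8,4,2,3,7,5,1,2,1,0,2,1,5,4,3,2,1,0,7,8,6,5,4,3,7,8,2,3,4,5,6,4])) .none)) .none))) (.node (.node .none (.node (.node (.word [1,2,1,4,3,5,4,6,7,3,2,1,0,1,2,3,4,5,3,7,3,4,2,1,7,3,8,7,3,2,1,0,4,3,2,7,4,3,1,2,0,3,7,8,7,3,1,5,4,3,2,1,7,3,2,7,4,5,6,4,5,4,3,1,2,0,1,0,2,1,0,3,7,8,7,2,0,5,4,6,5,7,3,4,2,3,7,8,4,3,7,6,4,5,3]) (.node .none (.word [1,2,3,2,1,6,5,4,7,3,8,7,4,5,2,1,0,1,2,4,3,7,3,4,2,0,1,3,5,4,3,7,8,7,5,6,5,4,2,3,1,6,7,3,4,5,6,8,4,3,7,4,5,6,8,1,2,3,7,8,4,5,6,2,3,1,0,2,1,4,7,8,3,7,6,4,2,3,0,1,2,0,1]))) .none)) (.node (.node (.node .none (.word [0,1,4,6,5,4,3,2,1,7,3,4,8,2,3,7,1,2,3,4,5,3,4,3,6,0,2,3,4,5,4,7,3,8,7,1,2,3,4,5,2,3,4,1,3,2,6,5,7,3,4,8,7,3,7,5,1,2,1,0,3,4,3,2,1,0,3,4,3,2,7,3,4,5,6,4,5,2,3,1,2,4,3,7,6,3,4,2,1]))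 .none) .none))))

/-- A subtree. -/
def sub171 : WTree :=
  (.node (.node (.node (.node (.node (.node .none (.word [0,2,1,5,4,3,7,3,2,6,4,5,3,0,1,2,0,1,2,4,3,7,3,4,2,4,8,7,3,2,1,5,4,3,7,8,6,5,2,1,0,1,2,1,3,4,7,3,2,8,7,3,4,2,5,4,3,2,1,7,8,6,5,4,3,7,8,4,5,6,5,2,0,5,4,3,6,5,4,2,3,7,8,7,5,2,3,1,2,0])) (.node (.node .none (.word [2,1,3,4,5,4,6,8,7,3,2,8,7,3,4,5,3,7,6,3,4,2,1,2,1,5,4,3,2,8,7,3,4,5,6,3,7,8,7,1,2,3,4,5,3,2,0,3,4,3,0,1,2,3,2,0,1,0,2,4,3,5,8,7,3,2,1,4,3,7,8,7,6,3,4,5,2,0,1,0])) .none)) (.node (.node (.node (.node .none (.word [2,4,3,7,3,4,2,0,1,2,4,3,7,8,7,3,4,2,1,0,1,2,4,5,4,3,7,3,4,6,2,3,4,5,4,1,2,3,2,1,0,2,4,3,7,3,4,2,5,4,3,2,1,0,7,3,2,8,7,3,4,5,6,5,2,3,4,1,2])) (.node .none (.word [3,4,3,0,2,3,5,4,8,7,3,2,1,4,3,8,5,6,2,3,7,3,2,8,7,6,4,5,3,1,2,1,0,2,3,4,6,5,4,8,7,3,2,4,5,8,7,0,1,2,3,4,5,7,8,7,3,0,1,2,3,2,7,3,4,6,5,4,3,7,2,3,1,2,1,4,7,8,2,3,7,4,2,3,0,1,2,0,1])))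 .none) (.node .none (.node (.node .none (.word [0,1,0,2,3,5,7,3,4,8,7,3,2,7,5,1,2,3,2,4,3,7,3,4,2,1,0,6,5,4,3,2,7,3,2,1,4,8,7,3,4,5,4,2,1,0,3,4,3,2,7,3,4,5,6,4,5,2,3,1,2,1,0,7,3,2,4,3,7,8,2,3,7,6,2,1])) .none)))) .none) (.node (.node (.node (.node (.word [1,2,5,7,3,2,4,3,5,7,8,2,3,7,6,5,1,0,2,3,2,1,2,1,3,4,3,7,6,3,4,2,3,1,2,0,1,0,5,6,7,3,2,8,7,3,4,2,3,7,5,2,1,3,4,3]) (.node .none (.word [1,3,2,1,0,5,7,3,4,8,7,8,3,7,5,2,1,2,5,4,3,2,7,3,4,5,6,4,5,4,2,3,4,6,5,4,3,2,7,3,8,7,6,5,4,2,0,1,0,2,3,2,3,5,4,3,7,8,7,5,6,5,4,2,3,2,1,0,2,1,0,7,3,2,4,3,7,8,2,3,7,2,1]))) .none) (.node (.node (.node (.node .none (.word [2,1,6,5,7,3,2,4,8,7,3,4,2,3,7,5,0,1,2,0,3,6,7,8,7,3,0,1,2,1,0,4,3,5,6,8,4,5,2,3,4,1,2,3,7,8,3,2,1,0,7,3,2,4,6,5,4,3,7,8,2,3,7,6,1,2])) .none) .none) (.node .none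 (.word [3,4,3,2,3,4,5,4,6,5,4,7,8,3,7,1,2,3,4,5,6,2,3,2,5,4,7,8,3,7,4,5,6,3,1,2,0,1,3,2,7,3,4,8,7,3,2,1,4,3,7,4,2,3,1,0,4,5,4,6,5,8,7,3,4,2,3,7,8,1,2,3,4,5])))) (.node .none (.node .none (.node (.node (.word [0,1,5,6,5,4,7,3,2,4,8,7,3,4,1,2,3,7,3,4,5,2,1,0,8,2,3,7,8,6,2,0,1,2,4,3,7,8,7,3,4,2,0,3,2,5,4,6,5,4,3,7,8,7,4,2,3,2,0,1,0,2,1,0,3,4,3,5,7,6,2,3,4,5,2,3,1]) (.word [1,0,3,2,1,7,3,2,8,7,3,4,2,3,7,3,2,1,3,7,8,7,2,3,0,2,4,3,6,5,4,7,3,2,7,6,8,1,2,3,7,8,5,4,2,3,2,0,1,2,3,5,7,3,2,8,7,3,4,5,2,3,7,6,5,0,1,2,1,5,4,3,2,1,0,8,6,4,5,3,4,2,3,7,8,3,1,2])) .none))))) (.node (.node (.node (.node (.node .none (.node (.node .none (.word [2,4,5,4,3,2,6,7,3,4,5,4,2,0,3,6,7,8,7,3,0,2,4,5,4,3,7,6,2,3,4,5,4,1,3,2,4,8,7,3,7,4,1,2,3,7,8,0,1,2,3,1,0,2,4,6,5,4,7,3,2,1,7,6,3,4,5,4,2,3,2,4,5,7,3,7,8,4,2,3,7,5,4,3,1,2,1,0]))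 .none)) (.node (.node (.node .none (.word [3,2,5,4,3,7,3,4,5,2,3,0,1,2,4,3,7,8,7,3,4,2,1,0,3,2,5,4,3,7,3,4,5,2,4,3])) .none) .none)) (.node (.node .none (.node (.node .none (.word [2,3,4,5,4,6,7,3,2,8,7,3,1,2,3,4,5,3,7,6,3,4,2,1,0,2,1,5,4,3,7,3,2,6,4,5,3,0,1,2,0,3,4,3,1,2,4,3,5,8,7,3,2,1,4,3,7,8,7,6,3,4,5,3,2,1,0])) .none)) (.node .none (.node .none (.word [0,1,0,2,1,3,4,5,7,3,2,4,8,3,7,5,4,2,3,2,1,0,2,1,3,2,5,4,6,7,8,3,7,4,5,3,2,0,6,1,0,2,1,0,5,7,3,2,4,3,7,8,4,2,3,7,5,1,2,1,0,2,3,7,3,2,4,3,7,8,2,3,7,6,1,2,3,0]))))) (.node (.node .none (.node .none (.word [2,4,3,7,3,4,2,0,1,2,3,2,4,5,6,7,8,7,3,4,5,3,1,0,2,4,3,7,3,4,2,0,1,3,5,7,3,2,4,8,7,3,4,2,3,7,5,6,1,2,1,0,5,4,3,2,8,7,3,4,5,2,3,7,8,1,2,3,4,6,7,3,5,4,3,7,5,6,2,3,1,2,0,1,0,7,8,7,6,2,3,1,2]))) .none)) (.node (.node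 (.node (.node (.node .none (.node .none (.word [0,1,2,4,3,7,8,7,3,4,2,1,0,1,7,3,2,4,3,7,8,4,2,3,7,3,2,1,0,3,4,3,2,7,3,4,5,6,4,5,2,3,1,0,1,2,5,6,8,7,5,3,4,1,2,3,7,8,5,4,1]))) .none) (.node .none (.word [2,4,3,7,3,4,2,0,1,2,4,3,7,8,7,3,4,2,1,0,1,2,3,2,7,3,2,4,3,5,4,2,3,8,7,3,1,2,0,1,0,3,4,3,0,1,0,2,3,6,7,3,4,5,6,4,3,7,2,1,0,3,7,8,7,3,2,1,0,4,5,4,3,2,7,3,4,5,6,3,4,1,2,1]))) (.word [2,3,4,5,4,6,7,3,2,8,7,3,1,2,3,4,5,3,7,6,3,4,2,4,7,3,8,7,3,2,4,3,7,5,6,4,5,2,3,1,6,0,1,2,5,6,8,7,3,4,1,2,3,7,8,5,6,4,0,2,1,3,4,7,2,3,4,0,1,2,3,7,8,3,7,6])) .none)))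

/-- A subtree. -/
def sub172 : WTree :=
  (.node (.node (.node (.node (.node (.node (.word [3,4,3,0,1,5,7,3,2,4,3,8,7,3,8,4,2,3,7,5,1,0,2,1,4,6,5,8,7,3,2,4,3,7,8,1,2,3,4,5,4,1,0,2,1,3,2,7,8,7,0,2,4,3,5,8,7,3,2,1,4,3,7,8,7,6,3,4,5,3,2,4,5,6,8,3,7,8,3,4,5,2,3,0,1,0]) (.node .none (.word [3,2,5,4,3,7,3,4,5,2,3,1,0,3,2,1,5,4,7,3,8,7,4,5,2,3,0,2,4,3,7,3,4,2,1,0,3,2,5,4,7,8,3,7,4,5,1,2,3,0,1]))) (.node (.node .none (.node .none (.word [0,2,1,0,3,2,4,3,5,6,7,1,2,3,4,5,2,3,2,7,8,7,3,0,1,2,5,4,6,7,3,4,1,2,3,7,8,4,3,7,5,6,0,1,0,2,3,4,5,4,3,6,5,8,4,2,3,7,8,1,2,3,4,5,1]))) .none)) (.node .none (.node .none (.node .none (.word [2,1,4,3,2,5,6,8,7,3,2,4,3,7,8,5,2,3,4,0,3,2,4,8,7,3,8,5,4,3,2,7,3,7,4,5,6,5,4,2,1,0,4,5,4,3,2,1,7,3,2,4,3,7,6,5,8,7,3,2,1,6,5,4,3,7,8,2,3,4,5,4,1,0])))))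 (.node (.node .none (.node (.node (.node (.word [3,4,3,0,2,1,5,4,3,7,3,2,6,4,5,3,0,1,2,0,1,2,4,3,7,3,4,2,4,8,7,3,2,1,5,4,3,7,8,6,5,2,1,0,1,2,1,3,4,7,3,2,8,7,3,4,2,5,4,3,2,1,7,8,6,5,4,3,7,8,4,5,6,5,2,0,5,4,3,6,5,4,2,3,7,8,7,5,2,3,1,2,0]) (.word [1,0,3,2,1,7,3,2,8,7,3,4,2,3,7,3,2,1,3,7,8,7,2,3,0,5,7,3,2,4,8,3,7,8,3,4,2,3,7,6,5,4,3,2,7,3,8,7,4,5,4,3,2,0,1,0,2,1,5,7,3,2,4,3,7,8,2,3,7,6,5,2,3,1])) (.word [1,2,4,6,5,4,7,3,2,1,0,7,6,3,4,5,4,2,1,8,3,7,8,2,3,2,1,2,4,3,7,3,4,2,3,4,3,6,5,8,7,3,2,4,3,5,4,8,7,2,3,4,5,1,2,0,1,0,2,3,2,1,0,2,4,3,7,3,4,2,1,0,2,3,5,6,7,3,2,8,7,3,4,2,3,7,5,1,2,0])) (.node (.node .none (.word [0,2,3,2,1,7,3,2,4,3,5,8,7,4,2,3,7,4,3,5,6,4,5,2,3,4,1,3,6,2,1,0,3,2,5,4,6,5,7,3,4,2,3,7,8,3,7,4,1,2,1,0,3,4,5,2,3,4,5,6,5,3,1])) .none))) (.node (.node (.node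 .none (.word [1,0,2,1,3,2,4,7,3,2,7,4,3,1,2,0,4,5,4,3,6,7,1,2,3,7,4,5,6,4,2,0,1,2,3,2,4,5,7,3,8,4,2,3,7,5,4,3,1,2,6,5,4,7,3,2,8,7,3,7,5,6,4,5,1,2,7,3,2,1,8,7,3,4,2,3,7,8,1,2,3,7,3])) .none) .none))) (.node (.node .none (.node (.node (.node .none (.node .none (.word [0,2,1,0,3,2,4,3,5,6,7,1,2,3,4,6,5,7,3,2,8,7,3,4,2,3,7,5,1,2,3,7,8,7,4,3,2,4,3,7,3,4,2,0,1,2,3,2,4,6,7,8,7,3,4,5,6,4,5,3,2,1,4,5,7,3,4,2,3,7,5,6,4,3,1,2,1,0]))) .none) .none)) (.node (.node .none (.node (.node (.node .none (.word [3,4,3,0,2,1,0,3,2,4,3,5,6,7,1,2,3,4,6,5,7,3,2,8,7,3,4,2,3,7,5,1,2,3,7,8,7,3,2,4,3,7,3,4,2,0,1,0,2,1,3,6,5,4,7,3,8,7,4,5,2,3,2,6,5,4,3,2,1,7,3,8,7,4,5,6,4,5,4,3,2])) .none) .none)) .none))) (.node (.node (.node (.node (.node .none (.word [0,1,7,3,2,8,7,3,2,4,3,5,7,8,4,3,7,4,2,1,0,3,7,8,7,4,3,1,2,3,6,5,7,3,4,5,3,7,6,5,1,2,3,4,3,2,1,0,3,7,8,7,2,3,4,3,5,4,6,7,8,1,2,3,7,4,5,6,2,0,1]))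 (.word [2,4,3,7,3,4,2,1,3,2,1,0,8,7,3,2,1,4,7,3,7,8,4,2,3,1,2,1,2,6,5,4,7,3,4,5,8,7,6,5,2,1,0,2,3,2,1,0,2,3,2,4,5,6,8,1,2,3,7,8,4,5,6,2,3,1,0,2,1,4,5,8,7,3,2,4,3,7,8,5,6,4,5,4,2,3,2,1])) .none) .none) (.node (.node (.node .none (.node .none (.node (.node .none (.word [1,0,2,3,4,5,6,8,7,3,2,8,3,4,5,3,4,1,7,3,4,6,5,4,3,7,6,2,0,1,0,3,2,5,4,3,7,3,4,5,2,3,0,1,2,1,3,2,5,4,7,3,4,5,8,7,6,5,1,2,0,1,2,3,2,1,0,5,4,3,2,1,0,8,6,5,4,3,7,8,5,3,2,1])) .none))) (.node (.node (.node .none (.node .none (.word [3,2,5,4,3,7,3,4,5,2,3,0,5,4,3,8,7,3,2,1,8,5,6,4,5,3,4,3,5,8,7,3,2,1,4,3,7,8,7,6,3,4,5,3,2,1,2,1,0,4,3,5,4,3,8,2,3,7,8,1,2,3,4,5,0]))) (.node (.node .none (.word [3,4,3,0,2,1,0,3,2,4,3,5,6,7,1,2,3,4,5,2,3,2,7,8,7,3,0,1,2,5,4,6,7,3,4,1,2,3,7,8,4,3,7,5,6,0,1,0,2,3,4,5,4,3,6,5,8,4,2,3,7,8,1,2,3,4,5,1]))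 .none)) (.node (.node (.node .none (.word [2,4,3,7,3,4,2,0,1,5,4,3,2,6,5,4,8,7,3,8,5,2,1,2,1,3,4,3,7,6,3,4,2,3,1,2,0,1,4,5,4,7,8,7,6,3,4,5,1])) .none) (.word [0,1,5,4,3,2,6,5,4,8,7,3,8,5,2,1,0,4,5,4,7,8,7,6,3,4,5,1,0,2,1,3,4,7,3,2,7,4,3,1,2,1,3,5,4,3,7,8,7,5,6,5,4,2,3,2,1,0,3,4,3,2,1,5,4,3,7,6,3,4,5,3,2])))) (.node (.node .none (.node (.node (.node .none (.word [4,7,3,4,8,7,3,2,1,4,3,7,5,6,4,5,2,1,0,6,5,7,3,4,8,7,8,3,7,5,2,1,0,3,4,3,0,2,5,4,3,2,1,7,8,6,5,4,3,7,8,4,5,6,5,2,0,2,3,4,5,6,8,1,2,3,7,8,4,5,6,3,0])) .none) .none)) .none))))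

/-- A subtree. -/
def sub173 : WTree :=
  (.node (.node (.node .none (.node (.node .none (.word [1,2,1,3,2,4,3,6,5,6,4,5,3,0,2,7,8,7,3,0,1,2,0,2,6,5,4,7,3,2,1,8,7,6,4,5,3,2,1,7,3,2,4,6,5,4,3,7,8,2,3,7,6,2,1,0,2,1,0,4,5,4,3,2,7,3,4,5,6,3,4,1,2])) .none)) (.node (.node (.node .none (.node (.node (.node .none (.word [0,3,2,1,5,4,6,5,4,3,7,2,3,4,3,1,2,0,2,6,5,4,7,3,2,1,8,7,6,4,5,3,2,1,7,3,2,4,6,5,4,3,7,8,2,3,7,6,2,1,0,2,3,2,1,4,5,2,3,4,5,6,5,2,3,1,0])) .none) .none)) .none) (.node .none (.node (.node (.node (.node .none (.word [3,2,5,4,3,7,3,4,5,2,3,2,1,3,2,4,8,7,3,8,4,1,2,5,7,3,2,8,7,8,3,4,2,3,7,5,0,1,2,3])) .none) .none) .none)))) (.node .none (.node (.node (.node (.node (.node .none (.node .none (.word [2,4,3,7,3,4,2,0,2,1,0,3,2,4,3,5,6,7,1,2,3,4,6,5,7,3,2,8,7,3,4,2,3,7,5,1,2,3,7,8,7,3,2,4,3,7,3,4,2,0,1,0,2,1,3,6,5,4,7,3,8,7,4,5,2,3,2,6,5,4,3,2,1,7,3,8,7,4,5,6,4,5,4,3,2])))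 (.node (.node .none (.word [3,4,3,0,2,3,2,1,7,3,2,4,3,5,8,7,4,2,3,7,4,3,5,6,4,5,2,3,4,3,6,5,4,7,3,8,7,4,5,2,3,2,1,6,2,4,3,7,3,4,2,0,2,3,2,4,5,6,8,7,3,4,2,3,7,8,5,4,2,3,2])) .none)) .none) .none) (.node .none (.node (.node .none (.node .none (.word [5,4,3,7,3,4,8,7,3,4,2,3,7,4,5,4,1,2,3,6,2,1,4,5,4,7,3,2,4,3,7,8,4,3,7,3,4,5,3,4,3,2,4,3,7,3,4,2,0,2,5,4,7,3,2,1,8,7,6,4,5,2,3,4,5,6,8,1,2,3,7,8,4,5,3,0,2,1,0,7,2,3,7,8,4,3,7,2,1]))) .none)))))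

/-- A subtree. -/
def sub174 : WTree :=
  (.node (.node sub170 sub171) (.node sub172 sub173))

/-- A subtree. -/
def sub175 : WTree :=
  (.node (.node (.node (.node (.node (.node .none (.node .none (.word [0,1,5,4,6,5,7,3,2,4,3,7,8,4,3,7,4,5,1,2,1,3,4,5,4,3,2,1,7,6,3,4,5,3,4,3,2,0,5,4,3,6,7,8,7,4,5,4,2,3,4,5,6,8,1,2,3,7,8,4,5,3,0,2,1,0,7,3,2,4,3,7,8,2,3,7,2]))) (.word [1,2,3,2,7,3,2,4,3,5,4,2,3,8,7,3,1,2,0,1,0,3,2,5,4,3,7,3,4,5,2,3,0,1,2,4,3,6,5,4,7,3,2,7,6,8,1,2,3,7,8,5,4,2,3,2,1,0,2,1,3,7,8,3,2,4,5,3,4,2,3,7,2,3,2,1])) (.node .none (.node (.node (.node .none (.word [1,3,2,1,0,6,5,4,7,3,2,7,4,5,1,2,3,0,1,2,1,0,4,3,5,6,8,4,5,2,3,4,1,2,3,7,8,3,1,0,2,3,2,4,5,6,8,1,2,3,7,8,4,5,6,2,3,1,0,2,1,0,4,3,2,3,7,3,4,5,6,3,4,5,2,3,1])) .none) .none))) (.node (.node (.word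 [0,1,2,1,3,5,4,6,5,8,7,3,8,4,5,2,3,4,0,1,4,3,7,3,4,2,1,0,1,4,5,4,3,7,8,4,2,3,7,5,6,4,5,4,3,2,1,0,3,2,5,4,3,7,3,4,5,2,3,0,1,2,4,3,7,8,7,3,4,2,1,0,3,2,5,4,3,7,3,4,5,2,3]) (.node .none (.node (.node .none (.word [3,4,3,0,1,0,2,1,3,4,5,7,3,2,4,8,3,7,5,4,2,3,2,1,0,1,2,4,3,7,8,7,3,4,2,1,0,1,4,5,4,3,2,1,7,3,4,5,8,7,6,5,4,3,2,6,1,0,4,5,4,3,7,8,4,2,3,7,2,3,4,5,1])) .none))) (.node (.node .none (.node (.node .none (.word [2,4,3,7,3,4,2,3,2,5,4,3,7,3,4,5,2,3,0,5,4,3,8,7,3,2,1,8,5,6,4,5,3,4,3,5,8,7,3,2,1,4,3,7,8,7,6,3,4,5,3,2,1,2,1,0,4,3,5,4,3,8,2,3,7,8,1,2,3,4,5,0])) .none)) .none))) (.node (.node (.node .none (.node (.word [2,1,3,4,5,4,6,8,7,3,2,8,7,3,4,5,3,7,6,3,4,2,1,0,5,4,3,8,7,3,2,1,4,8,5,6,4,5,3,4,5,4,8,7,3,8,7,2,3,4,5,3,1,2,1,0,1,2,5,6,8,7,5,3,4,1,2,3,7,8,5,4]) (.word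 [3,2,5,4,3,7,3,4,5,2,3,2,1,0,4,3,2,5,8,7,3,4,2,3,7,8,6,5,2,3,4,1,2,3,2,5,4,3,7,3,4,5,2,3,0,1,2,1,3,5,4,6,5,8,7,3,8,4,5,2,3,4,0,1,4,3,7,3,4,2,1,0,1,4,5,4,3,7,8,4,2,3,7,5,6,4,5,4,3,2,1,0]))) (.node (.node .none (.node (.node .none (.word [0,1,2,1,3,5,4,6,7,8,2,3,7,4,5,1,2,1,3,7,8,7,3,5,4,3,2,1,0,8,6,5,4,3,7,8,5,3,2,1,2,3,5,6,5,7,3,8,7,4,3,7,5,0,1,2,0,1,6,3,4,3,0,2,1,0,3,5,4,6,7,8,2,3,7,4,5,6,3,2,1])) .none)) .none)) (.node (.node (.node (.node .none (.node .none (.word [2,4,3,7,3,4,2,1,4,5,4,3,2,1,6,7,3,8,7,4,5,4,3,2,4,5,4,3,7,8,4,1,2,3,7,2,3,4,5,0,1,2,4,3,7,3,4,2,3,4,3,1,2,3,6,5,7,3,4,5,8,7,3,7,6,5,0,1,2,0,4,5,4,3,2,1,7,8,4,3,7,4,5,6,5,4,3,2,1]))) (.word [2,4,3,7,3,4,2,0,1,4,5,4,3,2,8,7,3,4,5,6,1,2,3,7,8,5,6,7,3,4,2,3,7,1,2,3,4,5,4,0,1,2,4,3,6,7,3,5,4,3,7,8,2,3,7,8,6,4,5,4,3,0,4,3,2,5,8,7,3,4,2,3,7,8,6,5,2,3,4,1,2]))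 .none) (.node (.node .none (.word [0,1,7,3,2,8,7,3,2,4,3,5,7,8,4,3,7,4,2,1,0,3,7,8,7,3,0,2,1,3,2,6,5,4,7,3,2,1,8,7,6,4,5,2,3,2,0,1,6,0,1,3,5,4,3,7,8,7,5,6,5,4,2,3,2,1,4,5,4,3,2,6,4,3,7,3,4,5,4,2,1])) .none)))) (.node (.node (.node (.node (.word [2,4,3,7,3,4,2,1,3,2,1,0,5,7,3,4,8,7,8,3,7,5,2,1,2,5,4,3,2,7,3,4,5,6,4,5,3,7,3,4,1,3,2,4,8,7,3,7,4,1,2,3,7,8,0,1,2,3,1,0,1,5,7,3,2,4,8,3,7,8,3,4,2,3,7,5,1,0]) (.node .none (.node (.node .none (.word [0,1,0,2,3,5,4,3,2,1,6,7,3,4,5,4,2,3,2,4,7,8,1,2,3,7,6,4,3,0,1,4,5,4,3,7,3,4,6,2,3,4,5,4,1,2,3,2,1,0,6,1,0,5,4,3,2,1,7,3,4,2,3,7,1,2,3,4,5,6,0])) .none))) (.node (.node (.node .none (.word [0,2,3,6,5,4,3,2,1,8,7,3,2,4,3,7,8,2,3,4,5,4,3,2,0,1,2,5,7,3,2,4,3,7,8,2,3,7,6,5,0,3,4,3,6,1,0,2,3,5,4,7,3,8,7,4,5,6,5,2,3,1,2,1,2,6,3,2,1,5,4,3,2,7,3,8,7,2,3,4,5,4,1]))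 .none) (.node (.node .none (.node .none (.word [1,5,6,5,4,3,7,8,7,4,5,4,0,1,2,3,5,4,3,6,7,8,7,3,4,1,2,3,7,8,5,3,4,1,0,8,2,3,7,8,3,6,5,4,7,3,2,4,5,7,6,5,1,2,3,4,2,7,3,4,6,5,4,3,7,2,3,1,0,1,2,5,7,3,8,7,8,4,3,7,5,6,0,1,2,3,1]))) .none))) .none) (.node (.node (.node .none (.node .none (.word [2,1,3,4,5,4,6,8,7,3,2,8,7,3,4,5,3,7,6,3,4,2,1,0,3,2,1,7,3,2,4,3,7,8,7,3,4,2,3,7,2,3,1,2,3,2,0,1,2,1,3,4,5,4,3,2,1,8,7,3,4,3,7,8,7,2,3,4,5,4,1,2,0]))) (.node .none (.node (.node (.node .none (.word [0,1,5,7,3,2,4,3,8,7,3,8,4,2,3,7,5,1,0,2,3,4,5,4,6,7,3,2,8,7,3,1,2,3,4,5,3,7,6,3,4,2,1,3,4,3,0,2,3,4,3,5,4,3,6,7,1,2,3,4,5,4,3,1,2,0,6,1,2,1,7,3,2,8,4,3,7,8,2,3,7,1,2,3,1,2,0])) (.node .none (.word [3,5,6,5,4,7,3,4,8,7,3,2,4,3,7,5,6,4,5,0,3,7,8,7,6,3,2,1,0,4,3,2,5,8,7,3,4,3,7,8,1,2,3,4,5,0,1,5,4,3,7,3,4,5,2,3,0,1,2,4,3,7,8,7,3,4,2,1,0,3,2,5,4,3,7,3,4,5,2,3])))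 (.word [0,1,4,5,6,5,7,3,2,4,3,7,8,4,2,3,7,3,4,5,3,2,4,7,3,4,8,0,1,2,3,7,8,4,3,7,2,3,2,1,3,2,4,8,7,3,8,5,4,3,2,7,3,7,4,5,6,5,4,2,0,2,1,0,3,2,4,6,7,3,2,8,7,4,1,2,0,1,5,4,3,2,7,8,3,7,4,5,6,5,4,3,2,1,0])))) (.node (.node (.node (.node (.node .none (.word [0,2,3,2,4,5,8,7,3,2,1,8,6,7,2,3,7,4,5,6,3,4,2,6,5,4,7,3,4,8,7,3,2,4,3,7,5,6,4,5,1,0,2,1,0,3,7,8,7,2,0,1,2,1,0,4,3,5,6,8,4,5,2,3,4,1,2,3,7,8,3,1,0])) .none) (.node .none (.word [0,1,2,4,3,7,8,7,3,4,2,1,0,1,2,4,5,4,3,7,3,4,6,2,3,4,5,4,1,2,3,2,1,0,2,4,3,7,3,4,2,5,4,3,2,1,0,7,3,2,8,7,3,4,5,6,5,2,3,4,1,2]))) .none) .none))))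

/-- A subtree. -/
def sub176 : WTree :=
  (.node (.node (.node (.node (.node (.node .none (.word [2,1,4,3,2,5,6,8,7,3,2,4,3,7,8,5,2,3,4,0,1,2,0,3,2,1,6,7,3,2,4,3,7,8,3,4,2,3,7,2,3,0,2,1,0,3,4,3,2,7,3,4,5,6,4,5,2,3,1,0,7,8,7,2,3,1,2,4,5,4,3,6,7,1,2,3,7,4,5,4,2,0])) .none) .none) (.node (.node (.node .none (.node .none (.word [3,2,5,4,3,7,3,4,5,2,3,0,1,2,4,3,7,8,7,3,4,2,1,0,2,1,3,2,4,8,7,3,8,4,1,2,5,7,3,2,8,7,8,3,4,2,3,7,5,0,1,2,3]))) (.node (.node .none (.node .none (.word [0,1,7,3,2,8,7,3,2,4,3,5,7,8,4,3,7,4,2,1,0,3,7,8,7,4,3,1,0,2,1,5,4,3,7,3,2,6,4,5,3,0,1,2,0,3,4,3,0,7,3,2,4,5,8,3,7,4,5,3,4,2,3,7,6,5,1,6,0,4,5,4,3,2,6,4,3,7,3,4,5,4,2,1]))) .none)) .none)) (.node (.node (.node (.node .none (.node (.node .none (.word [3,2,5,4,3,7,3,4,5,2,3,0,1,2,4,3,7,8,7,3,4,2,1,0,3,2,5,4,3,7,3,4,5,2,3]))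 .none)) .none) (.node (.node (.node (.node .none (.word [0,1,2,1,3,5,4,6,5,8,7,3,8,4,5,2,3,4,0,1,4,3,7,3,4,2,1,0,1,4,5,4,3,7,8,4,2,3,7,5,6,4,5,4,3,2,1,0])) .none) .none) .none)) (.node (.node (.node (.node .none (.word [3,4,3,2,4,5,4,3,2,6,7,3,4,5,4,2,0,3,6,7,8,7,3,0,2,4,5,4,3,7,6,2,3,4,5,4,1,3,2,4,8,7,3,8,4,0,2,1,5,7,3,2,4,3,7,8,2,3,7,5,6,5,2,3,2,1,0,3,4,5,2,3,4,5,6,5,3,1])) .none) .none) .none))) (.node (.node (.node (.node (.node (.node .none (.word [2,4,3,7,3,4,2,0,1,0,2,3,5,4,3,2,1,6,7,3,4,5,4,2,3,2,4,7,8,1,2,3,7,6,4,3,0,1,2,1,3,2,6,7,3,2,4,3,5,8,7,3,4,2,3,7,2,3,1,0,7,8,7,2,3,1,2,3,2,5,4,3,2,5,4,3,7,6,2,3,4,5,1,2])) .none) (.node (.node .none (.node .none (.word [0,1,3,6,5,4,7,3,2,8,7,3,4,8,2,3,7,6,5,4,2,1,0,6,0,2,1,0,5,6,7,3,5,4,3,7,5,6,2,3,1,2,0,1,0,1,4,5,4,3,8,7,3,4,2,3,7,8,5,6,5,1,2,3,6,1,3,2,5,4,6,5,7,3,4,2,3,7,8,3,7,4,1])))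 .none)) (.node (.node (.node (.node .none (.word [0,1,2,1,3,4,5,7,3,2,4,8,7,3,7,5,4,2,3,2,4,5,4,3,6,7,1,2,3,7,4,5,6,4,2,1,0,3,2,6,7,8,7,3,1,2,1,0,5,6,7,3,5,4,3,7,5,6,2,3,1,2,0,1,4,5,4,7,8,7,3,4,5,6,5])) .none) (.node (.node .none (.word [0,1,2,3,2,4,6,5,4,3,7,3,8,1,2,3,7,3,4,5,1,6,3,2,5,4,6,5,7,3,4,2,3,7,8,3,7,4,1,5,4,3,2,1,7,3,2,7,4,5,6,4,5,4,3,1,2,1,0])) .none)) .none)) (.node (.node (.node (.word [1,3,2,5,6,5,7,3,2,4,8,7,3,4,2,3,7,5,1,2,3,4,3,6,1,0,2,1,0,5,7,3,2,4,3,7,8,4,2,3,7,5,6,1,2,1,3,4,3,1,2,1,6,5,7,3,2,4,8,7,3,4,2,3,7,5,0,1,2,0,1,6,3,4,3,2,1,5,7,3,2,4,3,7,8,4,2,3,7,5,6,5,2,3,1]) (.word [0,1,4,5,4,3,2,1,8,7,3,4,2,3,7,8,6,7,3,4,2,3,7,1,2,3,4,5,4,1,0,5,6,8,7,3,2,1,4,3,5,8,4,5,2,3,4,0,1,4,5,4,8,7,3,8,7,2,3,4,5,3,1,2,1,0,7,8,7,2,3,1,2,4,8,7,3,7,8,4,5,6,4,5,3]))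 .none) (.node (.node (.node .none (.node .none (.word [0,2,3,2,1,7,3,2,4,3,5,8,7,4,2,3,7,4,3,5,6,4,5,2,3,4,1,2,1,3,2,1,5,4,6,5,4,3,7,2,3,4,3,1,2,3,7,8,7,6,3,1,0,2,1,3,5,7,8,7,3,4,5,6,2,3,4,5]))) .none) .none))) (.node (.node (.node .none (.node .none (.node .none (.word [])))) (.node (.node (.node .none (.node .none (.word [3,6,5,4,7,3,2,1,3,7,4,5,3,4,6,5,8,7,3,2,1,4,3,7,8,6,5,2,1,0,4,7,3,1,2,3,7,6,4,0,1,2,3,2,3,2,5,4,6,5,4,8,7,3,7,8,4,1,0,3,2,7,3,4,6,5,4,3,7,2,3,1,2,1,4,7,8,3,7,6,4,2,3,0,1,2,0,1]))) (.node .none (.word [0,1,2,6,7,3,2,8,7,3,4,5,6,4,2,3,7,1,2,3,5,4,6,7,8,1,2,3,7,4,5,6,2,1,2,3,2,4,5,6,7,8,7,3,4,5,3,1,0,2,4,3,7,3,4,2,0,1,3,5,7,3,2,4,8,7,3,4,2,3,7,5,6,1,0]))) .none)) (.node .none (.node (.node .none (.word [2,3,4,5,4,6,5,4,7,8,3,7,1,2,3,4,5,6,2,3,2,5,4,7,8,3,7,4,5,6,3,1,2,0,1,0,2,7,3,2,8,7,3,4,2,3,7,0,1,2,3,7,8,7,4,3,0,2,3,4,5,4,3,6,5,8,4,2,3,7,8,1,2,3,4,5]))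 .none)))))

/-- A subtree. -/
def sub177 : WTree :=
  (.node (.node (.node (.node (.node .none (.node (.node .none (.node (.word [3,4,3,0,1,2,4,5,4,6,5,4,7,3,2,4,8,7,3,4,5,4,2,3,6,2,5,4,3,2,1,0,8,7,3,4,2,3,7,8,5,6,4,3,2,1,2,4,3,6,7,3,5,4,3,7,8,2,3,7,8,6,4,5,4,3,1,6,8,7,3,2,8,0,1,2,5,4,3,7,3,2,1,4,3,7,8,4,2,3,7,4,5,6,5,1,0]) (.word [3,4,3,2,1,0,5,7,3,4,8,7,3,2,8,7,6,5,1,2,0,3,2,5,4,3,6,7,5,2,3,4,3,1,2,4,5,6,7,3,2,8,3,7,3,4,5,3,2,3,4,5,6,8,1,2,3,7,8,4,5,3,0,2,1,5,4,3,7,6,3,4,5,3,2]))) .none)) (.node (.node .none (.node (.node .none (.word [1,3,5,4,3,2,6,5,4,3,0,1,7,8,7,3,0,3,4,3,2,7,3,4,5,6,4,5,1,2,3,0,3,2,6,7,3,2,4,3,5,8,7,3,4,2,3,7,2,3,1,0,1,3,5,4,3,7,8,7,5,6,5,4,2,3,2,1,2,5,4,7,8,3,7,6,4,5,2])) .none)) .none)) (.node (.node (.node (.node .none (.node .none (.word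 [2,1,3,4,5,4,6,8,7,3,2,8,7,3,4,5,3,7,6,3,4,2,1,2,1,5,4,3,2,8,7,3,4,5,6,3,7,8,7,1,2,3,4,5,3,2,0,3,4,7,8,7,3,1,5,4,3,2,1,7,3,2,7,4,5,6,4,5,4,3,1,2,0,1,2,1,3,7,3,2,4,3,7,8,2,3,7,6,3,2]))) .none) (.node .none (.node (.node .none (.word [3,4,3,1,2,1,4,5,7,3,8,7,3,2,4,5,6,3,4,5,4,1,2,1,0,3,2,5,6,7,3,2,8,7,3,4,2,3,7,5,1,2,1,0,2,1,0,3,2,4,3,5,6,7,1,2,3,4,5,2,4,3,0,1,2,3,4,5,4,8,7,3,8,7,2,3,4,5,6,5,3,2,0,1,0])) .none))) (.node (.node (.node .none (.word [0,1,5,7,3,2,4,3,8,7,3,8,4,2,3,7,5,1,0,3,4,3,8,7,3,2,1,4,3,2,5,4,3,7,8,1,2,3,4,5,4,1,0,6,2,1,0,3,4,3,2,7,3,4,5,6,4,5,2,3,1,4,7,3,8,7,1,2,3,7,4,5,6,4,5,3])) .none) .none))) (.node (.node (.node .none (.node .none (.word [0,1,0,2,3,5,4,3,2,1,6,7,3,4,5,4,2,3,2,4,7,8,1,2,3,7,6,4,3,0,1,2,1,0,1,0,2,1,4,5,4,6,5,7,3,4,2,3,7,1,2,3,4,5,2,7,8,7,3,0,1,4,3,7,3,4,2,1,0,4,5,4,3,7,8,7,3,4,5,6,5,2,3,1,2,4,5,4,7,8,7,6,3,4,5])))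 (.node .none (.node (.node .none (.word [0,1,2,4,3,7,8,7,3,4,2,1,0,8,7,3,2,1,4,3,2,5,6,7,3,4,3,7,8,5,2,3,4,0,1,2,1,2,4,3,7,3,4,2,0,1,2,3,2,0,1,2,5,4,3,2,1,7,8,6,5,4,3,7,8,4,5,6,5,2,0,3,5,4,3,7,8,7,5,6,5,4])) (.word [2,4,5,4,3,2,6,7,3,4,5,4,2,0,3,6,7,8,7,3,0,2,4,5,4,3,7,6,2,3,4,5,4,1,3,2,4,8,7,3,8,4,0,2,1,5,7,3,2,4,3,7,8,2,3,7,5,6,5,2,3,2,1,0,3,4,5,2,3,4,5,6,5,3,1])))) (.node (.node (.node (.node (.node (.word [2,4,3,7,3,4,2,1,0,2,1,3,2,4,6,7,3,2,7,4,3,1,2,0,1,3,7,8,7,3,0,2,4,5,4,6,5,4,3,7,2,3,4,5,6,2,3,4,3,1,2,1,0,3,4,6,7,3,2,1,8,7,4,3,2,7,3,4,6,5,4,3,7,2,3,1,0,2,4,7,8,3,7,4,3,1,2,1]) (.word [0,1,2,1,3,4,6,5,7,3,2,4,3,7,5,4,1,2,3,5,4,6,5,4,3,7,8,7,6,4,2,6,2,1,0,3,4,3,0,1,2,5,4,7,8,3,7,4,5,6,0,1,2,3,2,5,4,3,2,1,7,3,8,7,4,5,6,4,5,4,3,2])) .none) (.word [2,5,4,6,5,7,3,2,4,8,7,3,5,4,2,5,4,7,8,3,7,6,4,5,2,0,1,2,4,3,7,8,7,3,4,2,1,0,1,2,3,2,4,5,7,3,8,4,2,3,7,5,4,3,1,2,0,2,1,3,4,6,5,7,3,2,4,8,3,7,6,8,1,2,3,7,8,4,5,6,2,3,4,5,6,8,3,7,8,3,4,5,2,3,1,0]))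 (.word [0,1,2,4,3,7,8,7,3,4,2,1,0,1,2,3,2,7,3,2,4,3,5,4,2,3,8,7,3,1,2,0,1,0,3,4,3,0,1,0,2,3,6,7,3,4,5,6,4,3,7,2,1,0,3,7,8,7,3,2,1,0,4,5,4,3,2,7,3,4,5,6,3,4,1,2,1])) (.node .none (.node .none (.word [3,2,5,4,3,7,3,4,5,2,3,2,1,0,4,3,2,5,8,7,3,4,2,3,7,8,6,5,2,3,4,1,2,1,0,3,2,1,5,4,7,3,8,7,4,5,2,3,0,2,4,3,7,3,4,2,1,0,3,2,5,4,7,8,3,7,4,5,1,2,3,0,1])))))) (.node (.node (.node (.node .none (.node (.node (.node .none (.word [2,1,0,3,2,1,5,4,3,2,7,3,8,7,4,5,4,2,1,0,2,3,2,1,2,4,5,4,7,8,3,7,2,3,4,5,1,2,3,0,1,2,3,4,3,2,4,5,4,8,7,3,4,8,7,2,3,4,5,1,2,3,7,8,7,6,3,5,4,3,2,1,7,3,2,8,4,3,7,1,2,3,4,5,4,0,1,0])) .none) .none)) (.node (.node (.node .none (.word [3,4,3,0,1,5,4,6,5,7,3,2,4,3,7,8,4,3,7,4,5,1,2,1,3,4,5,4,3,2,1,7,6,3,4,5,3,4,3,2,0,5,4,3,6,7,8,7,4,5,4,2,3,4,5,6,8,1,2,3,7,8,4,5,3,0,2,1,0,7,3,2,4,3,7,8,2,3,7,2]))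 .none) .none)) (.node .none (.node (.node (.node (.node .none (.word [2,4,3,7,3,4,2,0,1,2,4,3,7,8,7,3,4,2,1,0,3,2,1,5,4,3,2,8,7,3,2,1,4,3,7,8,5,2,3,4,0,1,2,1,6,0,1,2,3,2,1,5,4,6,5,7,3,4,2,3,7,8,4,3,7,4,5,6,5,3])) (.node .none (.word [1,3,2,6,5,4,7,3,8,7,4,5,2,3,1,6,2,7,8,7,3,0,1,2,3,4,3,2,1,0,3,7,8,7,2,3,2,5,4,3,7,3,4,5,6,2,3,1]))) .none) (.word [1,3,2,5,6,7,3,2,8,7,3,4,2,3,7,5,1,2,0,1,0,2,3,4,5,4,7,8,3,7,2,3,4,5,6,5,1,0,3,4,2,5,8,7,3,4,5,6,8,1,2,3,4,5,1,0,3,2,7,3,4,6,5,4,3,7,2,3,1,2,1,5,6,7,3,2,5,4,3,7,8,2,3,7,5,2,3])))) (.node (.node (.node (.node .none (.word [0,1,5,7,3,2,4,3,8,7,3,8,4,2,3,7,5,1,0,1,2,4,5,4,3,7,3,4,6,2,3,4,5,4,1,2,3,2,1,0,2,1,0,3,4,3,2,7,3,4,5,6,4,5,2,3,1,0,2,1,3,5,7,8,7,2,3,4,5,6,2,3,4,5,1])) (.node (.word [2,1,4,3,2,5,6,5,8,7,3,2,4,3,7,8,5,2,3,4,0,1,2,0,1,3,7,8,7,2,3,0,1,0,5,7,3,2,8,7,3,4,5,2,3,7,6,5,2,0,3,4,3,0,1,2,5,4,7,8,3,7,4,5,6,0,1,2,3,2,0,1,5,4,3,2,1,8,6,5,4,3,7,8,5,2,3])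 (.word [0,1,2,3,4,5,6,5,4,7,3,8,7,2,3,4,5,1,0,2,1,4,7,8,2,3,7,6,4,2,3,0,1,2,0,1,0,1,2,4,3,7,8,7,3,4,2,1,0,5,4,3,6,7,8,7,4,5,4,3,2,7,3,4,6,5,4,3,7,2,3,1,4,5,4,7,8,7,6,3,4,5,1]))) (.node (.node (.node (.node (.word [3,2,5,4,3,7,3,4,5,2,3,0,1,0,2,1,3,4,5,7,3,2,4,8,3,7,5,4,2,3,2,1,0,1,2,4,3,7,8,7,3,4,2,1,0,1,3,5,4,3,2,6,5,4,3,0,1,4,5,8,7,3,2,1,8,7,3,4,5,6,5,0,1,2,3]) (.word [2,3,2,4,6,5,8,7,3,2,4,5,8,6,5,3,4,0,1,2,3,5,7,3,2,4,8,7,3,4,2,3,7,5,6,2,1,5,4,6,5,8,7,3,8,4,5,2,3,4,0,1,4,3,7,3,4,2,1,0,3,2,5,4,6,5,7,8,3,7,2,3,4,2,3,1,2,1])) .none) .none) .none)) (.node (.node .none (.node .none (.node .none (.word [0,1,4,5,4,3,2,8,7,3,4,5,6,1,2,3,7,8,5,6,7,3,4,2,3,7,1,2,3,4,5,4,1,0,4,5,4,3,2,1,7,3,4,8,2,3,7,1,2,3,4,5,3,7,8,7,6,3,2,1,5,4,3,2,7,8,4,3,7,8,4,5,4,2])))) .none))))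

/-- A subtree. -/
def sub178 : WTree :=
  (.node (.node (.node (.node .none (.node .none (.node (.node (.node (.word [1,3,5,4,3,2,6,5,4,3,0,1,7,8,7,3,0,3,4,3,2,7,3,4,5,6,4,5,1,2,3,0,1,2,4,3,6,7,3,5,4,3,7,8,2,3,7,8,6,4,5,4,3,4,3,2,5,4,3,7,8,7,5,6,3,6,5,8,4,1,2,3,7,8,6,5,4,0,1,2]) (.word [0,1,5,7,3,2,4,3,8,7,3,8,4,2,3,7,5,1,0,3,5,4,6,5,8,7,3,2,4,3,7,8,3,1,2,0,3,4,3,2,7,8,7,3,0,1,2,3,4,3,0,1,2,5,4,7,8,3,7,4,5,6,0,1,2,3,4,5,6,7,8,3,7,2,3,4,5,6,3])) .none) (.node .none (.word [3,4,3,4,5,4,3,2,1,6,7,3,8,7,4,5,4,3,2,3,7,8,7,4,3,2,1,5,4,3,2,7,8,4,3,7,8,3,2,6,7,3,4,5,4,2,1,0,2,3,2,1,7,8,7,2,3,1,5,4,3,2,1,0,7,8,7,3,4,2,3,7,8,1,2,3,4,5,2]))))) (.node (.node (.node .none (.node .none (.word [0,1,5,4,3,2,6,5,4,8,7,3,8,5,2,1,2,1,3,4,3,7,6,3,4,2,3,1,2,0,1,4,5,4,7,8,7,6,3,4,5,1])))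 .none) (.node (.node .none (.word [0,1,0,2,3,5,4,3,2,1,6,7,3,4,5,4,2,3,2,4,7,8,1,2,3,7,6,4,3,0,1,2,1,3,2,6,7,3,2,4,3,5,8,7,3,4,2,3,7,2,3,1,0,7,8,7,2,3,1,2,3,4,3,2,1,5,4,3,7,6,3,4,5,3,2])) (.word [3,4,3,1,3,5,4,3,2,6,5,4,3,0,1,7,8,7,3,0,3,4,3,2,7,3,4,5,6,4,5,1,2,3,0,2,4,3,7,3,4,2,0,1,0,2,7,3,4,5,6,4,3,7,2,1,0,2,3,2,4,5,6,8,1,2,3,7,8,4,5,6,2,3,2,5,4,3,7,3,4,5,2,1,0])))) (.node (.node (.node (.node (.node .none (.node .none (.word [0,1,2,1,6,5,4,3,2,1,0,5,6,4,5,3,7,8,3,7,4,2,3,0,1,2,0,1,2,4,3,7,3,5,4,3,2,1,0,1,2,3,7,6,4,5,3,4,1,2,1,2,6,8,7,3,2,8,0,1,2,5,4,3,7,3,2,1,4,3,7,8,4,2,3,7,4,5,6,5,1,0]))) .none) (.node (.node .none (.word [2,3,4,5,4,6,5,4,7,8,3,7,1,2,3,4,5,6,2,3,2,5,4,7,8,3,7,4,5,6,3,1,2,0,1,3,2,7,3,4,8,7,3,2,1,4,3,7,4,2,3,1,0,4,5,4,6,5,8,7,3,4,2,3,7,8,1,2,3,4,5]))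 .none)) (.node (.node (.node .none (.word [2,4,3,7,3,4,2,0,1,2,1,3,5,4,6,5,8,7,3,8,4,5,2,3,4,0,1,4,3,7,3,4,2,1,0,1,4,5,4,3,7,8,4,2,3,7,5,6,4,5,4,3,2,1,0])) .none) .none)) (.node (.node (.word [1,3,2,1,0,8,7,3,2,1,4,7,3,7,8,4,2,3,1,2,1,2,6,5,4,7,3,4,5,8,7,6,5,2,1,0,2,3,2,1,0,2,3,2,4,5,6,8,1,2,3,7,8,4,5,6,2,3,1,0,2,1,4,5,8,7,3,2,4,3,7,8,5,6,4,5,4,2,3,2,1]) (.node .none (.node .none (.word [0,2,3,2,4,5,8,7,3,2,1,8,6,7,2,3,7,4,5,6,3,4,2,1,0,1,2,4,3,6,7,3,5,4,3,7,8,2,3,7,8,6,4,5,4,3,1,4,5,4,8,7,3,4,8,7,2,3,4,5,1,2,3,7,8,7,6,3,5,4,3,2,1,7,3,2,8,4,3,7,1,2,3,4,5,4,0,1,0])))) (.node (.node (.word [0,1,2,3,5,4,3,2,1,6,7,3,4,5,4,2,3,2,0,1,2,7,3,4,6,5,4,3,7,2,1,0,1,2,1,0,3,4,6,7,3,2,1,8,7,4,3,4,7,8,7,3,2,3,2,4,5,4,3,7,6,1,2,3,4,5,2,0,1,0]) (.word [3,4,3,1,5,7,3,2,4,3,7,8,7,3,4,2,3,7,6,5,3,0,1,6,0,2,1,0,3,5,4,6,2,3,7,3,4,5,2,3,1,2,1,0,6,5,4,3,2,7,3,2,4,8,7,3,4,5,4,1,2,5,6,8,7,3,4,1,2,3,7,8,5,6,4,0,2,3,2,5,6,7,3,4,1,2,3,7,8,4,2,3,7,5,2]))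 .none)))) (.node (.node (.node (.node .none (.node (.node (.word [0,1,2,3,4,5,6,5,4,7,3,8,7,2,3,4,5,1,0,2,1,4,7,8,2,3,7,6,4,2,3,0,1,2,0,2,4,5,4,8,7,3,4,8,7,2,3,4,5,1,2,3,7,8,7,3,1,5,4,3,2,1,7,3,2,7,4,5,6,4,5,4,3,1,2,0,1,0,4,5,4,7,8,7,6,3,4,5]) (.word [0,1,0,4,6,5,4,3,2,1,8,7,3,4,2,3,7,8,5,4,3,2,7,8,3,2,4,5,8,3,7,4,5,3,4,2,3,7,6,5,1,0,7,8,7,2,3,1,2,3,2,5,4,6,5,7,3,4,2,3,7,8,3,7,6,4])) (.node .none (.word [3,2,5,4,3,7,3,4,5,2,3,2,1,0,4,3,2,5,8,7,3,4,2,3,7,8,6,5,2,3,4,1,2,3,2,5,4,3,7,3,4,5,2,4,3])))) .none) (.node (.node .none (.node (.node .none (.node (.word [4,6,5,4,3,2,7,8,3,7,2,3,4,5,1,2,3,2,1,5,4,3,2,7,3,8,7,2,3,4,5,6,4,0,1,5,4,3,2,6,5,4,8,7,3,8,5,2,1,2,1,3,4,3,7,6,3,4,2,3,1,2,0,1,4,5,4,7,8,7,6,3,4,5,1]) (.word [2,1,0,5,7,3,4,8,7,3,2,8,7,6,5,1,2,0,3,2,5,4,3,6,7,5,2,3,4,3,1,2,4,5,6,7,3,2,8,3,7,3,4,5,3,2,3,4,5,6,8,1,2,3,7,8,4,5,3,0,2,1,5,4,3,7,6,3,4,5,3,2])))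 .none)) (.node (.node .none (.node .none (.word [3,4,3,0,1,3,5,4,7,3,2,1,4,3,8,7,3,4,2,3,7,4,5,3,1,0,3,7,8,7,4,3,2,4,3,7,3,4,1,5,7,3,2,4,3,7,8,2,3,7,6,5,2,4,3,6,1,2,4,3,5,8,7,3,2,1,4,3,7,8,7,6,3,4,5,2,0,1,0]))) .none))) (.node (.node (.node (.node .none (.node (.node .none (.word [0,1,2,4,3,7,8,7,3,4,2,1,0,3,2,1,5,4,3,2,8,7,3,2,1,4,3,7,8,5,2,3,4,0,1,2,1,6,0,1,2,3,2,1,5,4,6,5,7,3,4,2,3,7,8,4,3,7,4,5,6,5,3])) .none)) .none) (.node .none (.node .none (.word [0,2,3,2,4,5,8,7,3,2,1,8,6,7,2,3,7,4,5,6,3,4,2,1,3,2,1,0,5,6,7,3,2,8,7,3,4,2,3,7,5,1,2,3,4,3,0,1,2,6,3,2,1,0,3,7,8,7,3,0,4,5,4,7,3,2,4,3,7,8,4,3,7,3,4,5,1])))) (.node (.node .none (.node .none (.node (.node .none (.word [0,1,0,2,1,3,4,5,7,3,2,4,8,3,7,5,4,2,3,7,3,2,8,7,3,4,2,3,7,0,1,2,1,2,5,7,3,2,4,3,7,8,2,3,7,6,5,0,3,4,3,6,1,0,2,3,5,4,7,3,8,7,4,5,6,5,2,3,1,2,1,4,7,8,7,5,6,3,4,5,2,3,0,1,0]))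 .none))) .none))))

/-- A subtree. -/
def sub179 : WTree :=
  (.node (.node sub175 sub176) (.node sub177 sub178))

/-- A subtree. -/
def sub180 : WTree :=
  (.node (.node (.node (.node (.word [2,5,4,6,5,7,3,2,4,8,7,3,5,4,2,5,4,7,8,3,7,6,4,5,1,3,2,4,8,7,3,7,4,1,2,3,7,8,0,1,2,3,1,0,1,2,1,3,6,5,4,7,3,8,7,4,5,2,3,2,5,4,6,7,3,4,1,2,3,7,8,4,3,7,5,6,0,1,3,5,4,7,3,1,2,3,7,4,5,6,3]) (.node .none (.node (.node .none (.node .none (.word [2,4,3,7,3,4,2,0,1,0,2,3,5,4,3,2,1,6,7,3,4,5,4,2,3,2,4,7,8,1,2,3,7,6,4,3,0,1,4,5,4,3,7,3,4,6,2,3,4,5,4,1,2,3,2,1,0,6,1,0,5,4,3,2,1,7,3,4,2,3,7,1,2,3,4,5,6,0]))) .none))) (.node (.node .none (.word [3,4,3,0,1,2,4,5,4,3,7,3,2,4,3,5,4,1,0,3,6,7,8,7,3,2,3,2,4,5,4,3,7,6,1,2,3,4,5,2,1,0,3,4,3,0,1,2,1,3,4,6,5,7,3,2,4,8,3,7,5,4,2,3,2,1,2,3,2,4,5,7,3,8,4,2,3,7,5,6,4,3,1,2,1,0]))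 .none)) (.node .none (.node .none (.node (.node (.node .none (.word [0,1,5,7,3,2,4,3,8,7,3,8,4,2,3,7,5,1,0,2,4,3,7,3,4,3,4,6,5,4,8,7,3,2,4,5,8,7,0,1,2,3,4,5,7,8,7,3,0,1,2,3,2,7,3,4,6,5,4,3,7,2,3,1,2,1,4,7,8,2,3,7,4,2,3,0,1,2,0,1])) (.word [3,4,3,1,2,4,6,5,4,7,3,2,1,0,7,6,3,4,5,4,2,1,8,3,7,8,2,3,2,1,0,1,5,7,3,2,4,8,3,7,8,3,4,2,3,7,5,1,2,4,6,5,4,7,3,2,1,7,6,3,4,5,4,2,3,2,4,5,7,3,7,8,4,2,3,7,5,4,3,1,2,1,0])) .none)))) (.node (.node (.node (.word [1,0,2,1,3,2,4,6,7,3,2,7,4,3,1,2,0,1,3,7,8,7,3,0,2,4,5,4,6,5,4,3,7,2,3,4,5,6,2,3,4,3,1,2,1,0,3,4,6,7,3,2,1,8,7,4,3,2,7,3,4,6,5,4,3,7,2,3,1,0,2,4,7,8,3,7,4,3,1,2,1]) (.word [3,2,5,4,3,7,3,4,5,2,3,1,3,2,6,7,3,2,4,3,5,8,7,3,4,2,3,7,2,3,1,6,0,7,8,7,2,3,1,2,3,4,3,2,4,5,4,8,7,3,8,7,2,3,4,5,6,3,1,2])) (.node (.node (.word [1,2,4,6,5,4,7,3,2,1,0,7,6,3,4,5,4,2,1,8,3,7,8,2,3,2,1,2,4,3,7,3,4,1,3,2,4,8,7,3,8,5,4,3,2,7,3,7,4,5,6,5,4,2,1,3,7,8,7,3,0,1,2,4,7,3,4,8,7,5,3,4,2,3,7,8,2,3,7,1,0])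 (.node .none (.node (.node .none (.word [0,2,3,2,1,7,3,2,4,3,5,8,7,4,2,3,7,4,3,5,6,4,5,2,3,4,3,6,5,4,7,3,8,7,4,5,2,3,2,1,6,2,4,3,7,3,4,2,0,2,3,2,4,5,6,8,7,3,4,2,3,7,8,5,4,2,3,2])) .none))) (.node .none (.node (.word [1,5,7,3,2,4,3,7,8,7,3,4,2,3,7,6,5,3,0,1,6,0,2,1,0,3,5,4,6,2,3,7,3,4,5,2,3,1,2,1,0,6,5,4,3,2,7,3,2,4,8,7,3,4,5,4,1,2,5,6,8,7,3,4,1,2,3,7,8,5,6,4,0,2,3,2,5,6,7,3,4,1,2,3,7,8,4,2,3,7,5,2]) (.word [2,4,3,7,3,4,2,3,2,1,0,5,6,5,4,3,7,8,1,2,3,7,8,5,4,1,0,3,4,5,6,2,3,4,5,3,1,2,1,3,2,4,8,7,3,8,4,0,1,3,2,7,3,4,5,6,4,3,7,2,3,5,4,6,7,3,4,1,2,3,7,8,4,3,7,5,6,0,1,2,1,0,3,7,8,7,2]))))) (.node (.node (.node (.node (.word [0,1,2,1,3,4,5,7,3,2,4,8,3,7,5,4,2,3,2,4,5,4,3,6,7,1,2,3,7,4,5,6,4,2,0,1,2,1,0,3,2,1,6,7,8,7,3,2,5,4,6,5,7,3,4,2,3,7,8,3,7,4,1,6,2,1,5,7,3,2,4,3,7,8,2,3,7,5,6,5,2,3,1])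 (.word [2,4,3,7,3,4,2,0,1,5,7,3,2,4,3,8,7,3,8,4,2,3,7,5,1,0,2,1,3,4,5,4,6,8,7,3,2,8,7,3,4,5,3,7,6,3,4,2,0,5,4,3,2,1,7,3,2,4,3,7,1,2,3,4,5,0,6,3,4,3,5,4,7,3,2,1,4,3,7,8,4,3,7,6,5,2,3,2,1,0])) .none) (.node .none (.node .none (.word [3,4,3,2,3,4,5,4,6,5,4,7,8,3,7,1,2,3,4,5,6,2,3,2,5,4,7,8,3,7,4,5,6,3,1,2,0,1,0,2,7,3,2,8,7,3,4,2,3,7,0,1,2,3,7,8,7,4,3,0,2,3,4,5,4,3,6,5,8,4,2,3,7,8,1,2,3,4,5])))) (.node (.node .none (.node .none (.word [4,6,5,4,3,2,7,8,3,7,2,3,4,5,1,2,3,2,1,5,4,3,2,7,3,8,7,2,3,4,5,6,4,3,2,5,4,3,7,3,4,5,2,3,1,0,3,2,1,5,4,7,3,8,7,4,5,2,3,0,2,4,3,7,3,4,2,1,0,3,2,5,4,7,8,3,7,4,5,1,2,3,0,1]))) (.node .none (.node .none (.node (.node .none (.word [2,1,3,2,4,3,6,7,8,7,5,6,4,5,3,1,2,3,5,4,3,6,7,8,7,3,4,1,2,3,7,8,5,3,4,2,0,1,3,5,4,3,7,8,7,5,6,5,4,2,3,2,1,0,4,7,3,4,8,7,3,4,2,3,7,4,5,6,4,5,3,1]))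 .none)))))))

/-- A subtree. -/
def sub181 : WTree :=
  (.node (.node (.node .none (.node (.node (.node (.node (.node .none (.word [2,1,4,3,2,5,6,5,8,7,3,2,4,3,7,8,5,2,3,4,0,1,2,0,1,3,7,8,7,2,3,2,1,3,7,8,3,2,4,5,3,4,2,3,7,2,3,4,3,7,3,4,2,0,1,2,1,0,4,3,5,4,7,8,3,7,6,5,2,3,4,1,2,0,1,0])) .none) .none) (.node .none (.node .none (.word [1,4,5,4,3,2,1,6,7,3,8,7,4,5,4,3,2,4,5,4,3,7,8,4,1,2,3,7,2,3,4,5,0,1,2,4,3,7,3,4,2,3,4,3,1,2,3,6,5,7,3,4,5,8,7,3,7,6,5,0,1,2,0,4,5,4,3,2,1,7,8,4,3,7,4,5,6,5,4,3,2,1])))) .none)) (.node (.node (.node (.node (.node (.word [1,3,2,1,0,5,7,3,4,8,7,8,3,7,5,2,1,2,5,4,3,2,7,3,4,5,6,4,5,3,7,3,4,1,3,2,4,8,7,3,7,4,1,2,3,7,8,0,1,2,3,1,0,1,5,7,3,2,4,8,3,7,8,3,4,2,3,7,5,1,0]) (.node .none (.word [3,4,3,2,3,4,5,4,6,7,3,2,8,7,3,1,2,3,4,5,3,7,6,3,4,2,1,0,2,1,5,4,3,7,3,2,6,4,5,3,0,1,2,0,3,4,3,1,2,4,3,5,8,7,3,2,1,4,3,7,8,7,6,3,4,5,3,2,1,0])))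 .none) (.node (.node (.node .none (.word [2,4,3,7,3,4,2,1,2,5,7,3,2,4,3,5,7,8,2,3,7,6,5,1,0,2,3,2,1,2,1,3,4,3,7,6,3,4,2,3,1,2,0,1,0,5,6,7,3,2,8,7,3,4,2,3,7,5,2,1])) .none) .none)) (.node (.node (.node .none (.node .none (.word [1,5,4,3,2,7,3,2,4,8,7,3,4,5,4,0,1,6,2,3,4,5,6,7,8,5,4,3,7,1,2,3,4,5,4,2,4,7,3,8,7,4,3,0,1,2,1,3,7,8,7,4,3,2,1,5,7,3,2,8,7,3,4,2,3,7,5,0,1,2,1,0]))) (.node .none (.word [3,4,3,1,3,2,1,0,8,7,3,2,1,4,7,3,7,8,4,2,3,5,4,3,2,6,5,4,3,2,7,5,6,4,5,3,4,2,0,1,6,2,4,3,5,8,7,3,2,1,4,3,7,8,7,6,3,4,5,3,2,1,0,5,4,3,2,1,7,3,8,7,5,6,4,5,4,3,2,1]))) (.node (.node (.node .none (.word [2,4,3,7,3,4,2,0,1,0,2,1,3,4,5,7,3,2,4,8,3,7,5,4,2,3,4,5,4,3,7,3,4,6,2,3,4,5,4,1,2,3,2,1,0,2,1,5,7,3,2,4,3,7,8,2,3,7,5,6,5,2,3,0,1,3,5,4,6,5,4,3,7,8,7,4,2,3,2,0,1,0])) (.node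 .none (.word [3,4,3,1,5,4,3,2,7,3,2,4,8,7,3,4,5,4,0,1,6,2,3,4,5,6,7,8,5,4,3,7,1,2,3,4,5,4,2,4,7,3,8,7,4,3,0,1,2,1,3,7,8,7,4,3,2,1,5,7,3,2,8,7,3,4,2,3,7,5,0,1,2,1,0]))) (.word [0,1,4,5,4,3,2,8,7,3,4,5,6,1,2,3,7,8,5,6,7,3,4,2,3,7,1,2,3,4,5,4,0,1,2,4,3,6,7,3,5,4,3,7,8,2,3,7,8,6,4,5,4,3,0,4,3,2,5,8,7,3,4,2,3,7,8,6,5,2,3,4,1,2])))) (.node (.node (.node (.node .none (.word [5,4,3,2,1,8,7,3,2,4,3,7,8,5,6,4,5,4,0,1,3,2,4,7,3,4,1,2,3,7,8,4,3,7,2,3,1,0,2,3,6,7,3,4,5,6,4,3,7,5,6,8,7,3,4,1,2,3,7,8,5,6,4,2,1,5,4,3,7,3,4,5,6,5,3,2])) .none) .none) (.node (.node .none (.node (.node .none (.word [0,1,0,4,6,5,4,3,2,1,8,7,3,4,2,3,7,8,5,4,1,4,3,7,3,4,2,0,1,2,3,2,1,0,5,4,6,7,3,4,1,2,3,7,8,4,3,7,5,6,0,1,2,3,5,4,6,5,8,1,2,3,7,8,3,4,5,6,0])) .none)) (.node (.word [2,1,4,3,2,5,6,5,8,7,3,2,4,3,7,8,5,2,3,4,0,1,2,0,1,3,7,8,7,2,3,0,1,0,5,4,3,7,3,4,8,7,3,4,2,3,7,4,5,4,0,3,2,7,3,4,6,5,4,3,7,2,3,1,0,4,5,4,7,3,2,4,3,7,8,4,3,7,3,4,5])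 (.node (.node .none (.word [0,1,2,4,3,7,8,7,3,4,3,6,5,4,3,7,3,4,5,2,1,0,2,1,0,3,4,3,2,7,3,4,5,6,4,5,2,3,1,0,1,2,3,1,0,5,4,6,5,7,8,7,3,4,5,6,2,3,4,1,2])) .none)))))) (.node (.node (.node (.node (.node (.node .none (.node .none (.word [3,5,6,5,4,7,3,4,8,7,3,2,4,3,7,5,6,4,5,0,3,7,8,7,6,3,2,1,0,4,3,2,5,8,7,3,4,3,7,8,1,2,3,4,5,0,1,2,4,3]))) .none) .none) (.node .none (.node .none (.node .none (.word [0,1,5,4,3,2,6,5,4,8,7,3,8,5,2,1,2,1,3,4,3,7,6,3,4,2,3,1,2,0,1,4,5,4,7,8,7,6,3,4,5,1,3,4,3]))))) (.node .none (.node .none (.word [1,0,3,2,1,5,4,3,2,1,7,6,5,3,4,3,2,0,1,4,8,7,3,7,8,4,5,6,4,5,2,3,2,3,4,3,6,5,4,7,3,2,7,4,5,3,4,2,1,2,1,0,5,6,7,3,2,5,4,3,7,8,2,3,7,5,6,3,2])))) (.node (.node .none (.node .none (.node (.node (.node .none (.word [2,4,3,7,3,4,2,0,1,2,1,3,4,5,7,3,2,4,8,7,3,7,5,4,2,3,2,4,5,4,3,6,7,1,2,3,7,4,5,6,4,2,1,0,3,2,6,7,8,7,3,1,2,1,0,5,6,7,3,5,4,3,7,5,6,2,3,1,2,0,1,4,5,4,7,8,7,3,4,5,6,5]))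 .none) .none))) (.node (.node (.node (.node .none (.word [2,3,4,5,4,6,5,4,7,8,3,7,1,2,3,4,5,6,2,3,2,5,4,7,8,3,7,4,5,6,3,1,2,0,1,0,3,4,3,0,1,2,3,2,4,6,7,8,7,3,4,5,6,4,5,3,2,1,4,5,7,3,4,2,3,7,5,6,4,3,1,2,1,0])) .none) (.node .none (.word [3,2,1,0,5,6,5,4,3,7,8,1,2,3,7,8,5,4,1,0,3,4,5,6,2,3,4,5,3,1,2,1,3,2,4,8,7,3,8,4,0,1,3,2,7,3,4,5,6,4,3,7,2,3,5,4,6,7,3,4,1,2,3,7,8,4,3,7,5,6,0,1,2,1,0,3,7,8,7,2]))) (.node (.node (.node .none (.node .none (.word [2,4,3,7,3,4,2,0,2,1,0,3,2,4,3,5,6,7,1,2,3,4,6,5,7,3,2,8,7,3,4,2,3,7,5,1,2,3,7,8,7,4,3,2,4,3,7,3,4,2,0,1,2,3,2,4,6,7,8,7,3,4,5,6,4,5,3,2,1,4,5,7,3,4,2,3,7,5,6,4,3,1,2,1,0]))) .none) .none)))))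

/-- A subtree. -/
def sub182 : WTree :=
  (.node (.node (.node (.node .none (.node (.node (.word [5,4,3,2,1,0,6,8,7,3,2,1,8,7,3,4,5,3,4,2,3,7,8,7,3,2,4,3,5,4,3,7,8,1,2,3,7,8,6,0,1,2,3,4,5,3,4,3]) (.word [5,4,3,2,1,8,7,3,2,4,3,7,8,5,6,4,5,4,0,1,3,2,4,7,3,4,1,2,3,7,8,4,3,7,2,3,5,4,3,2,1,8,7,3,2,8,3,4,5,3,4,0,3,4,3,7,6,3,4,2,3,1,2,0,1,2,3,4,5,4,7,8,3,7,6,1,2,3,4,5,4])) (.node (.node (.node .none (.word [2,4,3,7,3,4,2,3,2,5,4,3,7,3,4,5,2,3,2,1,3,2,4,8,7,3,8,4,1,2,5,7,3,2,8,7,8,3,4,2,3,7,5,0,1,2,3])) .none) .none))) (.node (.node (.node (.node .none (.word [2,4,3,7,3,4,2,0,1,0,2,3,5,4,3,2,1,6,7,3,4,5,4,2,3,2,4,7,8,1,2,3,7,6,4,3,0,1,2,1,0,1,2,7,3,4,5,6,4,3,7,2,1,0,2,3,2,4,5,6,7,3,4,2,3,7,1,2,3,4,5,2,3,1,0])) .none) (.node .none (.node (.node .none (.word [3,4,5,6,5,4,7,3,4,8,7,3,2,4,3,7,5,6,4,5,0,3,7,8,7,6,3,2,1,0,4,3,2,5,8,7,3,4,3,7,8,1,2,3,4,5,0,1,2,3]))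 .none))) .none)) (.node (.node (.node (.node .none (.node (.node .none (.word [3,4,3,0,1,0,2,3,5,4,3,2,1,6,7,3,4,5,4,2,3,2,4,7,8,1,2,3,7,6,4,3,0,1,4,5,4,3,7,3,4,6,2,3,4,5,4,1,2,3,2,1,0,6,1,0,5,4,3,2,1,7,3,4,2,3,7,1,2,3,4,5,6,0])) .none)) (.node .none (.node (.node .none (.word [1,0,3,2,1,6,7,3,4,5,6,4,3,7,2,3,1,2,1,0,4,3,5,6,8,4,5,2,3,4,1,2,3,7,8,3,1,0,2,3,4,5,6,8,1,2,3,7,8,4,5,3,0,2,1,0,3,4,3,2,7,3,4,5,6,4,5,2,3,1])) .none))) (.node (.word [2,4,3,7,3,4,2,0,1,2,1,3,4,5,7,3,2,4,8,3,7,5,4,2,3,2,4,5,4,3,6,7,1,2,3,7,4,5,6,4,2,0,1,2,1,3,2,5,6,5,4,3,7,8,7,3,4,5,4,0,1,2,4,3,7,3,4,2,3,7,8,7,6,3,1,2,1,5,7,3,2,4,3,7,8,2,3,7,5,6,5,2,3,1]) (.node (.node .none (.node .none (.word [1,2,7,3,4,8,7,3,2,7,0,1,2,0,3,5,4,8,7,3,2,1,8,6,5,4,3,2,5,4,6,7,8,1,2,3,7,4,5,2,0,3,4,3,1,2,1,3,4,7,3,2,8,7,3,4,1,2,1,0,4,3,5,6,8,4,5,2,3,4,1,2,3,7,8,3,2,7,3,4,6,5,4,3,7,2,1,0])))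 .none))) (.node (.node (.node (.word [0,1,2,4,3,7,8,7,3,4,2,1,0,1,3,2,5,6,5,7,3,2,8,7,3,4,2,3,7,5,1,2,3,4,7,8,7,3,2,1,0,3,4,3,2,7,3,4,5,6,4,5,2,3,1,2,3,4,5,6,8,1,2,3,7,8,4,5,3,2,3,5,4,7,3,8,7,4,5,6,5,2,3,1,2,0,1]) (.node (.node .none (.word [0,1,3,5,4,7,3,2,1,4,3,8,7,3,4,2,3,7,4,5,3,1,0,3,7,8,7,3,2,1,3,2,4,8,7,3,7,4,1,2,3,7,8,0,1,2,3,5,8,7,3,2,4,3,5,4,8,7,2,3,4,5,1,2,6,0,1,2,3,4,5,6,7,3,2,8,4,3,7,8,2,3,7,4,5,6,3,1,0])) .none)) .none) (.node .none (.node .none (.node (.node .none (.word [1,2,3,5,7,3,4,5,8,7,3,7,6,5,0,1,2,0,1,3,2,5,4,3,2,6,7,5,3,4,3,0,1,2,0,1,2,5,6,8,7,3,4,1,2,3,7,8,5,6,4,2,3,4,7,8,3,7,4,2,3,1,2,1,0,3,4,3,2,3,5,4,6,5,8,7,8,1,2,3,4,5,2,3,1,2])) .none)))))) (.node (.node (.node (.node .none (.word [1,2,1,0,3,4,3,2,7,3,2,1,5,6,4,5,3,0,2,1,0,3,5,4,6,7,8,3,7,4,5,3,2,1,2,4,5,4,8,7,3,4,8,7,2,3,4,5,1,2,1,6,0,1,3,5,4,3,7,8,7,5,6,5,4,2,3,2,1,0,6,2,5,4,3,2,1,0,7,8,5,4,2,3,7,8,4,5,4,3,2,1]))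 (.node (.node (.node .none (.word [3,4,2,5,4,3,7,3,4,5,2,3,1,0,3,2,1,5,4,7,3,8,7,4,5,2,3,0,2,4,3,7,3,4,2,1,0,3,2,5,4,7,8,3,7,4,5,1,2,3,0,1])) .none) (.node (.node .none (.node .none (.word [1,2,1,4,3,5,4,6,7,3,2,1,0,1,2,3,4,5,3,7,3,4,1,3,2,5,4,3,2,1,8,7,8,5,6,4,5,3,4,3,7,3,4,2,1,3,4,3,0,2,1,3,5,6,7,2,3,7,8,5,4,3,7,5,1,2,1]))) .none))) (.node .none (.node (.node (.node .none (.node .none (.word [1,2,1,4,5,7,3,8,7,3,2,4,5,6,3,4,5,4,1,2,1,0,3,2,5,6,7,3,2,8,7,3,4,2,3,7,5,1,2,1,0,2,1,0,3,2,4,3,5,6,7,1,2,3,4,5,2,4,3,0,1,2,3,4,5,4,8,7,3,8,7,2,3,4,5,6,5,3,2,0,1,0]))) (.word [1,2,3,2,7,3,2,4,3,5,4,2,3,8,7,3,1,2,0,1,0,2,4,3,7,3,4,3,2,4,5,4,6,5,8,7,3,4,2,3,7,8,5,4,1,2,3,4,3,0,2,5,4,3,2,1,7,8,6,5,4,3,7,8,4,5,6,5,2,0,1])) .none))) (.node (.node (.node (.node .none (.node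 (.node .none (.word [0,2,1,0,3,2,4,3,5,6,7,1,2,3,4,6,5,7,3,2,8,7,3,4,2,3,7,5,1,2,3,7,8,7,3,2,4,3,7,3,4,2,0,1,0,2,1,3,6,5,4,7,3,8,7,4,5,2,3,2,6,5,4,3,2,1,7,3,8,7,4,5,6,4,5,4,3,2])) .none)) (.node .none (.node (.node (.word [2,4,3,7,3,4,2,1,2,4,6,5,4,7,3,2,1,0,7,6,3,4,5,4,2,1,8,3,7,8,2,3,2,1,0,1,5,7,3,2,4,8,3,7,8,3,4,2,3,7,5,1,2,4,6,5,4,7,3,2,1,7,6,3,4,5,4,2,3,2,4,5,7,3,7,8,4,2,3,7,5,4,3,1,2,1,0]) (.word [3,4,3,0,2,3,2,1,7,3,2,4,3,5,8,7,4,2,3,7,4,3,5,6,4,5,2,3,4,1,2,1,3,2,1,5,4,6,5,4,3,7,2,3,4,3,1,2,3,7,8,7,3,1,0,2,1,3,5,7,8,7,3,4,5,6,2,3,4,5])) .none))) .none) .none)))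

/-- A subtree. -/
def sub183 : WTree :=
  (.node (.node (.node (.node (.node .none (.node (.node .none (.word [1,2,4,6,5,4,7,3,2,1,0,7,6,3,4,5,4,2,1,8,3,7,8,2,3,2,1,0,1,5,7,3,2,4,8,3,7,8,3,4,2,3,7,5,1,2,4,6,5,4,7,3,2,1,7,6,3,4,5,4,2,3,2,4,5,7,3,7,8,4,2,3,7,5,4,3,1,2,1,0])) (.word [2,4,3,7,3,5,4,3,2,6,7,3,4,5,4,2,0,3,6,7,8,7,3,0,2,4,5,4,3,7,6,2,3,4,5,4,1,3,2,4,8,7,3,8,4,0,2,1,5,7,3,2,4,3,7,8,2,3,7,5,6,5,2,3,2,1,0,3,4,5,2,3,4,5,6,5,3,1]))) .none) (.node (.node (.node (.node .none (.node .none (.word [3,4,3,0,2,3,2,1,7,3,2,4,3,5,8,7,4,2,3,7,4,3,5,6,4,5,2,3,4,1,2,1,3,2,1,5,4,6,5,4,3,7,2,3,4,3,1,2,3,7,8,7,6,3,1,0,2,1,3,5,7,8,7,3,4,5,6,2,3,4,5]))) .none) (.node (.node .none (.node .none (.word [3,4,3,1,2,1,4,3,5,4,6,7,3,2,1,0,1,2,3,4,5,3,7,3,4,1,3,2,5,4,3,2,1,8,7,8,5,6,4,5,3,2,3,4,3,2,4,3,7,3,4,2,1,0,2,1,3,5,6,7,2,3,7,8,5,4,3,7,5,1,2,1])))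 .none)) (.node (.node .none (.node .none (.word [0,1,2,4,3,7,8,7,3,4,1,0,3,4,7,3,2,1,8,3,7,4,2,3,2,0,1,6,2,4,5,4,8,7,3,8,7,2,3,4,5,3,1,2,1,0,3,2,7,3,4,8,6,5,4,3,7,1,2,3,0,1]))) (.word [1,2,1,4,3,5,4,6,7,3,2,1,0,1,2,3,4,5,3,7,3,4,2,3,2,5,6,7,3,2,4,5,8,7,3,4,2,3,7,5,1,2,3,4,3,2,1,0,3,7,8,7,2,6,1,0,2,5,4,3,2,1,7,8,6,5,4,3,7,8,6,4,5,2,0,1])))) (.node (.node (.node (.node (.node .none (.node (.word [1,3,5,4,3,2,6,5,4,3,0,1,7,8,7,3,0,3,4,3,2,7,3,4,5,6,4,5,1,2,3,1,2,4,3,7,8,7,3,4,2,6,5,4,3,2,1,7,3,2,4,3,7,6,5,4,3,2,1,5,4,3,7,3,2,1,8,3,7,3,4,5,6,4,2,3,2,1,0]) (.word [0,1,2,4,3,7,8,7,3,4,2,1,0,1,2,3,2,7,3,2,4,3,5,4,2,3,8,7,3,1,2,0,1,0,2,1,3,2,4,8,7,3,7,4,1,2,3,7,8,0,1,2,3,1,0,2,4,6,5,4,7,3,2,1,7,6,3,4,5,4,0,2,1,3,4,7,2,3,7,4,2,3,1,2,0,1]))) .none) .none) (.node .none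 (.node (.node (.node .none (.word [3,4,3,0,1,2,1,3,5,4,6,5,8,7,3,8,4,5,2,3,4,0,1,4,3,7,3,4,2,1,0,1,4,5,4,3,7,8,4,2,3,7,5,6,4,5,4,3,2,1,0])) .none) .none))) (.node (.node .none (.node (.word [1,2,5,7,3,2,4,3,5,7,8,2,3,7,6,5,0,3,4,3,1,0,2,3,5,4,7,3,8,7,4,5,6,5,2,3,1,2,1,0,2,1,3,7,8,3,2,4,5,3,4,2,3,7,2,3,2,1,3,2,5,6,5,7,3,2,4,8,7,3,4,2,3,7,5,4,5,6,8,7,3,2,5,4,3,7,8,5,6,4,5,2,3,2]) (.word [3,4,3,1,2,5,7,3,2,4,3,5,7,8,2,3,7,6,5,1,0,2,3,2,1,2,1,3,4,3,7,6,3,4,2,3,1,2,0,1,0,5,6,7,3,2,8,7,3,4,2,3,7,5,2,1]))) .none))) (.node (.node (.node (.node (.node .none (.node (.node .none (.word [3,2,5,4,3,7,3,4,5,2,3,2,1,0,4,3,2,5,8,7,3,4,2,3,7,8,6,5,2,3,4,3,2,4,8,7,3,8,4,1,2,5,7,3,2,8,7,8,3,4,2,3,7,5,0,1,2,3])) .none)) .none) (.node .none (.node (.node (.node .none (.word [3,4,3,0,1,2,1,3,5,4,6,7,8,2,3,7,4,5,1,2,1,3,7,8,7,3,5,4,3,2,1,0,8,6,5,4,3,7,8,5,3,2,1,2,3,5,6,5,7,3,8,7,4,3,7,5,0,1,2,0,1,6,3,4,3,0,2,1,0,3,5,4,6,7,8,2,3,7,4,5,6,3,2,1]))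 .none) (.word [1,2,1,0,3,4,7,3,2,1,8,7,4,0,3,5,4,8,7,3,2,1,8,6,5,4,3,2,0,1,2,7,3,4,6,5,4,3,7,4,3,7,8,7,3,4,2,1,0,5,4,3,7,3,4,8,7,3,4,2,3,7,4,5,4,0,6,1,0,4,5,4,7,3,2,4,3,7,8,4,3,7,3,4,5])))) (.node (.node (.node (.node (.node .none (.word [0,1,0,2,1,3,4,5,7,3,2,4,8,3,7,5,4,2,3,2,1,0,1,2,4,3,7,8,7,3,4,2,1,0,1,4,5,4,3,2,1,7,3,4,5,8,7,6,5,4,3,2,6,1,0,4,5,4,3,7,8,4,2,3,7,2,3,4,5,1])) .none) .none) (.word [2,4,3,7,3,4,2,1,3,5,4,3,2,6,5,4,3,0,1,7,8,7,3,0,3,4,3,2,7,3,4,5,6,4,5,1,2,3,1,2,4,3,7,8,7,3,4,2,6,5,4,3,2,1,7,3,2,4,3,7,6,5,4,3,2,1,5,4,3,7,3,2,1,8,3,7,3,4,5,6,4,2,3,2,1,0])) .none)) (.node (.node (.node (.node .none (.node (.node .none (.word [1,2,3,2,6,7,3,4,5,6,8,7,4,3,7,1,2,1,0,3,4,3,2,7,8,7,3,0,1,2,0,1,3,5,4,3,7,8,7,5,6,5,4,2,3,2,1,0,2,4,5,6,7,8,3,7,2,3,4,5,6,3,1]))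 .none)) (.node .none (.node (.node .none (.word [1,2,3,2,7,3,2,4,3,5,4,2,3,8,7,3,1,2,0,1,0,2,4,3,7,3,4,3,4,6,5,8,7,3,2,4,3,7,8,0,1,2,3,4,5,1,0,3,7,8,7,6,3,1,2,1,4,7,8,3,7,4,2,3,0,1,2,0,1])) .none))) (.node (.node (.node .none (.word [1,3,2,5,6,7,3,2,8,7,3,4,2,3,7,5,1,2,0,1,0,2,3,4,5,4,7,8,3,7,2,3,4,5,6,7,3,2,4,8,3,7,8,3,4,2,3,7,5,0,3,2,7,8,7,3,1,2,3,7,3,2,4,3,7,8,2,3,7,1,2,3,0,1])) .none) .none)) (.node (.node .none (.node (.word [3,2,5,4,3,7,3,4,5,2,3,1,2,1,5,7,3,2,4,3,7,8,2,3,7,6,5,2,4,3,0,1,2,5,7,3,8,7,8,4,3,7,5,6,0,1,2,3,6,5,4,3,2,1,7,3,2,7,4,5,6,4,5,4,3,1,2,0,1,0]) (.word [0,1,2,4,5,4,6,5,4,7,3,2,4,8,7,3,4,5,4,2,3,6,2,5,4,3,2,1,0,8,7,3,4,2,3,7,8,5,6,4,3,2,1,2,4,3,6,7,3,5,4,3,7,8,2,3,7,8,6,4,5,4,3,1,6,8,7,3,2,8,0,1,2,5,4,3,7,3,2,1,4,3,7,8,4,2,3,7,4,5,6,5,1,0])))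 .none))))

/-- A subtree. -/
def sub184 : WTree :=
  (.node (.node sub180 sub181) (.node sub182 sub183))

/-- Points. -/
def levY3pts0 : List ℕ := [3,6,8,17,19,36,42,43,48,51,65,66,83,89,92,96,101,103,109,112,132,135,147,148,167,178,181,186,192,196,210,212,236,237,248,257,278,279,285,289,304,309,323,326,332,334,351,354,357,367,376,383,397,448,456,461,463,467,469,475,476,482,490,491,504,520,521,522,528,534,536,546,563,565,584,588,601,609,612,613,616,626,632,647,664,672,717,727,737,739,749,761,783,786,801,805,817,821,823,826,840,844,858,879,883,891,895,920,927,933,938,939,945,947,950,957,979,980,984,997,1004,1049,1056,1060,1071,1095,1096,1124,1129,1131,1147,1160,1169,1173,1175,1197,1204,1215,1221,1222,1224,1251,1256,1260,1264,1285,1290,1295,1296,1308,1309,1325,1348,1350,1352,1364,1373,1445,1514,1532,1537,1542,1568,1578,1609,1613,1649,1660,1707,1714,1721,1743,1757,1764,1790,1800,1821,1849,1858,1867,1901,1909,1926,1932,1933,1938,1946,1947,1976,2000,2082,2123,2136,2143,2149,2152,2161,2184,2186,2196]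

/-- Points. -/
def levY3pts1 : List ℕ := [2201,2217,2218,2229,2258,2261,2276,2286,2325,2330,2347,2350,2374,2406,2422,2433,2434,2436,2439,2444,2445,2452,2463,2475,2479,2481,2486,2491,2586,2591,2599,2601,2604,2615,2621,2622,2623,2663,2668,2680,2693,2713,2714,2721,2732,2742,2744,2753,2756,2770,2772,2792,2795,2818,2833,2844,2850,2855,2870,2871,2872,2879,2881,2885,2886,2887,2892,2899,2941,2954,2978,3000,3047,3051,3059,3074,3096,3099,3115,3117,3119,3128,3130,3134,3141,3151,3152,3169,3210,3236,3238,3243,3254,3257,3280,3285,3287,3289,3308,3323,3333,3334,3353,3364,3368,3396,3401,3407,3416,3420,3421,3459,3473,3479,3484,3488,3492,3495,3499,3505]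

/-- A level. -/
def levY3 : Level :=
  ⟨1849, (.node (.node sub169 sub174) (.node sub179 sub184)), levY3pts0 ++ levY3pts1⟩

/-- A subtree. -/
def sub185 : WTree :=
  (.node .none (.node .none (.node .none (.node .none (.node .none (.node .none (.node .none (.word [2,4,6,5,4,8,7,3,4,8,7,2,3,4,5,1,2,3,7,8,7,3,1,2,1,5,4,3,2,7,8,4,3,7,8,4,5,6,4,2]))))))))

/-- A subtree. -/
def sub186 : WTree :=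
  (.node (.node sub185 .none) .none)

/-- A subtree. -/
def sub187 : WTree :=
  (.node (.node .none (.node .none (.node .none (.node (.node .none (.word [8,7,3,2,1,4,3,2,5,6,7,3,4,3,7,8,5,2,3,4,0,1,2,1,6,3,2,7,3,4,6,5,4,3,7,2,3,1,2,1,0,4,3,2,5,8,7,3,4,3,7,6,5,2,3,4,1,2,3,7,8,2,4,3,7,3,4,2])) .none)))) .none)

/-- A subtree. -/
def sub188 : WTree :=
  (.node (.node (.node (.node .none (.node .none (.word [2,6,5,7,3,2,4,3,7,8,2,3,7,6,5,1,0,2,3,2,1,2,1,3,4,3,7,6,3,4,2,3,1,2,0,1,0,5,6,7,3,2,8,7,3,4,2,3,7,5,6,2]))) .none) .none) .none)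

/-- A subtree. -/
def sub189 : WTree :=
  (.node .none (.node .none (.node .none (.node (.node (.node (.node .none (.node .none (.word []))) .none) .none) .none))))

/-- A subtree. -/
def sub190 : WTree :=
  (.node (.node sub187 .none) (.node sub188 sub189))

/-- A subtree. -/
def sub191 : WTree :=
  (.node (.node .none (.node .none (.node .none (.node (.node (.node .none (.node .none (.word [2,4,3,7,3,4,2]))) .none) .none)))) .none)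

/-- A subtree. -/
def sub192 : WTree :=
  (.node (.node (.node .none (.node .none (.node (.node (.node .none (.word [3,4,3,1,2,3,4,5,4,6,7,3,4,8,7,1,2,3,4,5,4,1,3,7,8,7,4,3,0,1,2,5,7,3,8,7,8,4,3,7,5,6,0,1,2,3,0,1,4,5,4,3,8,7,3,4,2,3,7,8,5,6,5,1,2,3])) .none) .none))) .none) .none)

/-- A subtree. -/
def sub193 : WTree :=
  (.node (.node .none (.node .none (.node (.node .none (.node .none (.node (.node .none (.word [4,6,5,4,3,2,7,8,3,7,2,3,4,5,1,2,3,2,1,5,4,3,2,7,3,8,7,2,3,4,5,6,4])) .none))) .none))) .none)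

/-- A subtree. -/
def sub194 : WTree :=
  (.node (.node sub191 sub192) (.node sub193 .none))

/-- A subtree. -/
def sub195 : WTree :=
  (.node (.node .none (.node (.node (.node .none (.node .none (.word [5,4,3,2,1,0,6,8,7,3,2,1,8,7,3,4,5,3,4,2,3,7,8,7,3,2,4,3,5,4,3,7,8,1,2,3,7,8,6,0,1,2,3,4,5]))) .none) .none)) .none)

/-- A subtree. -/
def sub196 : WTree :=
  (.node (.node .none (.node .none (.node .none (.node .none (.node .none (.word [0,2,3,2,4,5,8,7,3,2,1,8,6,7,2,3,7,4,5,6,3,4,2,1,0,2,1,3,4,5,4,6,8,7,3,2,8,7,3,4,5,3,7,6,3,4,3,2,4,5,7,3,8,4,2,3,7,5,4,3,1,2,0,1,2,4,6,5,4,7,3,2,1,7,6,3,4,5,4,2,3,2,4,5,7,3,8,4,2,3,7,5,4,3,1,2,1,0])))))) .none)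

/-- A subtree. -/
def sub197 : WTree :=
  (.node .none (.node sub195 sub196))

/-- Points. -/
def levY4pts0 : List ℕ := [390,738,807,1007,1225,2032,2917,3198,3297]

/-- A level. -/
def levY4 : Level :=
  ⟨3198, (.node (.node sub186 sub190) (.node sub194 sub197)), levY4pts0⟩

/-- A subtree. -/
def sub198 : WTree :=
  (.node (.node .none (.node .none (.node .none (.node (.node (.node .none (.word [1,3,5,4,3,2,6,5,4,3,0,1,7,8,7,3,0,3,4,3,2,7,3,4,5,6,4,5,1,2,3,0,1,4,5,7,3,2,4,3,7,8,4,2,3,7,3,4,5,1,2,3,6,2,1,0,2,3,4,5,6,8,1,2,3,7,8,4,5,3,2,3,5,4,7,3,8,7,4,5,6,5,2,3,1,2,0])) .none) .none)))) (.node (.node .none (.word [1,2,3,2,7,3,2,4,3,5,4,2,3,8,7,3,1,2,0,1,0,2,5,4,6,7,3,8,7,4,5,2,4,5,3,7,8,4,2,3,7,5,6,4,5,2,0,1,0,2,1,3,7,8,3,2,4,5,3,4,2,3,7,2,3,2,1])) .none))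

/-- A subtree. -/
def sub199 : WTree :=
  (.node .none (.node .none sub198))

/-- A subtree. -/
def sub200 : WTree :=
  (.node .none (.node (.node .none (.word [8,7,3,2,1,4,3,2,5,6,7,3,4,3,7,8,5,2,3,4,0,1,2,1,6,3,2,7,3,4,6,5,4,3,7,2,3,1,2,1,0,4,3,2,5,8,7,3,4,3,7,6,5,2,3,4,1,2,3,7,8])) .none))

/-- A subtree. -/
def sub201 : WTree :=
  (.node (.node .none sub200) .none)

/-- A subtree. -/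
def sub202 : WTree :=
  (.node .none (.node (.node (.node .none (.node .none (.node .none (.node .none (.word []))))) .none) .none))

/-- A subtree. -/
def sub203 : WTree :=
  (.node (.node .none sub202) .none)

/-- Points. -/
def levY5pts0 : List ℕ := [89,92,1260,1947]

/-- A level. -/
def levY5 : Level :=
  ⟨1947, (.node (.node sub199 .none) (.node sub201 sub203)), levY5pts0⟩

/-- The levels. -/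
def levY : List Level := [levY0,levY1,levY2,levY3,levY4,levY5]

/-- The certificate. -/
def cert : AutCert.Cert where
  levX := levX
  levY := levY
  xWord := [7,6,1,2,0,2,1,7,3,8,5,4,3,7,6,2,0,3]
  hWord := [4,3,7,8,3,4,1,2,3,7,4,3,2,1,0,4,3,7,2,3,4,1,0,1,6,5,4,7,3,2,4,3,7,8,7,3,4,1,2,3,7,4,5,6,1,3,0,1,2,3,4,3,2,0,1,6,5,7,3,2,4,3,7,8,7,3,4,2,3,7,5,6,5,1,0,2,3,4,3,6,5,4,3,7,3,2,4,3,5,6,2,4,3,6,7,3,8,7,4,1,7,3,2,4,5,3,7,8,4,3,7,5,6,4,3,2,1,0,3,8,0,1,2,3,4,6,5,4,3,7,8,3,4,5,6,5,4,2,3,2,1,0]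
  sWord := [7,2,3,4,5,6,5,4,0,8,3,5,4,3,7,8,3,4,5,1,2,4,3,2,5,4,7,3,1,2,3,7,8,4,3,7,5,6,4,1,8,0,1,2,1,6,7,3,2,4,3,7,3,1,2,0,1,2,6,5,4,7,8,3,7,3,4,5,3,4,2,3,2,1,0,1,3,2,6,5,4,3,7,8,7,3,4,5,6,2,3,1,0,4,3,7,5,4,2,3,7,4,5,3,4]
  xPow := [[],
  [7,6,1,2,0,2,1,7,3,8,5,4,3,7,6,2,0,3],
  [6,5,3,4,1,2,3,7,0,1,2,1,2,3,7,3,8,7,5,4,2,3,7,6,2,3],
  [8,6,4,5,3,4,2,3,7,2,3,1,2,1,0,6,7,3,8,1,2,3,7,8,4,3,7,2,0,3],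
  [3,7,8,6,4,5,3,4,2,3,7,2,3,0,1,2,1,2,3,4,5,3,2,4,3,8,7,3,4,1,2,1,0,3,2,1,6,5,4,3,7,8,5,4,2,3,7,6,1,0,1,2,1,6,7,3,2,4,3,7,3,1,2,0,2,1,3,6,5,4,3,7,2,3,4,5,6,4,5,1,2,4,3,2,0,2,1,5,4,3,6,7,3,8,7,4,2,5,4,3,7,2,3,4,1,0,1,2,3,4,5,6,5,4,2,3,2,1,0,1,4,3,2,7,3,4,5,2,4,7,8,3,7,6,3,4,5,1,2,0,2,3,4,3,2,1,5,4,3,2,6,5,4,3,7,8,7,3,4,5,6,2,3,4,5,1,5,0,2,1,7,3,2,8,4,3,7,8,3,4,2,3,7,5,1,2,1,0,2,1,6,5,4,3,2,8,7,3,4,5,6,4,5,7,3,2,4,3,7,8,4,5,3,4,0,1,2,0,1,0,1,2,3,4,6,5,7,3,4,8,7,3,5,4,2,3,7,1,4,7,8,3,7,6,3,4,2,6,5,3,4,2,3,7,3,4,5,6,2,1,0,1,5,4,3,2,6,5,4,3,7,8,7,3,4,5,6,2,3,4,5,1,0,1,2,6,5,4,3,7,3,2,4,3,5,6,2,4,3,6,7,3,8,7,4,1,7,3,2,4,5,3,7,8,4,3,7,5,6,4,3,2,1,0],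
  [3,4,1,2,3,7,5,6,3,1,2,1,0,2,3,7,8,1,2,3,7,5,1,0,1,2,1,3,4,3,5,7,3,2,1,4,3,7,8,6,5,4,2,3,7,1,2,0,2,1,3,7,3,4,5,3,4,2,3,7,5,6,5,1,2,3,0,3,8,0,1,2,1,6,7,3,2,4,3,7,3,1,2,0,1,2,6,5,4,7,8,3,7,6,3,4,5,3,4,2,3,2,1,2,3,5,4,3,2,1,2,1,4,3,5,4,7,8,3,7,3,4,5,6,2,3,4,5,1,2,0,2,3,6,5,4,7,3,2,1,8,7,3,4,2,3,7,5,6,0,8,5,4,3,7,8,3,4,5,0,6,5,7,3,2,4,3,7,8,1,2,3,7,4,5,6,3,2,1,2,3,4,5,4,3,2,1,0],
  [8,4,2,3,7,5,6,1,8,3,0,4,3,7,3,4,1,0,1,2,1,3,4,3,5,7,3,2,1,4,3,7,8,6,5,4,2,3,7,1,2,1,2,3,4,5,8,6,5,4,3,2,0,2,1,0,3,2,1,6,5,7,3,4,2,3,7,8,6,5,4,3,2,1,7,3,8,7,5,2,3,0,1,2,0,5,4,3,5,4,7,3,4,5,2,3,4,0,2,1,5,4,6,5,7,3,2,4,3,7,8,7,5,3,7,2,3,4,1,0,5,4,3,7,8,3,4,5,0,1,2,3,4,7,3,8,1,2,3,7,3,4,3,2,1,0,4,3,5,4,7,3,2,4,5,7,3,4,0,1,2,5,8,7,3,2,4,3,5,6,5,4,2,3,7,2,5,1,0,2,6,7,3,4,5,8,7,3,4,8,2,3,7,1,2,3,4,5,6,8,5,4,3,2,1,4,3,7,8,3,4,0,2,3,4,3,2,1,0,2,3,7,8,4,5,3,4,2,3,7,6,3,2,1,4,3,2,6,5,4,7,8,3,7,4,5,6,2,3,4,1],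
  [8,7,6,4,5,2,3,4,2,1,5,4,3,7,8,3,4,5,4,3,7,3,4,1,2,1,0,3,2,1,6,5,4,2,3,7,8,5,4,2,3,7,6,2,3,4,5,6,5,4,2,3,2,1,0,1,2,3,4,3,6,5,7,3,2,4,3,7,8,7,5,6,4,3,1,2,1,0,5,0,2,1,7,3,2,8,4,3,7,8,3,4,2,3,7,5,1,2,0,2,3,4,3,2,1,0,3,2,1,4,3,5,7,3,2,1,4,3,7,5,4,0,1,2,1,6,5,7,3,2,1,4,3,2,8,7,3,4,5,6,2,3,0,1,2,0,1,0,8,2,3,7,8,4,5,3,4,2,3,7,6,3,2,1,2,4,3,2,5,4,7,8,7,3,4,1,2,3,7,4,5,6,4,2,1,0,3,2,1,6,5,4,3,7,8,5,4,2,3,7,6,0,1,0,2,1,0,7,5,4,3,7,8,2,3,7,6,4,0,1,2,3,4,6,5,7,3,4,8,7,3,5,4,2,3,7,1,4,7,8,3,7,6,3,4,2,6,5,3,4,2,3,7,3,4,5,6,2,1,0,1,5,4,3,2,6,5,4,3,7,8,7,3,4,5,6,2,3,4,5,1,0,1,2,6,5,4,3,7,3,2,4,3,5,6,2,4,3,6,7,3,8,7,4,1,7,3,2,4,5,3,7,8,4,3,7,5,6,4,3,2,1,0],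
  [8,7,3,4,5,6,5,3,4,0,5,1,2,1,0,3,2,1,6,5,4,3,7,8,5,4,2,3,7,6,0,1,6,5,8,3,4,2,3,7,3,4,5,6,2,0,1,2,1,6,7,3,2,4,3,7,3,1,2,0,1,2,6,5,4,7,8,3,7,6,3,4,5,3,4,2,3,2,1,0,1,4,3,2,7,3,4,6,5,7,3,2,4,3,7,8,3,7,4,5,6,3,1,2,1,0,2,3,4,3,2,3,5,4,3,8,7,3,4,5,1,0,5,6,5,7,3,2,8,7,3,4,5,6,1,2,3,0,1,2,1,2,6,7,3,2,8,4,3,7,8,3,4,2,3,7,4,1,2,3,4,5,7,3,2,8,7,3,4,3,7,8,2,3,7,5,4,3,2,5,4,3,2,6,5,4,3,7,8,7,3,4,5,6,2,3,4,5,1,2,3,4,3,2,1,5,4,3,2,6,5,4,3,7,8,7,3,4,5,6,2,3,4,5,1,3,8,0,2,1,0,3,2,5,7,8,3,7,0,2,1,4,7,3,7,8,2,3,7,6,4,5,3,0,3,4,3,5,4,8,7,3,2,4,5,3,4,1,2,1,0,4,5,7,3,4,1,2,3,7,8,5,3,4,1,2,3,1,0,1,2,3,4,6,5,7,3,4,8,7,3,5,4,2,3,7,1,4,7,8,3,7,6,3,4,2,6,5,3,4,2,3,7,3,4,5,6,2,1,0,1,5,4,3,2,6,5,4,3,7,8,7,3,4,5,6,2,3,4,5,1,0,1,2,6,5,4,3,7,3,2,4,3,5,6,2,4,3,6,7,3,8,7,4,1,7,3,2,4,5,3,7,8,4,3,7,5,6,4,3,2,1,0],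
  [7,1,2,3,4,5,6,5,3,4,1,0,8,1,2,4,3,2,5,4,7,3,1,2,3,7,8,4,3,7,5,6,4,1,0,7,3,4,8,7,3,2,3,1,2,0,4,7,3,2,4,3,8,7,3,4,8,2,3,7,6,3,5,4,3,2,1,2,1,6,5,4,7,8,3,7,2,3,4,5,3,4,3,1,2,1,0,2,3,7,8,1,2,3,7,5,0,1,0,2,1,4,3,5,7,3,2,1,4,3,7,5,4,0,1,2,1,3,5,4,3,8,7,3,4,5,4,3,7,5,4,2,3,7,4,5,3,4,0,1,2,1,6,7,3,2,4,3,7,3,1,2,0,1,2,6,5,4,7,3,7,8,7,3,4,5,3,4,3,2,1,0,1,0,6,5,4,3,2,1,7,3,4,7,2,3,4,5,6,0,1,0,5,4,3,7,3,4,5,8,1,6,5,4,7,3,2,1,4,3,7,8,7,3,4,2,3,7,4,5,6,1,5,4,3,8,7,3,4,1,2,1,0,3,2,1,6,5,4,3,7,8,2,3,7,5,6,5,0,1,0,1,2,3,4,6,5,7,3,4,8,7,3,5,4,2,3,7,1,4,7,8,3,7,6,3,4,2,6,5,3,4,2,3,7,3,4,5,6,2,1,0,1,5,4,3,2,6,5,4,3,7,8,7,3,4,5,6,2,3,4,5,1,0,1,2,6,5,4,3,7,3,2,4,3,5,6,2,4,3,6,7,3,8,7,4,1,7,3,2,4,5,3,7,8,4,3,7,5,6,4,3,2,1,0],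
  [8,2,3,7,1,2,3,4,5,6,5,3,4,0,7,3,8,7,2,3,0,1,2,0,4,3,7,5,4,2,3,7,8,4,5,3,4,1,2,1,0,4,5,7,3,4,1,2,3,7,5,3,4,1,2,0,1,3,8,5,0,2,1,7,3,2,1,4,3,7,8,6,5,2,3,2,1,2,6,5,4,3,7,8,3,4,5,6,3,4,3,2,6,5,7,3,4,8,1,2,3,7,4,5,6,4,3,1,2,1,0,2,3,4,3,2,1,5,4,3,2,6,5,4,3,7,8,7,3,4,5,6,2,3,4,5,1,5,0,2,1,7,3,2,8,4,3,7,8,3,4,2,3,7,5,1,2,1,0,2,1,6,5,4,3,2,8,7,3,4,5,6,4,5,7,3,2,4,3,7,8,4,5,3,4,0,1,2,0,5,4,3,2,6,5,4,3,7,8,7,3,4,5,6,2,3,4,5,1,5,4,3,7,3,4,5,0,2,1,3,4,5,7,3,2,4,3,7,8,6,3,7,3,4,2,3,7,6,5,1,2,0,1,3,5,4,3,2,6,5,4,3,7,4,5,6,2,3,4,1,5,0,2,1,0,3,2,7,8,3,7,8,0,2,1,0,3,2,5,4,7,8,3,7,1,2,1,6,5,4,7,8,3,7,4,5,2,3,4,3,1,2,0,1,3,4,6,5,4,3,2,7,3,4,1,2,3,7,3,4,5,6,3,4],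
  [7,8,3,7,2,3,4,5,6,5,3,4,0,4,3,8,7,3,4,1,0,1,2,3,4,5,8,6,5,4,2,3,2,1],
  [7,2,3,4,5,6,5,1,0,8,3,0,1,3,2,6,5,4,3,7,8,7,3,4,5,6,2,3,1,0]]
  yPow := [[],
  [4,3,7,8,3,4,1,2,3,7,4,3,2,1,0,4,3,7,2,3,4,1,0,1,6,5,4,7,3,2,4,3,7,8,7,3,4,1,2,3,7,4,5,6,1,3,0,1,2,3,4,3,2,0,1,6,5,7,3,2,4,3,7,8,7,3,4,2,3,7,5,6,5,1,0,2,3,4,3,6,5,4,3,7,3,2,4,3,5,6,2,4,3,6,7,3,8,7,4,1,7,3,2,4,5,3,7,8,4,3,7,5,6,4,3,2,1,0,3,8,0,1,2,3,4,6,5,4,3,7,8,3,4,5,6,5,4,2,3,2,1,0],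
  [6,5,4,0,2,3,7,8,1,2,3,7,5,1,0,3,1,2,4,3,2,5,4,7,8,3,4,1,2,3,7,4,5,6,4,1,4,3,7,5,4,2,3,7,8,4,5,3,4,1,2,1,0,4,5,7,3,4,1,2,3,7,5,3,4,1,2,0,1,2,3,4,3,2,0,2,1,5,6,7,3,2,4,3,7,3,6,8,7,3,4,2,3,7,5,4,3,1,2,1,3,4,7,3,8,7,3,2,1,0,3,7,6,4,6,5,4,3,8,7,3,4,5,6,5,2,1,2,3,4,5,6,5,4,2,3,2,1,2,5,6,5,4,3,7,8,3,4,5,6,4,6,7,3,0,1,2,3,7,8,3,7,4,3,1,0,1,5,4,3,2,6,5,4,3,7,8,7,3,4,5,6,2,3,4,5,1,0,1,2,5,8,7,3,2,4,3,5,6,5,4,2,3,7,2,5,1,0,2,3,4,3,2,0,1,5,2,7,3,2,4,5,6,5,3,4,2,3,7,8,5,2,1,0],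
  [4,5,6,5,3,4,0,1,0,8],
  [7,8,5,4,3,7,5,4,2,3,0,1,2,1,4,3,7,3,4,3,1,6,5,4,7,3,2,4,3,7,8,7,3,4,1,2,3,7,4,5,6,1,0,1,0,6,5,4,3,2,7,4,3,7,1,2,3,4,5,6,0,1,0,4,3,5,4,8,7,3,2,4,5,7,3,6,5,7,3,2,4,3,7,8,4,5,6,4,2,0,1,2,1,6,7,3,2,4,3,7,3,1,2,0,1,2,6,5,4,7,8,3,7,6,3,4,5,3,4,3,2,1,6,5,4,7,3,4,8,7,6,5,4,3,7,8,2,3,7,4,5,6,4,3,7,5,4,7,3,2,4,5,7,3,4,0,2,1,5,6,7,3,2,4,3,7,3,6,8,7,3,4,2,3,7,5,4,3,1,2,0,5,4,3,7,3,4,5,2,3,4,3,2,0,1,0,2,1,6,5,4,3,2,8,7,3,4,5,6,1,2,0,4,3,7,3,4,0,2,1,4,5,7,3,2,4,3,7,8,4,5,2,3,4,0,1,2,1],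
  [6,3,4,0,2,3,7,8,1,2,3,7,5,1,0,5,1,2,4,3,2,5,4,7,8,7,3,4,1,2,3,7,4,5,6,4,1,4,3,7,5,4,2,3,7,8,4,5,3,4,1,2,1,0,4,5,7,3,4,1,2,3,7,5,3,4,1,2,0,1,2,3,4,3,2,0,2,1,5,6,7,3,2,4,3,7,3,6,8,7,3,4,2,3,7,5,4,3,1,2,0,1,5,4,3,2,6,5,4,3,7,8,7,3,4,5,6,2,3,4,5,1,2,3,4,3,2,0,1,2,3,2,1,4,6,5,7,3,4,8,2,3,7,5,6,3,4,3,1,6,7,3,2,4,3,7,3,1,2,0,1,2,6,5,4,7,8,3,7,6,3,4,5,3,4,2,3,2,1,0,1,2,3,4,7,3,8,1,2,3,7,3,4,2,4,6,5,7,3,4,8,7,3,5,4,2,3,7,1,4,7,8,3,7,6,3,4,2,6,5,3,4,2,3,7,3,4,5,6,2,1,0,1,5,4,3,2,6,5,4,3,7,8,7,3,4,5,6,2,3,4,5,1,0,1,2,6,5,4,3,7,3,2,4,3,5,6,2,4,3,6,7,3,8,7,4,1,7,3,2,4,5,3,7,8,4,3,7,5,6,4,3,2,1,0]]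
  ksX := [0,11,9,1,7,5]
  ksY := [0,3,4,5,1,2]
  xb := 594
  yb := 1426
  genWords := [[0,1,0,1,1,2,2,0,1,0,1,1,2,0,2,0,2,0,2,0,2,0,2,0,2,1,1,0,0,2,0,0,1,0],
  [1,1,0,0,1,2,2,0,1,0,1,1,2,0,2,0,2,0,2,0,2,0,2,0,2,1,1,0,0,2,0,0,1],
  [2,2,0,1,1,2,2,0,1,1,1,2,2,0,2,0,2,0,2,0,2,0,2,0,2,0,2,2,1,1,1,0,2,1,0,2],
  [2,2,0,1,0,0,2,0,0,1,1,2,0,2,0,2,0,2,0,2,0,2,0,2,0,1,0,0,2,2,0,2,1,1],
  [1,0,0,2,0,2,0,0,2,0,1,2,2,0,2,2,0,0,2,2,1,0,2,2,0,0,0,0,0,0,2,0,1,0],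
  [1,1,2,0,1,1,2,2,0,2,0,2,0,2,0,2,0,2,0,2,0,2,2,0,1,0,0,2,2,1],
  [2,2,0,2,0,0,0,2,2,0,1,2,0,2,0,2,0,2,0,2,0,2,0,2,1,0,2,0,2,2,1,0,2],
  [1,1,0,1,2,2,0,1,0,1,1,2,0,2,0,2,0,2,0,2,0,2,0,2,1,1,0,0,2,0,1],
  [2,0,1,1,2,0,0,0,2,2,0,2,0,2,0,2,0,2,0,2,0,2,0,2,2,0,0,0,2,2,1,0,2,2]]
  tauWords := [[7,3,4,5,6,5,3,4,0,1,4,3,2,6,5,4,3,7,4,5,6,1,2,3,4,0,1,2,3,4,3,2,0,1,2,6,5,4,3,7,3,4,5,6,1,3,4,6,5,7,3,4,8,2,3,7,5,6,3,4,3,2,1,0,3,5,4,3,7,8,3,4,5,0,1,2,3,4,6,5,7,3,8,4,1,2,3,7,5,6,3,4,3,2,1,0,1,5,4,3,2,6,5,4,3,7,8,7,3,4,5,6,2,3,4,5,1,2,3,4,3,2,1,5,4,3,2,6,5,4,3,7,8,7,3,4,5,6,2,3,4,5,1,3,8,0,2,1,0,3,2,5,7,8,3,7,0,2,1,4,7,3,7,8,2,3,7,6,4,5,3,0,3,4,3,5,4,8,7,3,2,4,5,3,4,1,2,1,0,4,5,7,3,4,1,2,3,7,8,5,3,4,1,2,3,1,0,1,2,5,8,7,3,2,4,3,5,6,5,4,2,3,7,2,5,1,0,2,3,4,3,2,0,1,5,2,7,3,2,4,5,6,5,3,4,2,3,7,8,5,2,1,0],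
  [4,3,7,3,4,8,3,1,2,1,0,3,4,3,7,3,2,1,8,5,4,3,7,8,2,3,7,5,6,1,2,1,2,3,4,5,6,5,4,3,2,1,2,3,5,4,3,2,1,2,1,6,5,4,7,8,3,7,2,3,4,5,3,4,3,1,2,1,2,3,4,3,2,1,5,4,3,2,6,5,4,3,7,8,7,3,4,5,6,2,3,4,5,1,0,1,3,2,6,5,4,3,7,8,7,3,4,5,6,2,3,2,3,4,6,5,7,3,4,8,7,3,5,4,2,3,7,1,4,7,8,3,7,6,3,4,2,6,5,3,4,2,3,7,3,4,5,6,2,1,0,1,5,4,3,2,6,5,4,3,7,8,7,3,4,5,6,2,3,4,5,1,0,1,2,6,5,4,3,7,3,2,4,3,5,6,2,4,3,6,7,3,8,7,4,1,7,3,2,4,5,3,7,8,4,3,7,5,6,4,3,2,1,0],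
  [4,3,7,6,5,3,4,2,1,4,3,8,7,3,4,1,2,1,4,3,5,4,7,8,2,3,7,4,5,6,4,1,2,1,0,2,1,3,2,3,7,8,4,3,7,2,6,7,3,4,5,8,3,7,1,2,0,1,6,5,7,3,2,4,3,7,8,7,3,4,2,3,7,5,6,5,1,0,2,1,4,7,8,3,7,6,4,2,1,6,5,8,3,4,2,3,7,3,4,5,6,2,1,2,1,5,4,3,6,7,3,8,7,4,2,5,4,3,7,2,3,4,1,0,1,2,3,4,5,6,5,4,2,3,2,1,0,1,4,3,2,7,3,4,5,2,4,7,8,3,7,6,3,4,5,1,2,0,1,5,4,3,2,6,5,4,3,7,8,7,3,4,5,6,2,3,4,5,1,3,8,0,2,1,0,3,2,5,7,8,3,7,0,2,1,4,7,3,7,8,2,3,7,6,4,5,3,0,3,4,3,5,4,8,7,3,2,4,5,3,4,1,2,1,0,4,5,7,3,4,1,2,3,7,8,5,3,4,1,2,3,1,0,1,2,5,8,7,3,2,4,3,5,6,5,4,2,3,7,2,5,1,0,2,3,4,3,2,0,1,5,2,7,3,2,4,5,6,5,3,4,2,3,7,8,5,2,1,0],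
  [3,7,8,3,4,1,2,3,7,4,2,3,1,2,1,5,3,1,2,1,3,4,3,5,7,3,2,1,4,3,7,8,6,5,4,2,3,7,1,2,0,1,4,3,2,7,3,4,5,2,1,4,7,8,3,7,6,3,4,5,2,3,0,4,3,7,5,4,2,3,7,8,4,5,3,4,3,8,0,1,7,3,2,1,4,3,7,8,2,3,7,1,2,0,1,2,3,4,5,8,6,5,4,3,1,0,3,4,3,7,3,2,1,8,5,4,3,7,8,2,3,7,5,6,1,2,4,3,5,4,7,3,2,4,5,7,3,4,0,1,0,2,1,6,5,4,3,2,7,8,7,3,4,5,6,1,2,0,1,0,2,1,6,5,7,3,2,8,7,3,4,5,8,1,2,3,7,3,4,3,0,1,2,1,2,3,6,7,3,2,4,3,5,4,8,7,3,2,5,4,3,7,8,3,4,5,7,3,2,8,4,3,7,8,5,4,3,7,6,2,1,2,1,4,3,5,4,7,8,2,3,7,4,5,6,4,1,2,1],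
  [7,8,0,1,2,3,7,3,4,3,2,1,8,5,4,3,7,3,4,5,1,2,1,3,4,3,5,7,3,2,1,4,3,7,8,6,5,4,2,3,7,1,2,1,2,3,4,5,8,6,5,4,3,2,1,2,5,6,5,4,3,7,3,2,4,3,5,6,0,4,3,7,2,3,4,1,2,3,6,7,3,8,4,2,3,7,3,2,3,2,6,5,4,3,7,8,7,3,4,5,6,2,3,1,2,1,5,4,3,6,7,3,8,7,4,2,5,4,3,7,2,3,4,1,0,1,2,3,4,5,6,5,4,3,2,1,0,1,4,3,2,7,3,4,5,2,4,7,8,3,7,6,3,4,5,1,2,0,5,4,3,7,3,4,5,0,2,1,5,8,7,3,2,4,3,7,8,6,3,1,2,0,4,3,7,8,3,4,5,3,0,3,2,1,5,7,3,2,4,3,7,8,6,3,1,2,0,5,0,1,4,3,2,7,3,4,5,2,1,0,4,6,5,2,3,7,8,3,7,3,4,5,3,4,2,1,5,4,3,2,6,5,4,3,7,8,7,3,4,5,6,2,3,4,5,1,0,1,2,3,4,6,5,7,3,4,8,7,3,5,4,2,3,7,1,4,7,8,3,7,6,3,4,2,6,5,3,4,2,3,7,3,4,5,6,2,1,0,1,5,4,3,2,6,5,4,3,7,8,7,3,4,5,6,2,3,4,5,1,0,1,2,6,5,4,3,7,3,2,4,3,5,6,2,4,3,6,7,3,8,7,4,1,7,3,2,4,5,3,7,8,4,3,7,5,6,4,3,2,1,0],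
  [7,8,2,3,7,5,4,3,1,2,1,4,3,8,7,3,4,1,2,3,4,5,8,6,5,4,3,2,1,2,3,7,8,4,5,3,4,2,3,7,6,3,2,5,4,3,7,3,4,5,1,0,2,1,4,3,2,6,5,7,3,4,7,8,3,7,5,3,4,1,2,1,4,3,8,7,3,4,1,2,3,4,5,7,3,2,4,3,7,5,6,1,2,3,0,1,2,0,5,4,3,2,6,5,4,3,7,8,7,3,4,5,6,2,3,4,5,1,0,2,1,5,6,7,3,2,4,3,5,4,7,3,1,2,0,5,4,3,7,8,3,4,5,3,0,1,2,3,4,7,3,8,1,2,3,7,8,3,4,2,3,2,1,0,1,5,4,3,2,6,5,4,3,7,8,7,3,4,5,6,2,3,4,5,1,5,4,3,7,3,4,5,0,2,1,5,8,7,3,2,4,3,7,8,6,3,1,2,0,4,3,7,8,3,4,5,3,0,3,2,1,5,7,3,2,4,3,7,8,6,3,1,2,0,5,0,1,4,3,2,7,3,4,5,2,1,0,4,6,5,2,3,7,8,3,7,3,4,5,3,4,2,0,1,2,3,4,6,5,7,3,4,8,7,3,5,4,2,3,7,1,4,7,8,3,7,6,3,4,2,6,5,3,4,2,3,7,3,4,5,6,2,1,0,1,5,4,3,2,6,5,4,3,7,8,7,3,4,5,6,2,3,4,5,1,0,1,2,6,5,4,3,7,3,2,4,3,5,6,2,4,3,6,7,3,8,7,4,1,7,3,2,4,5,3,7,8,4,3,7,5,6,4,3,2,1,0],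
  [7,6,4,1,2,0,1,6,5,7,3,2,4,3,7,8,7,3,4,2,3,7,5,6,5,1,0,2,1,0,4,5,3,7,8,4,2,3,7,5,6,4,2,1,2,3,4,5,8,6,5,4,3,2,1,0,1,2,3,4,7,3,8,1,2,3,7,3,4,3,2,1,0,5,4,3,7,3,4,5,8,4,7,3,2,4,3,8,7,3,4,8,2,3,7,6,2,1,2,3,4,5,8,6,5,4,3,2,1,2,6,7,3,2,8,4,3,7,8,3,4,2,3,7,4,1,5,4,3,2,6,5,4,3,7,8,7,3,4,5,6,2,3,4,5,1,0,2,1,5,7,3,2,4,3,8,7,3,4,8,2,3,7,1,2,0,5,0,1,2,3,4,3,8,7,3,2,1,8,3,7,4,3,2,7,3,2,1,4,8,7,3,2,0,4,3,7,8,3,4,5,4,3,7,8,3,4,5,0,2,1,3,2,3,7,8,4,3,7,1,2,3,4,6,5,7,3,4,8,7,3,5,4,2,3,7,1,4,7,8,3,7,6,3,4,2,6,5,3,4,2,3,7,3,4,5,6,2,1,0,1,5,4,3,2,6,5,4,3,7,8,7,3,4,5,6,2,3,4,5,1,0,1,2,6,5,4,3,7,3,2,4,3,5,6,2,4,3,6,7,3,8,7,4,1,7,3,2,4,5,3,7,8,4,3,7,5,6,4,3,2,1,0],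
  [1,2,1,4,3,5,4,7,3,7,8,2,3,7,4,5,6,4,5,1,3,5,4,3,2,1,2,1,6,5,4,7,8,3,7,2,3,4,5,3,4,3,1,2,1],
  [7,8,0,1,2,3,7,4,3,0,1,2,1,0,4,3,7,3,4,1,0,1,2,3,4,5,8,6,5,4,3,2,1,2,3,7,8,4,5,3,4,2,3,7,6,3,2,5,4,3,7,8,3,4,5,0,1,2,4,3,6,7,3,8,7,4,1,2,0,2,3,5,4,3,2,1,2,1,6,5,4,7,8,3,7,2,3,4,5,3,4,3,1,2,1,0,1,0,2,1,0,3,2,5,6,5,7,3,4,1,2,3,7,5,3,4,3,2,1,0,4,3,7,2,3,4,1,0,3,8,0,1,2,4,3,6,7,3,8,7,4,1,2,0,1,2,1,3,2,6,5,7,3,4,0,1,2,3,7,4,5,4,3,2,0,1,0,1,2,6,5,4,3,7,3,2,4,3,8,5,6,2,3,7,3,2,4,8,3,7,6,3,2,0,1,2,1,4,6,5,4,7,3,2,8,7,4,5,3,4,1,2,1,2,3,7,8,4,5,3,4,2,3,7,6,3,2,1,2,4,3,2,5,4,7,8,7,3,4,1,2,3,7,4,5,6,4,1,0,2,3,6,5,7,3,4,8,7,3,5,4,2,3,7,1,4,7,8,3,7,6,3,4,2,6,5,3,4,2,3,7,3,4,5,6,2,1,0,1,5,4,3,2,6,5,4,3,7,8,7,3,4,5,6,2,3,4,5,1,0,1,2,6,5,4,3,7,3,2,4,3,5,6,2,4,3,6,7,3,8,7,4,1,7,3,2,4,5,3,7,8,4,3,7,5,6,4,3,2,1,0]]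
  killers := [(9,[2,0,1]),(15,[2,1,0,0,1])]
  p := 13
  e := 4
  f := 2
  c := 10
  k := 1

end Cfsg.Agent.Lib.SporOutFiTwentyTwo
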