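import Cfsg.Agent.Lib.SporOutFiTwentyTwo.Group

/-! The transversals are right. -/

set_option autoImplicit false
set_option maxRecDepth 100000

namespace Cfsg.Agent.Lib.SporOutFiTwentyTwo

open Cfsg.Agent.Lib.Coset Cfsg.Agent.Lib.SporPres.FiTwentyTwo
open Cfsg.Agent.Lib.SporOutHe (levelOK entryOK valid_of_parts shapeOK total)

theorem levX0part0 : levelOK tab [] levX0 0 520 = true := by decide +kernel

theorem levX0part1 : levelOK tab [] levX0 520 520 = true := by decide +kernel

theorem levX0part2 : levelOK tab [] levX0 1040 520 = true := by decide +kernel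

theorem levX0part3 : levelOK tab [] levX0 1560 520 = true := by decide +kernel

theorem levX0part4 : levelOK tab [] levX0 2080 520 = true := by decide +kernel

theorem levX0part5 : levelOK tab [] levX0 2600 520 = true := by decide +kernel

theorem levX0part6 : levelOK tab [] levX0 3120 390 = true := by decide +kernel

theorem levX0entries : ∀ d ∈ levX0.pts, entryOK tab [] levX0 d = true :=
  valid_of_parts [((0, 520) : ℕ × ℕ), ((520, 520) : ℕ × ℕ), ((1040, 520) : ℕ × ℕ), ((1560, 520) : ℕ × ℕ), ((2080, 520) : ℕ × ℕ), ((2600, 520) : ℕ × ℕ), ((3120, 390) : ℕ × ℕ)]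
    (by simp only [List.forall_mem_cons, List.not_mem_nil, IsEmpty.forall_iff, implies_true, and_true]
        exact ⟨levX0part0, levX0part1, levX0part2, levX0part3, levX0part4, levX0part5, levX0part6⟩)
    (fun k hk => by
      have hk : k < 3510 := lt_of_lt_of_eq hk (by decide +kernel)
      rcases (show (0 ≤ k ∧ k < 520) ∨ (520 ≤ k ∧ k < 1040) ∨ (1040 ≤ k ∧ k < 1560) ∨ (1560 ≤ k ∧ k < 2080) ∨ (2080 ≤ k ∧ k < 2600) ∨ (2600 ≤ k ∧ k < 3120) ∨ (3120 ≤ k ∧ k < 3510) by omega) with h | h | h | h | h | h | h
      · exact ⟨(0, 520), by simp, h⟩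
      · exact ⟨(520, 520), by simp, h⟩
      · exact ⟨(1040, 520), by simp, h⟩
      · exact ⟨(1560, 520), by simp, h⟩
      · exact ⟨(2080, 520), by simp, h⟩
      · exact ⟨(2600, 520), by simp, h⟩
      · exact ⟨(3120, 390), by simp, h⟩)

theorem levX1part0 : levelOK tab [levX0.b] levX1 0 520 = true := by decide +kernel

theorem levX1part1 : levelOK tab [levX0.b] levX1 520 173 = true := by decide +kernel

theorem levX1entries : ∀ d ∈ levX1.pts, entryOK tab [levX0.b] levX1 d = true :=
  valid_of_parts [((0, 520) : ℕ × ℕ), ((520, 173) : ℕ × ℕ)]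
    (by simp only [List.forall_mem_cons, List.not_mem_nil, IsEmpty.forall_iff, implies_true, and_true]
        exact ⟨levX1part0, levX1part1⟩)
    (fun k hk => by
      have hk : k < 693 := lt_of_lt_of_eq hk (by decide +kernel)
      rcases (show (0 ≤ k ∧ k < 520) ∨ (520 ≤ k ∧ k < 693) by omega) with h | h
      · exact ⟨(0, 520), by simp, h⟩
      · exact ⟨(520, 173), by simp, h⟩)

theorem levX2part0 : levelOK tab [levX0.b,levX1.b] levX2 0 512 = true := by decide +kernel

theorem levX2entries : ∀ d ∈ levX2.pts, entryOK tab [levX0.b,levX1.b] levX2 d = true :=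
  valid_of_parts [((0, 512) : ℕ × ℕ)]
    (by simp only [List.forall_mem_cons, List.not_mem_nil, IsEmpty.forall_iff, implies_true, and_true]
        exact levX2part0)
    (fun k hk => by
      have hk : k < 512 := lt_of_lt_of_eq hk (by decide +kernel)
      exact ⟨((0, 512) : ℕ × ℕ), by simp, by omega, by omega⟩)

theorem levX3part0 : levelOK tab [levX0.b,levX1.b,levX2.b] levX3 0 135 = true := by decide +kernel

theorem levX3entries : ∀ d ∈ levX3.pts, entryOK tab [levX0.b,levX1.b,levX2.b] levX3 d = true :=
  valid_of_parts [((0, 135) : ℕ × ℕ)]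
    (by simp only [List.forall_mem_cons, List.not_mem_nil, IsEmpty.forall_iff, implies_true, and_true]
        exact levX3part0)
    (fun k hk => by
      have hk : k < 135 := lt_of_lt_of_eq hk (by decide +kernel)
      exact ⟨((0, 135) : ℕ × ℕ), by simp, by omega, by omega⟩)

theorem levX4part0 : levelOK tab [levX0.b,levX1.b,levX2.b,levX3.b] levX4 0 96 = true := by decide +kernel

theorem levX4entries : ∀ d ∈ levX4.pts, entryOK tab [levX0.b,levX1.b,levX2.b,levX3.b] levX4 d = true :=
  valid_of_parts [((0, 96) : ℕ × ℕ)]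
    (by simp only [List.forall_mem_cons, List.not_mem_nil, IsEmpty.forall_iff, implies_true, and_true]
        exact levX4part0)
    (fun k hk => by
      have hk : k < 96 := lt_of_lt_of_eq hk (by decide +kernel)
      exact ⟨((0, 96) : ℕ × ℕ), by simp, by omega, by omega⟩)

theorem levX5part0 : levelOK tab [levX0.b,levX1.b,levX2.b,levX3.b,levX4.b] levX5 0 4 = true := by decide +kernel

theorem levX5entries : ∀ d ∈ levX5.pts, entryOK tab [levX0.b,levX1.b,levX2.b,levX3.b,levX4.b] levX5 d = true :=
  valid_of_parts [((0, 4) : ℕ × ℕ)]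
    (by simp only [List.forall_mem_cons, List.not_mem_nil, IsEmpty.forall_iff, implies_true, and_true]
        exact levX5part0)
    (fun k hk => by
      have hk : k < 4 := lt_of_lt_of_eq hk (by decide +kernel)
      exact ⟨((0, 4) : ℕ × ℕ), by simp, by omega, by omega⟩)

theorem levXshapes : (levX.all (shapeOK tab)) = true ∧ total levX = 64561751654400 := by decide +kernel

theorem levXfilled : model.Filled cert.levX := by
  obtain ⟨hs, ht⟩ := levXshapes
  refine ⟨?_, le_of_eq (card_and_inj.1.trans ht.symm)⟩
  show SporOutHe.Valid tab levX []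
  simp only [levX, List.all_cons, List.all_nil, Bool.and_eq_true, and_true] at hs
  obtain ⟨h0, h1, h2, h3, h4, h5⟩ := hs
  exact ⟨h0, levX0entries, h1, levX1entries, h2, levX2entries, h3, levX3entries, h4, levX4entries, h5, levX5entries, trivial⟩

theorem levY0part0 : levelOK tab [] levY0 0 520 = true := by decide +kernel

theorem levY0part1 : levelOK tab [] levY0 520 520 = true := by decide +kernel

theorem levY0part2 : levelOK tab [] levY0 1040 520 = true := by decide +kernel

theorem levY0part3 : levelOK tab [] levY0 1560 520 = true := by decide +kernel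

theorem levY0part4 : levelOK tab [] levY0 2080 520 = true := by decide +kernel

theorem levY0part5 : levelOK tab [] levY0 2600 520 = true := by decide +kernel

theorem levY0part6 : levelOK tab [] levY0 3120 390 = true := by decide +kernel

theorem levY0entries : ∀ d ∈ levY0.pts, entryOK tab [] levY0 d = true :=
  valid_of_parts [((0, 520) : ℕ × ℕ), ((520, 520) : ℕ × ℕ), ((1040, 520) : ℕ × ℕ), ((1560, 520) : ℕ × ℕ), ((2080, 520) : ℕ × ℕ), ((2600, 520) : ℕ × ℕ), ((3120, 390) : ℕ × ℕ)]
    (by simp only [List.forall_mem_cons, List.not_mem_nil, IsEmpty.forall_iff, implies_true, and_true]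
        exact ⟨levY0part0, levY0part1, levY0part2, levY0part3, levY0part4, levY0part5, levY0part6⟩)
    (fun k hk => by
      have hk : k < 3510 := lt_of_lt_of_eq hk (by decide +kernel)
      rcases (show (0 ≤ k ∧ k < 520) ∨ (520 ≤ k ∧ k < 1040) ∨ (1040 ≤ k ∧ k < 1560) ∨ (1560 ≤ k ∧ k < 2080) ∨ (2080 ≤ k ∧ k < 2600) ∨ (2600 ≤ k ∧ k < 3120) ∨ (3120 ≤ k ∧ k < 3510) by omega) with h | h | h | h | h | h | h
      · exact ⟨(0, 520), by simp, h⟩
      · exact ⟨(520, 520), by simp, h⟩
      · exact ⟨(1040, 520), by simp, h⟩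
      · exact ⟨(1560, 520), by simp, h⟩
      · exact ⟨(2080, 520), by simp, h⟩
      · exact ⟨(2600, 520), by simp, h⟩
      · exact ⟨(3120, 390), by simp, h⟩)

theorem levY1part0 : levelOK tab [levY0.b] levY1 0 520 = true := by decide +kernel

theorem levY1part1 : levelOK tab [levY0.b] levY1 520 520 = true := by decide +kernel

theorem levY1part2 : levelOK tab [levY0.b] levY1 1040 520 = true := by decide +kernel

theorem levY1part3 : levelOK tab [levY0.b] levY1 1560 520 = true := by decide +kernel

theorem levY1part4 : levelOK tab [levY0.b] levY1 2080 520 = true := by decide +kernel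

theorem levY1part5 : levelOK tab [levY0.b] levY1 2600 216 = true := by decide +kernel

theorem levY1entries : ∀ d ∈ levY1.pts, entryOK tab [levY0.b] levY1 d = true :=
  valid_of_parts [((0, 520) : ℕ × ℕ), ((520, 520) : ℕ × ℕ), ((1040, 520) : ℕ × ℕ), ((1560, 520) : ℕ × ℕ), ((2080, 520) : ℕ × ℕ), ((2600, 216) : ℕ × ℕ)]
    (by simp only [List.forall_mem_cons, List.not_mem_nil, IsEmpty.forall_iff, implies_true, and_true]
        exact ⟨levY1part0, levY1part1, levY1part2, levY1part3, levY1part4, levY1part5⟩)
    (fun k hk => by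
      have hk : k < 2816 := lt_of_lt_of_eq hk (by decide +kernel)
      rcases (show (0 ≤ k ∧ k < 520) ∨ (520 ≤ k ∧ k < 1040) ∨ (1040 ≤ k ∧ k < 1560) ∨ (1560 ≤ k ∧ k < 2080) ∨ (2080 ≤ k ∧ k < 2600) ∨ (2600 ≤ k ∧ k < 2816) by omega) with h | h | h | h | h | h
      · exact ⟨(0, 520), by simp, h⟩
      · exact ⟨(520, 520), by simp, h⟩
      · exact ⟨(1040, 520), by simp, h⟩
      · exact ⟨(1560, 520), by simp, h⟩
      · exact ⟨(2080, 520), by simp, h⟩
      · exact ⟨(2600, 216), by simp, h⟩)

theorem levY2part0 : levelOK tab [levY0.b,levY1.b] levY2 0 520 = true := by decide +kernel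

theorem levY2part1 : levelOK tab [levY0.b,levY1.b] levY2 520 47 = true := by decide +kernel

theorem levY2entries : ∀ d ∈ levY2.pts, entryOK tab [levY0.b,levY1.b] levY2 d = true :=
  valid_of_parts [((0, 520) : ℕ × ℕ), ((520, 47) : ℕ × ℕ)]
    (by simp only [List.forall_mem_cons, List.not_mem_nil, IsEmpty.forall_iff, implies_true, and_true]
        exact ⟨levY2part0, levY2part1⟩)
    (fun k hk => by
      have hk : k < 567 := lt_of_lt_of_eq hk (by decide +kernel)
      rcases (show (0 ≤ k ∧ k < 520) ∨ (520 ≤ k ∧ k < 567) by omega) with h | h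
      · exact ⟨(0, 520), by simp, h⟩
      · exact ⟨(520, 47), by simp, h⟩)

theorem levY3part0 : levelOK tab [levY0.b,levY1.b,levY2.b] levY3 0 320 = true := by decide +kernel

theorem levY3entries : ∀ d ∈ levY3.pts, entryOK tab [levY0.b,levY1.b,levY2.b] levY3 d = true :=
  valid_of_parts [((0, 320) : ℕ × ℕ)]
    (by simp only [List.forall_mem_cons, List.not_mem_nil, IsEmpty.forall_iff, implies_true, and_true]
        exact levY3part0)
    (fun k hk => by
      have hk : k < 320 := lt_of_lt_of_eq hk (by decide +kernel)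
      exact ⟨((0, 320) : ℕ × ℕ), by simp, by omega, by omega⟩)

theorem levY4part0 : levelOK tab [levY0.b,levY1.b,levY2.b,levY3.b] levY4 0 9 = true := by decide +kernel

theorem levY4entries : ∀ d ∈ levY4.pts, entryOK tab [levY0.b,levY1.b,levY2.b,levY3.b] levY4 d = true :=
  valid_of_parts [((0, 9) : ℕ × ℕ)]
    (by simp only [List.forall_mem_cons, List.not_mem_nil, IsEmpty.forall_iff, implies_true, and_true]
        exact levY4part0)
    (fun k hk => by
      have hk : k < 9 := lt_of_lt_of_eq hk (by decide +kernel)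
      exact ⟨((0, 9) : ℕ × ℕ), by simp, by omega, by omega⟩)

theorem levY5part0 : levelOK tab [levY0.b,levY1.b,levY2.b,levY3.b,levY4.b] levY5 0 4 = true := by decide +kernel

theorem levY5entries : ∀ d ∈ levY5.pts, entryOK tab [levY0.b,levY1.b,levY2.b,levY3.b,levY4.b] levY5 d = true :=
  valid_of_parts [((0, 4) : ℕ × ℕ)]
    (by simp only [List.forall_mem_cons, List.not_mem_nil, IsEmpty.forall_iff, implies_true, and_true]
        exact levY5part0)
    (fun k hk => by
      have hk : k < 4 := lt_of_lt_of_eq hk (by decide +kernel)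
      exact ⟨((0, 4) : ℕ × ℕ), by simp, by omega, by omega⟩)

theorem levYshapes : (levY.all (shapeOK tab)) = true ∧ total levY = 64561751654400 := by decide +kernel

theorem levYfilled : model.Filled cert.levY := by
  obtain ⟨hs, ht⟩ := levYshapes
  refine ⟨?_, le_of_eq (card_and_inj.1.trans ht.symm)⟩
  show SporOutHe.Valid tab levY []
  simp only [levY, List.all_cons, List.all_nil, Bool.and_eq_true, and_true] at hs
  obtain ⟨h0, h1, h2, h3, h4, h5⟩ := hs
  exact ⟨h0, levY0entries, h1, levY1entries, h2, levY2entries, h3, levY3entries, h4, levY4entries, h5, levY5entries, trivial⟩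


end Cfsg.Agent.Lib.SporOutFiTwentyTwo
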