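import Cfsg.Agent.Lib.SporOutFiTwentyTwo.Group
import Cfsg.Agent.Lib.AutCert.Main

/-! A search. -/

set_option autoImplicit false
set_option maxRecDepth 100000

namespace Cfsg.Agent.Lib.SporOutFiTwentyTwo

open Cfsg.Agent.Lib.Coset Cfsg.Agent.Lib.SporPres.FiTwentyTwo
open Cfsg.Agent.Lib.AutCert (searchOK)

theorem searchT0 : searchOK tab cert.bases cert.levX cert.xPow cert.esT cert.xWord (cert.xPow.getD cert.f []) (fun _ => false) 0 79 = true := by decide +kernel

theorem searchT1 : searchOK tab cert.bases cert.levX cert.xPow cert.esT cert.xWord (cert.xPow.getD cert.f []) (fun _ => false) 79 79 = true := by decide +kernel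

theorem searchT2 : searchOK tab cert.bases cert.levX cert.xPow cert.esT cert.xWord (cert.xPow.getD cert.f []) (fun _ => false) 158 79 = true := by decide +kernel

theorem searchT3 : searchOK tab cert.bases cert.levX cert.xPow cert.esT cert.xWord (cert.xPow.getD cert.f []) (fun _ => false) 237 79 = true := by decide +kernel

theorem searchT4 : searchOK tab cert.bases cert.levX cert.xPow cert.esT cert.xWord (cert.xPow.getD cert.f []) (fun _ => false) 316 79 = true := by decide +kernel

theorem searchT5 : searchOK tab cert.bases cert.levX cert.xPow cert.esT cert.xWord (cert.xPow.getD cert.f []) (fun _ => false) 395 79 = true := by decide +kernel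

theorem searchT6 : searchOK tab cert.bases cert.levX cert.xPow cert.esT cert.xWord (cert.xPow.getD cert.f []) (fun _ => false) 474 79 = true := by decide +kernel

theorem searchT7 : searchOK tab cert.bases cert.levX cert.xPow cert.esT cert.xWord (cert.xPow.getD cert.f []) (fun _ => false) 553 79 = true := by decide +kernel

theorem searchT8 : searchOK tab cert.bases cert.levX cert.xPow cert.esT cert.xWord (cert.xPow.getD cert.f []) (fun _ => false) 632 79 = true := by decide +kernel

theorem searchT9 : searchOK tab cert.bases cert.levX cert.xPow cert.esT cert.xWord (cert.xPow.getD cert.f []) (fun _ => false) 711 79 = true := by decide +kernel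

theorem searchT10 : searchOK tab cert.bases cert.levX cert.xPow cert.esT cert.xWord (cert.xPow.getD cert.f []) (fun _ => false) 790 79 = true := by decide +kernel

theorem searchT11 : searchOK tab cert.bases cert.levX cert.xPow cert.esT cert.xWord (cert.xPow.getD cert.f []) (fun _ => false) 869 79 = true := by decide +kernel

theorem searchT12 : searchOK tab cert.bases cert.levX cert.xPow cert.esT cert.xWord (cert.xPow.getD cert.f []) (fun _ => false) 948 79 = true := by decide +kernel

theorem searchT13 : searchOK tab cert.bases cert.levX cert.xPow cert.esT cert.xWord (cert.xPow.getD cert.f []) (fun _ => false) 1027 79 = true := by decide +kernel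

theorem searchT14 : searchOK tab cert.bases cert.levX cert.xPow cert.esT cert.xWord (cert.xPow.getD cert.f []) (fun _ => false) 1106 79 = true := by decide +kernel

theorem searchT15 : searchOK tab cert.bases cert.levX cert.xPow cert.esT cert.xWord (cert.xPow.getD cert.f []) (fun _ => false) 1185 79 = true := by decide +kernel

theorem searchT16 : searchOK tab cert.bases cert.levX cert.xPow cert.esT cert.xWord (cert.xPow.getD cert.f []) (fun _ => false) 1264 79 = true := by decide +kernel

theorem searchT17 : searchOK tab cert.bases cert.levX cert.xPow cert.esT cert.xWord (cert.xPow.getD cert.f []) (fun _ => false) 1343 79 = true := by decide +kernel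

theorem searchT18 : searchOK tab cert.bases cert.levX cert.xPow cert.esT cert.xWord (cert.xPow.getD cert.f []) (fun _ => false) 1422 79 = true := by decide +kernel

theorem searchT19 : searchOK tab cert.bases cert.levX cert.xPow cert.esT cert.xWord (cert.xPow.getD cert.f []) (fun _ => false) 1501 79 = true := by decide +kernel

theorem searchT20 : searchOK tab cert.bases cert.levX cert.xPow cert.esT cert.xWord (cert.xPow.getD cert.f []) (fun _ => false) 1580 79 = true := by decide +kernel

theorem searchT21 : searchOK tab cert.bases cert.levX cert.xPow cert.esT cert.xWord (cert.xPow.getD cert.f []) (fun _ => false) 1659 79 = true := by decide +kernel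

theorem searchT22 : searchOK tab cert.bases cert.levX cert.xPow cert.esT cert.xWord (cert.xPow.getD cert.f []) (fun _ => false) 1738 79 = true := by decide +kernel

theorem searchT23 : searchOK tab cert.bases cert.levX cert.xPow cert.esT cert.xWord (cert.xPow.getD cert.f []) (fun _ => false) 1817 79 = true := by decide +kernel

theorem searchT24 : searchOK tab cert.bases cert.levX cert.xPow cert.esT cert.xWord (cert.xPow.getD cert.f []) (fun _ => false) 1896 79 = true := by decide +kernel

theorem searchT25 : searchOK tab cert.bases cert.levX cert.xPow cert.esT cert.xWord (cert.xPow.getD cert.f []) (fun _ => false) 1975 79 = true := by decide +kernel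

theorem searchT26 : searchOK tab cert.bases cert.levX cert.xPow cert.esT cert.xWord (cert.xPow.getD cert.f []) (fun _ => false) 2054 79 = true := by decide +kernel

theorem searchT27 : searchOK tab cert.bases cert.levX cert.xPow cert.esT cert.xWord (cert.xPow.getD cert.f []) (fun _ => false) 2133 79 = true := by decide +kernel

theorem searchT28 : searchOK tab cert.bases cert.levX cert.xPow cert.esT cert.xWord (cert.xPow.getD cert.f []) (fun _ => false) 2212 79 = true := by decide +kernel

theorem searchT29 : searchOK tab cert.bases cert.levX cert.xPow cert.esT cert.xWord (cert.xPow.getD cert.f []) (fun _ => false) 2291 79 = true := by decide +kernel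

theorem searchT30 : searchOK tab cert.bases cert.levX cert.xPow cert.esT cert.xWord (cert.xPow.getD cert.f []) (fun _ => false) 2370 79 = true := by decide +kernel

theorem searchT31 : searchOK tab cert.bases cert.levX cert.xPow cert.esT cert.xWord (cert.xPow.getD cert.f []) (fun _ => false) 2449 79 = true := by decide +kernel

theorem searchT32 : searchOK tab cert.bases cert.levX cert.xPow cert.esT cert.xWord (cert.xPow.getD cert.f []) (fun _ => false) 2528 79 = true := by decide +kernel

theorem searchT33 : searchOK tab cert.bases cert.levX cert.xPow cert.esT cert.xWord (cert.xPow.getD cert.f []) (fun _ => false) 2607 79 = true := by decide +kernel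

theorem searchT34 : searchOK tab cert.bases cert.levX cert.xPow cert.esT cert.xWord (cert.xPow.getD cert.f []) (fun _ => false) 2686 79 = true := by decide +kernel

theorem searchT35 : searchOK tab cert.bases cert.levX cert.xPow cert.esT cert.xWord (cert.xPow.getD cert.f []) (fun _ => false) 2765 79 = true := by decide +kernel

theorem searchT36 : searchOK tab cert.bases cert.levX cert.xPow cert.esT cert.xWord (cert.xPow.getD cert.f []) (fun _ => false) 2844 79 = true := by decide +kernel

theorem searchT37 : searchOK tab cert.bases cert.levX cert.xPow cert.esT cert.xWord (cert.xPow.getD cert.f []) (fun _ => false) 2923 79 = true := by decide +kernel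

theorem searchT38 : searchOK tab cert.bases cert.levX cert.xPow cert.esT cert.xWord (cert.xPow.getD cert.f []) (fun _ => false) 3002 79 = true := by decide +kernel

theorem searchT39 : searchOK tab cert.bases cert.levX cert.xPow cert.esT cert.xWord (cert.xPow.getD cert.f []) (fun _ => false) 3081 79 = true := by decide +kernel

theorem searchT40 : searchOK tab cert.bases cert.levX cert.xPow cert.esT cert.xWord (cert.xPow.getD cert.f []) (fun _ => false) 3160 79 = true := by decide +kernel

theorem searchT41 : searchOK tab cert.bases cert.levX cert.xPow cert.esT cert.xWord (cert.xPow.getD cert.f []) (fun _ => false) 3239 79 = true := by decide +kernel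

theorem searchT42 : searchOK tab cert.bases cert.levX cert.xPow cert.esT cert.xWord (cert.xPow.getD cert.f []) (fun _ => false) 3318 79 = true := by decide +kernel

theorem searchT43 : searchOK tab cert.bases cert.levX cert.xPow cert.esT cert.xWord (cert.xPow.getD cert.f []) (fun _ => false) 3397 79 = true := by decide +kernel

theorem searchT44 : searchOK tab cert.bases cert.levX cert.xPow cert.esT cert.xWord (cert.xPow.getD cert.f []) (fun _ => false) 3476 34 = true := by decide +kernel

/-- The ranges of the search. -/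
def partsT : List (ℕ × ℕ) := [((0, 79) : ℕ × ℕ), ((79, 79) : ℕ × ℕ), ((158, 79) : ℕ × ℕ), ((237, 79) : ℕ × ℕ), ((316, 79) : ℕ × ℕ), ((395, 79) : ℕ × ℕ), ((474, 79) : ℕ × ℕ), ((553, 79) : ℕ × ℕ), ((632, 79) : ℕ × ℕ), ((711, 79) : ℕ × ℕ), ((790, 79) : ℕ × ℕ), ((869, 79) : ℕ × ℕ), ((948, 79) : ℕ × ℕ), ((1027, 79) : ℕ × ℕ), ((1106, 79) : ℕ × ℕ), ((1185, 79) : ℕ × ℕ), ((1264, 79) : ℕ × ℕ), ((1343, 79) : ℕ × ℕ), ((1422, 79) : ℕ × ℕ), ((1501, 79) : ℕ × ℕ), ((1580, 79) : ℕ × ℕ), ((1659, 79) : ℕ × ℕ), ((1738, 79) : ℕ × ℕ), ((1817, 79) : ℕ × ℕ), ((1896, 79) : ℕ × ℕ), ((1975, 79) : ℕ × ℕ), ((2054, 79) : ℕ × ℕ), ((2133, 79) : ℕ × ℕ), ((2212, 79) : ℕ × ℕ), ((2291, 79) : ℕ × ℕ), ((2370, 79) : ℕ × ℕ), ((2449, 79) : ℕ × ℕ), ((2528, 79) : ℕ × ℕ), ((2607, 79) : ℕ × ℕ), ((2686, 79) : ℕ × ℕ), ((2765, 79) : ℕ × ℕ), ((2844, 79) : ℕ × ℕ), ((2923, 79) : ℕ × ℕ), ((3002, 79) : ℕ × ℕ), ((3081, 79) : ℕ × ℕ), ((3160, 79) : ℕ × ℕ), ((3239, 79) : ℕ × ℕ), ((3318, 79) : ℕ × ℕ), ((3397, 79) : ℕ × ℕ), ((3476, 34) : ℕ × ℕ)]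

theorem searchT : ∀ q ∈ partsT, searchOK tab cert.bases cert.levX cert.xPow cert.esT cert.xWord (cert.xPow.getD cert.f []) (fun _ => false) q.1 q.2 = true := by
  simp only [partsT, List.forall_mem_cons, List.not_mem_nil, IsEmpty.forall_iff, implies_true, and_true]
  exact ⟨searchT0, searchT1, searchT2, searchT3, searchT4, searchT5, searchT6, searchT7, searchT8, searchT9, searchT10, searchT11, searchT12, searchT13, searchT14, searchT15, searchT16, searchT17, searchT18, searchT19, searchT20, searchT21, searchT22, searchT23, searchT24, searchT25, searchT26, searchT27, searchT28, searchT29, searchT30, searchT31, searchT32, searchT33, searchT34, searchT35, searchT36, searchT37, searchT38, searchT39, searchT40, searchT41, searchT42, searchT43, searchT44⟩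

theorem coverT : ∀ k < tab.size, ∃ q ∈ partsT, q.1 ≤ k ∧ k < q.1 + q.2 := by
  intro k hk
  have hk : k < 3510 := lt_of_lt_of_eq hk (by decide +kernel)
  simp only [partsT]
  rcases (show (0 ≤ k ∧ k < 79) ∨ (79 ≤ k ∧ k < 158) ∨ (158 ≤ k ∧ k < 237) ∨ (237 ≤ k ∧ k < 316) ∨ (316 ≤ k ∧ k < 395) ∨ (395 ≤ k ∧ k < 474) ∨ (474 ≤ k ∧ k < 553) ∨ (553 ≤ k ∧ k < 632) ∨ (632 ≤ k ∧ k < 711) ∨ (711 ≤ k ∧ k < 790) ∨ (790 ≤ k ∧ k < 869) ∨ (869 ≤ k ∧ k < 948) ∨ (948 ≤ k ∧ k < 1027) ∨ (1027 ≤ k ∧ k < 1106) ∨ (1106 ≤ k ∧ k < 1185) ∨ (1185 ≤ k ∧ k < 1264) ∨ (1264 ≤ k ∧ k < 1343) ∨ (1343 ≤ k ∧ k < 1422) ∨ (1422 ≤ k ∧ k < 1501) ∨ (1501 ≤ k ∧ k < 1580) ∨ (1580 ≤ k ∧ k < 1659) ∨ (1659 ≤ k ∧ k < 1738) ∨ (1738 ≤ k ∧ k < 1817) ∨ (1817 ≤ k ∧ k < 1896) ∨ (1896 ≤ k ∧ k < 1975) ∨ (1975 ≤ k ∧ k < 2054) ∨ (2054 ≤ k ∧ k < 2133) ∨ (2133 ≤ k ∧ k < 2212) ∨ (2212 ≤ k ∧ k < 2291) ∨ (2291 ≤ k ∧ k < 2370) ∨ (2370 ≤ k ∧ k < 2449) ∨ (2449 ≤ k ∧ k < 2528) ∨ (2528 ≤ k ∧ k < 2607) ∨ (2607 ≤ k ∧ k < 2686) ∨ (2686 ≤ k ∧ k < 2765) ∨ (2765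 ≤ k ∧ k < 2844) ∨ (2844 ≤ k ∧ k < 2923) ∨ (2923 ≤ k ∧ k < 3002) ∨ (3002 ≤ k ∧ k < 3081) ∨ (3081 ≤ k ∧ k < 3160) ∨ (3160 ≤ k ∧ k < 3239) ∨ (3239 ≤ k ∧ k < 3318) ∨ (3318 ≤ k ∧ k < 3397) ∨ (3397 ≤ k ∧ k < 3476) ∨ (3476 ≤ k ∧ k < 3510) by omega) with h | h | h | h | h | h | h | h | h | h | h | h | h | h | h | h | h | h | h | h | h | h | h | h | h | h | h | h | h | h | h | h | h | h | h | h | h | h | h | h | h | h | h | h | h
  · exact ⟨(0, 79), by simp, h⟩
  · exact ⟨(79, 79), by simp, h⟩
  · exact ⟨(158, 79), by simp, h⟩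
  · exact ⟨(237, 79), by simp, h⟩
  · exact ⟨(316, 79), by simp, h⟩
  · exact ⟨(395, 79), by simp, h⟩
  · exact ⟨(474, 79), by simp, h⟩
  · exact ⟨(553, 79), by simp, h⟩
  · exact ⟨(632, 79), by simp, h⟩
  · exact ⟨(711, 79), by simp, h⟩
  · exact ⟨(790, 79), by simp, h⟩
  · exact ⟨(869, 79), by simp, h⟩
  · exact ⟨(948, 79), by simp, h⟩
  · exact ⟨(1027, 79), by simp, h⟩
  · exact ⟨(1106, 79), by simp, h⟩
  · exact ⟨(1185, 79), by simp, h⟩
  · exact ⟨(1264, 79), by simp, h⟩
  · exact ⟨(1343, 79), by simp, h⟩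
  · exact ⟨(1422, 79), by simp, h⟩
  · exact ⟨(1501, 79), by simp, h⟩
  · exact ⟨(1580, 79), by simp, h⟩
  · exact ⟨(1659, 79), by simp, h⟩
  · exact ⟨(1738, 79), by simp, h⟩
  · exact ⟨(1817, 79), by simp, h⟩
  · exact ⟨(1896, 79), by simp, h⟩
  · exact ⟨(1975, 79), by simp, h⟩
  · exact ⟨(2054, 79), by simp, h⟩
  · exact ⟨(2133, 79), by simp, h⟩
  · exact ⟨(2212, 79), by simp, h⟩
  · exact ⟨(2291, 79), by simp, h⟩
  · exact ⟨(2370, 79), by simp, h⟩
  · exact ⟨(2449, 79), by simp, h⟩
  · exact ⟨(2528, 79), by simp, h⟩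
  · exact ⟨(2607, 79), by simp, h⟩
  · exact ⟨(2686, 79), by simp, h⟩
  · exact ⟨(2765, 79), by simp, h⟩
  · exact ⟨(2844, 79), by simp, h⟩
  · exact ⟨(2923, 79), by simp, h⟩
  · exact ⟨(3002, 79), by simp, h⟩
  · exact ⟨(3081, 79), by simp, h⟩
  · exact ⟨(3160, 79), by simp, h⟩
  · exact ⟨(3239, 79), by simp, h⟩
  · exact ⟨(3318, 79), by simp, h⟩
  · exact ⟨(3397, 79), by simp, h⟩
  · exact ⟨(3476, 34), by simp, h⟩

end Cfsg.Agent.Lib.SporOutFiTwentyTwo
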