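import Cfsg.Agent.Lib.SporOutFiTwentyTwo.Group
import Cfsg.Agent.Lib.AutCert.Main

/-! A search. -/

set_option autoImplicit false
set_option maxRecDepth 100000

namespace Cfsg.Agent.Lib.SporOutFiTwentyTwo

open Cfsg.Agent.Lib.Coset Cfsg.Agent.Lib.SporPres.FiTwentyTwo
open Cfsg.Agent.Lib.AutCert (searchOK)

theorem searchX0 : searchOK tab cert.bases cert.levX cert.xPow cert.ksX cert.xWord cert.xWord (cert.goodX tab) 0 79 = true := by decide +kernel

theorem searchX1 : searchOK tab cert.bases cert.levX cert.xPow cert.ksX cert.xWord cert.xWord (cert.goodX tab) 79 79 = true := by decide +kernel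

theorem searchX2 : searchOK tab cert.bases cert.levX cert.xPow cert.ksX cert.xWord cert.xWord (cert.goodX tab) 158 79 = true := by decide +kernel

theorem searchX3 : searchOK tab cert.bases cert.levX cert.xPow cert.ksX cert.xWord cert.xWord (cert.goodX tab) 237 79 = true := by decide +kernel

theorem searchX4 : searchOK tab cert.bases cert.levX cert.xPow cert.ksX cert.xWord cert.xWord (cert.goodX tab) 316 79 = true := by decide +kernel

theorem searchX5 : searchOK tab cert.bases cert.levX cert.xPow cert.ksX cert.xWord cert.xWord (cert.goodX tab) 395 79 = true := by decide +kernel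

theorem searchX6 : searchOK tab cert.bases cert.levX cert.xPow cert.ksX cert.xWord cert.xWord (cert.goodX tab) 474 79 = true := by decide +kernel

theorem searchX7 : searchOK tab cert.bases cert.levX cert.xPow cert.ksX cert.xWord cert.xWord (cert.goodX tab) 553 79 = true := by decide +kernel

theorem searchX8 : searchOK tab cert.bases cert.levX cert.xPow cert.ksX cert.xWord cert.xWord (cert.goodX tab) 632 79 = true := by decide +kernel

theorem searchX9 : searchOK tab cert.bases cert.levX cert.xPow cert.ksX cert.xWord cert.xWord (cert.goodX tab) 711 79 = true := by decide +kernel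

theorem searchX10 : searchOK tab cert.bases cert.levX cert.xPow cert.ksX cert.xWord cert.xWord (cert.goodX tab) 790 79 = true := by decide +kernel

theorem searchX11 : searchOK tab cert.bases cert.levX cert.xPow cert.ksX cert.xWord cert.xWord (cert.goodX tab) 869 79 = true := by decide +kernel

theorem searchX12 : searchOK tab cert.bases cert.levX cert.xPow cert.ksX cert.xWord cert.xWord (cert.goodX tab) 948 79 = true := by decide +kernel

theorem searchX13 : searchOK tab cert.bases cert.levX cert.xPow cert.ksX cert.xWord cert.xWord (cert.goodX tab) 1027 79 = true := by decide +kernel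

theorem searchX14 : searchOK tab cert.bases cert.levX cert.xPow cert.ksX cert.xWord cert.xWord (cert.goodX tab) 1106 79 = true := by decide +kernel

theorem searchX15 : searchOK tab cert.bases cert.levX cert.xPow cert.ksX cert.xWord cert.xWord (cert.goodX tab) 1185 79 = true := by decide +kernel

theorem searchX16 : searchOK tab cert.bases cert.levX cert.xPow cert.ksX cert.xWord cert.xWord (cert.goodX tab) 1264 79 = true := by decide +kernel

theorem searchX17 : searchOK tab cert.bases cert.levX cert.xPow cert.ksX cert.xWord cert.xWord (cert.goodX tab) 1343 79 = true := by decide +kernel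

theorem searchX18 : searchOK tab cert.bases cert.levX cert.xPow cert.ksX cert.xWord cert.xWord (cert.goodX tab) 1422 79 = true := by decide +kernel

theorem searchX19 : searchOK tab cert.bases cert.levX cert.xPow cert.ksX cert.xWord cert.xWord (cert.goodX tab) 1501 79 = true := by decide +kernel

theorem searchX20 : searchOK tab cert.bases cert.levX cert.xPow cert.ksX cert.xWord cert.xWord (cert.goodX tab) 1580 79 = true := by decide +kernel

theorem searchX21 : searchOK tab cert.bases cert.levX cert.xPow cert.ksX cert.xWord cert.xWord (cert.goodX tab) 1659 79 = true := by decide +kernel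

theorem searchX22 : searchOK tab cert.bases cert.levX cert.xPow cert.ksX cert.xWord cert.xWord (cert.goodX tab) 1738 79 = true := by decide +kernel

theorem searchX23 : searchOK tab cert.bases cert.levX cert.xPow cert.ksX cert.xWord cert.xWord (cert.goodX tab) 1817 79 = true := by decide +kernel

theorem searchX24 : searchOK tab cert.bases cert.levX cert.xPow cert.ksX cert.xWord cert.xWord (cert.goodX tab) 1896 79 = true := by decide +kernel

theorem searchX25 : searchOK tab cert.bases cert.levX cert.xPow cert.ksX cert.xWord cert.xWord (cert.goodX tab) 1975 79 = true := by decide +kernel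

theorem searchX26 : searchOK tab cert.bases cert.levX cert.xPow cert.ksX cert.xWord cert.xWord (cert.goodX tab) 2054 79 = true := by decide +kernel

theorem searchX27 : searchOK tab cert.bases cert.levX cert.xPow cert.ksX cert.xWord cert.xWord (cert.goodX tab) 2133 79 = true := by decide +kernel

theorem searchX28 : searchOK tab cert.bases cert.levX cert.xPow cert.ksX cert.xWord cert.xWord (cert.goodX tab) 2212 79 = true := by decide +kernel

theorem searchX29 : searchOK tab cert.bases cert.levX cert.xPow cert.ksX cert.xWord cert.xWord (cert.goodX tab) 2291 79 = true := by decide +kernel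

theorem searchX30 : searchOK tab cert.bases cert.levX cert.xPow cert.ksX cert.xWord cert.xWord (cert.goodX tab) 2370 79 = true := by decide +kernel

theorem searchX31 : searchOK tab cert.bases cert.levX cert.xPow cert.ksX cert.xWord cert.xWord (cert.goodX tab) 2449 79 = true := by decide +kernel

theorem searchX32 : searchOK tab cert.bases cert.levX cert.xPow cert.ksX cert.xWord cert.xWord (cert.goodX tab) 2528 79 = true := by decide +kernel

theorem searchX33 : searchOK tab cert.bases cert.levX cert.xPow cert.ksX cert.xWord cert.xWord (cert.goodX tab) 2607 79 = true := by decide +kernel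

theorem searchX34 : searchOK tab cert.bases cert.levX cert.xPow cert.ksX cert.xWord cert.xWord (cert.goodX tab) 2686 79 = true := by decide +kernel

theorem searchX35 : searchOK tab cert.bases cert.levX cert.xPow cert.ksX cert.xWord cert.xWord (cert.goodX tab) 2765 79 = true := by decide +kernel

theorem searchX36 : searchOK tab cert.bases cert.levX cert.xPow cert.ksX cert.xWord cert.xWord (cert.goodX tab) 2844 79 = true := by decide +kernel

theorem searchX37 : searchOK tab cert.bases cert.levX cert.xPow cert.ksX cert.xWord cert.xWord (cert.goodX tab) 2923 79 = true := by decide +kernel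

theorem searchX38 : searchOK tab cert.bases cert.levX cert.xPow cert.ksX cert.xWord cert.xWord (cert.goodX tab) 3002 79 = true := by decide +kernel

theorem searchX39 : searchOK tab cert.bases cert.levX cert.xPow cert.ksX cert.xWord cert.xWord (cert.goodX tab) 3081 79 = true := by decide +kernel

theorem searchX40 : searchOK tab cert.bases cert.levX cert.xPow cert.ksX cert.xWord cert.xWord (cert.goodX tab) 3160 79 = true := by decide +kernel

theorem searchX41 : searchOK tab cert.bases cert.levX cert.xPow cert.ksX cert.xWord cert.xWord (cert.goodX tab) 3239 79 = true := by decide +kernel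

theorem searchX42 : searchOK tab cert.bases cert.levX cert.xPow cert.ksX cert.xWord cert.xWord (cert.goodX tab) 3318 79 = true := by decide +kernel

theorem searchX43 : searchOK tab cert.bases cert.levX cert.xPow cert.ksX cert.xWord cert.xWord (cert.goodX tab) 3397 79 = true := by decide +kernel

theorem searchX44 : searchOK tab cert.bases cert.levX cert.xPow cert.ksX cert.xWord cert.xWord (cert.goodX tab) 3476 34 = true := by decide +kernel

/-- The ranges of the search. -/
def partsX : List (ℕ × ℕ) := [((0, 79) : ℕ × ℕ), ((79, 79) : ℕ × ℕ), ((158, 79) : ℕ × ℕ), ((237, 79) : ℕ × ℕ), ((316, 79) : ℕ × ℕ), ((395, 79) : ℕ × ℕ), ((474, 79) : ℕ × ℕ), ((553, 79) : ℕ × ℕ), ((632, 79) : ℕ × ℕ), ((711, 79) : ℕ × ℕ), ((790, 79) : ℕ × ℕ), ((869, 79) : ℕ × ℕ), ((948, 79) : ℕ × ℕ), ((1027, 79) : ℕ × ℕ), ((1106, 79) : ℕ × ℕ), ((1185, 79) : ℕ × ℕ), ((1264, 79) : ℕ × ℕ), ((1343, 79) : ℕ × ℕ), ((1422, 79) : ℕ × ℕ), ((1501, 79) : ℕ × ℕ), ((1580, 79) : ℕ × ℕ), ((1659, 79) : ℕ × ℕ), ((1738, 79)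 : ℕ × ℕ), ((1817, 79) : ℕ × ℕ), ((1896, 79) : ℕ × ℕ), ((1975, 79) : ℕ × ℕ), ((2054, 79) : ℕ × ℕ), ((2133, 79) : ℕ × ℕ), ((2212, 79) : ℕ × ℕ), ((2291, 79) : ℕ × ℕ), ((2370, 79) : ℕ × ℕ), ((2449, 79) : ℕ × ℕ), ((2528, 79) : ℕ × ℕ), ((2607, 79) : ℕ × ℕ), ((2686, 79) : ℕ × ℕ), ((2765, 79) : ℕ × ℕ), ((2844, 79) : ℕ × ℕ), ((2923, 79) : ℕ × ℕ), ((3002, 79) : ℕ × ℕ), ((3081, 79) : ℕ × ℕ), ((3160, 79) : ℕ × ℕ), ((3239, 79) : ℕ × ℕ), ((3318, 79) : ℕ × ℕ), ((3397, 79) : ℕ × ℕ), ((3476, 34) : ℕ × ℕ)]

theorem searchX : ∀ q ∈ partsX, searchOK tab cert.bases cert.levX cert.xPow cert.ksX cert.xWord cert.xWord (cert.goodX tab) q.1 q.2 = true := by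
  simp only [partsX, List.forall_mem_cons, List.not_mem_nil, IsEmpty.forall_iff, implies_true, and_true]
  exact ⟨searchX0, searchX1, searchX2, searchX3, searchX4, searchX5, searchX6, searchX7, searchX8, searchX9, searchX10, searchX11, searchX12, searchX13, searchX14, searchX15, searchX16, searchX17, searchX18, searchX19, searchX20, searchX21, searchX22, searchX23, searchX24, searchX25, searchX26, searchX27, searchX28, searchX29, searchX30, searchX31, searchX32, searchX33, searchX34, searchX35, searchX36, searchX37, searchX38, searchX39, searchX40, searchX41, searchX42, searchX43, searchX44⟩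

theorem coverX : ∀ k < tab.size, ∃ q ∈ partsX, q.1 ≤ k ∧ k < q.1 + q.2 := by
  intro k hk
  have hk : k < 3510 := lt_of_lt_of_eq hk (by decide +kernel)
  simp only [partsX]
  rcases (show (0 ≤ k ∧ k < 79) ∨ (79 ≤ k ∧ k < 158) ∨ (158 ≤ k ∧ k < 237) ∨ (237 ≤ k ∧ k < 316) ∨ (316 ≤ k ∧ k < 395) ∨ (395 ≤ k ∧ k < 474) ∨ (474 ≤ k ∧ k < 553) ∨ (553 ≤ k ∧ k < 632) ∨ (632 ≤ k ∧ k < 711) ∨ (711 ≤ k ∧ k < 790) ∨ (790 ≤ k ∧ k < 869) ∨ (869 ≤ k ∧ k < 948) ∨ (948 ≤ k ∧ k < 1027) ∨ (1027 ≤ k ∧ k < 1106) ∨ (1106 ≤ k ∧ k < 1185) ∨ (1185 ≤ k ∧ k < 1264) ∨ (1264 ≤ k ∧ k < 1343) ∨ (1343 ≤ k ∧ k < 1422) ∨ (1422 ≤ k ∧ k < 1501) ∨ (1501 ≤ k ∧ k < 1580) ∨ (1580 ≤ k ∧ k < 1659) ∨ (1659 ≤ k ∧ k < 1738) ∨ (1738 ≤ k ∧ k < 1817) ∨ (1817 ≤ k ∧ k < 1896) ∨ (1896 ≤ k ∧ k < 1975) ∨ (1975 ≤ k ∧ k < 2054) ∨ (2054 ≤ k ∧ k < 2133) ∨ (2133 ≤ k ∧ k < 2212) ∨ (2212 ≤ k ∧ k < 2291) ∨ (2291 ≤ k ∧ k < 2370) ∨ (2370 ≤ k ∧ k < 2449) ∨ (2449 ≤ k ∧ k < 2528) ∨ (2528 ≤ k ∧ k < 2607) ∨ (2607 ≤ k ∧ k < 2686) ∨ (2686 ≤ k ∧ k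 < 2765) ∨ (2765 ≤ k ∧ k < 2844) ∨ (2844 ≤ k ∧ k < 2923) ∨ (2923 ≤ k ∧ k < 3002) ∨ (3002 ≤ k ∧ k < 3081) ∨ (3081 ≤ k ∧ k < 3160) ∨ (3160 ≤ k ∧ k < 3239) ∨ (3239 ≤ k ∧ k < 3318) ∨ (3318 ≤ k ∧ k < 3397) ∨ (3397 ≤ k ∧ k < 3476) ∨ (3476 ≤ k ∧ k < 3510) by omega) with h | h | h | h | h | h | h | h | h | h | h | h | h | h | h | h | h | h | h | h | h | h | h | h | h | h | h | h | h | h | h | h | h | h | h | h | h | h | h | h | h | h | h | h | h
  · exact ⟨(0, 79), by simp, h⟩
  · exact ⟨(79, 79), by simp, h⟩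
  · exact ⟨(158, 79), by simp, h⟩
  · exact ⟨(237, 79), by simp, h⟩
  · exact ⟨(316, 79), by simp, h⟩
  · exact ⟨(395, 79), by simp, h⟩
  · exact ⟨(474, 79), by simp, h⟩
  · exact ⟨(553, 79), by simp, h⟩
  · exact ⟨(632, 79), by simp, h⟩
  · exact ⟨(711, 79), by simp, h⟩
  · exact ⟨(790, 79), by simp, h⟩
  · exact ⟨(869, 79), by simp, h⟩
  · exact ⟨(948, 79), by simp, h⟩
  · exact ⟨(1027, 79), by simp, h⟩
  · exact ⟨(1106, 79), by simp, h⟩
  · exact ⟨(1185, 79), by simp, h⟩
  · exact ⟨(1264, 79), by simp, h⟩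
  · exact ⟨(1343, 79), by simp, h⟩
  · exact ⟨(1422, 79), by simp, h⟩
  · exact ⟨(1501, 79), by simp, h⟩
  · exact ⟨(1580, 79), by simp, h⟩
  · exact ⟨(1659, 79), by simp, h⟩
  · exact ⟨(1738, 79), by simp, h⟩
  · exact ⟨(1817, 79), by simp, h⟩
  · exact ⟨(1896, 79), by simp, h⟩
  · exact ⟨(1975, 79), by simp, h⟩
  · exact ⟨(2054, 79), by simp, h⟩
  · exact ⟨(2133, 79), by simp, h⟩
  · exact ⟨(2212, 79), by simp, h⟩
  · exact ⟨(2291, 79), by simp, h⟩
  · exact ⟨(2370, 79), by simp, h⟩
  · exact ⟨(2449, 79), by simp, h⟩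
  · exact ⟨(2528, 79), by simp, h⟩
  · exact ⟨(2607, 79), by simp, h⟩
  · exact ⟨(2686, 79), by simp, h⟩
  · exact ⟨(2765, 79), by simp, h⟩
  · exact ⟨(2844, 79), by simp, h⟩
  · exact ⟨(2923, 79), by simp, h⟩
  · exact ⟨(3002, 79), by simp, h⟩
  · exact ⟨(3081, 79), by simp, h⟩
  · exact ⟨(3160, 79), by simp, h⟩
  · exact ⟨(3239, 79), by simp, h⟩
  · exact ⟨(3318, 79), by simp, h⟩
  · exact ⟨(3397, 79), by simp, h⟩
  · exact ⟨(3476, 34), by simp, h⟩

end Cfsg.Agent.Lib.SporOutFiTwentyTwo
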