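import Cfsg.Agent.Lib.SporOutFiTwentyTwo.Group
import Cfsg.Agent.Lib.AutCert.Main

/-! A search. -/

set_option autoImplicit false
set_option maxRecDepth 100000

namespace Cfsg.Agent.Lib.SporOutFiTwentyTwo

open Cfsg.Agent.Lib.Coset Cfsg.Agent.Lib.SporPres.FiTwentyTwo
open Cfsg.Agent.Lib.AutCert (searchOK)

theorem searchY0 : searchOK tab cert.bases cert.levY cert.yPow cert.ksY cert.yWord cert.yWord (cert.goodY tab) 0 79 = true := by decide +kernel

theorem searchY1 : searchOK tab cert.bases cert.levY cert.yPow cert.ksY cert.yWord cert.yWord (cert.goodY tab) 79 79 = true := by decide +kernel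

theorem searchY2 : searchOK tab cert.bases cert.levY cert.yPow cert.ksY cert.yWord cert.yWord (cert.goodY tab) 158 79 = true := by decide +kernel

theorem searchY3 : searchOK tab cert.bases cert.levY cert.yPow cert.ksY cert.yWord cert.yWord (cert.goodY tab) 237 79 = true := by decide +kernel

theorem searchY4 : searchOK tab cert.bases cert.levY cert.yPow cert.ksY cert.yWord cert.yWord (cert.goodY tab) 316 79 = true := by decide +kernel

theorem searchY5 : searchOK tab cert.bases cert.levY cert.yPow cert.ksY cert.yWord cert.yWord (cert.goodY tab) 395 79 = true := by decide +kernel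

theorem searchY6 : searchOK tab cert.bases cert.levY cert.yPow cert.ksY cert.yWord cert.yWord (cert.goodY tab) 474 79 = true := by decide +kernel

theorem searchY7 : searchOK tab cert.bases cert.levY cert.yPow cert.ksY cert.yWord cert.yWord (cert.goodY tab) 553 79 = true := by decide +kernel

theorem searchY8 : searchOK tab cert.bases cert.levY cert.yPow cert.ksY cert.yWord cert.yWord (cert.goodY tab) 632 79 = true := by decide +kernel

theorem searchY9 : searchOK tab cert.bases cert.levY cert.yPow cert.ksY cert.yWord cert.yWord (cert.goodY tab) 711 79 = true := by decide +kernel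

theorem searchY10 : searchOK tab cert.bases cert.levY cert.yPow cert.ksY cert.yWord cert.yWord (cert.goodY tab) 790 79 = true := by decide +kernel

theorem searchY11 : searchOK tab cert.bases cert.levY cert.yPow cert.ksY cert.yWord cert.yWord (cert.goodY tab) 869 79 = true := by decide +kernel

theorem searchY12 : searchOK tab cert.bases cert.levY cert.yPow cert.ksY cert.yWord cert.yWord (cert.goodY tab) 948 79 = true := by decide +kernel

theorem searchY13 : searchOK tab cert.bases cert.levY cert.yPow cert.ksY cert.yWord cert.yWord (cert.goodY tab) 1027 79 = true := by decide +kernel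

theorem searchY14 : searchOK tab cert.bases cert.levY cert.yPow cert.ksY cert.yWord cert.yWord (cert.goodY tab) 1106 79 = true := by decide +kernel

theorem searchY15 : searchOK tab cert.bases cert.levY cert.yPow cert.ksY cert.yWord cert.yWord (cert.goodY tab) 1185 79 = true := by decide +kernel

theorem searchY16 : searchOK tab cert.bases cert.levY cert.yPow cert.ksY cert.yWord cert.yWord (cert.goodY tab) 1264 79 = true := by decide +kernel

theorem searchY17 : searchOK tab cert.bases cert.levY cert.yPow cert.ksY cert.yWord cert.yWord (cert.goodY tab) 1343 79 = true := by decide +kernel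

theorem searchY18 : searchOK tab cert.bases cert.levY cert.yPow cert.ksY cert.yWord cert.yWord (cert.goodY tab) 1422 79 = true := by decide +kernel

theorem searchY19 : searchOK tab cert.bases cert.levY cert.yPow cert.ksY cert.yWord cert.yWord (cert.goodY tab) 1501 79 = true := by decide +kernel

theorem searchY20 : searchOK tab cert.bases cert.levY cert.yPow cert.ksY cert.yWord cert.yWord (cert.goodY tab) 1580 79 = true := by decide +kernel

theorem searchY21 : searchOK tab cert.bases cert.levY cert.yPow cert.ksY cert.yWord cert.yWord (cert.goodY tab) 1659 79 = true := by decide +kernel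

theorem searchY22 : searchOK tab cert.bases cert.levY cert.yPow cert.ksY cert.yWord cert.yWord (cert.goodY tab) 1738 79 = true := by decide +kernel

theorem searchY23 : searchOK tab cert.bases cert.levY cert.yPow cert.ksY cert.yWord cert.yWord (cert.goodY tab) 1817 79 = true := by decide +kernel

theorem searchY24 : searchOK tab cert.bases cert.levY cert.yPow cert.ksY cert.yWord cert.yWord (cert.goodY tab) 1896 79 = true := by decide +kernel

theorem searchY25 : searchOK tab cert.bases cert.levY cert.yPow cert.ksY cert.yWord cert.yWord (cert.goodY tab) 1975 79 = true := by decide +kernel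

theorem searchY26 : searchOK tab cert.bases cert.levY cert.yPow cert.ksY cert.yWord cert.yWord (cert.goodY tab) 2054 79 = true := by decide +kernel

theorem searchY27 : searchOK tab cert.bases cert.levY cert.yPow cert.ksY cert.yWord cert.yWord (cert.goodY tab) 2133 79 = true := by decide +kernel

theorem searchY28 : searchOK tab cert.bases cert.levY cert.yPow cert.ksY cert.yWord cert.yWord (cert.goodY tab) 2212 79 = true := by decide +kernel

theorem searchY29 : searchOK tab cert.bases cert.levY cert.yPow cert.ksY cert.yWord cert.yWord (cert.goodY tab) 2291 79 = true := by decide +kernel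

theorem searchY30 : searchOK tab cert.bases cert.levY cert.yPow cert.ksY cert.yWord cert.yWord (cert.goodY tab) 2370 79 = true := by decide +kernel

theorem searchY31 : searchOK tab cert.bases cert.levY cert.yPow cert.ksY cert.yWord cert.yWord (cert.goodY tab) 2449 79 = true := by decide +kernel

theorem searchY32 : searchOK tab cert.bases cert.levY cert.yPow cert.ksY cert.yWord cert.yWord (cert.goodY tab) 2528 79 = true := by decide +kernel

theorem searchY33 : searchOK tab cert.bases cert.levY cert.yPow cert.ksY cert.yWord cert.yWord (cert.goodY tab) 2607 79 = true := by decide +kernel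

theorem searchY34 : searchOK tab cert.bases cert.levY cert.yPow cert.ksY cert.yWord cert.yWord (cert.goodY tab) 2686 79 = true := by decide +kernel

theorem searchY35 : searchOK tab cert.bases cert.levY cert.yPow cert.ksY cert.yWord cert.yWord (cert.goodY tab) 2765 79 = true := by decide +kernel

theorem searchY36 : searchOK tab cert.bases cert.levY cert.yPow cert.ksY cert.yWord cert.yWord (cert.goodY tab) 2844 79 = true := by decide +kernel

theorem searchY37 : searchOK tab cert.bases cert.levY cert.yPow cert.ksY cert.yWord cert.yWord (cert.goodY tab) 2923 79 = true := by decide +kernel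

theorem searchY38 : searchOK tab cert.bases cert.levY cert.yPow cert.ksY cert.yWord cert.yWord (cert.goodY tab) 3002 79 = true := by decide +kernel

theorem searchY39 : searchOK tab cert.bases cert.levY cert.yPow cert.ksY cert.yWord cert.yWord (cert.goodY tab) 3081 79 = true := by decide +kernel

theorem searchY40 : searchOK tab cert.bases cert.levY cert.yPow cert.ksY cert.yWord cert.yWord (cert.goodY tab) 3160 79 = true := by decide +kernel

theorem searchY41 : searchOK tab cert.bases cert.levY cert.yPow cert.ksY cert.yWord cert.yWord (cert.goodY tab) 3239 79 = true := by decide +kernel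

theorem searchY42 : searchOK tab cert.bases cert.levY cert.yPow cert.ksY cert.yWord cert.yWord (cert.goodY tab) 3318 79 = true := by decide +kernel

theorem searchY43 : searchOK tab cert.bases cert.levY cert.yPow cert.ksY cert.yWord cert.yWord (cert.goodY tab) 3397 79 = true := by decide +kernel

theorem searchY44 : searchOK tab cert.bases cert.levY cert.yPow cert.ksY cert.yWord cert.yWord (cert.goodY tab) 3476 34 = true := by decide +kernel

/-- The ranges of the search. -/
def partsY : List (ℕ × ℕ) := [((0, 79) : ℕ × ℕ), ((79, 79) : ℕ × ℕ), ((158, 79) : ℕ × ℕ), ((237, 79) : ℕ × ℕ), ((316, 79) : ℕ × ℕ), ((395, 79) : ℕ × ℕ), ((474, 79) : ℕ × ℕ), ((553, 79) : ℕ × ℕ), ((632, 79) : ℕ × ℕ), ((711, 79) : ℕ × ℕ), ((790, 79) : ℕ × ℕ), ((869, 79) : ℕ × ℕ), ((948, 79) : ℕ × ℕ), ((1027, 79) : ℕ × ℕ), ((1106, 79) : ℕ × ℕ), ((1185, 79) : ℕ × ℕ), ((1264, 79) : ℕ × ℕ), ((1343, 79) : ℕ × ℕ), ((1422, 79) : ℕ × ℕ), ((1501, 79) : ℕ × ℕ), ((1580, 79) : ℕ × ℕ), ((1659, 79) : ℕ × ℕ), ((1738, 79)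 : ℕ × ℕ), ((1817, 79) : ℕ × ℕ), ((1896, 79) : ℕ × ℕ), ((1975, 79) : ℕ × ℕ), ((2054, 79) : ℕ × ℕ), ((2133, 79) : ℕ × ℕ), ((2212, 79) : ℕ × ℕ), ((2291, 79) : ℕ × ℕ), ((2370, 79) : ℕ × ℕ), ((2449, 79) : ℕ × ℕ), ((2528, 79) : ℕ × ℕ), ((2607, 79) : ℕ × ℕ), ((2686, 79) : ℕ × ℕ), ((2765, 79) : ℕ × ℕ), ((2844, 79) : ℕ × ℕ), ((2923, 79) : ℕ × ℕ), ((3002, 79) : ℕ × ℕ), ((3081, 79) : ℕ × ℕ), ((3160, 79) : ℕ × ℕ), ((3239, 79) : ℕ × ℕ), ((3318, 79) : ℕ × ℕ), ((3397, 79) : ℕ × ℕ), ((3476, 34) : ℕ × ℕ)]

theorem searchY : ∀ q ∈ partsY, searchOK tab cert.bases cert.levY cert.yPow cert.ksY cert.yWord cert.yWord (cert.goodY tab) q.1 q.2 = true := by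
  simp only [partsY, List.forall_mem_cons, List.not_mem_nil, IsEmpty.forall_iff, implies_true, and_true]
  exact ⟨searchY0, searchY1, searchY2, searchY3, searchY4, searchY5, searchY6, searchY7, searchY8, searchY9, searchY10, searchY11, searchY12, searchY13, searchY14, searchY15, searchY16, searchY17, searchY18, searchY19, searchY20, searchY21, searchY22, searchY23, searchY24, searchY25, searchY26, searchY27, searchY28, searchY29, searchY30, searchY31, searchY32, searchY33, searchY34, searchY35, searchY36, searchY37, searchY38, searchY39, searchY40, searchY41, searchY42, searchY43, searchY44⟩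

theorem coverY : ∀ k < tab.size, ∃ q ∈ partsY, q.1 ≤ k ∧ k < q.1 + q.2 := by
  intro k hk
  have hk : k < 3510 := lt_of_lt_of_eq hk (by decide +kernel)
  simp only [partsY]
  rcases (show (0 ≤ k ∧ k < 79) ∨ (79 ≤ k ∧ k < 158) ∨ (158 ≤ k ∧ k < 237) ∨ (237 ≤ k ∧ k < 316) ∨ (316 ≤ k ∧ k < 395) ∨ (395 ≤ k ∧ k < 474) ∨ (474 ≤ k ∧ k < 553) ∨ (553 ≤ k ∧ k < 632) ∨ (632 ≤ k ∧ k < 711) ∨ (711 ≤ k ∧ k < 790) ∨ (790 ≤ k ∧ k < 869) ∨ (869 ≤ k ∧ k < 948) ∨ (948 ≤ k ∧ k < 1027) ∨ (1027 ≤ k ∧ k < 1106) ∨ (1106 ≤ k ∧ k < 1185) ∨ (1185 ≤ k ∧ k < 1264) ∨ (1264 ≤ k ∧ k < 1343) ∨ (1343 ≤ k ∧ k < 1422) ∨ (1422 ≤ k ∧ k < 1501) ∨ (1501 ≤ k ∧ k < 1580) ∨ (1580 ≤ k ∧ k < 1659) ∨ (1659 ≤ k ∧ k < 1738) ∨ (1738 ≤ k ∧ k < 1817) ∨ (1817 ≤ k ∧ k < 1896) ∨ (1896 ≤ k ∧ k < 1975) ∨ (1975 ≤ k ∧ k < 2054) ∨ (2054 ≤ k ∧ k < 2133) ∨ (2133 ≤ k ∧ k < 2212) ∨ (2212 ≤ k ∧ k < 2291) ∨ (2291 ≤ k ∧ k < 2370) ∨ (2370 ≤ k ∧ k < 2449) ∨ (2449 ≤ k ∧ k < 2528) ∨ (2528 ≤ k ∧ k < 2607) ∨ (2607 ≤ k ∧ k < 2686) ∨ (2686 ≤ k ∧ k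 < 2765) ∨ (2765 ≤ k ∧ k < 2844) ∨ (2844 ≤ k ∧ k < 2923) ∨ (2923 ≤ k ∧ k < 3002) ∨ (3002 ≤ k ∧ k < 3081) ∨ (3081 ≤ k ∧ k < 3160) ∨ (3160 ≤ k ∧ k < 3239) ∨ (3239 ≤ k ∧ k < 3318) ∨ (3318 ≤ k ∧ k < 3397) ∨ (3397 ≤ k ∧ k < 3476) ∨ (3476 ≤ k ∧ k < 3510) by omega) with h | h | h | h | h | h | h | h | h | h | h | h | h | h | h | h | h | h | h | h | h | h | h | h | h | h | h | h | h | h | h | h | h | h | h | h | h | h | h | h | h | h | h | h | h
  · exact ⟨(0, 79), by simp, h⟩
  · exact ⟨(79, 79), by simp, h⟩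
  · exact ⟨(158, 79), by simp, h⟩
  · exact ⟨(237, 79), by simp, h⟩
  · exact ⟨(316, 79), by simp, h⟩
  · exact ⟨(395, 79), by simp, h⟩
  · exact ⟨(474, 79), by simp, h⟩
  · exact ⟨(553, 79), by simp, h⟩
  · exact ⟨(632, 79), by simp, h⟩
  · exact ⟨(711, 79), by simp, h⟩
  · exact ⟨(790, 79), by simp, h⟩
  · exact ⟨(869, 79), by simp, h⟩
  · exact ⟨(948, 79), by simp, h⟩
  · exact ⟨(1027, 79), by simp, h⟩
  · exact ⟨(1106, 79), by simp, h⟩
  · exact ⟨(1185, 79), by simp, h⟩
  · exact ⟨(1264, 79), by simp, h⟩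
  · exact ⟨(1343, 79), by simp, h⟩
  · exact ⟨(1422, 79), by simp, h⟩
  · exact ⟨(1501, 79), by simp, h⟩
  · exact ⟨(1580, 79), by simp, h⟩
  · exact ⟨(1659, 79), by simp, h⟩
  · exact ⟨(1738, 79), by simp, h⟩
  · exact ⟨(1817, 79), by simp, h⟩
  · exact ⟨(1896, 79), by simp, h⟩
  · exact ⟨(1975, 79), by simp, h⟩
  · exact ⟨(2054, 79), by simp, h⟩
  · exact ⟨(2133, 79), by simp, h⟩
  · exact ⟨(2212, 79), by simp, h⟩
  · exact ⟨(2291, 79), by simp, h⟩
  · exact ⟨(2370, 79), by simp, h⟩
  · exact ⟨(2449, 79), by simp, h⟩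
  · exact ⟨(2528, 79), by simp, h⟩
  · exact ⟨(2607, 79), by simp, h⟩
  · exact ⟨(2686, 79), by simp, h⟩
  · exact ⟨(2765, 79), by simp, h⟩
  · exact ⟨(2844, 79), by simp, h⟩
  · exact ⟨(2923, 79), by simp, h⟩
  · exact ⟨(3002, 79), by simp, h⟩
  · exact ⟨(3081, 79), by simp, h⟩
  · exact ⟨(3160, 79), by simp, h⟩
  · exact ⟨(3239, 79), by simp, h⟩
  · exact ⟨(3318, 79), by simp, h⟩
  · exact ⟨(3397, 79), by simp, h⟩
  · exact ⟨(3476, 34), by simp, h⟩

end Cfsg.Agent.Lib.SporOutFiTwentyTwo
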